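import Cfsg.Agent.H7.MEk

/-! Certificates for the eleven subgroups of `E₇(2)` containing root involutions: checkers and their meaning. -/

set_option autoImplicit false
set_option maxRecDepth 100000

namespace H7.ME

open H18.E7 (G M xr)
open Matrix Subgroup

/-- the subgroup generated by words -/
noncomputable def cw (L : List (List ℕ)) : Subgroup G := closure {g | ∃ l ∈ L, g = wd l}
/-- a word in the words of `L` -/
def iw (L : List (List ℕ)) (w : List ℕ) : List ℕ := (w.map fun i => L.getD i []).flatten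
/-- the word in `Q` of a mask -/
def uw (w : ℕ) : List ℕ := ((List.range 32).filter fun i => w.testBit i).map fun i => 93 + i
/-- generators of `N` -/
def gN (W : List ℕ) : List (List ℕ) := [125] :: W.map uw
/-- the subgroup `N` of `Q` -/
noncomputable def Nn (W : List ℕ) : Subgroup G := cw (gN W)
/-- generators of `A` (`C` in the Levi factor, `E` further words) -/
def gA (C E : List (List ℕ)) (W : List ℕ) : List (List ℕ) := [0] :: (gN W ++ (C ++ E))
/-- generators inside `Xg A N` -/
def gX (L : List (List ℕ)) (W : List ℕ) (ws : List (List ℕ)) : List (List ℕ) :=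
  gN W ++ ws.map fun w => iw L w ++ ([125] ++ (iw L w).reverse)
/-- matrix with given columns -/
def pk : List ℕ → ℕ
  | [] => 0
  | w :: W => Nat.add (Nat.shiftLeft (pk W) 64) (Nat.mod w 18446744073709551616)
open Classical in
/-- the commutator bit -/
noncomputable def cm (a b : G) : F := if Commute a b then 0 else 1
/-- coordinates on `Q / ⟨z⟩` -/
noncomputable def lam (q : G) : Fin 32 → F := fun i => cm q (X (124 - i))
/-- action of the Levi roots on `Q / ⟨z⟩` -/
def ATT : ℕ := 0x7d078a7477066436025413c07d178b7486c66445c25013807d278c7496866455824c13407d378d7086c76045c34813007d478e7096876055834412c07d578f6c96885c55844012807d674d70b6ca5445034822407d774e70c68a5454c34422007d874f6cc68b5054c44021c07d970f6ce68d4854444031807967537116d03c43833022417977547126903c53432c22017987556d26913853442821c17997156d46933052c42831817597186d76962452041c31827da64d60b5ca5485074861407db64e60c58a5494c74461007dc64f5cc58b5094c84060c07dd60f5ce58d4894484070807de54f50e4cd48c44b40a04079a6536115d03c838730614179b6546125903c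93472c610179c6555d25913893482860c179d6155d45933092c828708175a6565515103cb38a24614275b6575524d03cc34a20610275c6585124d138c34b1c60c271a6165534903cd30a24714371b6175544503ce2ca2071036da5d651349138d30b24814469b5974d445234e2cc2091056dc5d851541138f28b1c80c469c5984d541234f28c1c90c571d61949445330e2cd1870836dd5d949541330f28d18808469d5994554142cf28e18908575e5585174d624c20b1ca04271e55949745624e20d18a0436de51949841624f1cd18b04469e4d945841720f1ce18c04579f3d53943533122d129000175f3d83973562522111d000271f3d93172d62542131900036df3993182962551d319100469f3592d82972151d419200565d61c5db59a1491080c708665e55c51b4da14c10b0ca04661e55d49b45a14e10d08a0475de51d49c41a14f0cd08b04859e4dd45c41b10f0ce08c04965f3dc39b35a1521110d000661f3dd31b2da1541130900075df39d31c29a1550d309100859f35d2dc29b1150d409200955f3de25b21a15711605000a51f39e25c1da1580d605100b4df35e21c1db1180d705200c49f31e25d19a15909605300d45f2de21d19b11909705400e41f29e1dd19c0d909805500f00000000000000000000000000000000000000000000000000000000000000000000000000000000000000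0000000000000000000000000000000000000000000000000000000000000000000000000000000000000000000000000000000000000000000000000000000000000000000000000000000000000000000000000000000000000000000000000000000000000000000000000000000000000000000000000000000000000000000000000000000000000000000000000000000000000000000000000000000000000000000000000000000000000000000000000000000000000000000000000000000000000000000000000000000000000000000000000000000000000000000000000000000000000000000000000000000000000000000000000000000000000000000000000000000000000000000000000000000000000000000000000000000000000000000000000000000000000000000000000000000000000000000000000000000000000000000000000000000000000000000000000000000000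
/-- the matrix of a Levi word on `Q / ⟨z⟩` -/
noncomputable def w32 (l : List ℕ) : ℕ := List.rec (motive := fun _ => ℕ) Id
  (fun r _ ih => apl 8 (Nat.shiftRight ATT (Nat.mul 96 r)) ih) l
/-- the antidiagonal -/
def Jm : ℕ := 0x10000000000000002000000000000000400000000000000080000000000000010000000000000002000000000000000400000000000000080000000000000010000000000000002000000000000000400000000000000080000000000000010000000000000002000000000000000400000000000000080000000000000010000000000000002000000000000000400000000000000080000000000000010000000000000002000000000000000400000000000000080000000000000010000000000000002000000000000000400000000000000080000000000000010000000000000002000000000000000400000000000000080000000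
/-- Levi words -/
def Lv (l : List ℕ) : Bool := l.all fun r => Nat.ble 33 r && Nat.ble r 92

/-- the coordinates -/
structure Lam : Prop where
  mul : ∀ q ∈ Q, ∀ q' ∈ Q, lam (q * q') = lam q + lam q'
  uQ : ∀ w, wd (uw w) ∈ Q
  u : ∀ w, lam (wd (uw w)) = bv 32 w
  ker : ∀ q ∈ Q, lam q = 0 → q = 1 ∨ q = z
  act : ∀ l, Lv l = true → Commute (wd l) z ∧ ∀ q ∈ Q, lam (wd l * q * (wd l)⁻¹) = toM 32 32 (w32 l) *ᵥ lam q
  form : ∀ q ∈ Q, ∀ q' ∈ Q, cm q q' = lam q' ⬝ᵥ (toM 32 32 Jm *ᵥ lam q)
  mem : ∀ W : List ℕ, W.length ≤ 64 → ∀ q, q ∈ Nn W ↔ q ∈ Q ∧ ∃ c, lam q = toM 32 W.length (pk W) *ᵥ c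

/-- transpose test -/
def trc (n m X Y : ℕ) : Bool := (List.range n).all fun i => (List.range m).all fun j =>
  Nat.beq (Nat.land (Nat.shiftRight X (Nat.add (Nat.mul 64 j) i)) 1) (Nat.land (Nat.shiftRight Y (Nat.add (Nat.mul 64 i) j)) 1)
/-- a left inverse of `pk W` from the transpose `T` and the inverse Gram matrix -/
noncomputable def Li (k T Gi : ℕ) : ℕ := mul k Gi (mul 32 T Jm)
/-- non-degeneracy test -/
noncomputable def ndc (W : List ℕ) (T Gi : ℕ) : Bool := Nat.ble W.length 31 && trc 32 W.length (pk W) T &&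
  eqm W.length W.length (mul 32 (Li W.length T Gi) (pk W)) Id
/-- sum of the matrices of words -/
noncomputable def alg (f : List ℕ → ℕ) (L ws : List (List ℕ)) : ℕ :=
  List.rec (motive := fun _ => ℕ) 0 (fun w _ ih => Nat.xor (f (iw L w)) ih) ws
/-- a polynomial (list of coefficients, constant term first) of a matrix -/
noncomputable def hor (n A : ℕ) (f : List Bool) : ℕ := frc A fun A =>
  List.rec (motive := fun _ => ℕ) 0 (fun c _ ih => Nat.xor (mul n A ih) (cond c Id 0)) f
/-- Krylov matrix of columns -/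
noncomputable def kry (n A v len : ℕ) : ℕ := frc A fun A => frc v fun v =>
  Nat.rec (motive := fun _ => ℕ) 0 (fun _ K => Nat.xor (mul n (mul n A K) (Nat.shiftLeft Id 64)) v) len
/-- Krylov matrix of rows -/
noncomputable def kryT (n A v len : ℕ) : ℕ := frc A fun A => frc v fun v =>
  Nat.rec (motive := fun _ => ℕ) 0 (fun _ K => Nat.xor (mul n (Nat.shiftLeft Id 1) (mul n K A)) v) len
/-- irreducibility test for the quotient by the columns of `Wm` (`k` columns, left inverse `L`):
`θ = Cm * Fm` modulo `Wm`, `Rs` has one entry for every nonzero `e < 2 ^ d` -/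
noncomputable def irc (k Wm L θ A d Cm Fm : ℕ) (Rs : List ℕ) (R : ℕ) : Bool :=
  frc (Nat.xor Id (mul k Wm L)) fun P => frc A fun A => Nat.ble d 32 && Nat.ble k 32 &&
  eqm 32 32 (mul 32 P (Nat.xor θ (mul d Cm Fm))) 0 &&
  ((List.range (Nat.pow 2 d)).all fun e => Nat.beq e 0 ||
    eqm 32 32 (mul 32 P (Nat.xor Id (mul 32 (kry 32 A (mul d Cm e) 32) (Rs.getD e 0)))) 0) &&
  eqm 32 32 (mul 32 P (Nat.xor Id (mul 32 R (kryT 32 A (mul d 1 Fm) 32)))) 0

/-- soundness of the irreducibility test -/
def IR : Prop := ∀ (k Wm L θ A d Cm Fm : ℕ) (Rs : List ℕ) (R : ℕ) (U : Submodule F (Fin 32 → F)),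
  irc k Wm L θ A d Cm Fm Rs R = true → (∀ c, toM 32 k Wm *ᵥ c ∈ U) → (∀ u ∈ U, toM 32 32 θ *ᵥ u ∈ U) →
  (∀ u ∈ U, toM 32 32 A *ᵥ u ∈ U) → U = ⊤ ∨ ∀ u ∈ U, ∃ c, u = toM 32 k Wm *ᵥ c

/-- good configurations -/
def GD : Prop := ∀ (C E : List (List ℕ)) (W : List ℕ) (T Gi : ℕ) (w1 w2 : List (List ℕ)) (f : List Bool) (d Cm Fm : ℕ)
  (Rs : List ℕ) (R : ℕ), C.all Lv = true → ndc W T Gi = true →
  irc W.length (pk W) (Li W.length T Gi) (hor 32 (alg w32 C w1) f) (alg w32 C w2) d Cm Fm Rs R = true →
  (∀ H, cw (gA C E W) ≤ H → H ≠ ⊤ → Gd H (Nn W)) ∧ ¬ Q ≤ Nn W ∧ Nat.card (Nn W) = 2 ^ (W.length + 1)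

/-- pure elements -/
def Pu (q : G) : Prop := (M x0 - 1) * M q * (M x0 - 1) = 0 ∨ (M x0 - 1) * M (z * q) * (M x0 - 1) = 0
/-- strict evaluation of a list -/
noncomputable def frcL {β : Type} (l : List ℕ) : (List ℕ → β) → β :=
  List.rec (motive := fun _ => (List ℕ → β) → β) (fun k => k []) (fun a _ ih k => frc a fun a => ih fun l => k (a :: l)) l
/-- purity test for `Y = M q * (M x0 - 1)` -/
noncomputable def put (m Y : ℕ) : Bool := Nat.beq (Nat.land (Nat.xor (ap 0 Y) Y) m) 0 ||
  frc (ap 125 Y) fun Y => Nat.beq (Nat.land (Nat.xor (ap 0 Y) Y) m) 0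
/-- counting over all subproducts -/
noncomputable def cntL (m : ℕ) (l : List ℕ) : ℕ → ℕ := List.rec (motive := fun _ => ℕ → ℕ) (fun Y => cond (put m Y) 1 0)
  (fun a _ ih Y => frc Y fun Y => Nat.add (ih Y) (ih (mul 56 a Y))) l
/-- the number of pure cosets -/
noncomputable def cnt (W : List ℕ) : ℕ := frc (msk 56 56) fun m => frcL (W.map fun w => wm (uw w)) fun l =>
  cntL m l (Nat.xor (wm [0]) Id)
/-- number of pure elements -/
noncomputable def np (N : Subgroup G) : ℕ := Nat.card {q : G // q ∈ N ∧ Pu q}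

/-- invariants under the centralizer of `z` -/
structure CT : Prop where
  cnt : ∀ W T Gi, ndc W T Gi = true → np (Nn W) = 2 * cnt W
  inv : ∀ (N N' : Subgroup G) p, N' ≤ Q → Commute p z → (∀ q, q ∈ N' ↔ p * q * p⁻¹ ∈ N) →
    Nat.card N = Nat.card N' ∧ np N = np N'
  deg : ∀ N : Subgroup G, N ≤ Q → z ∈ N → np N ≤ 2 → ∀ e ∈ D, e ∈ N → e = z
  perp : ∀ W T Gi W' T' Gi', ndc W T Gi = true → ndc W' T' Gi' = true →
    eqm W.length W'.length (mul 32 (mul 32 T Jm) (pk W')) 0 = true →
    eqm 32 32 (Nat.xor (mul W.length (pk W) (Li W.length T Gi)) (mul W'.length (pk W') (Li W'.length T' Gi'))) Id = true →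
    ∀ q, q ∈ Nn W' ↔ q ∈ Q ∧ ∀ n ∈ Nn W, Commute q n

/-- small invariant subspaces are centralized -/
def Fx (d e p : ℕ) : Prop := ∀ (y : G) (S : Submodule F V), Module.finrank F S ≤ d → (∀ v ∈ S, M y *ᵥ v ∈ S) → y ^ p = 1 →
  ∀ v ∈ S, M (y ^ e) *ᵥ v = v
/-- the cases needed -/
def FX : Prop := Fx 3 420 0 ∧ Fx 6 1 11 ∧ Fx 6 1 13 ∧ Fx 13 1 43
/-- elements centralizing `K` have small rank -/
def SA (e p ρ : ℕ) (K : Subgroup G) : Prop := ∀ y, (∀ x ∈ K, Commute x y) → y ^ p = 1 → (M (y ^ e) - 1).rank ≤ ρ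
/-- `K` contains an element of large rank -/
def SB (e p ρ : ℕ) (K : Subgroup G) : Prop := ∃ y ∈ K, y ^ p = 1 ∧ ρ < (M (y ^ e) - 1).rank
/-- concatenation of Krylov chains `(t, x, len)` starting at `θ_t x` -/
noncomputable def cat (A : ℕ) (θs : List ℕ) (ch : List (ℕ × ℕ × ℕ)) : ℕ := List.rec (motive := fun _ => ℕ) 0
  (fun c _ ih => Nat.xor (kry 56 A (mul 56 (θs.getD c.1 0) c.2.1) c.2.2)
    (mul 56 ih (Nat.shiftLeft Id (Nat.mul 64 c.2.2)))) ch
/-- test for `SA`: `θ_t = f_t(B) = Cm_t * Fm_t` has rank at most `d` -/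
noncomputable def sac (L w1 w2 : List (List ℕ)) (d : ℕ) (ts : List (List Bool × ℕ × ℕ)) (ch : List (ℕ × ℕ × ℕ))
    (r P : ℕ) : Bool := frc (alg wm L w1) fun B => frc (alg wm L w2) fun A => frcL (ts.map fun t => hor 56 B t.1) fun θs =>
  Nat.ble d 56 && Nat.ble r 56 && Nat.beq θs.length ts.length &&
  ((θs.zip ts).all fun t => eqm 56 56 t.1 (mul d t.2.2.1 t.2.2.2)) && eqm r r (mul 56 P (mul 56 (cat A θs ch) Id)) Id
/-- test for `SB` -/
noncomputable def sbc (L : List (List ℕ)) (w : List ℕ) (e p r P R : ℕ) : Bool := frc (wm (iw L w)) fun Y =>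
  Nat.ble r 56 && Nat.ble e 65535 && Nat.ble p 65535 && eqm 56 56 (pw 56 Y p) Id &&
  eqm r r (mul 56 P (mul 56 (Nat.xor (pw 56 Y e) Id) R)) Id

/-- commuting components -/
structure CC : Prop where
  sa : ∀ d e p L w1 w2 ts ch r P, Fx d e p → sac L w1 w2 d ts ch r P = true → SA e p (56 - r) (cw L)
  sb : ∀ e p L w r P R ρ, sbc L w e p r P R = true → ρ < r → SB e p ρ (cw L)
  le : ∀ L W ws, cw (gX L W ws) ≤ Xg (cw L) (Nn W)
  ab : ∀ e p ρ (K K' Y Y' : Subgroup G), SA e p ρ K → SB e p ρ K' → K ≤ Y → K' ≤ Y' → ∀ g,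
    (¬ ∀ x ∈ Y, ∀ y ∈ Y', Commute x (g * y * g⁻¹)) ∧ ¬ ∀ x ∈ Y', ∀ y ∈ Y, Commute x (g * y * g⁻¹)

/-- a commuting matrix -/
noncomputable def prc (L : List (List ℕ)) (Θ r : ℕ) : Bool :=
  (L.all fun l => eqm 56 56 (wma l Θ) (mul 56 Θ (wm l))) && !eqm 56 56 (ap r Θ) (mul 56 Θ (wm [r]))
/-- a normalized abelian subgroup -/
noncomputable def prt (L T : List (List ℕ)) (es : List (List (List ℕ))) (r i j : ℕ) : Bool :=
  (T.all fun t => T.all fun t' => wcm t t') && Nat.beq es.length L.length &&
  ((L.zip es).all fun l => Nat.beq l.2.length T.length &&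
    (T.zip l.2).all fun t => weq (l.1 ++ t.1) (iw T t.2 ++ l.1)) &&
  !wcm (r :: (T.getD i [] ++ [r])) (T.getD j [])
/-- a small invariant subspace -/
noncomputable def nfc (L : List (List ℕ)) (k S Ls : ℕ) : Bool := Nat.ble k 13 && !eqm 56 k S 0 &&
  L.all fun l => frc (wma l S) fun Y => eqm 56 k Y (mul k S (mul 56 Ls Y))
/-- an invariant bilinear map `F⁸ × F⁸ → V` given by eight matrices `Ts` -/
noncomputable def nbc (L : List (List ℕ)) (Bs Ts : List ℕ) : Bool := Nat.beq Bs.length L.length &&
  !eqm 56 8 (Ts.getD 0 0) 0 && (L.zip Bs).all fun l => eqm 8 8 (mul 8 l.2 l.2) Id && (List.range 8).all fun i =>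
    eqm 56 8 (wma l.1 (Ts.getD i 0)) (mul 8 (Nat.rec (motive := fun _ => ℕ) 0
      (fun j acc => cond (l.2.testBit (64 * i + j)) (Nat.xor acc (Ts.getD j 0)) acc) 8) l.2)

/-- proper subgroups, and subgroups without elements of order 43 -/
structure PN : Prop where
  pr : ∀ L Θ r, prc L Θ r = true → cw L ≠ ⊤
  pt : ∀ L T es r i j, prt L T es r i j = true → cw L ≠ ⊤
  nf : ∀ W k S Ls, nfc ([0] :: gN W) k S Ls = true → ∀ a ∈ closure ((Nn W : Set G) ∪ {x0}), orderOf a ≠ 43
  nb : ∀ W Bs Ts, nbc ([0] :: gN W) Bs Ts = true → ∀ a ∈ closure ((Nn W : Set G) ∪ {x0}), orderOf a ≠ 43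

theorem frcL_eq {β : Type} (l : List ℕ) : ∀ k : List ℕ → β, frcL l k = k l := by
  induction l with
  | nil => intro k; rfl
  | cons a l ih => intro k; exact (frc_eq a fun a => frcL l fun l => k (a :: l)).trans (ih _)

theorem wd_mem {L : List (List ℕ)} {l : List ℕ} (h : l ∈ L) : wd l ∈ cw L := subset_closure ⟨l, h, rfl⟩

theorem iw_mem (L : List (List ℕ)) (w : List ℕ) : wd (iw L w) ∈ cw L := by
  induction w with
  | nil => exact one_mem _
  | cons i w ih =>
    rw [iw, List.map_cons, List.flatten_cons, wd_append]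
    refine mul_mem ?_ ih
    by_cases h : i < L.length
    · rw [List.getD_eq_getElem _ _ h]; exact wd_mem (List.getElem_mem h)
    · rw [List.getD_eq_default _ _ (by omega)]; exact one_mem _

theorem toM_pk (n : ℕ) (hn : n ≤ 64) (W : List ℕ) (i : Fin n) (j : Fin W.length) :
    toM n W.length (pk W) i j = bv n W[j] i := by
  have : ∀ (W : List ℕ) (j : ℕ) (h : j < W.length), (pk W).testBit (64 * j + i) = W[j].testBit i := fun W => by
    induction W with
    | nil => simp
    | cons w W ih =>
      intro j h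
      have : pk (w :: W) = 2 ^ 64 * pk W + w % 2 ^ 64 := by
        rw [pk, Nat.add_eq, Nat.shiftLeft_eq', Nat.shiftLeft_eq, mul_comm]; rfl
      rw [this, Nat.testBit_two_pow_mul_add _ (Nat.mod_lt _ (by positivity))]
      rcases j with _ | j
      · rw [if_pos (by omega), Nat.testBit_mod_two_pow]; simp; omega
      · rw [if_neg (by omega), show 64 * (j + 1) + i - 64 = 64 * j + i by omega, ih j (by simpa using h)]; rfl
  simp only [toM, of_apply, bv, bt, this W j j.2, Fin.getElem_fin]

end H7.ME
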