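/-
The product endgame of `H28.SF` (copied from SF5-SF7, helper28, and ES1, helper3) for Sylow subgroups with centre of order two.
-/
import Cfsg.Agent.H7.NS4

set_option autoImplicit false
set_option linter.unusedSectionVars false

namespace H7.NS
open Cfsg Subgroup H19 H28.CY
open H28.SF hiding TyP PD PS pe Fa pl
open scoped commutatorElement

universe u
variable {G : Type u} [Group G] [Finite G] {A B D E F H K L M O P Q R S T V W X Y Z : Subgroup G}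
  {a b c d e g h i j k n r s t u v w x y z : G}
  {𝔄 : Type*} [Group 𝔄] [Finite 𝔄] {I U Γ : Subgroup 𝔄} {α β γ : 𝔄} {f : G → 𝔄} {C : Type*} [CommGroup C] {ρ : 𝔄 →* C}

/-- the additional properties used in the product endgame -/
structure TyP (I U Γ : Subgroup 𝔄) (ρ : 𝔄 →* C) : Prop where
  y : ∃ Y z, (∀ β ∈ C(U), β = 1 ∨ β = z) ∧ z ∈ Y ∧ Y ≤ ⁅U, U⁆ ∧ U ≤ N(Y) ∧ (∀ y ∈ Y, y * y = 1) ∧
    (∀ Z ≤ ⁅U, U⁆, U ≤ N(Z) → (∀ y ∈ Z, y * y = 1) → #Z = #Y → Z = Y) ∧ U ≤ ⁅I ⊓ N(Y), I ⊓ N(Y)⁆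
  nc : ∃ a ∈ U, ∃ b ∈ U, a * a = 1 ∧ b * b = 1 ∧ a * b ≠ b * a
  el : ∃ V ≤ U, U ⊔ Γ ≤ N(V) ∧ (∀ v ∈ V, v * v = 1) ∧ 2 < #V
  f1 : ∀ α β, α * α = 1 → β * β = 1 → (α = 1 → β ≠ 1) → 2 * #U < EE I α * EE I β ∨ (Gen I α ∧ Gen I β)
  k0 : ∀ y ∈ Γ, ρ y ≠ 1 → ∀ α β, α * α = 1 → β * β = 1 → EE I α * EE I β = EE I y * EE I y → ρ α = ρ β

theorem TyP.zd (p : TyP I U Γ ρ) : Z(U) ≤ ⁅U, U⁆ := fun x hx =>
  let ⟨_, _, h, hz, l, _⟩ := p.y; (h x hx.2).elim (fun e => e ▸ one_mem _) fun e => e ▸ l hz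

theorem TyP.ab (p : TyP I U Γ ρ) (ha : α ∈ C(U)) (hb : β ∈ C(U)) : α * β = β * α ∧ (α ≠ 1 → β = 1 ∨ β = α) := by
  obtain ⟨_, _, h, _⟩ := p.y
  rcases h _ ha with rfl | rfl <;> rcases h _ hb with rfl | rfl <;> simp

/-- the data of the product endgame -/
structure PD (I U Γ : Subgroup 𝔄) (ρ : 𝔄 →* C) (L : Subgroup G) (f : G → 𝔄) (t : G) : Prop where
  τ : Ty I U Γ ρ
  p : TyP I U Γ ρ
  θ : Th N(L) L f I
  tt : t * t = 1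
  c : L ≤ C(cj t L)
  ct : C[t] ≤ N(G0 L t)
  pm : ∀ g ∈ N(G0 L t), cj g L = L ∨ cj g L = cj t L
  o : PiG {2}ᶜ C(G0 L t)

namespace PD
variable (π : PD I U Γ ρ L f t)
include π

theorem tw (β : 𝔄) : PD I U Γ ρ L (fun g => β * f g * β⁻¹) t := haveI := π.τ.nor; { π with θ := π.θ.tw β }
theorem ti : t⁻¹ = t := inv_eq_of_mul_eq_one_right π.tt
theorem cjt (A : Subgroup G) : cj t (cj t A) = A := by rw [cj_cj, π.tt, cj_one]
theorem mcj : x ∈ cj t A ↔ t * x * t⁻¹ ∈ A := by rw [mem_cj, π.ti]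
theorem tM : t ∈ N(G0 L t) := π.ct (mem_cent1_self t)
theorem θ2 : Th N(cj t L) (cj t L) (fun g => f (t⁻¹ * g * t)) I := cj_norm t L ▸ π.θ.J t
theorem M1le : M1 L t ≤ N(G0 L t) := norms_sup inf_le_left inf_le_right
theorem L1 : L ≤ M1 L t := le_inf le_normalizer (norms_of_cents π.c)
theorem L2 : cj t L ≤ M1 L t := le_inf (norms_of_cents (cents_symm π.c)) le_normalizer
theorem one (h1 : x ∈ L) (h2 : x ∈ cj t L) (x2 : PiE {2} x) : x = 1 :=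
  x2.e_eq_one (π.θ.zodd.elt (mi h1 (cents_symm π.c h2)))
theorem ne : L ≠ cj t L := fun e => by
  obtain ⟨a, ha, b, hb, -, -, k⟩ := π.p.nc
  obtain ⟨x, hx, rfl⟩ := π.θ.sur a (π.τ.UI ha)
  exact k (by rw [(π.θ.ker x (le_normalizer hx)).2 (cents_symm π.c (e.le hx)), one_mul, mul_one])
theorem t1 : t ∉ M1 L t := fun h => π.ne (cj_of_mem_norm h.1).symm
theorem tN : t ∈ N(M1 L t) := mem_norm_iff_cj.2 (by rw [cj_inf, cj_norm, cj_norm, π.cjt, inf_comm])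
theorem sw (hg : g ∈ N(G0 L t)) (h : g ∉ M1 L t) : t * g ∈ M1 L t := by
  have h2 := π.pm _ (mul_mem hg π.tM)
  rw [cj_mul] at h2
  rcases π.pm g hg with e | e <;> rcases h2 with e' | e'
  · exact (π.ne (cj_inj.1 (e.trans e'.symm))).elim
  · exact (h ⟨mem_norm_iff_cj.2 e, mem_norm_iff_cj.2 e'⟩).elim
  · exact ⟨mem_norm_iff_cj.2 (by rw [cj_mul, e, π.cjt]), mem_norm_iff_cj.2 (by rw [cj_mul, e'])⟩
  · exact (π.ne (cj_inj.1 (e.trans e'.symm))).elim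
theorem swL (hg : g ∈ N(G0 L t)) (h : g ∉ M1 L t) : cj g L = cj t L := by
  rw [← cj_of_mem_norm (π.sw hg h).1, cj_cj t, ← mul_assoc, π.tt, one_mul, cj_of_mem_norm (π.sw hg h).1]
theorem swL2 (hg : g ∈ N(G0 L t)) (h : g ∉ M1 L t) : cj g (cj t L) = L := by
  rw [← π.cjt (cj g _), cj_cj t g, cj_of_mem_norm (π.sw hg h).2, π.cjt]
theorem nM1 : N(G0 L t) ≤ N(M1 L t) := fun g hg => by
  by_cases h : g ∈ M1 L t
  · exact le_normalizer h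
  · exact (mul_mem_cancel_left π.tN).1 (le_normalizer (π.sw hg h))
theorem mul2 (ha : a ∈ N(G0 L t)) (hb : b ∈ N(G0 L t)) : a * b ∈ M1 L t ↔ (a ∈ M1 L t ↔ b ∈ M1 L t) := by
  by_cases h1 : a ∈ M1 L t
  · simp only [mul_mem_cancel_left h1, h1, true_iff]
  by_cases h2 : b ∈ M1 L t
  · simp only [mul_mem_cancel_right h2, h2, iff_true]
  simp only [h1, h2, iff_true]
  have := mul_mem (conj_mem_of_norm' π.tN (π.sw ha h1)) (π.sw hb h2)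
  rwa [inv_mul_cancel_left, mul_assoc, ← mul_assoc t, π.tt, one_mul] at this
theorem cjM (ha : a ∈ N(G0 L t)) : a * b * a⁻¹ ∈ M1 L t ↔ b ∈ M1 L t := by
  rw [← conj_mem_cj (g := a) (x := b), cj_of_mem_norm (π.nM1 ha)]
theorem derM : ⁅N(G0 L t), N(G0 L t)⁆ ≤ M1 L t := commutator_le.2 fun a ha b hb => by
  rw [commutatorElement_def, π.mul2 (jmem ha hb) (inv_mem hb), π.cjM ha, inv_mem_iff]

theorem θF : Th (M1 L t) (G0 L t) (FF f t) (I.prod I) where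
  nor := ⟨sup_le π.L1 π.L2, π.M1le⟩
  mul := fun a ha b hb => Prod.ext (π.θ.mul a ha.1 b hb.1) (π.θ2.mul a ha.2 b hb.2)
  sur := fun l hl => by
    obtain ⟨a, ha, e1⟩ := π.θ.sur _ hl.1
    obtain ⟨b, hb, e2⟩ := π.θ2.sur _ hl.2
    refine ⟨a * b, mul_mem_sup ha hb, Prod.ext ?_ ?_⟩
    · exact (π.θ.mul a (π.L1 ha).1 b (π.L2 hb).1).trans (by rw [e1, (π.θ.ker b (π.L2 hb).1).2 (cents_symm π.c hb), mul_one])
    · exact (π.θ2.mul a (π.L1 ha).2 b (π.L2 hb).2).trans (by rw [e2, (π.θ2.ker a (π.L1 ha).2).2 (π.c ha), one_mul])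
  into := fun g hg => by
    obtain ⟨a, ha, b, hb, rfl⟩ := (mem_sup_of_norm (norms_of_cents (cents_symm π.c))).1 hg
    refine mem_prod.2 ⟨?_, ?_⟩
    · rw [FF, π.θ.mul a (π.L1 ha).1 b (π.L2 hb).1, (π.θ.ker b (π.L2 hb).1).2 (cents_symm π.c hb), mul_one]
      exact π.θ.into a ha
    · have := π.θ2.mul a (π.L1 ha).2 b (π.L2 hb).2
      simp only [(π.θ2.ker a (π.L1 ha).2).2 (π.c ha), one_mul] at this
      rw [FF, this]; exact π.θ2.into b hb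
  ker := fun g hg => by rw [cent_sup, mem_inf, ← π.θ.ker g hg.1, ← π.θ2.ker g hg.2]; exact Prod.ext_iff
  perf := sup_le (π.θ.perf.trans (der_mono le_sup_left)) (π.θ2.perf.trans (der_mono le_sup_right))
  zodd := π.o.infr _

theorem o' : PiG {2}ᶜ (M1 L t ⊓ C(G0 L t)) := π.o.infr _
theorem FL (ha : a ∈ L) : FF f t a = (f a, 1) := Prod.ext rfl ((π.θ2.ker a (π.L1 ha).2).2 (π.c ha))
theorem Ft (g : G) : FF f t (t * g * t⁻¹) = (FF f t g).swap := Prod.ext (by simp [FF, π.ti]) (by simp [FF, mul_assoc])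

theorem back (k : g * t * g⁻¹ * t⁻¹ ∈ ⁅C[t], C[t]⁆) : g ∈ N(G0 L t) := by
  have nO : N(G0 L t) ≤ N(C(G0 L t)) := norm_le_norm_cent _
  have h1 : C[t] ≤ M1 L t ⊓ C[t] ⊔ zpowers t := fun x hx => by
    by_cases h : x ∈ M1 L t
    · exact mem_sup_left ⟨h, hx⟩
    · simpa [← mul_assoc, π.tt] using mul_mem (mem_sup_right (mem_zpowers t)) (mem_sup_left (T := zpowers t)
        (mi (π.sw (π.ct hx) h) (mul_mem (mem_cent1_self t) hx)))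
  have h2 := der_mono h1 k
  rw [der_sup_cent (zpowers_le.2 (le_cent1_iff.1 inf_le_right)), comm_iff_der.1 (comm_zpowers t), sup_bot_eq] at h2
  have g2 := cj_sq π.tt g
  rw [← inv_mul_cancel_right (g * t * g⁻¹) t] at g2
  obtain ⟨y, hy⟩ : ∃ y, y = g * t * g⁻¹ * t⁻¹ := ⟨_, rfl⟩
  rw [← hy] at k h2 g2
  have yt := mem_cent1.1 (der_le _ k)
  have yy : y * y = 1 := by
    rwa [mul_assoc, ← mul_assoc t, ← yt, mul_assoc, π.tt, mul_one] at g2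
  have yM := der_le _ (der_mono inf_le_left h2)
  have yG := π.θF.two π.o' π.τ.prod yM (two_of_sq yy) (π.θF.der π.τ.prod (der_mono inf_le_left h2))
  obtain ⟨a, ha, e⟩ := π.θ.sur _ (π.θF.into y yG).1
  have e1 : FF f t y = (f a, f a) := Prod.ext e.symm (by
    rw [e]; exact congrArg f (by rw [mul_assoc, yt, inv_mul_cancel_left]))
  have m1 := conj_mem_of_norm π.tN (inv_mem (π.L1 ha))
  have e2 : FF f t (a * (t * a⁻¹ * t⁻¹)) = FF f t y := by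
    rw [π.θF.mul _ (π.L1 ha) _ m1, π.Ft, π.FL ha, π.FL (inv_mem ha), e1, π.θ.mul.inv (le_normalizer ha),
      inv_eq_of_mul_eq_one_right (show f a * f a = 1 by rw [e]; exact π.θ.mul.sq yM.1 yy)]
    simp
  obtain ⟨c, hc, k'⟩ := odd_conj π.o (nO (mul_mem (π.M1le yM) π.tM)) (nO (jmem (π.M1le (π.L1 ha)) π.tM)) (two_of_sq g2)
    (two_of_sq (cj_sq π.tt a)) (by
      simpa [mul_assoc] using (π.θF.eq (inv_mem yM) (inv_mem (mul_mem (π.L1 ha) m1))).1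
        (by rw [π.θF.mul.inv yM, π.θF.mul.inv (mul_mem (π.L1 ha) m1), e2]))
  rw [hy] at k'
  exact (mul_mem_cancel_left (mul_mem (inv_mem (π.M1le (π.L1 ha))) (cent_le_norm _ hc))).1
    (π.ct (mem_cent1.2 (by rw [← mul_inv_eq_iff_eq_mul, ← mul_right_inj a, ← mul_left_inj a⁻¹, ← k']; group)))

theorem sizet : e2 C[t] * #U ≤ 2 * e2 (M1 L t) := by
  obtain ⟨R, hR⟩ := exists_syl 2 C[t]
  have h1 : #R ≤ 2 * #(M1 L t ⊓ R) := by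
    rw [← card_inf_mul_relIndex (M1 L t) R, mul_comm]
    refine Nat.mul_le_mul_right _ (Nat.le_of_dvd two_pos (relIndex_dvd_two_iff.2 ⟨t, hR.mem_of_norm (mem_cent1_self t)
      (two_of_sq π.tt) (cent_le_norm _ (le_cent1_iff.1 hR.le)), fun b hb => ?_⟩))
    rw [π.mul2 (π.ct (hR.le hb)) π.tM]; have := π.t1; tauto
  obtain ⟨P, hP, l⟩ := (hR.pi.infr (M1 L t)).exists_syl (inf_le_left : _ ≤ M1 L t)
  have h2 := hP.inf_of_norm π.L1 (hP.le.trans inf_le_left)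
  have h3 := h2.im le_normalizer π.θ.mul.hom
  rw [π.θ.im_eq] at h3
  have h4 := card_sup_of_disjoint (A := P ⊓ L) (B := M1 L t ⊓ R) (norms_inf (norms_of_le l) (inf_le_left.trans inf_le_left))
    (eq_bot_iff.2 fun x hx => π.one hx.1.2 (π.mcj.2 (by
      rw [← mem_cent1.1 (hR.le hx.2.2), mul_inv_cancel_right]; exact hx.1.2)) (hP.pi.elt hx.1.1))
  have h5 := card_le (sup_le inf_le_left l : P ⊓ L ⊔ M1 L t ⊓ R ≤ P)
  have h6 := Nat.le_of_dvd (card_pos _) (card_im_dvd π.θ.mul.hom (P ⊓ L))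
  rw [h3.card_eq π.τ.sylU] at h6
  rw [e2_eq hR, e2_eq hP]
  nlinarith [Nat.mul_le_mul h1 h6]

theorem EEp (α β : 𝔄) : EE (I.prod I) (α, β) = EE I α * EE I β := by
  rw [← e2_prod]
  refine congrArg e2 (Subgroup.ext fun x => ?_)
  simp only [mem_inf, mem_prod, mem_cent1, Prod.ext_iff, Prod.fst_mul, Prod.snd_mul]; tauto

theorem uq : Uq t N(G0 L t) := fun g hs => by
  have ss := cj_sq' π.tt g
  have cs : C[g⁻¹ * t * g] = cj g⁻¹ C[t] := by rw [cj_cent1, inv_inv]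
  have lc : C[g⁻¹ * t * g] ≤ cj g⁻¹ N(G0 L t) := cs.le.trans (cj_mono _ π.ct)
  have cl : ∀ x, x⁻¹ * (g⁻¹ * t * g) * x * (g⁻¹ * t * g)⁻¹ ∈ ⁅C[g⁻¹ * t * g], C[g⁻¹ * t * g]⁆ → x ∈ cj g⁻¹ N(G0 L t) :=
    fun x hx => by
      rw [cs, ← cj_comm, mem_cj_inv] at hx
      exact mem_cj_inv.2 (by simpa [mul_assoc] using inv_mem (π.back (g := g * x⁻¹ * g⁻¹) (by simpa [mul_assoc] using hx)))
  generalize g⁻¹ * t * g = s at *
  have h1 : G0 L t ≤ cj g⁻¹ N(G0 L t) := by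
    by_cases h : s ∈ M1 L t
    · rcases π.p.f1 _ _ (π.θ.mul.sq h.1 ss) (π.θ2.mul.sq h.2 ss) (fun k1 k2 => π.t1 (by
        have := (two_of_sq ss).e_eq_one (π.θF.kodd π.o' s h (Prod.ext k1 k2))
        rw [this, cent1_one, eq_comm, cj_eq_top, eq_top_iff, le_cent1_iff] at cs
        exact ⟨cent_le_norm _ (cent_mono le_top cs), cent_le_norm _ (cent_mono le_top cs)⟩)) with k | k
      · have h2 := π.θF.size π.o' π.τ.prod π.θF.nor.le le_rfl h ss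
        rw [FF, π.EEp, card_prod'] at h2
        have h3 : e2 (M1 L t ⊓ C[s]) ≤ e2 C[t] := by rw [← e2_cj g⁻¹ C[t], ← cs]; exact e2_mono inf_le_right
        have h4 := π.sizet
        have h5 := e2_pos (M1 L t)
        nlinarith [Nat.mul_le_mul_right (#U * #U) h3, Nat.mul_le_mul_right #U h4, Nat.mul_lt_mul_of_pos_right k h5]
      · exact sup_le (π.θ.Gen h.1 ss π.τ k.1 (inf_le_right.trans lc) fun x _ hx => cl x (der_mono inf_le_right hx))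
          (π.θ2.Gen h.2 ss π.τ k.2 (inf_le_right.trans lc) fun x _ hx => cl x (der_mono inf_le_right hx))
    have key : ∀ {A : Subgroup G}, A ≤ ⁅A, A⁆ → A ≤ C(cj s A) → ∀ x ∈ A, x * x = 1 → x ∈ cj g⁻¹ N(G0 L t) :=
      fun p c x hx xx => cl x (by
        simpa [mul_assoc, inv_eq_of_mul_eq_one_right xx] using diag c (p hx) fun a ha => diag_cent ss c ha)
    exact sup_le (π.θ.gen π.τ (key π.θ.perf (π.swL hs h ▸ π.c)))
      (π.θ2.gen π.τ (key π.θ2.perf ((π.swL2 hs h).symm ▸ cents_symm π.c)))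
  rw [le_cj_iff, inv_inv] at h1
  have h2 := (π.θF.J g).perf
  have h3 := h2.trans ((der_mono h1).trans π.derM)
  exact mem_norm_of_cj_le ((π.θF.J g).gen π.τ.prod fun x hx xx =>
    π.θF.two π.o' π.τ.prod (h3 hx) (two_of_sq xx) (π.θF.der π.τ.prod (der_mono h3 (h2 hx))))

end PD

/-- the data of the product endgame with a Sylow subgroup -/
structure PS (I U Γ : Subgroup 𝔄) (ρ : 𝔄 →* C) (L : Subgroup G) (f : G → 𝔄) (t : G) (S : Subgroup G) : Prop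
    extends PD I U Γ ρ L f t where
  hS : Syl 2 S N(G0 L t)
  tS : t ∈ S
  l : ∀ g ∈ S ⊓ M1 L t, f g ∈ U ⊔ Γ

namespace PS
variable (π : PS I U Γ ρ L f t S)
include π

theorem sylG : Syl 2 S ⊤ := π.uq.syl π.hS π.tS
theorem syl1 : Syl 2 (S ⊓ M1 L t) (M1 L t) := π.hS.inf_of_norm π.M1le (π.hS.le.trans π.nM1)
theorem tS1 (h : g ∈ S ⊓ M1 L t) : t * g * t⁻¹ ∈ S ⊓ M1 L t := ⟨jmem π.tS h.1, conj_mem_of_norm π.tN h.2⟩
theorem tS1' (h : g ∈ S ⊓ M1 L t) : t⁻¹ * g * t ∈ S ⊓ M1 L t := by simpa [π.ti] using π.tS1 h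
theorem nS1 : S ≤ N(S ⊓ M1 L t) := norms_inf le_normalizer (π.hS.le.trans π.nM1)
theorem lF (g : G) (h : g ∈ S ⊓ M1 L t) : FF f t g ∈ U.prod U ⊔ Γ.prod Γ := by
  obtain ⟨a, ha, b, hb, e1⟩ := π.τ.mem.1 (π.l g h)
  obtain ⟨c, hc, d, hd, e2⟩ := π.τ.mem.1 (π.l _ (π.tS1' h))
  exact (Prod.ext e1 e2 : FF f t g = (a, c) * (b, d)) ▸ mul_mem_sup ⟨ha, hc⟩ ⟨hb, hd⟩
theorem inj (ha : a ∈ S ⊓ M1 L t) (hb : b ∈ S ⊓ M1 L t) (e : FF f t a = FF f t b) : a = b :=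
  inv_mul_eq_one.1 ((π.hS.pi.elt (mul_mem (inv_mem (mem_inf.1 ha).1) hb.1)).e_eq_one (π.o.elt ((π.θF.eq ha.2 hb.2).1 e)))
theorem U1 : S ⊓ L ≤ S ⊓ M1 L t := inf_le_inf_left _ π.L1
theorem U2 : S ⊓ cj t L ≤ S ⊓ M1 L t := inf_le_inf_left _ π.L2
theorem cjU : cj t (S ⊓ L) = S ⊓ cj t L := by rw [cj_inf, cj_of_mem π.tS]
theorem lift (h : α ∈ U) : ∃ g ∈ S ⊓ L, f g = α :=
  let ⟨g, hg, e⟩ := (π.θ.mono π.L1 inf_le_left).imU π.τ π.syl1 π.l h; ⟨g, ⟨hg.1.1, hg.2⟩, e⟩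
theorem fU (h : g ∈ S ⊓ L) : f g ∈ U := π.τ.inf.le ⟨π.l g (π.U1 h), π.θ.into g h.2⟩
theorem lN : S ⊓ L ≤ N(L) := inf_le_right.trans le_normalizer
theorem imU : im π.θ.mul.hom (S ⊓ L) = U := le_antisymm
  (fun _ h => let ⟨_, hg, e⟩ := (π.θ.mul.mem_im π.lN).1 h; e ▸ π.fU hg) fun _ h => (π.θ.mul.mem_im π.lN).2 (π.lift h)
theorem dp : DP (S ⊓ L) (S ⊓ cj t L) :=
  ⟨cents_mono π.c inf_le_right inf_le_right, eq_bot_iff.2 fun _ h => π.one h.1.2 h.2.2 (π.hS.pi.elt h.1.1)⟩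
theorem mem1 (h : y ∈ S ⊓ M1 L t) (e1 : ρ (f y) = 1) (e2 : f (t⁻¹ * y * t) = 1) : y ∈ S ⊓ L := by
  obtain ⟨a, ha, e⟩ := π.lift (π.τ.memU (π.l y h) e1)
  exact π.inj (π.U1 ha) h (by rw [π.FL ha.2, FF, e, e2]) ▸ ha
theorem mem2 (h : y ∈ S ⊓ M1 L t) (e1 : f y = 1) (e2 : ρ (f (t⁻¹ * y * t)) = 1) : y ∈ S ⊓ cj t L :=
  π.cjU ▸ mem_cj.2 (π.mem1 (π.tS1' h) e2 (by rwa [show t⁻¹ * (t⁻¹ * y * t) * t = (t * t)⁻¹ * y * (t * t) by group, π.tt,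
    inv_one, one_mul, mul_one]))
theorem mem0 (h : y ∈ S ⊓ M1 L t) (e : ρ.prodMap ρ (FF f t y) = 1) : y ∈ S ⊓ L ⊔ S ⊓ cj t L := by
  obtain ⟨a, ha, e'⟩ := π.lift (π.τ.memU (π.l y h) (congrArg Prod.fst e))
  have m := mul_mem (inv_mem (π.U1 ha)) h
  have k := π.θF.mul _ (inv_mem (π.L1 ha.2)) _ h.2
  rw [π.FL (inv_mem (mem_inf.1 ha).2), π.θ.mul.inv (π.lN ha), e'] at k
  rw [← mul_inv_cancel_left a y]
  exact mul_mem_sup ha (π.mem2 m ((congrArg Prod.fst k).trans (inv_mul_cancel _))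
    ((congrArg (fun x => ρ x.2) k).trans (by simpa using congrArg Prod.snd e)))

theorem le2 (h1 : A ≤ S ⊓ L) (h2 : K ≤ L) (h : im π.θ.mul.hom A ≤ im π.θ.mul.hom K) : A ≤ K := fun _ hx =>
  π.θ.mem2 (h1 hx).2 (π.hS.pi.elt (h1 hx).1) h2 (h (π.θ.mul.mem_im' (h1.trans π.lN) hx))
theorem imZ : im π.θ.mul.hom Z(S ⊓ L) ≤ Z(U) := by
  conv_rhs => rw [← π.imU]
  exact le_inf (im_mono inf_le_left) (im_cents inf_le_right)
theorem zd : Z(S ⊓ L) ≤ ⁅S ⊓ L, S ⊓ L⁆ := π.le2 inf_le_left ((der_le _).trans inf_le_right) (by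
  rw [im_comm π.lN π.lN, π.imU]; exact π.imZ.trans π.p.zd)
theorem nc : ∃ a ∈ S ⊓ L, ∃ b ∈ S ⊓ L, a * a = 1 ∧ b * b = 1 ∧ a * b ≠ b * a := by
  obtain ⟨a, ha, b, hb, aa, bb, ne⟩ := π.p.nc
  obtain ⟨x, hx, rfl⟩ := π.lift ha
  obtain ⟨y, hy, rfl⟩ := π.lift hb
  have k : ∀ {x}, x ∈ S ⊓ L → f x * f x = 1 → x * x = 1 := fun hx e => π.θ.eq2 (mul_mem hx hx).2 (one_mem _)
    (π.hS.pi.elt (mul_mem hx hx).1) PiN.e_one (by rw [π.θ.mul _ (π.lN hx) _ (π.lN hx), e, π.θ.mul.one])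
  exact ⟨x, hx, y, hy, k hx aa, k hy bb, fun e => ne (by
    rw [← π.θ.mul _ (π.lN hx) _ (π.lN hy), e, π.θ.mul _ (π.lN hy) _ (π.lN hx)])⟩

theorem fc (hg : g ∈ N(L)) (h : g ∈ C(S ⊓ L)) : f g ∈ C(U) := π.imU ▸ im_cent_le (π.θ.mul.mem_im' (H := C(S ⊓ L) ⊓ N(L))
  inf_le_right ⟨h, hg⟩ |> im_mono inf_le_left)
theorem z2 : ∀ x ∈ Z(S ⊓ L), ∀ y ∈ Z(S ⊓ L), x ≠ 1 → y = 1 ∨ y = x := fun x hx y hy x1 => by
  have k : ∀ {a b}, a ∈ S ⊓ L → b ∈ S ⊓ L → f a = f b → a = b := fun ha hb => π.θ.eq2 ha.2 hb.2 (π.hS.pi.elt ha.1) (π.hS.pi.elt hb.1)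
  exact ((π.p.ab (π.fc (π.lN hx.1) hx.2) (π.fc (π.lN hy.1) hy.2)).2 fun e => x1 (k hx.1 (one_mem _) (e.trans π.θ.mul.one.symm))).imp
    (fun e => k hy.1 (one_mem _) (e.trans π.θ.mul.one.symm)) (k hy.1 hx.1)

theorem nosw (hr : r ∈ N(G0 L t)) (r1 : r ∉ M1 L t) (hy : y ∈ S ⊓ L ∨ y ∈ S ⊓ cj t L) (c : r * y * r⁻¹ = y) : y = 1 := by
  rcases hy with h | h
  · exact π.one h.2 (π.swL hr r1 ▸ c ▸ conj_mem_cj.2 h.2) (π.hS.pi.elt h.1)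
  · exact π.one (π.swL2 hr r1 ▸ c ▸ conj_mem_cj.2 h.2) h.2 (π.hS.pi.elt h.1)

theorem zcj (hk : k ∈ N(S ⊓ M1 L t)) (hz : z ∈ Z(S ⊓ L)) : k * z * k⁻¹ ∈ S ⊓ L ∨ k * z * k⁻¹ ∈ S ⊓ cj t L := by
  have hA := cj_le_of_mem_norm hk π.U1
  have n0 : ∀ {A : Subgroup G}, M1 L t ≤ N(A) → S ⊓ M1 L t ≤ N(S ⊓ A) := fun h =>
    norms_inf (norms_of_le inf_le_left) (inf_le_right.trans h)
  have nn : S ⊓ M1 L t ≤ N(cj k (S ⊓ L)) := by
    rw [← cj_norm, ← cj_of_mem_norm hk]; exact cj_mono k (n0 inf_le_left)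
  have pg := π.syl1.pi.of_le hA
  have z2 : ∀ x ∈ Z(cj k (S ⊓ L)), ∀ y ∈ Z(cj k (S ⊓ L)), x ≠ 1 → y = 1 ∨ y = x := fun x hx y hy x1 => by
    rw [← cj_cent, ← cj_inf] at hx hy
    obtain ⟨x, hx', rfl⟩ := mem_cj'.1 hx
    obtain ⟨y, hy', rfl⟩ := mem_cj'.1 hy
    simpa using π.z2 x hx' y hy' (by simpa using x1)
  have zA : k * z * k⁻¹ ∈ Z(cj k (S ⊓ L)) := by rw [← cj_cent, ← cj_inf]; exact conj_mem_cj.2 hz
  by_contra! ne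
  have c1 := cents_of_norms_disjoint (π.U1.trans nn) (hA.trans (n0 inf_le_left))
    (by_contra fun e => ne.1 (zle pg z2 (hA.trans (n0 inf_le_left)) e zA))
  have c2 := cents_of_norms_disjoint (π.U2.trans nn) (hA.trans (n0 inf_le_right))
    (by_contra fun e => ne.2 (zle pg z2 (hA.trans (n0 inf_le_right)) e zA))
  have c3 : ∀ x ∈ cj k (S ⊓ L), f x ∈ C(U) ∧ f (t⁻¹ * x * t) ∈ C(U) := fun x hx =>
    ⟨π.fc (hA hx).2.1 (c1 hx), π.fc (π.tS1' (hA hx)).2.1 (by rw [← mem_cj, cj_cent, π.cjU]; exact c2 hx)⟩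
  obtain ⟨a, ha, b, hb, -, -, e⟩ := π.nc
  have ha' := conj_mem_cj (g := k) |>.2 ha
  have hb' := conj_mem_cj (g := k) |>.2 hb
  have := π.inj (hA (mul_mem ha' hb')) (hA (mul_mem hb' ha')) (by
    rw [π.θF.mul _ (hA ha').2 _ (hA hb').2, π.θF.mul _ (hA hb').2 _ (hA ha').2]
    exact Prod.ext (π.p.ab (c3 _ ha').1 (c3 _ hb').1).1 (π.p.ab (c3 _ ha').2 (c3 _ hb').2).1)
  exact e (by simpa using this)

theorem idx (l : P ≤ N(G0 L t)) : #P ≤ 2 * #(P ⊓ M1 L t) := by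
  rw [← card_inf_mul_relIndex (M1 L t) P, mul_comm, inf_comm]
  refine Nat.mul_le_mul_right _ (Nat.le_of_dvd two_pos ((relIndex_dvd_of_norm (l.trans π.nM1) π.M1le l).trans
    (relIndex_dvd_two_iff.2 ⟨t, π.tM, fun b hb => ?_⟩)))
  rw [π.mul2 hb π.tM]; have := π.t1; tauto

theorem sylz (hz : z ∈ Z(S ⊓ L)) (z1 : z ≠ 1) (c : S ⊓ M1 L t ≤ C[z]) : Syl 2 (S ⊓ M1 L t) C[z] := by_contra fun k => by
  obtain ⟨P, h1, h2, h3, h4⟩ := π.syl1.pi.exists_lt_norm c k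
  obtain ⟨k, hk, l⟩ := (π.sylG.of_le π.nS1 le_top).scj_le h4 h2
  obtain ⟨r, hr, r1⟩ := SetLike.exists_of_lt (cj_of_mem_norm hk ▸ (cj_lt_cj (g := k)).2 h1)
  have := cj_mono k h3 hr
  rw [cj_cent1, mem_cent1] at this
  exact z1 (conj_eq_one_iff.1 (π.nosw (π.hS.le (l hr)) (fun e => r1 ⟨l hr, e⟩) (π.zcj hk hz) (mul_inv_eq_iff_eq_mul.2 this)))

theorem tM1 (h : g * t * g⁻¹ ∈ M1 L t) : False :=
  π.t1 ((π.cjM (inv_mem_iff.1 (π.uq g⁻¹ (by simpa using π.M1le h)))).1 h)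

theorem ntz (hz : z ∈ Z(S ⊓ L)) (z1 : z ≠ 1) (c : S ⊓ M1 L t ≤ C[z]) (k : h * t * h⁻¹ ∈ C[g * z * g⁻¹]) : False := by
  rw [← cj_cent1, mem_cj] at k
  obtain ⟨x, -, l⟩ := (π.sylz hz z1 c).scj_le (zpowers_le.2 k) (piG_zpowers.2 (two_of_sq (cj_sq' (cj_sq π.tt h) g)))
  exact π.tM1 (g := x * g⁻¹ * h) (by simpa [mul_assoc] using (l (conj_mem_cj.2 (mem_zpowers _))).2)

theorem dg (hw : w ∈ S ⊓ M1 L t) (ww : w * w = 1) (hr : r ∈ S) (r1 : r ∉ M1 L t) (c : r * w = w * r) :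
    ∃ h, h * t * h⁻¹ ∈ C[w] := by
  have nO : N(G0 L t) ≤ N(C(G0 L t)) := norm_le_norm_cent _
  have m : t * r ∈ S ⊓ M1 L t := ⟨mul_mem π.tS hr, π.sw (π.hS.le hr) r1⟩
  obtain ⟨a, ha, b, hb, e⟩ := π.τ.mem.1 (π.l _ m)
  obtain ⟨l, hl, k⟩ := π.τ.nf _ (π.l _ hw) (π.θ.mul.sq hw.2.1 ww)
  obtain ⟨x, hx, e1⟩ := π.θ.sur _ (mul_mem (π.τ.UI ha) (mul_mem (π.τ.cjI b (inv_mem hl)) hl))
  have e2 : f (t⁻¹ * w * t) = f (x * w * x⁻¹) := by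
    rw [show t⁻¹ * w * t = t * r * w * (t * r)⁻¹ by rw [mul_assoc t, c, π.ti, mul_inv_rev, π.ti]; group,
      π.θ.mul.cnj m.2.1 hw.2.1, π.θ.mul.cnj (le_normalizer hx) hw.2.1, e, e1,
      show a * b * f w * (a * b)⁻¹ = a * b * l⁻¹ * b⁻¹ * (b * (l * f w * l⁻¹)) * l * (a * b)⁻¹ by group, mem_cent.1 k b hb]
    group
  have m1 := jmem (π.L1 hx) hw.2
  have e3 : FF f t (x * w * x⁻¹) = (f (x * w * x⁻¹), f (x * w * x⁻¹)) := by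
    refine Prod.ext rfl ?_
    rw [π.θF.mul.cnj (π.L1 hx) hw.2, π.FL hx, ← e2]; simp [FF]
  obtain ⟨o, -, k'⟩ := odd_comm π.o (nO π.tM) (nO (π.M1le m1)) (two_of_sq π.tt) (two_of_sq (cj_sq ww x)) (by
    simpa [mul_assoc] using (π.θF.eq (inv_mem (conj_mem_of_norm π.tN m1)) (inv_mem m1)).1
      (by rw [π.θF.mul.inv m1, π.θF.mul.inv (conj_mem_of_norm π.tN m1), π.Ft, e3, Prod.swap_prod_mk]))
  refine ⟨x⁻¹ * o, ?_⟩
  rw [← mem_cent1, ← cj_cent1, mem_cj] at k'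
  simpa [mul_assoc] using k'

theorem exV : ∃ V ≤ S ⊓ L, S ⊓ M1 L t ≤ N(V) ∧ (∀ v ∈ V, v * v = 1) ∧ 2 < #V := by
  obtain ⟨V, h1, h2, h3, h4⟩ := π.p.el
  have l : S ⊓ L ⊓ pre π.θ.mul.hom V ≤ N(L) := inf_le_left.trans π.lN
  refine ⟨S ⊓ L ⊓ pre π.θ.mul.hom V, inf_le_left, fun s hs => mem_norm_of fun x hx => ⟨⟨jmem hs.1 hx.1.1,
    conj_mem_of_norm hs.2.1 hx.1.2⟩, π.θ.mul.mem_pre.2 ⟨jmem hs.2.1 (l hx), ?_⟩⟩, fun x hx => ?_, h4.trans_le ?_⟩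
  · rw [π.θ.mul.cnj hs.2.1 (l hx)]; exact conj_mem_of_norm (h2 (π.l s hs)) (π.θ.mul.mem_pre.1 hx.2).2
  · exact π.θ.eq2 (mul_mem hx hx).1.2 (one_mem _) (π.hS.pi.elt (mul_mem hx hx).1.1) PiN.e_one
      (by rw [π.θ.mul _ (l hx) _ (l hx), h3 _ (π.θ.mul.mem_pre.1 hx.2).2, π.θ.mul.one])
  · refine (card_le fun α hα => ?_).trans (Nat.le_of_dvd (card_pos _) (card_im_dvd π.θ.mul.hom _))
    obtain ⟨g, hg, rfl⟩ := π.lift (h1 hα)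
    exact π.θ.mul.mem_im' l ⟨hg, π.θ.mul.mem_pre.2 ⟨π.lN hg, hα⟩⟩

theorem noMB (m : MB ⊤ S D (M1 L t)) : False := by
  obtain ⟨V, V1, V2, V3, V4⟩ := π.exV
  have pV := π.hS.pi.of_le (V1.trans inf_le_left)
  obtain ⟨z, hz, z1⟩ := exists_ne_one (pV.meet_cent π.syl1.pi V2 (ne_bot_iff_one_lt_card.2 (by omega)))
  have zz := V3 z hz.1
  have zU := V1 hz.1
  have zZ : z ∈ Z(S ⊓ L) := ⟨zU, cent_mono π.U1 hz.2⟩
  have zc : S ⊓ M1 L t ≤ C[z] := le_cent1_iff.2 hz.2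
  have zi := inv_eq_of_mul_eq_one_right zz
  obtain ⟨z2, hz2⟩ : ∃ z2, z2 = t * z * t⁻¹ := ⟨_, rfl⟩
  have zU2 : z2 ∈ S ⊓ cj t L := π.cjU ▸ hz2 ▸ conj_mem_cj.2 zU
  have zsw : ∀ r ∈ S, r ∉ M1 L t → r * z * r⁻¹ = z2 := fun r hr r1 => by
    have := mem_cent1.1 (zc ⟨mul_mem π.tS hr, π.sw (π.hS.le hr) r1⟩)
    rw [hz2, show r * z * r⁻¹ = t⁻¹ * (t * r * z) * r⁻¹ by group, this, π.ti]; group
  obtain ⟨u, hu⟩ : ∃ u, u = z * z2 := ⟨_, rfl⟩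
  have u1 : u ≠ 1 := fun e => z1 ((π.dp.memV zU zU2).1 (hu ▸ e ▸ one_mem _))
  have uu : u * u = 1 := by rw [hu, π.dp.mul4 zU2 zU, zz, hz2, cj_sq zz, one_mul]
  have ui := inv_eq_of_mul_eq_one_right uu
  have cz1 : ∀ d ∈ S, d ∈ M1 L t → z * d * z⁻¹ * d⁻¹ = 1 := fun d hd d1 => by rw [← mem_cent1.1 (zc ⟨hd, d1⟩)]; group
  have cz2 : ∀ d ∈ S, d ∉ M1 L t → z * d * z⁻¹ * d⁻¹ = u := fun d hd d1 => by rw [hu, ← zsw d hd d1, zi]; group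
  have cz3 : ∀ d ∈ S, z * d = d * z → d ∈ M1 L t := fun d hd e => by_contra fun k => u1 (by rw [← cz2 d hd k, e]; group)
  have uC : u ∈ C(S) := mem_cent.2 fun d hd => by
    have k : ∀ d ∈ S ⊓ M1 L t, d * u = u * d := fun d hd => by
      have := mem_cent1.1 (zc (π.tS1' hd))
      rw [hu, ← mul_assoc, mem_cent1.1 (zc hd), hz2, show z * d * (t * z * t⁻¹) = z * t * (t⁻¹ * d * t * z) * t⁻¹ by group, this]
      group
    have kt : t * u = u * t := (mem_cent1.1 (hu ▸ hz2 ▸ diag_cent π.tt (π.cjU ▸ π.dp.c) zU)).symm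
    by_cases h : d ∈ M1 L t
    · exact k d ⟨hd, h⟩
    · rw [← inv_mul_cancel_left t d, mul_assoc, k _ ⟨mul_mem π.tS hd, π.sw (π.hS.le hd) h⟩, ← mul_assoc, π.ti, kt, mul_assoc]
  have uS : u ∈ S := hu ▸ mul_mem (mem_inf.1 zU).1 zU2.1
  have uZ : u ∈ Z(D) := ⟨m.cent uS (cent_mono m.le uC), cent_mono m.le uC⟩
  have cz : ∀ {A : Subgroup G}, u ∈ A → ∀ d ∈ D, z * d * z⁻¹ * d⁻¹ ∈ A := fun h d hd => by
    by_cases k : d ∈ M1 L t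
    · rw [cz1 d (m.le hd) k]; exact one_mem _
    · rwa [cz2 d (m.le hd) k]
  have zN : z ∈ S ⊓ N(D) := ⟨zU.1, mem_norm_of fun d hd => by simpa using mul_mem (cz uZ.1 d hd) hd⟩
  by_cases hI : ∃ r ∈ Z(D), r * r = 1 ∧ r ∉ M1 L t
  · obtain ⟨r, hr, rr, r1⟩ := hI
    have zD : z ∉ D := fun k => r1 (cz3 r (m.le hr.1) (mem_cent.1 hr.2 z k))
    have l1 : D ≤ S ⊓ C[r] := le_inf m.le (le_cent1_iff.2 hr.2)
    have l2 : S ⊓ C[r] ≤ D := by_contra fun k => by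
      obtain ⟨a, ha, a1, a2⟩ := ex_sq (π.hS.pi.infl _) (lt_of_le_not_ge l1 k)
      obtain ⟨h, hh, d, hd, e⟩ := m.one_class ⟨ha.1.1, ha.2⟩ a1 a2 zN zD (zz ▸ one_mem _)
      have k1 := conj_mem_of_norm (norm_le_norm_center D hh.1.2) hr
      have k2 : z * d ∈ C[h * r * h⁻¹] := by rw [← e, ← cj_cent1]; exact conj_mem_cj.2 ha.1.2
      exact r1 ((hh.2 r hr.1).2 (cz3 _ (m.le k1.1) (mem_cent1.1 ((mul_mem_cancel_right (le_cent1_iff.2 k1.2 hd)).1 k2))))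
    have c1 : S ⊓ L ≤ C(cj r (S ⊓ L)) := by
      rw [cj_inf, cj_of_mem (m.le hr.1), π.swL (π.hS.le (m.le hr.1)) r1]; exact π.dp.c
    have uD := diag c1 (π.zd zZ) fun a ha => l2 ⟨mul_mem (mem_inf.1 ha).1 (jmem (m.le hr.1) ha.1), diag_cent rr c1 ha⟩
    rw [zsw r (m.le hr.1) r1, ← hu] at uD
    refine zD (m.rad2 (A := ⁅D, D⁆ ⊓ C(D)) (inf_le_left.trans (der_le D))
      (norms_inf (norms_der inf_le_right) (norms_cent inf_le_right)) zN (le_cent1_iff.1 fun x hx => zc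
        ⟨m.le (der_le D hx.1), π.derM (der_mono (m.le.trans π.hS.le) hx.1)⟩) (cz ⟨uD, uZ.2⟩))
  push Not at hI
  have zD : z ∈ D := m.rad2 (A := Ohm1 2 Z(D)) ((Ohm1_le _ _).trans inf_le_left)
    (inf_le_right.trans (norm_le_norm_Ohm1_center 2 D)) zN (le_cent1_iff.1 (Ohm1_le_iff.2 fun x hx xx =>
      zc ⟨m.le hx.1, hI x hx (by rwa [← pow_two])⟩)) (cz (mem_Ohm1 uZ (by rwa [pow_two])))
  have nd : ∀ g, ∀ r ∈ S, g * z * g⁻¹ ∈ S ⊓ M1 L t → r * (g * z * g⁻¹) = g * z * g⁻¹ * r → r ∈ M1 L t := fun g r hr h c =>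
    by_contra fun k => let ⟨_, e⟩ := π.dg h (cj_sq zz g) hr k c; π.ntz zZ z1 zc e
  have bad1 : ∀ n ∈ N(D), ¬ Gd (M1 L t) D n → n * z * n⁻¹ ∉ M1 L t ∧ n * u * n⁻¹ = u := fun n hn bad => by
    have wD := conj_mem_of_norm hn zD
    have h1 : n * z * n⁻¹ ∉ M1 L t := fun k => bad fun x hx => by
      have : n ∈ N(D ⊓ M1 L t) := mem_norm_of fun x hx => ⟨conj_mem_of_norm hn hx.1, nd n _ (m.le (conj_mem_of_norm hn hx.1))
        ⟨m.le wD, k⟩ (by rw [conj_mul, conj_mul, mem_cent1.1 (zc ⟨m.le hx.1, hx.2⟩)])⟩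
      exact ⟨fun k => (conj_mem_of_norm this (mi hx k)).2, fun k => by
        simpa [mul_assoc] using (conj_mem_of_norm' this (mi (conj_mem_of_norm hn hx) k)).2⟩
    refine ⟨h1, ?_⟩
    have h2 := cz2 _ (m.le wD) h1
    have h3 := cz (mem_zpowers u) _ (conj_mem_of_norm' hn zD)
    have h4 : n * (z * (n⁻¹ * z * n) * z⁻¹ * (n⁻¹ * z * n)⁻¹) * n⁻¹ = u := by rw [← ui, ← h2]; group
    rcases (mem_zp uu).1 h3 with e | e <;> rw [e] at h4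
    · exact (u1 (by simpa using h4.symm)).elim
    · exact h4
  obtain ⟨n, hn, bad⟩ := m.bad
  have Nu : ⊤ ⊓ N(D) ≤ N(zpowers u) := fun h hh => cent1_le_norm_zpowers u (by
    have k : ∀ n ∈ ⊤ ⊓ N(D), n ∉ MB.H0 ⊤ D (M1 L t) → n ∈ C[u] := fun n hn k =>
      mem_cent1.2 (mul_inv_eq_iff_eq_mul.1 (bad1 n hn.2 fun k' => k ⟨hn, k'⟩).2)
    by_cases h0 : h ∈ MB.H0 ⊤ D (M1 L t)
    · exact (mul_mem_cancel_right (k n hn fun e => bad e.2)).1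
        (k _ (mul_mem hh hn) fun e => bad ((mul_mem_cancel_left h0).1 e).2)
    · exact k h hh h0)
  obtain ⟨w1, nu⟩ := bad1 n hn.2 bad
  have cw : ∀ d ∈ D, n * z * n⁻¹ * d * (n * z * n⁻¹)⁻¹ * d⁻¹ ∈ zpowers u := fun d hd => by
    simpa [mul_assoc] using conj_mem_of_norm (Nu hn) (cz (mem_zpowers u) _ (conj_mem_of_norm' hn.2 hd))
  have nd' : ∀ g, g * z * g⁻¹ ∈ D ⊓ C[n * z * n⁻¹] → ∀ d ∈ D, d * (g * z * g⁻¹) = g * z * g⁻¹ * d → d ∈ C[n * z * n⁻¹] :=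
    fun g h d hd c => by
      have k1 := conj_mem_of_norm' hn.2 h.1
      have k2 := (mem_inf.1 h).2
      rw [← cj_cent1, mem_cj] at k2 ⊢
      refine zc ⟨m.le (conj_mem_of_norm' hn.2 hd), nd (n⁻¹ * g) _ (m.le (conj_mem_of_norm' hn.2 hd)) ?_ ?_⟩
      · simpa [mul_assoc] using mi (m.le k1) (cz3 _ (m.le k1) (mem_cent1.1 k2).symm)
      · simpa [mul_assoc] using congrArg (fun x => n⁻¹ * x * n) c
  have wD := conj_mem_of_norm hn.2 zD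
  have ww := cj_sq zz n
  obtain ⟨w, hw⟩ : ∃ w, w = n * z * n⁻¹ := ⟨_, rfl⟩
  rw [← hw] at w1 cw nd' wD ww
  have wi := inv_eq_of_mul_eq_one_right ww
  have wS := m.le wD
  have wU : ∀ {a}, a ∈ S ⊓ L → w * a * w⁻¹ ∈ S ⊓ cj t L := fun ha =>
    ⟨jmem wS ha.1, π.swL (π.hS.le wS) w1 ▸ conj_mem_cj.2 ha.2⟩
  have zw := cz2 w wS w1
  have red0 : ∀ p : G → Prop, (∀ d ∈ D, p d → p (d * z)) →
      (∀ d ∈ D, d ∈ M1 L t → d ∈ C[w] → p d) → ∀ d ∈ D, d ∈ M1 L t → p d := fun p p2 p3 d hd d1 => by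
    rcases (mem_zp uu).1 (cw d hd) with e | e
    · exact p3 d hd d1 (mem_cent1.2 (cm1.1 e).symm)
    · have := p2 _ (mul_mem hd zD) (p3 _ (mul_mem hd zD) (mul_mem d1 (π.U1 zU).2) (mem_cent1.2 (by
        rw [show d * z * w = d * (z * w * z⁻¹ * w⁻¹) * (w * z) by group, zw, mem_cent.1 uZ.2 d hd, ← e]; group)))
      rwa [mul_assoc, zz, mul_one] at this
  have dw : ∀ d ∈ D, d ∉ M1 L t → d * w ∈ M1 L t := fun d hd d1 =>
    (π.mul2 (π.hS.le (m.le hd)) (π.hS.le wS)).2 (iff_of_false d1 w1)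
  have red : ∀ p : G → Prop, (∀ d ∈ D, p d → p (d * w)) → (∀ d ∈ D, p d → p (d * z)) →
      (∀ d ∈ D, d ∈ M1 L t → d ∈ C[w] → p d) → ∀ d ∈ D, p d := fun p p1 p2 p3 d hd => by
    by_cases d1 : d ∈ M1 L t
    · exact red0 p p2 p3 d hd d1
    · have := p1 _ (mul_mem hd wD) (red0 p p2 p3 _ (mul_mem hd wD) (dw d hd d1))
      rwa [mul_assoc, ww, mul_one] at this
  obtain ⟨a, ha, a1, a2⟩ := ex_st (A := zpowers z) pV π.syl1.pi (lt_of_le_of_ne (zpowers_le.2 hz.1) fun e => by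
      rw [← e, Nat.card_zpowers, orderOf_eq_prime (p := 2) (by rw [pow_two, zz]) z1] at V4; omega)
    (V1.trans (π.U1.trans (zc.trans (cent1_le_norm_zpowers z)))) (zc.trans (cent1_le_norm_zpowers z)) V2
  have aU := V1 ha
  have aa := V3 a ha
  have ai := inv_eq_of_mul_eq_one_right aa
  have az := mem_cent1.1 (zc (π.U1 aU))
  obtain ⟨g, hg⟩ : ∃ g, g = a * (w * a * w⁻¹) := ⟨_, rfl⟩
  have gS : g ∈ S ⊓ M1 L t := hg ▸ mul_mem (π.U1 aU) (π.U2 (wU aU))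
  have gw : g * w = w * g := mem_cent1.1 (hg ▸ diag_cent ww (by
    rw [cj_inf, cj_of_mem wS, π.swL (π.hS.le wS) w1]; exact π.dp.c) aU)
  have gz := mem_cent1.1 (zc gS)
  have gd : ∀ d ∈ D, d ∈ M1 L t → d ∈ C[w] →
      g * d * g⁻¹ * d⁻¹ = a * d * a⁻¹ * d⁻¹ * (w * (a * d * a⁻¹ * d⁻¹) * w⁻¹) := fun d hd d1 d2 => by
    have k1 : d * a⁻¹ * d⁻¹ ∈ S ⊓ L := ⟨jmem (m.le hd) (inv_mem (mem_inf.1 aU).1), conj_mem_of_norm d1.1 (inv_mem (mem_inf.1 aU).2)⟩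
    have k2 : w * (d * a⁻¹ * d⁻¹) * w⁻¹ = d * (w * a * w⁻¹)⁻¹ * d⁻¹ := by
      rw [show w * (d * a⁻¹ * d⁻¹) * w⁻¹ = w * d * a⁻¹ * (w * d)⁻¹ by group, ← mem_cent1.1 d2]; group
    calc _ = a * (w * a * w⁻¹) * (d * a⁻¹ * d⁻¹ * (d * (w * a * w⁻¹)⁻¹ * d⁻¹)) := by rw [hg, π.dp.inv2 aU (wU aU)]; group
      _ = _ := by rw [π.dp.mul4 (wU aU) k1, ← k2]; group
  have gu : ∀ d ∈ D, g * d * g⁻¹ * d⁻¹ ∈ zpowers u := red _
    (fun d _ k => by rwa [show g * (d * w) * g⁻¹ * (d * w)⁻¹ = g * d * g⁻¹ * (g * w) * g⁻¹ * (d * w)⁻¹ by group, gw,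
      show g * d * g⁻¹ * (w * g) * g⁻¹ * (d * w)⁻¹ = g * d * g⁻¹ * d⁻¹ by group])
    (fun d _ k => by rwa [show g * (d * z) * g⁻¹ * (d * z)⁻¹ = g * d * g⁻¹ * (g * z) * g⁻¹ * (d * z)⁻¹ by group, gz,
      show g * d * g⁻¹ * (z * g) * g⁻¹ * (d * z)⁻¹ = g * d * g⁻¹ * d⁻¹ by group])
    fun d hd d1 d2 => by
      rw [gd d hd d1 d2]
      rcases (mem_zp zz).1 (a2 d ⟨m.le hd, d1⟩) with e | e <;> rw [e]
      · simp
      · rw [zsw w wS w1, ← hu]; exact mem_zpowers u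
  have gD : g ∈ D := m.rad2 (zpowers_le.2 uZ.1) Nu ⟨gS.1, mem_norm_of fun d hd => by
    simpa using mul_mem (zpowers_le.2 uZ.1 (gu d hd)) hd⟩ (cent_zpowers u ▸ le_cent1_iff.2 uC gS.1) gu
  have gc : ∀ d ∈ D, d ∈ C[w] → g * d = d * g := fun d hd d2 => by
    rcases (mem_zp uu).1 (gu d hd) with e | e
    · exact cm1.1 e
    have e1 : a * n * z * (a * n)⁻¹ = g * w := by rw [hg, mul_assoc a _ w, inv_mul_cancel_right, hw, mul_inv_rev, ai]; group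
    have := nd' (a * n) (e1 ▸ mul_mem (mi gD (mem_cent1.2 gw)) (mi wD (mem_cent1_self w))) _ (mul_mem hd zD) (by
      rw [e1, mul_assoc, ← mul_assoc z, ← gz, show d * (g * z * w) = d * g * (z * w * z⁻¹ * w⁻¹) * (w * z) by group, zw,
        mem_cent.1 uZ.2 _ (mul_mem hd gD), ← e, mul_assoc g w, ← mul_assoc w, ← mem_cent1.1 d2]
      group)
    exact (w1 (cz3 w wS (mem_cent1.1 ((mul_mem_cancel_left d2).1 this)))).elim
  have gZ : g ∈ Z(D) := ⟨gD, mem_cent.2 (red _ (fun d _ k => by rw [mul_assoc, ← gw, ← mul_assoc, k, mul_assoc])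
    (fun d _ k => by rw [mul_assoc, ← gz, ← mul_assoc, k, mul_assoc]) fun d hd _ d2 => (gc d hd d2).symm)⟩
  have ac0 : ∀ d ∈ D, d ∈ M1 L t → a * d = d * a := red0 _ (fun d _ k => by rw [← mul_assoc, k, mul_assoc, az, mul_assoc])
    fun d hd d1 d2 => by
      have k := gd d hd d1 d2
      have k1 := zpowers_le.2 zU (a2 d ⟨m.le hd, d1⟩)
      rw [cm1.2 (gc d hd d2), eq_comm] at k
      exact cm1.1 (π.dp.uniq k1 (wU k1) (one_mem _) (one_mem _) (k.trans (mul_one 1).symm)).1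
  have ac : ∀ d ∈ D, a * d * a⁻¹ * d⁻¹ ∈ Z(D) ∧ (d ∈ M1 L t → a * d = d * a) := fun d hd => ⟨by
    by_cases d1 : d ∈ M1 L t
    · rw [cm1.2 (ac0 d hd d1)]; exact one_mem _
    · rw [← mul_inv_cancel_right d w, ← mul_assoc, ← mul_assoc, mul_assoc a, ac0 _ (mul_mem hd wD) (dw d hd d1),
        show d * w * a * w⁻¹ * a⁻¹ * (d * w * w⁻¹)⁻¹ = d * (a * (w * a⁻¹ * w⁻¹))⁻¹ * d⁻¹ by group, ai, ← hg]
      exact conj_mem_of_norm (norm_le_norm_center D (le_normalizer hd)) (inv_mem gZ), ac0 d hd⟩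
  have aD : a ∈ D := m.rad2 (A := Z(D)) inf_le_left (inf_le_right.trans (norm_le_norm_center D))
    ⟨aU.1, mem_norm_of fun d hd => by simpa using mul_mem (mem_inf.1 (ac d hd).1).1 hd⟩
    (mem_cent.2 fun d hd => ((ac d hd.1).2 (cz3 d (m.le hd.1) (mem_cent.1 hd.2 z zD))).symm) fun d hd => (ac d hd).1
  have := inv_mem (cw a aD)
  rw [show (w * a * w⁻¹ * a⁻¹)⁻¹ = a * (w * a⁻¹ * w⁻¹) by group] at this
  rcases (mem_zp uu).1 this with e | e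
  · exact a1 ((π.dp.uniq aU (wU (inv_mem aU)) (one_mem _) (one_mem _) (e.trans (mul_one 1).symm)).1 ▸ one_mem _)
  · exact a1 ((π.dp.uniq aU (wU (inv_mem aU)) zU zU2 (e.trans hu)).1 ▸ mem_zpowers _)

end PS

namespace PS
variable (π : PS I U Γ ρ L f t S)
include π

theorem derS (h : x ∈ S) (k : x ∈ ⁅(⊤ : Subgroup G), (⊤ : Subgroup G)⁆) : x ∈ M1 L t := by
  have := Fact.mk Nat.prime_two
  obtain ⟨P, rfl⟩ := π.sylG.exists_sylow_top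
  have k1 := (commutator_inf_eq_focalSubgroup P).le ⟨k, h⟩
  rw [focalSubgroup_def] at k1
  refine (Subgroup.closure_le (M1 L t)).2 ?_ k1
  rintro g ⟨hg, x, hx, u, e⟩
  change g ∈ M1 L t
  rw [e, commutatorElement_def, mul_assoc, mul_assoc, ← mul_assoc u] at hg ⊢
  have h1 := (mul_mem_cancel_left hx).1 hg
  refine (π.mul2 (π.hS.le hx) (π.hS.le h1)).2 (inv_mem_iff.symm.trans (by_contra fun k => ?_))
  obtain ⟨D, m⟩ := exists_MB (𝒰 := M1 L t) π.sylG (fun s hs y _ => (π.cjM (π.hS.le hs)).symm) (inv_mem hx) (mem_top u) h1 k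
  exact π.noMB m

variable (nX : X.Normal) (pX : X ≤ ⁅X, X⁆) (LX : L ≤ X)
include nX pX

theorem sylX : Syl 2 (S ⊓ X) (X ⊓ N(G0 L t)) :=
  (π.sylG.inf_normal normalIn_top).of_le (le_inf inf_le_right (inf_le_left.trans π.hS.le)) inf_le_left

theorem XM : X ⊓ N(G0 L t) ≤ M1 L t := fun x hx => by
  obtain ⟨y, o, e, -, y2, o2, y1, o1⟩ := parts x
  have l := zpowers_le.2 hx
  obtain ⟨k, hk, l'⟩ := (π.sylX nX pX).scj_le (zpowers_le.2 (l y1)) (piG_zpowers.2 y2)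
  have := l' (conj_mem_cj.2 (mem_zpowers y))
  exact e ▸ mul_mem ((π.cjM hk.2).1 (π.derS this.1 (der_mono le_top (pX this.2))))
    (mem_of_odd o2 ((π.mul2 (l o1).2 (l o1).2).2 Iff.rfl))

include LX

theorem GX : G0 L t ≤ X := sup_le LX (cj_le_of_mem_norm ((normalIn_top (H := X)).norm (mem_top t)) LX)

theorem key (φ : C →* C) (hy : y ∈ S ⊓ X) (yy : y * y = 1) (e : FF f t y = (γ, γ))
    (h : ∀ s ∈ X ⊓ N(G0 L t), s * s = 1 → EE I (f s) * EE I (f (t⁻¹ * s * t)) = EE I γ * EE I γ →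
      φ (ρ (f s)) = φ (ρ (f (t⁻¹ * s * t)))) : φ (ρ γ) = 1 := by
  have XM := π.XM nX pX
  have nX' : ∀ g, g ∈ N(X) := fun g => (normalIn_top (H := X)).norm (mem_top g)
  have yH := (π.sylX nX pX).le hy
  have y1 : y ∈ S ⊓ M1 L t := ⟨hy.1, XM yH⟩
  have yt : t * y = y * t := mul_inv_eq_iff_eq_mul.1 (π.inj (π.tS1 y1) y1 (by rw [π.Ft, e, Prod.swap_prod_mk]))
  obtain ⟨P, hP, tP⟩ := (piG_zpowers.2 (two_of_sq π.tt)).exists_syl (zpowers_le.2 (mem_cent1.2 yt))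
  have PM : P ≤ N(G0 L t) := by
    obtain ⟨k, -, l⟩ := π.sylG.sle_cj le_top hP.pi
    exact l.trans (cj_le_of_mem (π.uq k (π.hS.le (mem_cj.1 (l (tP (mem_zpowers t)))))) π.hS.le)
  have hQ := hP.inf_normal (inf_normal_of_norm (H := X) fun g _ => nX' g)
  rw [show P ⊓ (X ⊓ C[y]) = P ⊓ X from le_antisymm (inf_le_inf_left _ inf_le_left)
    (le_inf inf_le_left (le_inf inf_le_right (inf_le_left.trans hP.le)))] at hQ
  have sz : ∀ g ∈ X, cj g⁻¹ (P ⊓ X) ≤ N(G0 L t) → g⁻¹ * y * g ∈ X ⊓ N(G0 L t) →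
      #(P ⊓ X) * #(U.prod U) = EE (I.prod I) (FF f t (g⁻¹ * y * g)) * e2 (X ⊓ N(G0 L t)) := fun g hg l m => by
    have h1 := hQ.J g⁻¹
    rw [cj_inf g⁻¹ X, cj_of_mem (inv_mem hg), cj_cent1, inv_inv] at h1
    rw [← π.θF.size π.o' π.τ.prod (le_inf (π.GX nX pX LX) le_normalizer) XM m (cj_sq' yy g), e2_eq (h1.of_le
      (le_inf (le_inf (h1.le.trans inf_le_left) l) (h1.le.trans inf_le_right)) (inf_le_inf_right _ inf_le_left)), card_cj]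
  have yP : y ∈ P ⊓ X := hQ.mem_of_norm ⟨hy.2, mem_cent1_self y⟩ (two_of_sq yy)
    (cent_le_norm _ (le_cent1_iff.1 (hQ.le.trans inf_le_right)))
  have s1 := sz 1 (one_mem _) (by simpa using inf_le_left.trans PM) (by simpa using yH)
  rw [inv_one, one_mul, mul_one, e] at s1
  rw [← show f y = γ from congrArg Prod.fst e]
  refine trT (κ := fun g => φ (ρ (f g))) (nX' t) π.tM π.tt π.uq ((π.θ.mul.mu (φ.comp ρ)).mono (XM.trans inf_le_left)) (pX hy.2) yy yt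
    hQ.pi hQ.le yP (inf_le_left.trans PM) (norms_inf (norms_of_le tP) (fun g _ => nX' g) (mem_zpowers t)) fun g hg l => ?_
  have m : g⁻¹ * y * g ∈ X ⊓ N(G0 L t) := mi (mul_mem (mul_mem (inv_mem hg) (mem_inf.1 hy).2) hg)
    (l (mem_cj_inv.2 (by simpa [mul_assoc] using yP)))
  have s2 := (sz g hg l m).symm.trans s1
  rw [FF, π.EEp, π.EEp] at s2
  rw [show ∀ s, t * s * t⁻¹ = t⁻¹ * s * t from fun s => by rw [π.ti],
    ← h _ m (cj_sq' yy g) (Nat.eq_of_mul_eq_mul_right (e2_pos _) s2), ← map_mul, ← map_mul,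
    π.θ.mul.sq (XM m).1 (cj_sq' yy g), map_one, map_one]

theorem dia (hy : y ∈ S ⊓ X) (h1 : FF f t y ∈ Γ.prod Γ) (h2 : FF f t y * FF f t y = 1) :
    ∃ z ∈ S ⊓ X, z * z = 1 ∧ FF f t z = ((FF f t y).1 * (FF f t y).2, (FF f t y).1 * (FF f t y).2) := by
  have y1 : y ∈ S ⊓ M1 L t := ⟨hy.1, π.XM nX pX ((π.sylX nX pX).le hy)⟩
  have m := mul_mem y1 (π.tS1 y1)
  have c := mem_cent.1 (π.τ.ab h1.1) _ h1.2
  have e : FF f t (y * (t * y * t⁻¹)) = ((FF f t y).1 * (FF f t y).2, (FF f t y).1 * (FF f t y).2) := by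
    rw [π.θF.mul _ y1.2 _ (π.tS1 y1).2, π.Ft]; exact Prod.ext rfl c
  refine ⟨_, ⟨m.1, mul_mem (mem_inf.1 hy).2 (nX.conj_mem y hy.2 t)⟩, π.inj (mul_mem m m) (one_mem _) ?_, e⟩
  have : (FF f t y).1 * (FF f t y).2 * ((FF f t y).1 * (FF f t y).2) = 1 := by
    rw [mul_assoc, ← mul_assoc _ (FF f t y).1, c, mul_assoc, show (FF f t y).2 * _ = 1 from congrArg Prod.snd h2, mul_one]
    exact congrArg Prod.fst h2
  rw [π.θF.mul _ m.2 _ m.2, e, π.θF.mul.one]; exact Prod.ext this this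

theorem SX : S ⊓ X = S ⊓ L ⊔ S ⊓ cj t L := by
  have XM := π.XM nX pX
  have l1 : S ⊓ X ≤ S ⊓ M1 L t := le_inf inf_le_left ((π.sylX nX pX).le.trans XM)
  refine le_antisymm (fun x hx => π.mem0 (l1 hx) (by_contra fun k => ?_))
    (sup_le (inf_le_inf_left _ LX) (inf_le_inf_left _ (le_sup_right.trans (π.GX nX pX LX))))
  have st3 : ∀ y ∈ S ⊓ X, y * y = 1 → ∀ γ ∈ Γ, FF f t y = (γ, γ) → γ = 1 := fun y hy yy γ hγ e =>
    π.τ.ρΓ γ hγ (by_contra fun k => k (π.key nX pX LX (MonoidHom.id C) hy yy e fun s hs ss e' =>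
      π.p.k0 γ hγ k _ _ (π.θ.mul.sq (XM hs).1 ss) (π.θ2.mul.sq (XM hs).2 ss) e'))
  obtain ⟨y, hy, yy, y1, y2⟩ := π.θF.ex_gam π.τ.prod π.o' π.syl1 π.lF (π.GX nX pX LX) ⟨l1 hx, hx.2⟩ k
  have y3 := π.θF.mul.sq hy.1.2 yy
  obtain ⟨z, hz, zz, e⟩ := π.dia nX pX LX ⟨hy.1.1, hy.2⟩ y1 y3
  have h1 := st3 z hz zz _ (mul_mem (mem_prod.1 y1).1 y1.2) e
  have h2 : (FF f t y).2 = (FF f t y).1 := by
    rw [eq_inv_of_mul_eq_one_right h1, inv_eq_iff_mul_eq_one]; exact congrArg Prod.fst y3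
  have h3 := st3 y ⟨hy.1.1, hy.2⟩ yy _ y1.1 (Prod.ext rfl h2)
  exact y2 (Prod.ext h3 (h2.trans h3))

theorem fa : ∃ Y, Fb X (S ⊓ L) (S ⊓ cj t L) Y := by
  obtain ⟨Y, z, h1, h2, h3, h4, h5, h6, h7⟩ := π.p.y
  have YU := h3.trans (der_le U)
  have l0 : S ⊓ L ⊓ pre π.θ.mul.hom Y ≤ N(L) := inf_le_left.trans π.lN
  have mY : ∀ {x}, x ∈ S ⊓ L ⊓ pre π.θ.mul.hom Y ↔ x ∈ S ⊓ L ∧ f x ∈ Y := ⟨fun h => ⟨h.1, (π.θ.mul.mem_pre.1 h.2).2⟩,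
    fun h => ⟨h.1, π.θ.mul.mem_pre.2 ⟨π.lN h.1, h.2⟩⟩⟩
  have imY : im π.θ.mul.hom (S ⊓ L ⊓ pre π.θ.mul.hom Y) = Y := le_antisymm
    (fun _ h => let ⟨_, hg, e⟩ := (π.θ.mul.mem_im l0).1 h; e ▸ (mY.1 hg).2)
    fun _ h => let ⟨_, hg, e⟩ := π.lift (YU h); e ▸ π.θ.mul.mem_im' l0 (mY.2 ⟨hg, e ▸ h⟩)
  have eq : ∀ {a b}, a ∈ S ⊓ L → b ∈ S ⊓ L → f a = f b → a = b := fun ha hb => π.θ.eq2 ha.2 hb.2 (π.hS.pi.elt ha.1) (π.hS.pi.elt hb.1)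
  have cd : ∀ {A}, A ≤ S ⊓ L → #(im π.θ.mul.hom A) = #A := fun l => π.θ.mul.card_im (l.trans π.lN) fun g hg e =>
    eq (l hg) (one_mem _) (e.trans π.θ.mul.one.symm)
  generalize S ⊓ L ⊓ pre π.θ.mul.hom Y = W at *
  have WU : W ≤ S ⊓ L := fun _ h => (mY.1 h).1
  refine ⟨W, π.z2, fun x hx => mY.2 ⟨hx.1, (h1 _ (π.fc (π.lN hx.1) hx.2)).elim (fun e => e ▸ one_mem _) fun e => e ▸ h2⟩,
    π.le2 WU ((der_le _).trans inf_le_right) (by rw [im_comm π.lN π.lN, π.imU, imY]; exact h3),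
    fun g hg => mem_norm_of fun x hx => mY.2 ⟨jmem hg (WU hx), ?_⟩, fun y hy => eq (mul_mem (WU hy) (WU hy)) (one_mem _) ?_,
    fun Z k1 k2 k3 k4 => ?_, ?_, π.nc⟩
  · rw [π.θ.mul.cnj (π.lN hg) (l0 hx)]; exact conj_mem_of_norm (h4 (π.fU hg)) (mY.1 hx).2
  · rw [π.θ.mul _ (l0 hy) _ (l0 hy), h5 _ (mY.1 hy).2, π.θ.mul.one]
  · have ZU := k1.trans (der_le _)
    have := h6 (im π.θ.mul.hom Z) ((im_mono k1).trans (by rw [im_comm π.lN π.lN, π.imU])) (π.imU.ge.trans (im_norms k2))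
      (fun _ h => let ⟨g, hg, e⟩ := (π.θ.mul.mem_im (ZU.trans π.lN)).1 h; e ▸ π.θ.mul.sq (π.lN (ZU hg)) (k3 g hg))
      (by rw [cd ZU, k4, ← cd WU, imY])
    exact eq_of_le_of_card_eq (π.le2 ZU (WU.trans inf_le_right) (by rw [this, imY])) k4
  have l : L ⊓ N(W) ≤ N(L) := inf_le_left.trans le_normalizer
  refine (π.le2 (K := ⁅L ⊓ N(W), L ⊓ N(W)⁆) le_rfl ((der_le _).trans inf_le_left) ?_).trans
    (der_mono (inf_le_inf_right _ (le_inf LX (cents_mono π.c le_rfl inf_le_right))))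
  rw [π.imU, im_comm l l]
  refine h7.trans (der_mono fun α h => ?_)
  obtain ⟨a, ha, rfl⟩ := π.θ.sur α h.1
  refine π.θ.mul.mem_im' l ⟨ha, mem_norm_of fun z hz => ?_⟩
  have k := conj_mem_of_norm h.2 (mY.1 hz).2
  obtain ⟨y, hy, e⟩ := π.lift (YU k)
  rw [← π.θ.eq2 hy.2 (jmem ha (WU hz).2) (π.hS.pi.elt hy.1) ((π.hS.pi.elt (WU hz).1).e_conj a)
    (e.trans (π.θ.mul.cnj (le_normalizer ha) (l0 hz)).symm)]
  exact mY.2 ⟨hy, e ▸ k⟩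

end PS

/-- the product endgame -/
theorem pe (π : PD I U Γ ρ L f t) (nX : X.Normal) (sX : H17.GS.Sim X) (LX : L ≤ X) : False := by
  obtain ⟨S, hS, tS⟩ := (piG_zpowers.2 (two_of_sq π.tt)).exists_syl (zpowers_le.2 π.tM)
  obtain ⟨β, l⟩ := π.θ.ex_tw π.τ (hS.pi.infl (M1 L t)) (inf_le_right.trans inf_le_left)
  have π' : PS I U Γ ρ L _ t S := ⟨π.tw β, hS, tS (mem_zpowers t), l⟩
  have pX : X ≤ ⁅X, X⁆ := ((sX.cases (der_le X) (der_normal X).norm).resolve_left fun e => sX.nab (comm_iff_der.2 e)).ge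
  obtain ⟨Y, f1⟩ := π'.fa nX pX LX
  have f2 := f1.J t
  rw [π'.cjU, ← π'.cjU, π.cjt, (normalIn_top (H := X)).cj_eq (mem_top t), π'.cjU] at f2
  exact pl sX (π'.SX nX pX LX ▸ π'.sylG.inf_normal normalIn_top) π'.dp (by rw [← π'.cjU, card_cj]) ⟨Y, rfl, f1⟩ ⟨_, card_cj _ _, f2⟩

end H7.NS
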