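/-
Fusion systems on a Sylow `p`-subgroup of `PSU₄(q)`, part 0: coordinates.
-/
import Cfsg.Agent.H8.PU2

set_option autoImplicit false
set_option linter.unusedSectionVars false

namespace H7.PV
open Subgroup H25 H8.PU

variable {K : Type*} [Field K] {σ : K →+* K}

/-- the element `n(H) x_t`, `H = [[v, s], [s̄, u]]` hermitian, `x_t = diag(A, A⁻*)`, `A = [[1, t], [0, 1]]` -/
@[ext] structure Cu (σ : K →+* K) where
  (t u s v : K)
  su : σ u = u
  sv : σ v = v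

namespace Cu
variable [IV σ]
@[simps] instance : One (Cu σ) := ⟨⟨0, 0, 0, 0, by simp, by simp⟩⟩
@[simps] instance : Mul (Cu σ) := ⟨fun x y => {
  t := x.t + y.t
  u := x.u + y.u
  s := x.s + y.s + x.t * y.u
  v := x.v + y.v + x.t * σ y.s + σ x.t * y.s + x.t * σ x.t * y.u
  su := by simp only [map_add, x.su, y.su]
  sv := by simp only [map_add, map_mul, ss, x.sv, y.sv, y.su]; ring }⟩
@[simps] instance : Inv (Cu σ) := ⟨fun x => {
  t := -x.t
  u := -x.u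
  s := x.t * x.u - x.s
  v := x.t * σ x.s + σ x.t * x.s - x.v - x.t * σ x.t * x.u
  su := by simp only [map_neg, x.su]
  sv := by simp only [map_add, map_sub, map_mul, ss, x.sv, x.su]; ring }⟩
instance : Group (Cu σ) := Group.ofLeftAxioms
  (fun x y z => by ext <;> simp only [mul_t, mul_u, mul_s, mul_v, map_add, map_mul, z.su] <;> ring)
  (fun x => by ext <;> simp)
  (fun x => by ext <;> simp only [mul_t, mul_u, mul_s, mul_v, inv_t, inv_u, inv_s, inv_v, one_t, one_u, one_s, one_v,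
    map_neg] <;> ring)
instance [Finite K] : Finite (Cu σ) := Finite.of_injective (fun x : Cu σ => (x.t, x.u, x.s, x.v))
  fun _ _ e => by simp only [Prod.mk.injEq] at e; exact Cu.ext e.1 e.2.1 e.2.2.1 e.2.2.2

/-- root elements -/
@[simps] def xt (t : K) : Cu σ := ⟨t, 0, 0, 0, by simp, by simp⟩
@[simps] def xs (s : K) : Cu σ := ⟨0, 0, s, 0, by simp, by simp⟩
@[simps] def xu (u : K) (h : σ u = u) : Cu σ := ⟨0, u, 0, 0, h, by simp⟩
@[simps] def xv (v : K) (h : σ v = v) : Cu σ := ⟨0, 0, 0, v, by simp, h⟩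
/-- an element of `Q₁` -/
@[simps] def el (t s : K) : Cu σ := ⟨t, 0, s, 0, by simp, by simp⟩

/-- a subgroup given by a predicate -/
def sb (p : Cu σ → Prop) (h1 : p 1) (h2 : ∀ x y, p x → p y → p (x * y)) (h3 : ∀ x, p x → p x⁻¹) : Subgroup (Cu σ) :=
  ⟨⟨⟨{x | p x}, fun {x y} => h2 x y⟩, h1⟩, fun {x} => h3 x⟩
variable (σ)
def Z : Subgroup (Cu σ) := sb (fun x => x.t = 0 ∧ x.u = 0 ∧ x.s = 0) (by simp)
  (fun _ _ h h' => by simp [h, h']) fun _ h => by simp [h]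
def Z2 : Subgroup (Cu σ) := sb (fun x => x.t = 0 ∧ x.u = 0) (by simp) (fun _ _ h h' => by simp [h, h']) fun _ h => by simp [h]
def Q1 : Subgroup (Cu σ) := sb (fun x => x.u = 0) (by simp) (fun _ _ h h' => by simp [h, h']) fun _ h => by simp [h]
def Q2 : Subgroup (Cu σ) := sb (fun x => x.t = 0) (by simp) (fun _ _ h h' => by simp [h, h']) fun _ h => by simp [h]
/-- `{t ∈ F_q a}` -/
def C1 (a : K) : Subgroup (Cu σ) := sb (fun x => σ a * x.t = a * σ x.t) (by simp)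
  (fun _ _ h h' => by simp [h, h', mul_add]) fun _ h => by simp [h]
/-- `C_{Z₂}(x_a)` -/
def Z1 (a : K) : Subgroup (Cu σ) := sb (fun x => x.t = 0 ∧ x.u = 0 ∧ σ a * x.s = -(a * σ x.s)) (by simp)
  (fun _ _ h h' => by simp [h, h', mul_add]; ring) fun _ h => by simp [h]
/-- `{u = 0, t ∈ F_q a, s ∈ F_q a}` -/
def V8 (a : K) : Subgroup (Cu σ) := sb (fun x => x.u = 0 ∧ σ a * x.t = a * σ x.t ∧ σ a * x.s = a * σ x.s) (by simp)
  (fun _ _ h h' => by simp [h, h', mul_add]) fun _ h => by simp [h]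
variable {σ} {x : Cu σ} {a : K}
theorem mZ : x ∈ Z σ ↔ x.t = 0 ∧ x.u = 0 ∧ x.s = 0 := Iff.rfl
theorem mZ2 : x ∈ Z2 σ ↔ x.t = 0 ∧ x.u = 0 := Iff.rfl
theorem mQ1 : x ∈ Q1 σ ↔ x.u = 0 := Iff.rfl
theorem mQ2 : x ∈ Q2 σ ↔ x.t = 0 := Iff.rfl
theorem mC1 : x ∈ C1 σ a ↔ σ a * x.t = a * σ x.t := Iff.rfl
theorem mZ1 : x ∈ Z1 σ a ↔ x.t = 0 ∧ x.u = 0 ∧ σ a * x.s = -(a * σ x.s) := Iff.rfl
theorem mV8 : x ∈ V8 σ a ↔ x.u = 0 ∧ σ a * x.t = a * σ x.t ∧ σ a * x.s = a * σ x.s := Iff.rfl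

/-- the semilinear diagonal automorphism -/
@[simps] def sc (r b : K) (hb : σ b = b) (φ : K ≃+* K) (x : Cu σ) : Cu σ :=
  ⟨r * φ x.t, b * φ x.u, r * b * φ x.s, r * σ r * b * φ x.v, by simp only [map_mul, IV.cm, hb, x.su],
    by simp only [map_mul, ss, IV.cm, hb, x.sv]; ring⟩
/-- the Weyl element of the Levi factor `SL₂(q)` on `Q₁` (for `u = 0`) -/
@[simps] def m1 (x : Cu σ) : Cu σ := ⟨x.s, 0, -x.t, x.v - x.t * σ x.s - σ x.t * x.s, by simp,
  by simp only [map_sub, map_mul, ss, x.sv]; ring⟩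
/-- the Weyl element of the Levi factor `SL₂(q²)` on `Q₂` (for `t = 0`) -/
@[simps] def m2 (x : Cu σ) : Cu σ := ⟨0, x.v, -σ x.s, x.u, x.sv, x.su⟩
/-- the central automorphism `v ↦ v + c u` -/
def ta (c : K) (hc : σ c = c) : MulAut (Cu σ) where
  toFun x := ⟨x.t, x.u, x.s, x.v + c * x.u, x.su, by simp only [map_add, map_mul, hc, x.su, x.sv]⟩
  invFun x := ⟨x.t, x.u, x.s, x.v - c * x.u, x.su, by simp only [map_sub, map_mul, hc, x.su, x.sv]⟩
  left_inv x := by ext <;> simp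
  right_inv x := by ext <;> simp
  map_mul' x y := by ext <;> simp only [mul_t, mul_u, mul_s, mul_v]; ring
/-- the automorphism `s ↦ s + β t̄` in characteristic three -/
def tb (h3 : (3 : K) = 0) (β : K) : MulAut (Cu σ) where
  toFun x := ⟨x.t, x.u, x.s + β * σ x.t, x.v - σ β * x.t ^ 2 - β * σ x.t ^ 2, x.su,
    by simp only [map_sub, map_mul, map_pow, ss, x.sv]; ring⟩
  invFun x := ⟨x.t, x.u, x.s - β * σ x.t, x.v + σ β * x.t ^ 2 + β * σ x.t ^ 2, x.su,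
    by simp only [map_add, map_mul, map_pow, ss, x.sv]; ring⟩
  left_inv x := by ext <;> simp; ring
  right_inv x := by ext <;> simp; ring
  map_mul' x y := by
    ext <;> simp only [mul_t, mul_u, mul_s, mul_v, map_add, map_mul, ss]
    · ring
    · linear_combination -(σ β * x.t * y.t + β * σ x.t * σ y.t) * h3
variable {c β : K} {hc : σ c = c} {h3 : (3 : K) = 0}
@[simp] theorem ta_t : (ta c hc x).t = x.t := rfl
@[simp] theorem ta_u : (ta c hc x).u = x.u := rfl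
@[simp] theorem ta_s : (ta c hc x).s = x.s := rfl
@[simp] theorem ta_v : (ta c hc x).v = x.v + c * x.u := rfl
@[simp] theorem tb_t : (tb h3 β x).t = x.t := rfl
@[simp] theorem tb_u : (tb h3 β x).u = x.u := rfl
@[simp] theorem tb_s : (tb h3 β x).s = x.s + β * σ x.t := rfl
@[simp] theorem tb_v : (tb h3 β x).v = x.v - σ β * x.t ^ 2 - β * σ x.t ^ 2 := rfl
end Cu
open Cu

variable {Γ : Type*} [Group Γ] [IV σ]

/-- coordinates on `S` -/
structure Cv (S : Subgroup Γ) (ev : Cu σ →* Γ) : Prop where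
  inj : Function.Injective ev
  mem : ∀ w, w ∈ S ↔ ∃ c, w = ev c

namespace Cv
variable {S : Subgroup Γ} {ev : Cu σ →* Γ} (h : Cv S ev) {c c' : Cu σ} {w : Γ} {X : Subgroup (Cu σ)}
include h
theorem mul (c c' : Cu σ) : ev c * ev c' = ev (c * c') := (ev.map_mul c c').symm
theorem inv (c : Cu σ) : (ev c)⁻¹ = ev c⁻¹ := (ev.map_inv c).symm
theorem eq1 : ev c = 1 ↔ c = 1 := by rw [← ev.map_one, h.inj.eq_iff]
theorem mm : ev c ∈ X.map ev ↔ c ∈ X := mem_map_iff_mem h.inj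
theorem mS (c : Cu σ) : ev c ∈ S := (h.mem _).2 ⟨c, rfl⟩
theorem ex (hw : w ∈ S) : ∃ c, True ∧ ev c = w := let ⟨c, e⟩ := (h.mem w).1 hw; ⟨c, trivial, e.symm⟩
theorem le (X : Subgroup (Cu σ)) : X.map ev ≤ S := fun _ ⟨c, _, e⟩ => e ▸ h.mS c
theorem top : (⊤ : Subgroup (Cu σ)).map ev = S := le_antisymm (h.le _) fun _ hw => let ⟨c, _, e⟩ := h.ex hw; ⟨c, trivial, e⟩
end Cv
theorem cv_range {ev : Cu σ →* Γ} (h : Function.Injective ev) : Cv ev.range ev :=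
  ⟨h, fun _ => ⟨fun ⟨u, e⟩ => ⟨u, e.symm⟩, fun ⟨u, e⟩ => ⟨u, e.symm⟩⟩⟩

/-- normalization of coordinate expressions -/
macro "us" h:term:max "[" ls:Lean.Parser.Tactic.simpLemma,* "]" loc:(Lean.Parser.Tactic.location)? : tactic => `(tactic|
  simp only [Cv.mul $h, Cv.inv $h, Cv.eq1 $h, (Cv.inj $h).eq_iff, Cv.mm $h, Cv.mS $h, Subgroup.mem_bot, Subgroup.mem_top,
  SetLike.mem_coe, Cu.ext_iff, mZ, mZ2, mQ1, mQ2, mC1, mZ1, mV8,
  mul_t, mul_u, mul_s, mul_v, inv_t, inv_u, inv_s, inv_v, one_t, one_u, one_s, one_v, xt_t, xt_u, xt_s, xt_v,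
  xs_t, xs_u, xs_s, xs_v, xu_t, xu_u, xu_s, xu_v, xv_t, xv_u, xv_s, xv_v, el_t, el_u, el_s, el_v, sc_t, sc_u, sc_s, sc_v,
  m1_t, m1_u, m1_s, m1_v, m2_t, m2_u, m2_s, m2_v, ta_t, ta_u, ta_s, ta_v, tb_t, tb_u, tb_s, tb_v, Cu.su, Cu.sv, ss,
  RingHom.map_add, RingHom.map_mul, RingHom.map_sub, RingHom.map_neg, RingHom.map_zero, RingHom.map_one, RingEquiv.refl_apply,
  mul_zero, zero_mul, add_zero, zero_add, sub_zero, neg_zero, mul_one, one_mul, sub_self, add_neg_cancel, neg_add_cancel,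
  and_self, and_true, true_and, $ls,*] $[$loc]?)
/-- coordinates of an element of `S` or of a pattern subgroup -/
macro "uo" h:term:max hx:ident c:ident hc:ident : tactic => `(tactic| (
  first | obtain ⟨$c:ident, -, e⟩ := Cv.ex $h $hx | obtain ⟨$c:ident, $hc:ident, e⟩ := $hx
  subst e))
/-- inclusions between pattern subgroups -/
macro "ul" h:term:max : tactic => `(tactic| (intro x hx; uo $h hx c hc; us $h [] at hc ⊢; us $h [hc]))
/-- commutator relations between pattern subgroups -/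
macro "uc" h:term:max : tactic => `(tactic| (
  intro x hx y hy
  uo $h hx c hc
  uo $h hy c' hc'
  try us $h [] at hc
  try us $h [] at hc'
  first | us $h [hc, hc'] | us $h [hc'] | us $h [hc] | us $h []
  all_goals cg))

namespace Cv
variable {S : Subgroup Γ} {ev : Cu σ →* Γ} (h : Cv S ev) {a : K} {p : ℕ} {w : Γ}
include h
theorem cSS : CC S S ((Z2 σ).map ev) := by uc h
theorem cS2 : CC S ((Z2 σ).map ev) ((Z σ).map ev) := by uc h
theorem cS1 : CC S ((Z σ).map ev) ⊥ := by uc h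
theorem c11 : CC ((Q1 σ).map ev) ((Q1 σ).map ev) ((Z σ).map ev) := by uc h
theorem c22 : CC ((Q2 σ).map ev) ((Q2 σ).map ev) ⊥ := by uc h
theorem cC1 (ha : a ≠ 0) : CC ((C1 σ a).map ev) ((Z1 σ a).map ev) ⊥ := by
  have := sn (σ := σ) ha
  uc h
variable [CharP K p]
theorem pwS (hw : w ∈ S) : w ^ p ∈ (Z2 σ).map ev := by
  uo h hw c hc
  exact ev.map_pow c p ▸ h.mm.2 ⟨pw_add Cu.t (fun _ _ _ _ => rfl) (mem_top c), pw_add Cu.u (fun _ _ _ _ => rfl) (mem_top c)⟩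
theorem pw1 (hw : w ∈ (Q1 σ).map ev) : w ^ p ∈ (Z σ).map ev := by
  uo h hw c hc
  exact ev.map_pow c p ▸ h.mm.2 ⟨pw_add Cu.t (fun _ _ _ _ => rfl) hc, pw_add Cu.u (fun _ _ _ _ => rfl) hc,
    pw_add Cu.s (fun _ _ _ k => by simp [mQ1.1 k]) hc⟩
theorem pw2 (hw : w ∈ (Q2 σ).map ev) : w ^ p = 1 := by
  uo h hw c hc
  rw [← ev.map_pow, h.eq1]
  exact Cu.ext (pw_add Cu.t (fun _ _ _ _ => rfl) hc) (pw_add Cu.u (fun _ _ _ _ => rfl) hc)
    (pw_add Cu.s (fun _ k _ _ => by simp [mQ2.1 k]) hc) (pw_add Cu.v (fun _ k _ _ => by simp [mQ2.1 k]) hc)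
end Cv

end H7.PV
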