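/-
Fusion systems on a Sylow `p`-subgroup of `PSU₄(q)`, part 1: linear algebra on `Q₁ / Z` and `Q₂`, the interface.
-/
import Cfsg.Agent.H7.PV0

set_option autoImplicit false
set_option linter.unusedSectionVars false

namespace H7.PV
open Subgroup H25 H8.PU Cu
universe u v

variable {K : Type v} [Field K] (σ : K →+* K) [IV σ] {Γ : Type u} [Group Γ]

/-- `q = 2`, `q = 3`, `q` prime, `q > 3` -/
def F2 : Prop := ∀ r, σ r = r → r = 0 ∨ r = 1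
def F3 : Prop := (3 : K) = 0 ∧ ∀ r, σ r = r → r = 0 ∨ r = 1 ∨ r = -1
def Pr : Prop := ∀ r, σ r = r → ∃ n : ℤ, r = n
def Bg : Prop := ∃ ν, σ ν = ν ∧ ν ≠ 0 ∧ ν ^ 2 ≠ 1
theorem tri : F2 σ ∨ F3 σ ∨ Bg σ := by
  by_cases h : Bg σ
  · exact .inr (.inr h)
  have k : ∀ r, σ r = r → r = 0 ∨ r = 1 ∨ r = -1 := fun r hr => by
    by_contra! c
    exact h ⟨r, hr, c.1, fun e => (mul_self_eq_one_iff.1 (pow_two r ▸ e)).elim c.2.1 c.2.2⟩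
  rcases k 2 (map_ofNat σ 2) with e | e | e
  · exact .inl fun r hr => (k r hr).imp_right fun c => c.elim id fun c => by linear_combination c - e
  · exact (one_ne_zero (α := K) (by linear_combination e)).elim
  · exact .inr (.inl ⟨by linear_combination e, k⟩)
variable {σ}
theorem F2.two (h : F2 σ) : (2 : K) = 0 :=
  (h 2 (map_ofNat σ 2)).elim id fun e => (one_ne_zero (α := K) (by linear_combination e)).elim
theorem F2.pr (h : F2 σ) : Pr σ := fun r hr => (h r hr).elim (⟨0, by simp [·]⟩) (⟨1, by simp [·]⟩)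
theorem F3.pr (h : F3 σ) : Pr σ := fun r hr =>
  (h.2 r hr).elim (⟨0, by simp [·]⟩) (·.elim (⟨1, by simp [·]⟩) (⟨-1, by simp [·]⟩))
theorem F2.n3 (h : F2 σ) : ¬ F3 σ := fun k => one_ne_zero (α := K) (by linear_combination k.1 - h.two)
theorem Bg.n2 (h : Bg σ) : ¬ F2 σ := fun k => let ⟨ν, h1, h2, h3⟩ := h; (k ν h1).elim h2 fun e => h3 (by simp [e])
theorem Bg.n3 (h : Bg σ) : ¬ F3 σ := fun k => let ⟨ν, h1, h2, h3⟩ := h
  (k.2 ν h1).elim h2 fun e => e.elim (fun e => h3 (by simp [e])) fun e => h3 (by simp [e])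
/-- `F₄ = {0, 1, ω, ω + 1}` -/
theorem F2.ex (h : F2 σ) : ∃ ω : K, ω * ω = ω + 1 ∧ σ ω = ω + 1 ∧ ∀ x, x = 0 ∨ x = 1 ∨ x = ω ∨ x = ω + 1 := by
  have h2 := h.two
  have e : σ (th σ) = th σ + 1 := by rw [s_th]; linear_combination -(th σ + 1) * h2
  have n := h (th σ * σ (th σ)) (by rw [map_mul, ss, mul_comm])
  refine ⟨th σ, ?_, e, fun x => ?_⟩
  · rcases n with n | n
    · rcases mul_eq_zero.1 n with c | c
      · rw [c] at e; simp at e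
      · rw [sz.1 c] at e; simp at e
    · rw [e] at n; linear_combination n - th σ * h2
  · have a := h (x + σ x) (by rw [map_add, ss, add_comm])
    have b := h (x + th σ * (x + σ x)) (by rw [map_add, map_mul, map_add, ss, e]; linear_combination σ x * h2)
    grind
/-- `F₉ = F₃[i]` -/
theorem F3.ex (h : F3 σ) : ∃ i : K, i * i = -1 ∧ σ i = -i ∧ ∀ x, ∃ a b : ℤ, x = a + b * i := by
  obtain ⟨i, h0, e⟩ := ex_ep σ
  have h3 := h.1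
  have n1 : i ≠ 1 := fun c => one_ne_zero (α := K) (by rw [c, map_one] at e; linear_combination h3 - e)
  have n2 : i ≠ -1 := fun c => one_ne_zero (α := K) (by rw [c, map_neg, map_one] at e; linear_combination h3 + e)
  refine ⟨i, ?_, e, fun x => ?_⟩
  · rcases h.2 (i * i) (by rw [map_mul, e]; ring) with c | c | c
    · exact (h0 (mul_self_eq_zero.1 c)).elim
    · exact ((mul_self_eq_one_iff.1 c).elim n1 n2).elim
    · exact c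
  · obtain ⟨a, ha⟩ := h.pr (x + σ x) (by rw [map_add, ss, add_comm])
    obtain ⟨b, hb⟩ := h.pr ((x - σ x) / i) (by rw [map_div₀, map_sub, ss, e]; field_simp; ring)
    rw [div_eq_iff h0] at hb
    exact ⟨-a, -b, by push_cast; linear_combination -ha - hb + x * h3⟩

/-! ### `V = Q₁ / Z = {(t, s)}` -/
abbrev A1 (K : Type v) [Field K] := H24.SP.Au (K × K)
/-- the action of `S` on `Q₁ / Z` -/
def u1 : Cu σ →* A1 K := MonoidHom.mk' (fun x => {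
    toFun v := (v.1, v.2 - x.u * v.1)
    invFun v := (v.1, v.2 + x.u * v.1)
    map_add' v w := by ext <;> simp; ring
    map_smul' n v := by ext <;> simp; ring
    left_inv v := by simp
    right_inv v := by simp }) fun x y => by
  ext v <;> simp; ring
theorem u1_ap (x : Cu σ) (v : K × K) : u1 x v = (v.1, v.2 - x.u * v.1) := rfl
/-- the Weyl element -/
def w1 : A1 K where
  toFun v := (v.2, -v.1)
  invFun v := (-v.2, v.1)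
  map_add' v w := by ext <;> simp; ring
  map_smul' n v := by ext <;> simp
  left_inv v := by simp
  right_inv v := by simp
theorem w1_ap (v : K × K) : w1 v = (v.2, -v.1) := rfl
variable (σ)
/-- the shear `s ↦ s + β t̄` -/
def t1 (β : K) : A1 K where
  toFun v := (v.1, v.2 + β * σ v.1)
  invFun v := (v.1, v.2 - β * σ v.1)
  map_add' v w := by ext <;> simp; ring
  map_smul' n v := by ext <;> simp; ring
  left_inv v := by simp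
  right_inv v := by simp
theorem t1_ap (β : K) (v : K × K) : t1 σ β v = (v.1, v.2 + β * σ v.1) := rfl
/-- the quadratic form (squares in `Q₁` for `p = 2`) and the commutator form -/
def qf (v : K × K) : K := v.1 * σ v.2 + σ v.1 * v.2
def bf (v w : K × K) : K := v.1 * σ w.2 + σ v.1 * w.2 - (w.1 * σ v.2 + σ w.1 * v.2)
/-- `g` is semilinear diagonal -/
def D1 (g : A1 K) (r b : K) (φ : K ≃+* K) : Prop := ∀ v, g v = (r * φ v.1, r * b * φ v.2)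
/-- `g` stabilizes `W = Z₂ / Z = (0, *)` -/
def B1 (g : A1 K) : Prop := ∀ s, (g (0, s)).1 = 0
/-- the image of the automizer of `Q₁` -/
structure H1 (p : ℕ) (G : Subgroup (A1 K)) : Prop where
  syl : Syl p (u1 (σ := σ)).range G
  fm : ∀ g ∈ G, ∃ ζ : K → K, ∀ v w, bf σ (g v) (g w) = ζ (bf σ v w)
  sq : p = 2 → ∀ g ∈ G, ∀ v, qf σ v = 0 → qf σ (g v) = 0
  bor : ∀ g ∈ G, B1 g → ∃ x : Cu σ, ∃ r b φ, r ≠ 0 ∧ b ≠ 0 ∧ σ b = b ∧ D1 ((u1 x)⁻¹ * g) r b φ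
  ne : ∃ g ∈ G, ¬ B1 g
/-- `G` contains `SL₂(q)` and has the standard points -/
def St1 (G : Subgroup (A1 K)) : Prop := w1 ∈ G ∧ (∀ ν, σ ν = ν → ν ≠ 0 → ∃ g ∈ G, D1 g ν⁻¹ (ν ^ 2) (.refl K)) ∧
  ∀ g ∈ G, B1 g ∨ ∃ x : Cu σ, B1 (w1 * u1 x * g)
/-- invariants for `q = 3` -/
def P5 (G : Subgroup (A1 K)) : Prop := ∃ g ∈ G, ∃ x y : Cu σ, (u1 x * (g * u1 y * g⁻¹)) ^ 12 ≠ 1
def ND (G : Subgroup (A1 K)) : Prop := ∃ g ∈ G, ¬ B1 g ∧ ∃ s, s ≠ 0 ∧ (g (0, s)).1 = 0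
def IJ (G : Subgroup (A1 K)) : Prop := ∃ g ∈ G, (∀ v, (g v).1 = v.1) ∧ ∀ s, g (0, s) = (0, -s)

/-! ### `J = Q₂ = {(u, s, v)}` -/
def jvs : AddSubgroup (K × K × K) where
  carrier := {x | σ x.1 = x.1 ∧ σ x.2.2 = x.2.2}
  zero_mem' := by simp
  add_mem' := fun h h' => by simp [h.1, h.2, h'.1, h'.2]
  neg_mem' := fun h => by simp [h.1, h.2]
/-- hermitian `2 × 2` matrices -/
def Jv : Type v := jvs σ
instance : AddCommGroup (Jv σ) := inferInstanceAs (AddCommGroup (jvs σ))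
instance [Finite K] : Finite (Jv σ) := inferInstanceAs (Finite (jvs σ))
variable {σ}
def jv (u s v : K) (hu : σ u = u) (hv : σ v = v) : Jv σ := (⟨(u, s, v), hu, hv⟩ : jvs σ)
namespace Jv
variable (x y : Jv σ) {u' s' v' : K} {hu : σ u' = u'} {hv : σ v' = v'}
def u : K := (show jvs σ from x).1.1
def s : K := (show jvs σ from x).1.2.1
def v : K := (show jvs σ from x).1.2.2
theorem su : σ x.u = x.u := (show jvs σ from x).2.1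
theorem sv : σ x.v = x.v := (show jvs σ from x).2.2
@[ext] theorem ext {x y : Jv σ} (h1 : x.u = y.u) (h2 : x.s = y.s) (h3 : x.v = y.v) : x = y :=
  Subtype.ext (Prod.ext h1 (Prod.ext h2 h3))
@[simp] theorem jv_u : (jv u' s' v' hu hv).u = u' := rfl
@[simp] theorem jv_s : (jv u' s' v' hu hv).s = s' := rfl
@[simp] theorem jv_v : (jv u' s' v' hu hv).v = v' := rfl
@[simp] theorem zero_u : (0 : Jv σ).u = 0 := rfl
@[simp] theorem zero_s : (0 : Jv σ).s = 0 := rfl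
@[simp] theorem zero_v : (0 : Jv σ).v = 0 := rfl
@[simp] theorem add_u : (x + y).u = x.u + y.u := rfl
@[simp] theorem add_s : (x + y).s = x.s + y.s := rfl
@[simp] theorem add_v : (x + y).v = x.v + y.v := rfl
@[simp] theorem neg_u : (-x).u = -x.u := rfl
@[simp] theorem neg_s : (-x).s = -x.s := rfl
@[simp] theorem neg_v : (-x).v = -x.v := rfl
@[simp] theorem sub_u : (x - y).u = x.u - y.u := rfl
@[simp] theorem sub_s : (x - y).s = x.s - y.s := rfl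
@[simp] theorem sub_v : (x - y).v = x.v - y.v := rfl
@[simp] theorem zs_u (n : ℤ) : (n • x).u = n * x.u := zsmul_eq_mul x.u n
@[simp] theorem zs_s (n : ℤ) : (n • x).s = n * x.s := zsmul_eq_mul x.s n
@[simp] theorem zs_v (n : ℤ) : (n • x).v = n * x.v := zsmul_eq_mul x.v n
end Jv
variable (σ) in
abbrev A2 := H24.SP.Au (Jv σ)
/-- `H ↦ A H A*`, `A = [[1, t], [0, 1]]` -/
def xj (t : K) (x : Jv σ) : Jv σ := jv x.u (x.s + t * x.u) (x.v + t * σ x.s + σ t * x.s + t * σ t * x.u) x.su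
  (by simp only [map_add, map_mul, ss, x.su, x.sv]; ring)
/-- the action of `S` on `J` -/
def u2 : Cu σ →* A2 σ := MonoidHom.mk' (fun c => {
    toFun := xj c.t
    invFun := xj (-c.t)
    map_add' x y := by ext <;> simp [xj] <;> ring
    map_smul' n x := by ext <;> simp [xj] <;> ring
    left_inv x := by ext <;> simp [xj, x.su]; ring
    right_inv x := by ext <;> simp [xj, x.su]; ring }) fun c d => by
  ext x <;> simp [xj, x.su] <;> ring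
theorem u2_u (c : Cu σ) (x : Jv σ) : (u2 c x).u = x.u := rfl
theorem u2_s (c : Cu σ) (x : Jv σ) : (u2 c x).s = x.s + c.t * x.u := rfl
theorem u2_v (c : Cu σ) (x : Jv σ) : (u2 c x).v = x.v + c.t * σ x.s + σ c.t * x.s + c.t * σ c.t * x.u := rfl
/-- the Weyl element -/
def w2 : A2 σ where
  toFun x := jv x.v (-σ x.s) x.u x.sv x.su
  invFun x := jv x.v (-σ x.s) x.u x.sv x.su
  map_add' x y := by ext <;> simp; ring
  map_smul' n x := by ext <;> simp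
  left_inv x := by ext <;> simp [ss]
  right_inv x := by ext <;> simp [ss]
theorem w2_ap (x : Jv σ) : w2 x = jv x.v (-σ x.s) x.u x.sv x.su := rfl
/-- the shear `v ↦ v + c u` -/
def t2 (c : K) (hc : σ c = c) : A2 σ where
  toFun x := jv x.u x.s (x.v + c * x.u) x.su (by simp only [map_add, map_mul, hc, x.su, x.sv])
  invFun x := jv x.u x.s (x.v - c * x.u) x.su (by simp only [map_sub, map_mul, hc, x.su, x.sv])
  map_add' x y := by ext <;> simp; ring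
  map_smul' n x := by ext <;> simp; ring
  left_inv x := by ext <;> simp
  right_inv x := by ext <;> simp
theorem t2_ap (c : K) (hc : σ c = c) (x : Jv σ) :
    (t2 c hc x).u = x.u ∧ (t2 c hc x).s = x.s ∧ (t2 c hc x).v = x.v + c * x.u := ⟨rfl, rfl, rfl⟩
/-- `g` is semilinear diagonal -/
def D2 (g : A2 σ) (r b : K) (φ : K ≃+* K) : Prop :=
  ∀ x, (g x).u = b * φ x.u ∧ (g x).s = r * b * φ x.s ∧ (g x).v = r * σ r * b * φ x.v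
/-- `g` stabilizes the point `Z = (0, 0, *)` -/
def B2 (g : A2 σ) : Prop := ∀ x, x.u = 0 → x.s = 0 → (g x).u = 0 ∧ (g x).s = 0
/-- singular vectors in `Z₂` lie in `Z` -/
def SV (G : Subgroup (A2 σ)) : Prop := ∀ g ∈ G, ∀ x, x.u = 0 → x.s = 0 → (g x).u = 0 → (g x).s = 0
/-- the other points meet `Z₂` trivially -/
def Op (G : Subgroup (A2 σ)) : Prop := ∀ g ∈ G, ¬ B2 g → ∀ x, x.u = 0 → x.s = 0 → (g x).u = 0 → x = 0
/-- `T` is transitive on the other points -/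
def Tr (G : Subgroup (A2 σ)) : Prop := ∀ g ∈ G, ∀ g' ∈ G, ¬ B2 g → ¬ B2 g' → ∃ c : Cu σ, B2 (g'⁻¹ * u2 c * g)
/-- `G` contains `L₂(q²)` and has the standard points -/
def St2 (G : Subgroup (A2 σ)) : Prop := w2 ∈ G ∧ (∀ l, l ≠ 0 → ∃ g ∈ G, D2 g (l ^ 2) (l * σ l)⁻¹ (.refl K)) ∧
  ∀ g ∈ G, B2 g ∨ ∃ c : Cu σ, B2 (w2 * u2 c * g)
/-- a conjugate of an element of `Z` is `(0, a, *)` -/
def Ej (G : Subgroup (A2 σ)) (a : K) : Prop := a ≠ 0 ∧ ∃ g ∈ G, ∃ x, x.u = 0 ∧ x.s = 0 ∧ (g x).u = 0 ∧ (g x).s = a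
/-- strongly embedded -/
def SE (G : Subgroup (A2 σ)) : Prop := ∃ X, (u2 (σ := σ)).range ≤ X ∧ X ≤ G ∧ ¬ G ≤ X ∧
  ∀ g ∈ G, ∀ y ∈ (u2 (σ := σ)).range, y ≠ 1 → g * y * g⁻¹ ∈ (u2 (σ := σ)).range → g ∈ X

/-! ### the ambient group -/
/-- `τ` acts as the semilinear diagonal automorphism with weights `r`, `b` on the simple roots -/
structure Wu (ev : Cu σ →* Γ) (τ : Γ) (r b : K) (φ : K ≃+* K) : Prop where
  r0 : r ≠ 0
  b0 : b ≠ 0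
  hb : σ b = b
  cj : ∀ c, τ * ev c * τ⁻¹ = ev (sc r b hb φ c)
/-- the element `diag(l, ν / l, l̄⁻¹, l̄ / ν)` of the torus of `SU₄(q)` -/
abbrev Wz (ev : Cu σ →* Γ) (τ : Γ) (l ν : K) : Prop := Wu ev τ (l ^ 2 / ν) (ν ^ 2 / (l * σ l)) (.refl K)
/-- the Weyl elements -/
structure Wl (ev : Cu σ →* Γ) (M1 M2 : Γ) : Prop where
  f1 : ∀ c : Cu σ, c.u = 0 → M1 * ev c * M1⁻¹ = ev (m1 c)
  f2 : ∀ c : Cu σ, c.t = 0 → M2 * ev c * M2⁻¹ = ev (m2 c)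
/-- the model: `L = SU₄(q)`, `C0` the semilinear diagonal group -/
structure Mu (p : ℕ) (S : Subgroup Γ) (ev : Cu σ →* Γ) (L C0 : Subgroup Γ) (M1 M2 : Γ) : Prop extends Cv S ev, Wl ev M1 M2 where
  pg : IsPGroup p S
  syl : Syl p S L
  CL : C0 ≤ nz L
  wt : ∀ k ∈ C0, ∃ r b φ, Wu ev k r b φ
  ex' : ∀ r b φ, r ≠ 0 → b ≠ 0 → σ b = b → ∃ k ∈ C0, Wu ev k r b φ
  fa : ∀ k ∈ C0, Wu ev k 1 1 (.refl K) → k = 1
  nl : ∀ g ∈ L, g ∈ nz S → ∃ s ∈ S, ∃ τ l ν, l ≠ 0 ∧ ν ≠ 0 ∧ σ ν = ν ∧ Wz ev τ l ν ∧ g = s * τ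
  l1 : M1 ∈ L
  l2 : M2 ∈ L
  b1 : ∀ g ∈ L, g ∈ nz ((Q1 σ).map ev) → g ∈ nz ((Z2 σ).map ev) ∨ ∃ s ∈ S, M1 * s * g ∈ nz ((Z2 σ).map ev)
  b2 : ∀ g ∈ L, g ∈ nz ((Q2 σ).map ev) → g ∈ nz ((Z σ).map ev) ∨ ∃ s ∈ S, M2 * s * g ∈ nz ((Z σ).map ev)
/-- the element of `Q₂` with given coordinates -/
@[simps] def nj (x : Jv σ) : Cu σ := ⟨0, x.u, x.s, x.v, x.su, x.sv⟩
/-- `g` acts on `Q₁ / Z`, resp. on `Q₂`, as `f` -/
def Ac1 (ev : Cu σ →* Γ) (g : Γ) (f : A1 K) : Prop :=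
  ∀ c : Cu σ, c.u = 0 → ∃ c' : Cu σ, c'.u = 0 ∧ g * ev c * g⁻¹ = ev c' ∧ (c'.t, c'.s) = f (c.t, c.s)
def Aj (ev : Cu σ →* Γ) (g : Γ) (f : A2 σ) : Prop := ∀ x, g * ev (nj x) * g⁻¹ = ev (nj (f x))
section
variable {ev : Cu σ →* Γ} {g g' : Γ}
theorem Ac1.mul {f f' : A1 K} (k : Ac1 ev g f) (k' : Ac1 ev g' f') : Ac1 ev (g * g') (f * f') := fun c hc =>
  let ⟨c1, h1, e1, e2⟩ := k' c hc
  let ⟨c2, h2, e3, e4⟩ := k c1 h1
  ⟨c2, h2, by rw [mul_inv_rev, ← e3, ← e1]; group, by rw [e4, e2]; rfl⟩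
theorem Aj.mul {f f' : A2 σ} (k : Aj ev g f) (k' : Aj ev g' f') : Aj ev (g * g') (f * f') := fun x => by
  rw [mul_inv_rev, H24.SP.mul_ap, ← k, ← k']; group
theorem sgp_inv {G : Type*} [Group G] [Finite G] {P : G → Prop} (h1 : P 1) (h : ∀ a b, P a → P b → P (a * b)) {a : G}
    (ha : P a) : P a⁻¹ := by
  have k : ∀ n : ℕ, P (a ^ n) := fun n => by
    induction n with
    | zero => simpa using h1
    | succ n ih => rw [pow_succ]; exact h _ _ ih ha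
  have e : a⁻¹ = a ^ (orderOf a - 1) := by
    rw [inv_eq_iff_mul_eq_one, ← pow_succ', Nat.sub_add_cancel (orderOf_pos a), pow_orderOf_eq_one]
  exact e ▸ k _
end
variable [Finite K]
/-- the images of a subgroup in the linear groups -/
def im1 (ev : Cu σ →* Γ) (A : Subgroup Γ) : Subgroup (A1 K) where
  carrier := {f | ∃ g ∈ A, Ac1 ev g f}
  one_mem' := ⟨1, one_mem _, fun c h => ⟨c, h, by simp, rfl⟩⟩
  mul_mem' := fun ⟨_, a, b⟩ ⟨_, c, d⟩ => ⟨_, mul_mem a c, b.mul d⟩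
  inv_mem' := sgp_inv (P := fun f => ∃ g ∈ A, Ac1 ev g f) ⟨1, one_mem _, fun c h => ⟨c, h, by simp, rfl⟩⟩
    fun _ _ ⟨_, a, b⟩ ⟨_, c, d⟩ => ⟨_, mul_mem a c, b.mul d⟩
def im2 (ev : Cu σ →* Γ) (A : Subgroup Γ) : Subgroup (A2 σ) where
  carrier := {f | ∃ g ∈ A, Aj ev g f}
  one_mem' := ⟨1, one_mem _, fun _ => by simp⟩
  mul_mem' := fun ⟨_, a, b⟩ ⟨_, c, d⟩ => ⟨_, mul_mem a c, b.mul d⟩
  inv_mem' := sgp_inv (P := fun f => ∃ g ∈ A, Aj ev g f) ⟨1, one_mem _, fun _ => by simp⟩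
    fun _ _ ⟨_, a, b⟩ ⟨_, c, d⟩ => ⟨_, mul_mem a c, b.mul d⟩
theorem mem_im1 {ev : Cu σ →* Γ} {A : Subgroup Γ} {f : A1 K} : f ∈ im1 ev A ↔ ∃ g ∈ A, Ac1 ev g f := Iff.rfl
theorem mem_im2 {ev : Cu σ →* Γ} {A : Subgroup Γ} {f : A2 σ} : f ∈ im2 ev A ↔ ∃ g ∈ A, Aj ev g f := Iff.rfl
/-- some element normalizes `Q₁` but not `Z₂`, resp. `Q₂` but not `Z` -/
def N1 (ev : Cu σ →* Γ) (H : Subgroup Γ) : Prop := ∃ g ∈ H, g ∈ nz ((Q1 σ).map ev) ∧ g ∉ nz ((Z2 σ).map ev)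
def N2 (ev : Cu σ →* Γ) (H : Subgroup Γ) : Prop := ∃ g ∈ H, g ∈ nz ((Q2 σ).map ev) ∧ g ∉ nz ((Z σ).map ev)

/-! ### the chunks; standing instances `[Finite K] [Finite Γ] [Fact p.Prime] [CharP K p] [IV σ]` -/
section chunks
variable (σ) (p : ℕ) (Γ) [Finite Γ]
def XE : Prop := ∀ (S P A : Subgroup Γ) (ev : Cu σ →* Γ), Cv S ev → Es p S P A → Gen S P A →
  P = (Q1 σ).map ev ∨ P = (Q2 σ).map ev ∨ F2 σ ∧ ∃ a, a ≠ 0 ∧ P = (C1 σ a).map ev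
def XC : Prop := ∀ (S : Subgroup Γ) (ev : Cu σ →* Γ), Cv S ev → ∀ g ∈ nz S, g ∈ nz ((Z σ).map ev) ∧ g ∈ nz ((Z2 σ).map ev) ∧
  g ∈ nz ((Q1 σ).map ev) ∧ g ∈ nz ((Q2 σ).map ev) ∧ ∃ (r b : K) (φ : K ≃+* K), r ≠ 0 ∧ b ≠ 0 ∧ σ b = b ∧
    ∀ c c', g * ev c * g⁻¹ = ev c' → c'.t = r * φ c.t ∧ c'.u = b * φ c.u
def XQ : Prop := F2 σ → ∀ (S : Subgroup Γ) (ev : Cu σ →* Γ) (a : K), Cv S ev → a ≠ 0 →
  nz ((C1 σ a).map ev) ≤ nz ((Q2 σ).map ev) ⊓ nz ((V8 σ a).map ev) ∧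
  (∀ g ∈ nz ((C1 σ a).map ev), Agree ((Q2 σ).map ev) (g * ev (xt a)) (ev (xt a) * g)) ∧
  nz ((C1 σ a).map ev) ⊓ cz ((Q2 σ).map ev) ≤ ai ((C1 σ a).map ev) ((C1 σ a).map ev) ∧
  (∀ A, Es p S ((C1 σ a).map ev) A → Ej (im2 ev A) a) ∧ S ⊓ cz ((V8 σ a).map ev) ≤ (V8 σ a).map ev ∧
  S ≤ nz ((V8 σ a).map ev) ∧ ∀ M1 M2, Wl ev M1 M2 → M1 ∈ nz ((V8 σ a).map ev)
def J0 : Prop := ∀ G : Subgroup (A2 σ), Syl p (u2 (σ := σ)).range G → ∀ g ∈ G, B2 g →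
  g ∈ nz (u2 (σ := σ)).range ∧ ∀ x, x.u = 0 → (g x).u = 0
def JT : Prop := ¬ F2 σ → ∀ G : Subgroup (A2 σ), Syl p (u2 (σ := σ)).range G → SV G
def J2 : Prop := ∀ G : Subgroup (A2 σ), Syl p (u2 (σ := σ)).range G → SV G → Op G ∧ Tr G
def J3 : Prop := ∀ G : Subgroup (A2 σ), Syl p (u2 (σ := σ)).range G → SV G → Op G → Tr G → (∃ g ∈ G, ¬ B2 g) →
  (Pr σ ∨ ∃ g ∈ G, ∃ ν, σ ν = ν ∧ ν ≠ 0 ∧ ν ^ 2 ≠ 1 ∧ D2 g ν⁻¹ (ν ^ 2) (.refl K)) →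
  ∃ c, ∃ hc : σ c = c, (∀ g ∈ G, ∀ r b φ, D2 g r b φ → r * σ r * φ c = c) ∧ St2 (cj (t2 c hc) G)
def QC : Prop := F2 σ → (∀ G : Subgroup (A2 σ), Syl p (u2 (σ := σ)).range G → (∃ a, a ≠ 0 ∧ ¬ Ej G a) ∧ (SE G → SV G)) ∧
  ∃ Y : K → Subgroup (A2 σ), ∀ G : Subgroup (A2 σ), Syl p (u2 (σ := σ)).range G → ¬ Ej G 1 → ∀ a a', a ≠ a' → Ej G a →
    Ej G a' → ∃ c, ∃ hc : σ c = c, ∀ a, Ej G a → cj (t2 c hc) G ⊓ cz (zpowers (u2 (xt a))) = Y a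
def L1 : Prop := ¬ F3 σ → ∀ G, H1 σ p G → St1 σ G
def C3 : Prop := F3 σ → ∃ X : Prop → Prop → Prop → Subgroup (A1 K), ∀ G, H1 σ p G →
  (∀ l, l ≠ 0 → ∃ g ∈ G, D1 g (l ^ 2) (l * σ l)⁻¹ (.refl K)) →
  ∃ β k r b φ, r ≠ 0 ∧ b ≠ 0 ∧ σ b = b ∧ D1 k r b φ ∧ (∀ g ∈ G, ∀ r b φ, D1 g r b φ → r * b * φ β = β * σ r) ∧
    (¬ P5 σ G ∧ ¬ ND G ∧ St1 σ (cj (k * t1 σ β) G) ∨ (P5 σ G ∨ ND G) ∧ cj (k * t1 σ β) G = X (P5 σ G) (ND G) (IJ G) ∧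
      (P5 σ G → ND G → IJ G) ∧ ∃ g ∈ G, ∃ r b φ, D1 g r b φ ∧ φ ≠ .refl K)
def MU : Prop := ∃ (G : Type v) (_ : Group G) (_ : Finite G) (ev : Cu σ →* G) (L C0 : Subgroup G) (M1 M2 : G),
  Mu p ev.range ev L C0 M1 M2
/-- a presentation for `q = 3` -/
def R3 : Prop := F3 σ → ∀ i : K, i * i = -1 → σ i = -i → ∀ (G : Type) [Group G] (a b w c d z : G),
  a ^ 3 = 1 → b ^ 3 = 1 → w ^ 3 = 1 → c ^ 3 = 1 → d ^ 3 = 1 → z ^ 3 = 1 → z ≠ 1 →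
  Commute a b → Commute w c → Commute w d → Commute w z → Commute c d → Commute c z → Commute d z →
  a * w = w * c * z * a → a * c = c * z ^ 2 * a → Commute a d → Commute a z →
  b * w = w * d * z * b → Commute b c → b * d = d * z ^ 2 * b → Commute b z →
  ∃ ev : Cu σ →* G, Function.Injective ev ∧ ev (xt 1) = a ∧ ev (xt i) = b ∧ ev (xu 1 (map_one σ)) = w ∧ ev (xs 1) = c ∧
    ev (xs i) = d ∧ ev (xv 1 (map_one σ)) = z
/-- `McL ≤ McL.2`, `McL ≤ Co₂` -/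
def MC : Prop := F3 σ → ∃ (G : Type) (_ : Group G) (_ : Finite G) (ev : Cu σ →* G) (G0 G1 G2 : Subgroup G),
  Function.Injective ev ∧ ev.range ≤ G0 ∧ G0 ≤ G1 ∧ G1 ≤ nz G0 ∧ G0 ≤ G2 ∧ Syl 3 ev.range G1 ∧ Syl 3 ev.range G2 ∧ N2 ev G0 ∧
  P5 σ (im1 ev G0) ∧ ¬ 16 ∣ ev.range.relIndex (G0 ⊓ nz ev.range) ∧ IJ (im1 ev G1) ∧ ND (im1 ev G2)
/-- `U₆(2) ≤ U₆(2).2` -/
def M6 : Prop := F3 σ → ∃ (G : Type) (_ : Group G) (_ : Finite G) (ev : Cu σ →* G) (G0 G1 : Subgroup G),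
  Function.Injective ev ∧ ev.range ≤ G0 ∧ G0 ≤ G1 ∧ G1 ≤ nz G0 ∧ Syl 3 ev.range G1 ∧ N2 ev G0 ∧ ND (im1 ev G0) ∧
  (∀ g ∈ G0, ∃ w ∈ (Q2 σ).map ev, g * w * g⁻¹ ≠ w⁻¹) ∧ IJ (im1 ev G1)
/-- `L₄(2)` -/
def M4 : Prop := F2 σ → ∃ (G : Type) (_ : Group G) (_ : Finite G) (ev : Cu σ →* G) (H : Subgroup G),
  Function.Injective ev ∧ Syl 2 ev.range H ∧ N1 ev H ∧ ∃ a a', a ≠ a' ∧ Ej (im2 ev H) a ∧ Ej (im2 ev H) a'
end chunks
def SU4 : Prop := ∀ (K : Type v) [Field K] [Fintype K] (p : ℕ) [Fact p.Prime] [CharP K p] (n : ℕ), 1 ≤ n →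
  Fintype.card K = (p ^ n) ^ 2 → ∃ (σ : K →+* K) (_ : IV σ), ∀ T : Sylow p (Cfsg.PSU 4 K (p ^ n)),
    Nonempty (Cu σ ≃* (T : Subgroup (Cfsg.PSU 4 K (p ^ n))))
/-- the Borel subgroup of `U₄(3)` -/
def NB : Prop := ∀ (F : Type) [Field F] [Fintype F], Fintype.card F = 9 → ∀ T : Sylow 3 (Cfsg.PSU 4 F 3),
  (T : Subgroup (Cfsg.PSU 4 F 3)).relIndex (nz (T : Subgroup (Cfsg.PSU 4 F 3))) ∣ 4

end H7.PV
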