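/-
Fusion systems on a Sylow `p`-subgroup of `PSU₄(q)`, part 2: Frattini subgroups, transfer to linear groups.
-/
import Cfsg.Agent.H7.PV1

set_option autoImplicit false
set_option linter.unusedSectionVars false

namespace H7.PV
open Subgroup H25 H8.PU Cu
universe u v
variable {K : Type v} [Field K] [Finite K] {σ : K →+* K} [IV σ] {Γ : Type u} [Group Γ] [Finite Γ] {p : ℕ} [Fact p.Prime]
  {S P A X Y : Subgroup Γ} {ev : Cu σ →* Γ} {g g' k τ τ' w M1 M2 : Γ} {r b r' b' a : K} {φ φ' : K ≃+* K} {c : Cu σ}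
  {f f' : A1 K} {j j' : A2 σ}

omit [Finite K] in
/-- `s ↦ T(a s̄)` is onto the fixed field -/
theorem ex_ts {v : K} (h : σ v = v) (ha : a ≠ 0) : ∃ s, a * σ s + σ a * s = v :=
  let ⟨y, e⟩ := ex_tr h
  ⟨y / σ a, by rw [map_div₀, ss, mul_div_cancel₀ _ ha, mul_div_cancel₀ _ (sn ha), add_comm, e]⟩
omit [Finite K] in
theorem ts0 (h : ∀ s, a * σ s + σ a * s = 0) : a = 0 := by_contra fun ha =>
  let ⟨s, e⟩ := ex_ts (map_one σ) ha; one_ne_zero (e.symm.trans (h s))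
omit [Finite K] in
/-- linear forms over the fixed field -/
theorem lin_fn (θ : K → K) (h0 : ∀ x, σ (θ x) = θ x) (h1 : ∀ x y, θ (x + y) = θ x + θ y)
    (h2 : ∀ l x, σ l = l → θ (l * x) = l * θ x) : ∃ a, ∀ x, θ x = a * σ x + σ a * x := by
  obtain ⟨η, hη⟩ := IV.ne (σ := σ)
  have n := sub_ne_zero.2 hη
  refine ⟨(θ η - η * θ 1) / (σ η - η), fun x => ?_⟩
  have e : x = (x * σ η - σ x * η) / (σ η - η) * 1 + (σ x - x) / (σ η - η) * η := by field_simp; ring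
  have n' : η - σ η ≠ 0 := sub_ne_zero.2 (Ne.symm hη)
  conv_lhs => rw [e, h1, h2 _ _ (by simp only [map_div₀, map_sub, map_mul, ss]; field_simp; ring),
    h2 _ _ (by simp only [map_div₀, map_sub, ss]; field_simp; ring)]
  simp only [map_div₀, map_sub, map_mul, ss, h0]
  field_simp; ring
omit [Finite K] in
theorem Pr.lin (h : Pr σ) (θ : K → K) (h1 : ∀ x y, θ (x + y) = θ x + θ y) (l x : K) (hl : σ l = l) : θ (l * x) = l * θ x := by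
  obtain ⟨n, rfl⟩ := h l hl
  simpa using map_zsmul (AddMonoidHom.mk' θ h1) n x

theorem Wu.mul (h : Wu ev τ r b φ) (h' : Wu ev τ' r' b' φ') : Wu ev (τ * τ') (r * φ r') (b * φ b') (φ'.trans φ) :=
  ⟨mul_ne_zero h.r0 ((map_ne_zero φ).2 h'.r0), mul_ne_zero h.b0 ((map_ne_zero φ).2 h'.b0),
    by rw [map_mul, IV.cm, h.hb, h'.hb], fun c => by
    rw [cj_mul2, h'.cj, h.cj]; congr 1
    ext <;> simp only [sc, map_mul, IV.cm, RingEquiv.trans_apply] <;> ring⟩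
theorem Wu.mul1 (h : Wu ev τ r b (.refl K)) (h' : Wu ev τ' r' b' (.refl K)) : Wu ev (τ * τ') (r * r') (b * b') (.refl K) :=
  h.mul h'
theorem Wu.cg (h : Wu ev τ r b φ) (e1 : r = r') (e2 : b = b') (e3 : φ = φ') : Wu ev τ r' b' φ' := by
  subst e1 e2 e3; exact h

theorem Ac1.ag (h : Ac1 ev g' f) (e : Agree ((Q1 σ).map ev) g g') : Ac1 ev g f := fun c hc =>
  let ⟨c1, h1, e1, e2⟩ := h c hc
  ⟨c1, h1, (e _ (mem_map_of_mem ev hc)).trans e1, e2⟩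
theorem Ac1.nz (h : Ac1 ev g f) : g ∈ nz ((Q1 σ).map ev) := mem_nz_of_conj_mem (by
  rintro _ ⟨c, hc, rfl⟩
  exact let ⟨c1, h1, e1, _⟩ := h c hc; ⟨c1, h1, e1.symm⟩)
theorem Ac1.bo (h : Ac1 ev g f) (b : B1 f) : g ∈ H25.nz ((Z2 σ).map ev) := mem_nz_of_conj_mem (by
  rintro _ ⟨c, hc, rfl⟩
  obtain ⟨c1, h1, e1, e2⟩ := h c hc.2
  have := b c.s
  rw [← hc.1, ← e2] at this
  exact ⟨c1, ⟨this.trans hc.1, h1⟩, e1.symm⟩)
theorem ac_one : Ac1 ev 1 1 := fun c h => ⟨c, h, by simp, rfl⟩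
theorem acU (x : Cu σ) : Ac1 ev (ev x) (u1 x) := fun c hc => ⟨x * c * x⁻¹, by simp [hc], by simp, by
  simp [u1_ap, hc]; ring⟩
theorem acM (y : Wl ev M1 M2) : Ac1 ev M1 w1 := fun c hc => ⟨m1 c, rfl, y.f1 c hc, rfl⟩
theorem Aj.ag (h : Aj ev g' j) (e : Agree ((Q2 σ).map ev) g g') : Aj ev g j := fun x =>
  (e _ (mem_map_of_mem ev (show nj x ∈ Q2 σ from rfl))).trans (h x)
/-- the coordinates of an element of `Q₂` -/
def pj (c : Cu σ) : Jv σ := jv c.u c.s c.v c.su c.sv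
theorem nj_pj (h : c.t = 0) : nj (pj c) = c := Cu.ext h.symm rfl rfl rfl
theorem pj_nj (x : Jv σ) : pj (nj x) = x := rfl
theorem nj_inj : Function.Injective (nj (σ := σ)) := Function.LeftInverse.injective pj_nj
theorem nj_add (x y : Jv σ) : nj (x + y) = nj x * nj y := by ext <;> simp
theorem Aj.ap (h : Aj ev g j) (hc : c.t = 0) : g * ev c * g⁻¹ = ev (nj (j (pj c))) := by rw [← h, nj_pj hc]
theorem Aj.nz (h : Aj ev g j) : g ∈ nz ((Q2 σ).map ev) := mem_nz_of_conj_mem (by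
  rintro _ ⟨c, hc, rfl⟩
  exact ⟨_, rfl, (h.ap hc).symm⟩)
theorem Aj.bo (h : Aj ev g j) (b : B2 j) : g ∈ H25.nz ((Z σ).map ev) := mem_nz_of_conj_mem (by
  rintro _ ⟨c, hc, rfl⟩
  exact ⟨_, ⟨rfl, b (pj c) hc.2.1 hc.2.2⟩, (h.ap hc.1).symm⟩)
theorem Aj.agr (h : Aj ev g j) (h' : Aj ev g' j) : Agree ((Q2 σ).map ev) g g' := by
  rintro _ ⟨c, hc, rfl⟩; rw [h.ap hc, h'.ap hc]
theorem Aj.inv (h : Aj ev g j) : Aj ev g⁻¹ j⁻¹ := fun x => by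
  have := h (j⁻¹ x)
  rw [← H24.SP.mul_ap, mul_inv_cancel, H24.SP.one_ap] at this
  rw [← this]; group
theorem aj_one : Aj ev 1 1 := fun _ => by simp
theorem ajU (x : Cu σ) : Aj ev (ev x) (u2 x) := fun y => by
  rw [← map_inv, ← map_mul, ← map_mul]; congr 1
  ext <;> simp [u2_u, u2_s, u2_v, x.su] <;> ring
theorem ajM (y : Wl ev M1 M2) : Aj ev M2 w2 := fun _ => y.f2 _ rfl

namespace Cv
variable (h : Cv S ev)
include h
theorem up {Y' : Subgroup (Cu σ)} (hY : Y ≤ X) (k : ∀ c ∈ Y', ∃ w ∈ X, w⁻¹ * ev c ∈ Y) : Y'.map ev ≤ X := by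
  rintro _ ⟨c, hc, rfl⟩
  obtain ⟨w, hw, e⟩ := k c hc
  exact (mul_mem_cancel_left (inv_mem hw)).1 (hY e)
/-- `Z = [c, Z₂]` for `c ∉ Q₂` -/
theorem Zle (hc : c.t ≠ 0) (k : ∀ s, ev c * ev (xs s) * (ev c)⁻¹ * (ev (xs s))⁻¹ ∈ X) : (Z σ).map ev ≤ X :=
  h.up bot_le fun x hx => let ⟨s, e⟩ := ex_ts x.sv hc
    ⟨_, k s, by rw [mem_bot, inv_mul_eq_one, cm_eq]; us h [] at hx; us h [hx, ← e]; cg⟩
theorem frZ (hP : IsPGroup p P) (h2 : (Z2 σ).map ev ≤ P) (hS : P ≤ S) (hQ : ¬ P ≤ (Q2 σ).map ev) : (Z σ).map ev ≤ fr P := by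
  obtain ⟨x, hx, k⟩ := SetLike.not_le_iff_exists.1 hQ
  obtain ⟨c, -, rfl⟩ := h.ex (hS hx)
  exact h.Zle (c := c) (by us h [] at k; exact k) fun s => cm_fr hP hx (h2 (by us h []))
theorem fr1 (hS : IsPGroup p S) : (Z σ).map ev ≤ fr ((Q1 σ).map ev) :=
  h.Zle (c := xt 1) one_ne_zero fun _ => cm_fr (hS.to_le (h.le _)) (by us h []) (by us h [])
theorem frS (hS : IsPGroup p S) : (Z2 σ).map ev ≤ fr S :=
  h.up (h.Zle (c := xt 1) one_ne_zero fun _ => cm_fr hS (h.mS _) (h.mS _)) fun x hx =>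
    ⟨_, cm_fr hS (h.mS (xt x.s)) (h.mS (xu 1 (map_one σ))), by us h [] at hx; us h [hx]; cg⟩
theorem cZ2 (hw : w ∈ S) (k : w ∈ cz ((Z2 σ).map ev)) : w ∈ (Q2 σ).map ev := by
  obtain ⟨c, -, rfl⟩ := h.ex hw
  refine h.mm.2 (ts0 (σ := σ) fun z => ?_)
  have := mem_cz'.1 k (ev (xs z)) (by us h [])
  us h [] at this
  grind
theorem cen1 : S ⊓ cz ((Q1 σ).map ev) ≤ (Q1 σ).map ev := fun w hw => by
  obtain ⟨c, -, rfl⟩ := h.ex hw.1
  have := mem_cz'.1 hw.2 (ev (xt 1)) (by us h [])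
  us h [] at this ⊢
  grind
theorem cen2 : S ⊓ cz ((Q2 σ).map ev) ≤ (Q2 σ).map ev := fun _ hw => h.cZ2 hw.1 (cz_anti (by ul h) hw.2)
theorem nS (hX : (Z2 σ).map ev ≤ X) (h' : X ≤ S) : S ≤ nz X := h.cSS.nz' h' hX
theorem nQ1 : S ≤ nz ((Q1 σ).map ev) := h.nS (by ul h) (h.le _)
theorem nQ2 : S ≤ nz ((Q2 σ).map ev) := h.nS (by ul h) (h.le _)
theorem nC1 : S ≤ nz ((C1 σ a).map ev) := h.nS (by ul h) (h.le _)
theorem nZ2 : S ≤ nz ((Z2 σ).map ev) := h.nS le_rfl (h.le _)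
theorem nZ : S ≤ nz ((Z σ).map ev) := h.cS1.nz' le_rfl bot_le
theorem wn {X : Subgroup (Cu σ)} (hw : Wu ev τ r b φ) (k : ∀ c ∈ X, sc r b hw.hb φ c ∈ X) : τ ∈ nz (X.map ev) :=
  mem_nz_of_conj_mem (by rintro _ ⟨c, hc, rfl⟩; exact hw.cj c ▸ h.mm.2 (k c hc))
theorem wS (hw : Wu ev τ r b φ) : τ ∈ nz S := h.top ▸ h.wn hw fun _ _ => trivial
theorem wQ1 (hw : Wu ev τ r b φ) : τ ∈ nz ((Q1 σ).map ev) := h.wn hw fun _ k => by us h [] at k ⊢; simp [k]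
theorem wQ2 (hw : Wu ev τ r b φ) : τ ∈ nz ((Q2 σ).map ev) := h.wn hw fun _ k => by us h [] at k ⊢; simp [k]
theorem wZ2 (hw : Wu ev τ r b φ) : τ ∈ nz ((Z2 σ).map ev) := h.wn hw fun _ k => by us h [] at k ⊢; simp [k]
theorem wZ (hw : Wu ev τ r b φ) : τ ∈ nz ((Z σ).map ev) := h.wn hw fun _ k => by us h [] at k ⊢; simp [k]
theorem agW (h1 : Wu ev τ r b φ) (h2 : Wu ev τ' r b φ) : Agree S τ τ' := fun x hx => by
  obtain ⟨c, -, rfl⟩ := h.ex hx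
  rw [h1.cj, h2.cj]
theorem kk1 (e : Au p S ((Q1 σ).map ev) A) :
    ai S ((Q1 σ).map ev) = A ⊓ kk (fr ((Q1 σ).map ev)) ((Q1 σ).map ev) [(Z2 σ).map ev] := by
  have l : ∀ Y ∈ [(Z2 σ).map ev], Y ≤ (Q1 σ).map ev := by
    simp only [List.forall_mem_cons, List.not_mem_nil, false_imp_iff, implies_true, and_true]
    ul h
  exact e.kk_eq l (ai_le (fun s hs => kk_mem (by simp [h.nZ2 hs.1]) hs.2 ⟨h.cSS.cm hs.1 (h.le _) le_rfl,
    h.cS2.cm hs.1 le_rfl (h.fr1 e.pg)⟩) (kk_cz l le_rfl))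
/-- the stabilizer of `Z₂` in the automizer of `Q₁` normalizes the Sylow subgroup -/
theorem bor1 (e : Au p S ((Q1 σ).map ev) A) (hg : g ∈ A) (h2 : g ∈ nz ((Z2 σ).map ev)) : g ∈ nz (ai S ((Q1 σ).map ev)) := by
  rw [h.kk1 e]
  exact mem_nz_inf (le_nz_self A hg) (kk_nz (by simp [h2]) (nz_le_nz_fr _ (e.An hg)) (e.An hg))
theorem bor2 (e : Au p S ((Q2 σ).map ev) A) (hg : g ∈ A) (h1 : g ∈ nz ((Z σ).map ev)) (h2 : g ∈ nz ((Z2 σ).map ev)) :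
    g ∈ nz (ai S ((Q2 σ).map ev)) := by
  have l : ∀ Y ∈ [(Z2 σ).map ev, (Z σ).map ev], Y ≤ (Q2 σ).map ev := by
    simp only [List.forall_mem_cons, List.not_mem_nil, false_imp_iff, implies_true, and_true]
    exact ⟨by ul h, by ul h⟩
  rw [e.kk_eq l (ai_le (fun s hs => kk_mem (by simp [h.nZ2 hs.1, h.nZ hs.1]) hs.2 ⟨h.cSS.cm hs.1 (h.le _) le_rfl,
    h.cS2.cm hs.1 le_rfl le_rfl, h.cS1.cm hs.1 le_rfl bot_le⟩) (kk_cz l le_rfl))]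
  exact mem_nz_inf (le_nz_self A hg) (kk_nz (by simp [h1, h2]) (nz_le_nz_fr _ (e.An hg)) (e.An hg))

theorem uq (k : Ac1 ev g f) (k' : Ac1 ev g f') : f = f' := LinearEquiv.ext fun v =>
  let ⟨_, _, e1, e2⟩ := k (el v.1 v.2) rfl
  let ⟨_, _, e3, e4⟩ := k' (el v.1 v.2) rfl
  e2.symm.trans (h.inj (e1.symm.trans e3) ▸ e4)
theorem uq2 (k : Aj ev g j) (k' : Aj ev g j') : j = j' := LinearEquiv.ext fun x => nj_inj (h.inj ((k x).symm.trans (k' x)))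
theorem bo1 (k : Ac1 ev g f) (n : g ∈ nz ((Z2 σ).map ev)) : B1 f := fun s => by
  obtain ⟨c, -, e1, e2⟩ := k (xs s) rfl
  have := conj_mem_of_mem_nz n (h.mm.2 (show xs s ∈ Z2 σ from ⟨rfl, rfl⟩))
  rw [e1, h.mm] at this
  exact (congrArg Prod.fst e2).symm.trans this.1
theorem bo2 (k : Aj ev g j) (n : g ∈ nz ((Z σ).map ev)) : B2 j := fun x h1 h2 => by
  have := conj_mem_of_mem_nz n (h.mm.2 (show nj x ∈ Z σ from ⟨rfl, h1, h2⟩))
  rw [k x, h.mm] at this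
  exact this.2
theorem nzZ (hg : g ∈ nz ((Q1 σ).map ev)) : g ∈ nz ((Z σ).map ev) :=
  nz_of_cz (fun w => ⟨fun k => ⟨(by ul h : (Z σ).map ev ≤ (Q1 σ).map ev) k, cz_anti (h.le _) (h.cS1.symm.cz k)⟩, fun ⟨k1, k2⟩ => by
    uo h k1 c hc
    refine h.mm.2 ⟨(h.mm.1 (h.cZ2 (h.mS c) (cz_anti (by ul h) k2)) :), hc, ts0 (σ := σ) fun z => ?_⟩
    have := mem_cz'.1 k2 (ev (xt z)) (by us h [])
    us h [] at this hc
    grind⟩) hg hg
theorem ex1 (hg : g ∈ nz ((Q1 σ).map ev)) : ∃ f, Ac1 ev g f := by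
  choose F k e using fun c (hc : c ∈ Q1 σ) => conj_mem_of_mem_nz hg (mem_map_of_mem ev hc)
  have z : ∀ c (hc : c ∈ Q1 σ) c' (hc' : c' ∈ Q1 σ), (c.t = c'.t ∧ c.s = c'.s) ↔
      ((F c hc).t = (F c' hc').t ∧ (F c hc).s = (F c' hc').s) := fun c hc c' hc' => by
    have q : ∀ c ∈ Q1 σ, ∀ c' ∈ Q1 σ, (c.t = c'.t ∧ c.s = c'.s) ↔ (ev c)⁻¹ * ev c' ∈ (Z σ).map ev := fun c hc c' hc' => by
      us h [] at hc hc'; us h [hc, hc']; grind
    rw [q c hc c' hc', q _ (k c hc) _ (k c' hc'), e, e]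
    exact ⟨fun q => by simpa [mul_assoc] using conj_mem_of_mem_nz (h.nzZ hg) q,
      fun q => by simpa [mul_assoc] using conj_mem_of_mem_nz' (h.nzZ hg) q⟩
  let G : K × K → K × K := fun v => ((F (el v.1 v.2) rfl).t, (F (el v.1 v.2) rfl).s)
  have m : ∀ c (hc : c ∈ Q1 σ), ((F c hc).t, (F c hc).s) = G (c.t, c.s) := fun c hc =>
    Prod.ext ((z c hc (el c.t c.s) rfl).1 ⟨rfl, rfl⟩).1 ((z c hc (el c.t c.s) rfl).1 ⟨rfl, rfl⟩).2
  have a : ∀ v w, G (v + w) = G v + G w := fun v w => by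
    have e1 : F (el v.1 v.2 * el w.1 w.2) (mul_mem rfl rfl) = F (el v.1 v.2) rfl * F (el w.1 w.2) rfl :=
      h.inj (by rw [e, map_mul, map_mul, e (el v.1 v.2) rfl, e (el w.1 w.2) rfl, cj_mul'])
    have := m _ (mul_mem (show el v.1 v.2 ∈ Q1 σ from rfl) (show el w.1 w.2 ∈ Q1 σ from rfl))
    rw [e1] at this
    simpa [G, mQ1.1 (k (el w.1 w.2) rfl), Prod.add_def] using this.symm
  exact ⟨(AddEquiv.ofBijective (AddMonoidHom.mk' G a) (Finite.injective_iff_bijective.1 fun v w q =>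
    Prod.ext_iff.2 ((z (el v.1 v.2) rfl (el w.1 w.2) rfl).2 (Prod.ext_iff.1 q)))).toIntLinearEquiv,
    fun c hc => ⟨_, k c hc, (e c hc).symm, m c hc⟩⟩
theorem ex2 (hg : g ∈ nz ((Q2 σ).map ev)) : ∃ j, Aj ev g j := by
  choose F k e using fun x : Jv σ => conj_mem_of_mem_nz hg (mem_map_of_mem ev (show nj x ∈ Q2 σ from rfl))
  have e' : ∀ x, g * ev (nj x) * g⁻¹ = ev (nj (pj (F x))) := fun x => by rw [nj_pj (k x), e]
  exact ⟨(AddEquiv.ofBijective (AddMonoidHom.mk' (fun x => pj (F x)) fun x y => nj_inj (h.inj (by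
    rw [← e', nj_add, nj_add, map_mul, map_mul, ← e', ← e', cj_mul']))) (Finite.injective_iff_bijective.1 fun x y q =>
      nj_inj (h.inj (by simpa using (e' x).trans ((congrArg (ev <| nj ·) q).trans (e' y).symm))))).toIntLinearEquiv, e'⟩
theorem inv1 (k : Ac1 ev g f) : Ac1 ev g⁻¹ f⁻¹ :=
  let ⟨_, k'⟩ := h.ex1 (inv_mem k.nz)
  eq_inv_of_mul_eq_one_left (h.uq (k'.mul k) (by simpa using ac_one)) ▸ k'
theorem dg1 (w : Wu ev τ r b φ) (k : Ac1 ev τ f) : D1 f r b φ := fun v =>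
  let ⟨_, _, e1, e2⟩ := k (el v.1 v.2) rfl
  e2.symm.trans (h.inj (e1.symm.trans (w.cj _)) ▸ rfl)
theorem dg2 (w : Wu ev τ r b φ) (k : Aj ev τ j) : D2 j r b φ := fun x => by
  have := h.inj ((k x).symm.trans (w.cj _))
  exact ⟨congrArg Cu.u this, congrArg Cu.s this, congrArg Cu.v this⟩
theorem cmq {c c' d d' : Cu σ} (h1 : c.u = 0) (h2 : c'.u = 0) (h3 : d.u = 0) (h4 : d'.u = 0) :
    ev c * ev c' * (ev c)⁻¹ * (ev c')⁻¹ = ev d * ev d' * (ev d)⁻¹ * (ev d')⁻¹ ↔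
      bf σ (c.t, c.s) (c'.t, c'.s) = bf σ (d.t, d.s) (d'.t, d'.s) := by
  us h [h1, h2, h3, h4, bf]; grind
theorem fm (k : Ac1 ev g f) : ∃ ζ : K → K, ∀ v w, bf σ (f v) (f w) = ζ (bf σ v w) := by
  obtain ⟨ζ, e⟩ := (Function.factorsThrough_iff (f := fun x : (K × K) × K × K => bf σ x.1 x.2)
    fun x => bf σ (f x.1) (f x.2)).1 fun x y e => by
      obtain ⟨c1, h1, e1, k1⟩ := k (el x.1.1 x.1.2) rfl
      obtain ⟨c2, h2, e2, k2⟩ := k (el x.2.1 x.2.2) rfl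
      obtain ⟨c3, h3, e3, k3⟩ := k (el y.1.1 y.1.2) rfl
      obtain ⟨c4, h4, e4, k4⟩ := k (el y.2.1 y.2.2) rfl
      have := congrArg (g * · * g⁻¹) ((h.cmq (c := el x.1.1 x.1.2) (c' := el x.2.1 x.2.2) (d := el y.1.1 y.1.2)
        (d' := el y.2.1 y.2.2) rfl rfl rfl rfl).2 e)
      simp only [cj_cm, e1, e2, e3, e4] at this
      have := (h.cmq h1 h2 h3 h4).1 this
      rwa [k1, k2, k3, k4] at this
  exact ⟨ζ, fun v w => congrFun e (v, w)⟩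
theorem sq (h2 : (2 : K) = 0) (k : Ac1 ev g f) (v : K × K) (e : qf σ v = 0) : qf σ (f v) = 0 := by
  have k2 : ∀ c : Cu σ, c.u = 0 → (ev c * ev c = 1 ↔ qf σ (c.t, c.s) = 0) := fun c hc => by us h [hc, qf]; grind
  obtain ⟨c1, h1, e1, k1⟩ := k (el v.1 v.2) rfl
  have := congrArg (g * · * g⁻¹) ((k2 (el v.1 v.2) rfl).2 e)
  simp only [cj_mul', e1, mul_one, mul_inv_cancel] at this
  exact k1 ▸ (k2 _ h1).1 this
end Cv

end H7.PV
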