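import Cfsg.Agent.H7.AM1
import Cfsg.Agent.H0.Y.I

/-! The Monster from the amalgam `C, N, L` (S5586): the transpositions of `3·Fi₂₄`. -/

set_option autoImplicit false
set_option linter.unusedSectionVars false
set_option maxRecDepth 100000

namespace H7.AM
open Cfsg H15 H19 H0 H0.Mo H0.Y Subgroup Function H9 H26
open H14.Mn (Mon zM)

section
variable {G : Type*} [Group G] {D : Set G} (h : IsM M22 G D) {x y w w' : G}
include h

theorem g0 (hx : x ∈ D) : ∃ w ∈ D, Dn x w := by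
  obtain ⟨m⟩ := Md.of h
  obtain ⟨w, a, b, -⟩ := (At.one m hx (0, 0, []) (by decide +kernel)).add (38, 7, []) [3] (by decide +kernel)
  exact ⟨w, a, b.1⟩

theorem at2 (m : Md M22 D) (hx : x ∈ D) (hy : y ∈ D) (n : ¬ Commute x y) : At m [(969, 1, []), (0, 0, [])] [y, x] :=
  (At.one m hx (0, 0, []) (by decide +kernel)).norm1 hy [2] ⟨n, trivial⟩ [[0], [7], [2], [8], [5], [3], [9], [6], [4]]
    [0, 2, 5, 1, 8, 3, 4, 6, 5, 7, 2, 3, 4, 1, 5, 8, 2, 6, 3, 5, 1, 4, 7, 6, 3, 4, 8, 5, 6, 2] _ (by decide +kernel)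

theorem g1 (hx : x ∈ D) (hy : y ∈ D) (n : ¬ Commute x y) : ∃ w ∈ D, Dn x w ∧ Dn y w := by
  obtain ⟨m⟩ := Md.of h
  obtain ⟨w, a, b, -⟩ := (at2 h m hx hy n).add (38, 7, []) [3, 3] (by decide +kernel)
  exact ⟨w, a, b.2.1, b.1⟩

theorem g2 (hx : x ∈ D) (hy : y ∈ D) (hw : w ∈ D) (hw' : w' ∈ D) (n : ¬ Commute x y) (n' : ¬ Commute w w')
    (a : Dn x w) (b : Dn y w) (c : Dn x w') (d : Dn y w') : ∃ v ∈ D, Dn x v ∧ Dn y v ∧ Dn w v ∧ Dn w' v := by
  obtain ⟨m⟩ := Md.of h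
  have k := (at2 h m hx hy n).norm1 hw [3, 3] ⟨b, a, trivial⟩ [[7], [8], [5], [3], [9], [6], [4]]
    [0, 6, 1, 2, 4, 3, 5, 1, 2, 6, 0, 5, 3, 4, 2, 0] (381, 3, []) (by decide +kernel)
  have k := k.norm1 hw' [2, 3, 3] ⟨n', d, c, trivial⟩ [[8], [5], [3], [9], [6], [7, 4, 3, 4, 7]]
    [1, 2, 3, 4, 0, 5, 1, 3, 5, 0, 3, 1, 4] (596, 4, []) (by decide +kernel)
  obtain ⟨v, a, b, -⟩ := k.add (327, 8, []) [3, 3, 3, 3] (by decide +kernel)
  exact ⟨v, a, b.2.2.2.1, b.2.2.1, b.2.1, b.1⟩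

theorem g3 (hx : x ∈ D) (hy : y ∈ D) (hw : w ∈ D) (a : Dn y w) (n : ¬ Commute y x) (n' : ¬ Commute w x) :
    ∃ v ∈ D, Dn x v ∧ Dn y v ∧ Dn w v := by
  obtain ⟨m⟩ := Md.of h
  have k := (At.one m hy (0, 0, []) (by decide +kernel)).norm1 hw [3] ⟨a, trivial⟩ [[7], [2], [8], [5], [3], [9], [6], [4]]
    [4, 0, 1, 7, 2, 3, 5, 4, 6, 2, 3, 7, 0, 4, 6, 1, 3, 0, 5, 2, 7, 4, 0, 7, 4, 2] (166, 2, []) (by decide +kernel)
  have k := k.norm1 hx [2, 2] ⟨n', n, trivial⟩ [[0], [7], [2], [8], [5], [9], [6], [4], [3, 7, 4, 3, 2, 3, 4, 7, 3]]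
    [0, 2, 8, 3, 4, 5, 6, 1, 7, 8, 4, 3, 5, 8, 7, 3, 1, 8, 4, 6, 8] (969, 1, []) (by decide +kernel)
  obtain ⟨v, a, b, -⟩ := k.add (38, 7, []) [3, 3, 3] (by decide +kernel)
  exact ⟨v, a, b.1, b.2.2.1, b.2.1⟩


theorem gr_of {H : Type*} [Group H] {E : Set H} {a b : H} {π : H → G} (m : ∀ x, X0 E a b x → π x ∈ D)
    (e : ∀ y ∈ D, ∃ x, X0 E a b x ∧ π x = y) (i : ∀ x y, X0 E a b x → X0 E a b y → π x = π y → x = y)
    (c : ∀ x y, X0 E a b x → X0 E a b y → (Commute (π x) (π y) ↔ Commute x y)) : Gr E a b := by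
  have d : ∀ {x y}, X0 E a b x → X0 E a b y → (Dn (π x) (π y) ↔ Dm x y) := fun p q =>
    and_congr (not_congr ⟨i _ _ q p, congrArg π⟩) (c _ _ p q)
  refine ⟨?_, fun x y p q n => ?_, fun x y w w' p q r s n n' h1 h2 h3 h4 => ?_, fun x y w p q r h1 n n' => ?_⟩
  · obtain ⟨k⟩ := Md.of h
    exact (e _ (k.mem (p := 0) (by decide +kernel))).imp fun _ => And.left
  · by_cases k : Commute x y
    · obtain rfl : y = x := by_contra fun l => n ⟨l, k⟩
      obtain ⟨v, h0, h1⟩ := g0 h (m _ p)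
      obtain ⟨v, t, rfl⟩ := e v h0
      exact ⟨v, t, (d p t).1 h1, (d p t).1 h1⟩
    · obtain ⟨v, h0, h1, h2⟩ := g1 h (m _ p) (m _ q) (mt (c _ _ p q).1 k)
      obtain ⟨v, t, rfl⟩ := e v h0
      exact ⟨v, t, (d p t).1 h1, (d q t).1 h2⟩
  · obtain ⟨v, h0, h1, h2, h3, h4⟩ := g2 h (m _ p) (m _ q) (m _ r) (m _ s) (mt (c _ _ p q).1 n) (mt (c _ _ r s).1 n')
      ((d p r).2 h1) ((d q r).2 h2) ((d p s).2 h3) ((d q s).2 h4)
    obtain ⟨v, t, rfl⟩ := e v h0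
    exact ⟨v, t, (d p t).1 h1, (d q t).1 h2, (d r t).1 h3, (d s t).1 h4⟩
  · obtain ⟨v, h0, h1, h2, h3⟩ := g3 h (m _ p) (m _ q) (m _ r) ((d q r).2 h1) (fun k => n ((c _ _ q p).1 k).symm)
      fun k => n' ((c _ _ r p).1 k).symm
    obtain ⟨v, t, rfl⟩ := e v h0
    exact ⟨v, t, (d p t).1 h1, (d q t).1 h2, (d r t).1 h3⟩

end

section
variable {x a b c : Mon} {π : Mon → X} {l : List Mon}

theorem gr (F : Fc zM x π) (h : Cl3 (T zM x) [a, b]) : Gr (T zM x) a b := by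
  have ha : Tp zM x a := h.1 a (by simp)
  have hb : Tp zM x b := h.1 b (by simp)
  have ab : Dn a b := (Cl3.cons.1 h).2.1 b (by simp)
  obtain ⟨G', _, D', ρ, q, k⟩ := cov24_2 F24.isM (F.memD ha) (F.memD hb) (F.dn ha hb ab)
  have m : ∀ y, X0 (T zM x) a b y → π y ∈ dcSet (dcSet D (π a)) (π b) := fun y p =>
    ⟨⟨F.memD p.1, F.dn ha p.1 p.2.1⟩, F.dn hb p.1 p.2.2⟩
  refine gr_of q (π := fun y => ρ (π y)) (fun y p => k.mem _ (m y p)) (fun y n => ?_)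
    (fun y w p r e => F.eq_of p.1.mem r.1.mem (k.inj _ (m y p) _ (m w r) e) ha.1 p.2.1.2 r.2.1.2) fun y w p r =>
      (k.comm_iff (k.sub _ (m y p)) (m w r)).trans
        ⟨fun e => F.comm p.1.mem r.1.mem e ha.1 p.2.1.2 r.2.1.2, F.pcomm p.1.mem r.1.mem⟩
  obtain ⟨y, p, rfl⟩ := k.ex y n
  obtain ⟨y, t, rfl, c⟩ := F.liftT ha p.1.1 p.1.2.2
  exact ⟨y, ⟨t, ⟨fun e => p.1.2.1 (congrArg π e), c⟩, fun e => p.2.1 (congrArg π e),
    F.comm hb.mem t.mem p.2.2 ha.1 ab.2 c⟩, rfl⟩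

theorem nb_bs {w : Mon} {d : GolayPt → Mon} {f : C[w] →* Spor.Co1} {R : Mon → Lam → Prop} (j : IsConj zM w)
    (B : Bs w x d f R) {I : List GolayPt} : Ba w (I.map d) := by
  simp only [Ba, List.forall_mem_map]
  intro i _ k _ m _ h1 h2 h3
  have := B.b3 (i := i) (j := k) (k := m) (fun e => h1 (e ▸ rfl)) (fun e => h2 (e ▸ rfl)) fun e => h3 (e ▸ rfl)
  exact ⟨j, j.trans this.1, mul_mem (B.mem _) (mul_mem (B.mem _) (B.mem _)), this.2⟩

/-- a clique of at most five transpositions lies in a base -/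
theorem b5 (F : Fc zM x π) (h : Cl3 (T zM x) l) (n : l.length ≤ 5) : ∃ w, Ba w l := by
  obtain ⟨w, d, f, R, j, B, e⟩ := F.bs h (I := [pt 0, pt 1, pt 2, pt 3, pt 4].take l.length)
    ((by decide : [pt 0, pt 1, pt 2, pt 3, pt 4].Nodup).sublist (List.take_sublist _ _)) (by simpa using n) n
  exact ⟨w, e ▸ nb_bs j B⟩

theorem core2' {G : Type*} [Group G] [Finite G] {z x a b c u : G} {π : G → X} {H : Subgroup G} (F : Fc z x π)
    (h : Cl3 (T z x) [a, b, c]) (h1 : N(zpowers x) ⊓ (C[a] ⊓ (C[b] ⊓ C[c])) ≤ H) (hu : u ∈ H) (ua : u ∈ C[a])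
    (uz : u ∈ C[a * (b * c)]) (n : u * b * u⁻¹ ∉ N(zpowers x)) : C[a] ⊓ C[a * (b * c)] ≤ H := by
  obtain ⟨f, R, M, ra, rb⟩ := F.std h
  obtain ⟨s, -, -, L, -⟩ := (F.h.conj (F.c3 h).1).ex
  have m := fun p hp => (h.1 p hp).mem
  have mH : ∀ p ∈ [a, b, c], p ∈ H := fun p hp => h1 ⟨m p hp, mem_cent1.2 (h.comm _ hp a (by simp)),
    mem_cent1.2 (h.comm _ hp b (by simp)), mem_cent1.2 (h.comm _ hp c (by simp))⟩
  obtain ⟨k, e⟩ := A.tot (f := f) uz
  obtain ⟨c0, h2, h3⟩ := stab_short (by rw [norm_U]; norm_num) ((M.img_cent ra nz_U).1 (mem_img.2 ⟨u, ua, e⟩))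
  have e' : A f u (c0 * k) := by simpa using (A.one h2).mul e
  have mv := fun q => n ((sup_le (sup_le (zpowers_le.2 (mul_mem (m a (by simp)) (mul_mem (m b (by simp)) (m c (by simp)))))
    (zpowers_le.2 (m a (by simp)))) (zpowers_le.2 (m b (by simp))) : _ ≤ N(zpowers x)) (moves M ra rb e' q))
  refine core M L ra rb (mul_mem (mH a (by simp)) (mul_mem (mH b (by simp)) (mH c (by simp)))) (mH a (by simp))
    (mH b (by simp)) (co2_max ((F.u62 h M ra rb).trans (img_mono fun p hp => ⟨h1 hp, hp.2.1, ?_⟩))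
      (mem_img.2 ⟨u, ⟨hu, ua, uz⟩, e'⟩) h3 (fun q => mv (.inl q)) fun q => mv (.inr q))
  exact mem_cent1_symm.1 (mul_mem (mem_cent1_symm.1 hp.2.1)
    (mul_mem (mem_cent1_symm.1 hp.2.2.1) (mem_cent1_symm.1 hp.2.2.2)))

end

section
variable {G : Type*} [Group G] {D : Set G}

/-- commuting cliques with the same product -/
theorem sd {N : ℕ} (W : WtG D N) (s : ∀ a ∈ D, a * a = 1) : ∀ v w : List G, Cl3 D v → Cl3 D w →
    (∀ a ∈ v, ∀ b ∈ w, Commute a b) → v.prod = w.prod → v.length + w.length ≤ N → v.Perm w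
  | [], w, _, h, _, e, n => by rw [(W w h e.symm).resolve_right (by simpa using n)]
  | a :: v, w, h, k, c, e, n => by
    obtain ⟨h1, h2, h3⟩ := Cl3.cons.1 h
    by_cases m : a ∈ w
    · obtain ⟨p, q, rfl⟩ := List.append_of_mem m
      obtain ⟨k1, k2⟩ := k.perm List.perm_middle
      refine .trans (.cons a (sd W s v (p ++ q) h3 (Cl3.cons.1 k1).2.2 (fun b i d j => c b (.tail _ i) d ?_)
        (mul_left_cancel (a := a) (e.trans k2.symm)) (by simp at n ⊢; omega))) List.perm_middle.symm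
      exact List.perm_middle.symm.subset (.tail _ j)
    · exact absurd rfl (h2 a ((sd W s v (a :: w) h3 (Cl3.cons.2 ⟨h1, fun b i => ⟨fun e => m (e ▸ i), c a (.head _) b i⟩, k⟩)
        (fun b i => List.forall_mem_cons.2 ⟨(h2 b i).2.symm, c b (.tail _ i)⟩)
        (by rw [List.prod_cons, ← e, List.prod_cons, ← mul_assoc, s a h1, one_mul])
        (by simp at n ⊢; omega)).symm.subset (.head _))).1

/-- a pentad lies in one octad only -/
theorem u8 (h : IsM H26.M24 G D) {l v v' : List G} (e : l.length = 5) (n : v.length = 3) (n' : v'.length = 3)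
    (c : Cl3 D (v ++ l)) (c' : Cl3 D (v' ++ l)) (p : (v ++ l).prod = 1) (p' : (v' ++ l).prod = 1) : v.Perm v' := by
  obtain ⟨m⟩ := Md.of h
  match l, e with
  | [e, d, c₀, b, a], _ =>
    obtain ⟨f, g, k, A, h1, h2⟩ := B24.oct (B24.at5' m c.right rfl)
    have key : ∀ v : List G, v.length = 3 → Cl3 D (v ++ [e, d, c₀, b, a]) → (v ++ [e, d, c₀, b, a]).prod = 1 →
        v.Perm [k, g, f] := fun v n c p => by
      refine sd (wt24 h) h.tg.sq v _ c.left (Cl3.left (v := [e, d, c₀, b, a]) h1) (fun y i => ?_)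
        (mul_right_cancel (b := [e, d, c₀, b, a].prod) (by rw [← List.prod_append, ← List.prod_append, p]; exact h2.symm))
        (by simp [n])
      have q := fun w j => ((List.pairwise_append.1 c.2).2.2 y i w j).symm
      have r : PatG y [3, 3, 3, 3, 3] [e, d, c₀, b, a] :=
        ⟨q _ (by simp), q _ (by simp), q _ (by simp), q _ (by simp), q _ (by simp), trivial⟩
      have m := c.left.1 y i
      simp only [List.forall_mem_cons]
      exact ⟨by_contra fun t => A.norm m [2,0,0,3,3,3,3,3] ⟨fun u => t u.symm, trivial, trivial, r⟩ [] [] [] (by decide +kernel),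
        by_contra fun t => A.norm m [0,2,0,3,3,3,3,3] ⟨trivial, fun u => t u.symm, trivial, r⟩ [] [] [] (by decide +kernel),
        by_contra fun t => A.norm m [0,0,2,3,3,3,3,3] ⟨trivial, trivial, fun u => t u.symm, r⟩ [] [] [] (by decide +kernel),
        by simp⟩
    exact (key v n c p).trans (key v' n' c' p').symm

end

/-- an octad lies in a base -/
theorem o8 (x : Mon) (π : Mon → X) (l : List Mon) (F : Fc zM x π) (h : Cq (T zM x) l) (n : l.length = 8)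
    (p : l.prod = 1) : ∃ w, Ba w l := by
  rw [← List.take_append_drop 3 l] at h p ⊢
  have n' : (l.take 3).length = 3 := by simp [n]
  generalize l.take 3 = v at h p n'
  have h : Cl3 (T zM x) (v ++ l.drop 3) := h
  obtain ⟨w, d, f, R, j, B, e⟩ := F.bs h.right (I := [pt 7, pt 8, pt 11, pt 16, pt 14]) (by decide) (by simp [n]) (by simp [n])
  rw [← e] at h p ⊢
  have k : Cl3 (T zM x) ([pt 4, pt 5, pt 6].map d ++ [pt 7, pt 8, pt 11, pt 16, pt 14].map d) := List.map_append ▸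
    ⟨List.forall_mem_map.2 fun i _ => ⟨B.inv i, (B.a1 i).base j.symm⟩, List.pairwise_map.2
      ((by decide : List.Nodup ([pt 4, pt 5, pt 6] ++ [pt 7, pt 8, pt 11, pt 16, pt 14])).imp B.dn)⟩
  have E := B.M.le.es
  have q : ([pt 4, pt 5, pt 6].map d ++ [pt 7, pt 8, pt 11, pt 16, pt 14].map d).prod = 1 := by
    have c : ∀ {p q}, x ∈ C[p] → x ∈ C[q] → x ∈ C[p * q] := fun a b =>
      mem_cent1_symm.1 (mul_mem (mem_cent1_symm.1 a) (mem_cent1_symm.1 b))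
    have c := c (B.ev (pt 4) (pt 5)) (c (B.ev (pt 6) (pt 7)) (c (B.ev (pt 8) (pt 11)) (B.ev (pt 16) (pt 14))))
    rcases E.mem_zp.1 ((B.M.rk (B.M.mul (B.r2 (pt 4) (pt 5)) (B.M.mul (B.r2 (pt 6) (pt 7)) (B.M.mul (B.r2 (pt 8) (pt 11))
      (B.r2 (pt 16) (pt 14)))))).2 ⟨⟨H15.oc (S 84464) {pt 4, pt 6, pt 8, pt 16}, oc_mem ⟨S_mem_cw (by decide +kernel),
        by decide +kernel⟩ (by decide +kernel) (by decide +kernel)⟩, Subtype.ext (funext (by decide +kernel))⟩) with e | e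
    · simpa [mul_assoc] using e
    have m := mul_mem (B.mem none) (conj_mem_of_norm (B.M.le.norm (e ▸ c)) (inv_mem (B.mem none)))
    rw [← mul_assoc, ← mul_assoc, B.inv, ← mul_inv_rev, inv_mem_iff] at m
    have x4 : x * x * (x * x) = x := by rw [← mul_assoc, ← pow_three', F.x3, one_mul]
    rcases E.sq _ m with t | t <;> rw [x4] at t
    · exact absurd t F.x1
    · rw [t, E.zz, one_mul] at x4; exact absurd x4.symm E.z1
  have N := fun {l} (h : Cl3 (T zM x) l) a i => (h.1 a i).mem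
  have u := u8 F24.isM (l := List.map π _) (v := v.map π) (v' := List.map π _) rfl (by simp [n']) rfl
    (List.map_append ▸ F.cl3 h) (List.map_append ▸ F.cl3 k) (by rw [← List.map_append, ← F.prod (N h), p, F.one])
    (by rw [← List.map_append, ← F.prod (N k), q, F.one])
  have s : ∀ y ∈ v ++ [pt 7, pt 8, pt 11, pt 16, pt 14].map d,
      y ∈ ([pt 4, pt 5, pt 6] ++ [pt 7, pt 8, pt 11, pt 16, pt 14]).map d := fun y i => by
    rw [List.map_append]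
    refine List.mem_append.2 ((List.mem_append.1 i).imp_left fun t => ?_)
    obtain ⟨b, r, e⟩ := List.mem_map.1 (u.subset (List.mem_map_of_mem t))
    exact F.eq_of (N k b (List.mem_append_left _ r)) (N h y i) e (B.inv (pt 7))
      (k.comm _ (by simp) _ (List.mem_append_left _ r)) (h.comm _ (by simp) _ i) ▸ r
  exact ⟨w, fun a i b k c m => nb_bs j B a (s a i) b (s b k) c (s c m)⟩

theorem ft {x : Mon} {π : Mon → X} (F : Fc zM x π) : Ft (T zM x) N(zpowers x) :=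
  ⟨fun _ => Tp.sq, fun _ => Tp.mem, fun _ n _ => F.cjT n, fun _ _ => F.c2, fun _ => b5 F, fun l => o8 x π l F,
    fun _ _ => F.tr, fun _ _ => gr F, fun _ _ _ _ _ => core2' F, fun _ _ _ _ => F.core1⟩

theorem at_gen {G : Type*} [Group G] {M : GM} {D : Set G} {m : Md M D} {P : List H26.Sp} {xs : List G} (h : At m P xs)
    (n : ℕ) (C I : List ℕ) (hc : M.genChk (M.patM P C (full M.T.n)) (P.drop n) I = true) {H : Subgroup G}
    (hH : ∀ y ∈ xs.drop n, y ∈ H) {x : G} (hx : x ∈ D) (hp : PatG x C xs) : x ∈ H := by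
  obtain ⟨h0, g, rfl⟩ := h
  have k := (m.conj g).cm
  obtain ⟨q, hq, rfl⟩ := (m.conj g).surj hx
  have hP := fun a ha => (GM.tupOK_spec h0 a ha).2
  have s : ∀ s ∈ P.drop n, s.1 < M.T.n ∧ (m.conj g).lab s.1 ∈ H := fun s a =>
    ⟨(k.ok.sp (hP s (List.mem_of_mem_drop a))).1, hH _ (List.map_drop ▸ List.mem_map_of_mem a)⟩
  exact (k.ok.gen_ind hc (P := fun q => q < M.T.n ∧ (m.conj g).lab q ∈ H) s (fun t a q b =>
    ⟨k.τ _ (s t a).1 ▸ k.lt _ q b.1, k.lab_τ (s t a).1 b.1 ▸ mul_mem (mul_mem (s t a).2 b.2) (s t a).2⟩)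
    ((patM_iff k hq C _ hP).2 ⟨GM.testBit_full'.2 hq, hp⟩)).2

theorem ν_gf {H : Subgroup X} (h : ∀ i < 13, i ≠ 4 → i ≠ 9 → ν i ∈ H) : C[ν 5] ⊓ C[ν 10] ≤ H := fun y hy => by
  obtain ⟨G', _, D', ρ, q, k⟩ := cov24_2 F24.isM (ν_mem (i := 5) (by decide)) (ν_mem (i := 10) (by decide))
    ⟨ν_ne (by decide) (by decide) (by decide), ν_cm (by decide) (by decide) (by decide)⟩
  have := q.tg
  obtain ⟨z, hz, w, hw, rfl⟩ := k.gen (x := y) (mem_centralizer_iff.2 (by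
    rintro _ (rfl | rfl)
    exacts [(mem_cent1.1 hy.2).symm, (mem_cent1.1 hy.1).symm]))
  refine mul_mem ((closure_le H).2 (Set.pair_subset (h 10 (by decide) nofun nofun) (h 5 (by decide) nofun nofun)) hz)
    ((closure_le H).2 (fun w hw => at_gen (atν.re [5,10,0,1,2,3,6,7,8,11,12] (by decide)) 2 [3, 3]
      [0,1,2,5,7,8,3,6,0,1,4,7,0,2,5,1,4,7,8,0,2,5,3,6,7,8,1,4,0,2,5,3,6,1,7,2,0,1] (by decide +kernel) ?_ hw.1.1
      ⟨hw.1.2, hw.2, trivial⟩) hw)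
  rw [← List.map_drop, List.forall_mem_map]
  have : ∀ i ∈ [5,10,0,1,2,3,6,7,8,11,12].drop 2, i < 13 ∧ i ≠ 4 ∧ i ≠ 9 := by decide
  exact fun i a => (lt_ν (g := ν) (this i a).1).symm ▸ h i (this i a).1 (this i a).2.1 (this i a).2.2

set_option maxHeartbeats 2000000 in
theorem ν_oc : ∃ d d' : X, Cl3 D [ν 5, d, d', ν 10, ν 3, ν 1, ν 7, ν 8 * ν 7 * ν 6 * ν 7 * ν 8] ∧
    [ν 5, d, d', ν 10, ν 3, ν 1, ν 7, ν 8 * ν 7 * ν 6 * ν 7 * ν 8].prod = 1 ∧
    ν 12 = pw (d :: (List.range 13).map ν) [12,1,7,2,3,1,0,12,9,1,0,7,3,2,1,2,3,7,0,1,9,12,0,1,3,2,7,1,12] := by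
  obtain ⟨d, k⟩ := atν.new (29186, 5, [9,8,7,10,8,9]) (by decide +kernel)
  obtain ⟨d', k'⟩ := k.new (29187, 4, [5,6,9,8,7,10,8,9]) (by decide +kernel)
  obtain ⟨r, k''⟩ := k'.new (31636, 4, [5,6]) (by decide +kernel)
  have e : r = ν 8 * ν 7 * ν 6 * ν 7 * ν 8 := by
    simpa [pw, lt, mul_assoc] using k''.peq [0] [11, 10, 9, 10, 11] (by decide +kernel)
  rw [← e]
  refine ⟨d, d', ?_, ?_, Eq.trans ?_ (k.peq [13] _ (by decide +kernel))⟩
  · simpa [lt] using (k''.re [8, 2, 1, 13, 6, 4, 10, 0] (by decide +kernel)).cl3 (by decide +kernel)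
  · simpa [pw, lt] using k''.peq [8, 2, 1, 13, 6, 4, 10, 0] [] (by decide +kernel)
  · simp [pw, lt]

section
variable {x u : Mon} {π : Mon → X} {g : ℕ → Mon} (Y : Y6 zM x π g u)
include Y

theorem gf (H : Subgroup Mon) (h : ∀ i < 13, i ≠ 4 → i ≠ 9 → g i ∈ H) : N(zpowers x) ⊓ (C[g 5] ⊓ C[g 10]) ≤ H :=
  fun a ha => by
  have t := Y.tp 5 (by decide)
  obtain ⟨b, b1, b2, e⟩ := ν_gf (H := Y.im (H ⊓ C[g 5])) (fun i j k l => ⟨g i, ⟨h i j k l, mem_cent1.2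
    (if q : i = 5 then q ▸ rfl else Y.cm i j 5 (by decide) (by clear l; revert i; decide))⟩, (Y.tp i j).mem, Y.pi i j⟩)
    ⟨mem_cent1.2 (Y.pi 5 (by decide) ▸ (Y.pcomm ha.1 t.mem (mem_cent1.1 ha.2.1)).eq : π a * ν 5 = ν 5 * π a),
      mem_cent1.2 (Y.pi 10 (by decide) ▸ (Y.pcomm ha.1 (Y.tp 10 (by decide)).mem (mem_cent1.1 ha.2.2)).eq :
        π a * ν 10 = ν 10 * π a)⟩
  exact Y.eq_of b2 ha.1 e t.1 (mem_cent1.1 b1.2).symm (mem_cent1.1 ha.2.1).symm ▸ b1.1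

theorem oc : ∃ b c r, Cq (T zM x) [g 5, b, c, g 10, g 3, g 1, g 7, r] ∧ [g 5, b, c, g 10, g 3, g 1, g 7, r].prod = 1 ∧
    u ∈ C[g 5 * (b * c)] ∧ u * b * u⁻¹ ∉ N(zpowers x) := by
  obtain ⟨d, d', h1, h2, h3⟩ := ν_oc
  have t := Y.tp 5 (by decide)
  have p := fun i h => Y.pi i h
  have m := fun i h => (Y.tp i h).mem
  obtain ⟨b, b1, rfl, b2⟩ := Y.liftT t (h1.1 d (by simp)) (p 5 (by decide) ▸ h1.comm _ (by simp) _ (by simp))
  obtain ⟨c, c1, rfl, c2⟩ := Y.liftT t (h1.1 d' (by simp)) (p 5 (by decide) ▸ h1.comm _ (by simp) _ (by simp))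
  have q := fun i h e => Y.cm 5 (by decide) i h e
  have w := Y.pw [8,7,6,7,8]
  simp only [pw, List.map_cons, List.map_nil, List.prod_cons, List.prod_nil, mul_one, ← mul_assoc,
    lt_ν (n := 13) (show 8 < 13 by decide), lt_ν (n := 13) (show 7 < 13 by decide), lt_ν (n := 13) (show 6 < 13 by decide)] at w
  have k : ∀ a ∈ [g 5, b, c, g 10, g 3, g 1, g 7, g 8 * g 7 * g 6 * g 7 * g 8], a ∈ N(zpowers x) ∧ Commute (g 5) a := by
    simp only [List.forall_mem_cons]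
    exact ⟨⟨t.mem, rfl⟩, ⟨b1.mem, b2⟩, ⟨c1.mem, c2⟩, ⟨m _ (by decide), q _ (by decide) rfl⟩, ⟨m _ (by decide), q _ (by decide) rfl⟩,
      ⟨m _ (by decide), q _ (by decide) rfl⟩, ⟨m _ (by decide), q _ (by decide) rfl⟩, ⟨w.1, ((((q _ (by decide) rfl).mul_right
      (q _ (by decide) rfl)).mul_right (q _ (by decide) rfl)).mul_right (q _ (by decide) rfl)).mul_right (q _ (by decide) rfl)⟩,
      by simp⟩
  have e : [g 5, b, c, g 10, g 3, g 1, g 7, g 8 * g 7 * g 6 * g 7 * g 8].map π =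
      [ν 5, π b, π c, ν 10, ν 3, ν 1, ν 7, ν 8 * ν 7 * ν 6 * ν 7 * ν 8] := by
    simp only [List.map_cons, List.map_nil, w.2]
    rw [p 5 (by decide), p 10 (by decide), p 3 (by decide), p 1 (by decide), p 7 (by decide)]
  have cl := Y.cl3' t.1 k (e ▸ h1)
  have pr := Y.eq_of (Subgroup.list_prod_mem _ fun a i => (k a i).1) (one_mem _)
    (by rw [Y.prod fun a i => (k a i).1, e, h2, Y.one]) t.1 (cl.comm_prod (by simp)).symm (.one_right _)
  refine ⟨b, c, _, cl, pr, ?_, fun n => Y.out ?_⟩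
  · have v := fun i h => mem_cent1.2 (Y.uc i h)
    rw [show g 5 * (b * c) = (g 10 * g 3 * g 1 * g 7 * (g 8 * g 7 * g 6 * g 7 * g 8))⁻¹ from
      eq_inv_of_mul_eq_one_left (by simpa [mul_assoc] using pr)]
    refine mem_cent1_symm.1 (inv_mem ?_)
    repeat (first | exact v _ (by decide) | apply mul_mem)
  · have q : ∀ i < 12, ν i ∈ Y.im (H19.cj u⁻¹ N(zpowers x)) := fun i j => ⟨g i, mem_cj.2 (by
      simpa [← (Y.uc i j).eq] using (Y.tp i (by omega)).mem), (Y.tp i (by omega)).mem, Y.pi i (by omega)⟩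
    suffices ∀ i < 13, ν i ∈ Y.im (H19.cj u⁻¹ N(zpowers x)) by
      simpa using mem_cj.1 (Y.top this (le_normalizer (mem_zpowers x)))
    refine fun i j => if e : i < 12 then q i e else ?_
    rw [show i = 12 by omega, h3]
    refine pw_mem fun i j => ?_
    have : i = 0 ∨ ∃ k < 12, i = k + 1 := by revert i; decide
    obtain rfl | ⟨k, k1, rfl⟩ := this
    · exact ⟨b, mem_cj.2 (by simpa using n), b1.mem, rfl⟩
    · exact (lt_ν (g := ν) (n := 13) (i := k) (by omega)).symm ▸ q k k1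

end

end H7.AM
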