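import Cfsg.Agent.H7.AM3
import Cfsg.Agent.H7.AM4
import Cfsg.Agent.H0.M.A

/-! The Monster from the amalgam `C, N, L` (S5586): lifting the `Y₅₅₃` presentation. -/

set_option autoImplicit false

namespace H7.AM
open Cfsg H15 H19 H0 H0.Mo H0.Y Subgroup Function H9 Spor Bimonster QuotientGroup
open H14.Mn (Mon zM)

universe u

theorem yn {x u : Mon} {π : Mon → X} {g : ℕ → Mon} (Y : Y6 zM x π g u) : Yn (T zM x) N(zpowers x) (nd x g u) := by
  have e : ∀ i < 13, nd x g u i = g i := fun i h => if_pos h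
  obtain ⟨a, b, c, d, f, h, k⟩ := M.exP.1 (M.relM Y).2
  refine ⟨fun i h => (e i h).symm ▸ Y.tp i h, fun i h j k n => by rw [e i h, e j k]; exact Y.ne h k n,
    fun i h j k => ?_, ⟨a, b, c, d, f, h, k⟩, fun H h => gf Y H fun i a b c => e i a ▸ h i a b c, (oc Y :)⟩
  have := Y.rel i (by omega) j (by omega)
  rwa [inv_eq_of_mul_eq_one_right (Y.sq k), (by decide +kernel : ∀ i < 14, ∀ j < 14, H0.Y.lb i j = ex i j) i h j k] at this

theorem ym (I : M.Inj) (sg : SG.{u}) (nd' : ND.{u}) (g1 : G1.{u}) (g2 : G2.{u}) : YM.{u} :=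
  fun Γ _ φ P _ pr ad V K => by
  obtain ⟨x, π, g, u, Y⟩ := y6_M
  have F := ft Y.toFc
  have N := yn Y
  obtain ⟨σ, S⟩ := sg _ _ _ _ _ _ _ (nd x g u 5) (nd x g u 10) K F (Y.cl.sublist (l' := [g 5, g 10]) (by simp))
  obtain ⟨y, n⟩ := nd' _ _ _ _ _ _ _ _ _ K F N S
  let w : Gen → Γ := fun p => if p.ctorIdx < 14 then y p.ctorIdx else 1
  have e : ∀ p, kerLift (FreeGroup.lift w) (mk (.of p)) = w p := fun p => (kerLift_mk _ _).trans FreeGroup.lift_apply_of
  have i := kerLift_injective (FreeGroup.lift w)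
  obtain ⟨d, hd⟩ := M.s1 Y I (y := fun p => (mk (.of p) : FreeGroup Gen ⧸ (FreeGroup.lift w).ker)) ⟨fun p q a b => i (by
    rw [map_pow, map_mul, e, e, map_one]
    have k : ∀ p q : Gen, p ≠ .e3 → q ≠ .e3 → p.ctorIdx < 14 ∧ q.ctorIdx < 14 ∧ coxLabel edges p q = ex p.ctorIdx q.ctorIdx ∨
        p.ctorIdx < 14 ∧ q = .f3 ∧ coxLabel edges p q = 2 ∨ p = .f3 ∧ q.ctorIdx < 14 ∧ coxLabel edges p q = 2 ∨
        p = .f3 ∧ q = .f3 := fun p q => by cases p <;> cases q <;> decide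
    have s := fun i h => (cm_of n.cox (i := i) h h (by simp [ex])).1
    obtain ⟨a, b, c⟩ | ⟨a, rfl, c⟩ | ⟨rfl, a, c⟩ | ⟨rfl, rfl⟩ := k p q a b
    · simpa only [w, a, b, c, if_true] using n.cox _ a _ b
    · rw [c, show w .f3 = 1 from rfl, mul_one, pow_two]; simpa only [w, a, if_true] using s _ a
    · rw [c, show w .f3 = 1 from rfl, one_mul, pow_two]; simpa only [w, a, if_true] using s _ a
    · rw [show w .f3 = 1 from rfl, one_mul, one_pow]),
    M.Ex.of i (by simp only [e]; exact M.exP.2 ⟨n.xr.1, n.xr.2, n.xr.3, n.xr.4, n.xr.5, n.xr.6, n.xr.7⟩)⟩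
  let ψ := (kerLift (FreeGroup.lift w)).comp d
  have h : ∀ p ≠ Gen.e3, ψ (nd x g u p.ctorIdx) = w p := fun p a => by
    rw [MonoidHom.comp_apply, hd p a, map_mul, e, e]; exact mul_one _
  have h' : ∀ i < 14, ψ (nd x g u i) = y i := fun i a => by
    have := h (Gen.ofNat i) (by interval_cases i <;> nofun)
    interval_cases i <;> exact this
  have s : ∀ m, φ (ψ m) = m := DFunLike.congr_fun (M.hom_ext Y (φ := φ.comp ψ) (ψ := .id _) fun p a => by
    by_cases k : p.ctorIdx < 14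
    · exact (congrArg φ (h' _ k)).trans (n.im _ k)
    · obtain rfl : p = .f3 := by cases p <;> first | rfl | contradiction
      exact map_one (φ.comp ψ))
  obtain ⟨S', T, e⟩ := g1 _ _ _ _ _ _ _ _ _ _ _ K F N S n s h'
  obtain ⟨p, q, a⟩ := g2 _ _ _ _ _ _ _ _ _ _ V K F N s T (by rw [h' 13 (by decide), e, n.u])
  exact ⟨ψ, p, q, s, a⟩

end H7.AM
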