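import Cfsg.Agent.H27.MS0
import Cfsg.Agent.H15.Mathieu
import Cfsg.Agent.S0144
import Cfsg.Agent.S0243
import Cfsg.Agent.S0249

/-! S5899: chains in alternating and Mathieu groups; `L₃(3)` is minimal simple. -/

set_option autoImplicit false

namespace H7.MS
open Cfsg Subgroup H27.MS MulAction Equiv H15
open scoped MatrixGroups Pointwise

universe u

section
variable {G : Type*} [Group G] {M X Y K : Subgroup G} {a b c d : G}

theorem ns235 (h2 : a ^ 2 = 1) (h3 : b ^ 3 = 1) (h5 : (a * b) ^ 5 = 1) (a1 : a ≠ 1) (ha : a ∈ K) (hb : b ∈ K) :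
    ¬ Group.IsSolvable K := fun s => by
  let L := closure ({a, b} : Set G)
  have := Cfsg.Agent.S0810.solv_of_le (H := L) ((closure_le _).2 (by rintro _ (rfl | rfl) <;> assumption)) s
  let x : L := ⟨a, subset_closure (.inl rfl)⟩
  let y : L := ⟨b, subset_closure (.inr rfl)⟩
  have : Nontrivial L := ⟨x, 1, fun e => a1 (congrArg Subtype.val e)⟩
  let f := Abelianization.of (G := L)
  have e2 : f x ^ 2 = 1 := by rw [← map_pow, show x ^ 2 = 1 from Subtype.ext h2, map_one]
  have e3 : f y ^ 3 = 1 := by rw [← map_pow, show y ^ 3 = 1 from Subtype.ext h3, map_one]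
  have e5 : (f x * f y) ^ 5 = 1 := by rw [← map_mul, ← map_pow, show (x * y) ^ 5 = 1 from Subtype.ext h5, map_one]
  have e6 : (f x * f y) ^ 6 = 1 := by
    rw [mul_pow, show 6 = 2 * 3 from rfl, pow_mul, e2, mul_comm 2, pow_mul, e3]; simp
  rw [pow_succ, e5, one_mul, mul_eq_one_iff_eq_inv] at e6
  have k : f y = 1 := by
    rw [e6, inv_pow, inv_eq_one] at e2
    rwa [pow_succ, e2, one_mul] at e3
  refine (Group.IsSolvable.commutator_lt_top_of_nontrivial L).ne (top_unique fun z _ => ?_)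
  rw [← Abelianization.ker_of]
  obtain ⟨z, hz⟩ := z
  induction hz using closure_induction with
  | mem z hz =>
    rcases hz with rfl | rfl
    exacts [e6.trans (by rw [k, inv_one]), k]
  | one => exact one_mem _
  | mul _ _ _ _ p q => exact mul_mem (p trivial) (q trivial)
  | inv _ _ p => exact inv_mem (p trivial)

theorem ch_sub (h2 : a ^ 2 = 1) (h3 : b ^ 3 = 1) (h5 : (a * b) ^ 5 = 1) (a1 : a ≠ 1) (ha : a ∈ M ∧ a ∈ X ∧ a ∈ Y)
    (hb : b ∈ M ∧ b ∈ X ∧ b ∈ Y) (hc : c ∈ M ∧ c ∈ X ∧ c ∉ Y) (hd : d ∈ M ∧ d ∉ X) : Ch M :=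
  ⟨(X ⊓ Y).subgroupOf M, X.subgroupOf M, lt_of_le_of_ne (fun _ h => h.1) fun e => hc.2.2 (e.ge (x := ⟨c, hc.1⟩) hc.2.1).2,
    fun e => hd.2 (e.ge (x := ⟨d, hd.1⟩) trivial), ns235 (a := ⟨a, ha.1⟩) (b := ⟨b, hb.1⟩) (Subtype.ext h2) (Subtype.ext h3)
      (Subtype.ext h5) (fun e => a1 (congrArg Subtype.val e)) ha.2 hb.2⟩
end

theorem ka : KA := fun n h => by
  let ι : Fin 7 ↪ Fin n := Fin.castLEEmb h
  let f := Perm.viaEmbeddingHom ι
  have ev : ∀ x y : Perm (Fin 7), y * y = x → f x ∈ alternatingGroup (Fin n) := fun x y e => by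
    rw [← e, map_mul, Perm.mem_alternatingGroup, map_mul, Int.units_mul_self]
  have st : ∀ (x : Perm (Fin 7)) i, f x ∈ stabilizer (Perm (Fin n)) (ι i) ↔ x i = i := fun x i => by
    rw [mem_stabilizer_iff, Perm.smul_def, Perm.viaEmbeddingHom_apply, Perm.viaEmbedding_apply, ι.apply_eq_iff_eq]
  have pw : ∀ (x : Perm (Fin 7)) k, x ^ k = 1 → f x ^ k = 1 := fun x k e => by rw [← map_pow, e, map_one]
  exact ch_sub (X := stabilizer _ (ι 6)) (Y := stabilizer _ (ι 5)) (a := f (swap 0 1 * swap 2 3)) (b := f (swap 0 2 * swap 2 4))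
    (c := f (swap 0 1 * swap 1 5)) (d := f (swap 0 1 * swap 1 6)) (pw _ _ (by decide)) (pw _ _ (by decide))
    (map_mul f _ _ ▸ pw _ _ (by decide)) (fun e => absurd ((st _ 0).1 (e ▸ one_mem _)) (by decide))
    ⟨ev _ (swap 0 2 * swap 2 1 * swap 1 3) (by decide), (st _ _).2 (by decide), (st _ _).2 (by decide)⟩
    ⟨ev _ (swap 2 4 * swap 0 2) (by decide), (st _ _).2 (by decide), (st _ _).2 (by decide)⟩
    ⟨ev _ (swap 1 5 * swap 0 1) (by decide), (st _ _).2 (by decide), mt (st _ _).1 (by decide)⟩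
    ⟨ev _ (swap 1 6 * swap 0 1) (by decide), mt (st _ _).1 (by decide)⟩

theorem mP {g : ℕ} (h : isM g = true) (i : ℕ) (hi : i < 24) : P g ∈ stabilizer (Perm GolayPt) (pt i) ↔ ap g i = i := by
  rw [mem_stabilizer_iff, Perm.smul_def, (isM_rep h).app hi]
  exact ⟨pt_inj ((isM_rep h).lt hi) hi, congrArg _⟩
theorem mD {g : ℕ} (h : isM g = true) : P g ∈ Spor.M12 ↔ act g 340831 = 340831 := by
  rw [mem_M12, (isM_rep h).smul_S, and_iff_right (isM_mem h)]
  exact ⟨S_inj ((isM_rep h).lt_act _) (by norm_num), congrArg _⟩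

def qa : ℕ := 0xbd1f65ca22a9c649a928704ac6c0c0
def qb : ℕ := 0xbda6f28e2d750493acd2532a444020
def qm : ℕ := 0xbd6d35b1c85146689da17ca8281120
def qd : ℕ := 0x550a75a2c475cccac5b07866910e40
def qc : ℕ := 0xbc8259b22e3d91035542591af4d060
def qe : ℕ := 0xbd2d2520d32312111e152806b8b5cf

theorem km : KM.{u} := fun G _ h => by
  have a : isM qa = true := by decide +kernel
  have b : isM qb = true := by decide +kernel
  have m : isM qm = true := by decide +kernel
  have d : isM qd = true := by decide +kernel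
  have c : isM qc = true := by decide +kernel
  have e : isM qe = true := by decide +kernel
  have r2 := (isM_rep a).pow_eq_one (n := 2) (by decide +kernel)
  have r3 := (isM_rep b).pow_eq_one (n := 3) (by decide +kernel)
  have r5 := ((isM_rep a).mul (isM_rep b)).pow_eq_one (n := 5) (by decide +kernel)
  have r1 := (isM_rep a).ne_of_ap Rep.one (i := 1) (by norm_num) (by decide +kernel)
  have s : ∀ {g : ℕ} (i : ℕ), isM g = true → i < 24 ∧ ap g i = i → P g ∈ stabilizer (Perm GolayPt) (pt i) :=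
    fun i h k => (mP h i k.1).2 k.2
  have n : ∀ {g : ℕ} (i : ℕ), isM g = true → i < 24 ∧ ap g i ≠ i → P g ∉ stabilizer (Perm GolayPt) (pt i) :=
    fun i h k => mt (mP h i k.1).1 k.2
  have m11 : ∀ {g : ℕ}, isM g = true → act g 340831 = 340831 ∧ ap g 0 = 0 → P g ∈ Spor.M11 := fun h k =>
    ⟨(mD h).2 k.1, s 0 h ⟨by norm_num, k.2⟩⟩
  have m23 : ∀ {g : ℕ}, isM g = true → ap g 23 = 23 → P g ∈ Spor.M23 := fun h k => ⟨isM_mem h, s 23 h ⟨by norm_num, k⟩⟩
  have m22 : ∀ {g : ℕ}, isM g = true → ap g 23 = 23 ∧ ap g 0 = 0 → P g ∈ Spor.M22 := fun h k =>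
    ⟨m23 h k.1, s 0 h ⟨by norm_num, k.2⟩⟩
  rcases h with ⟨⟨f⟩⟩ | ⟨⟨f⟩⟩ | ⟨⟨f⟩⟩ <;> refine Ch.congr f ?_
  · exact ch_sub r2 r3 r5 r1 ⟨m11 a (by decide +kernel), s 23 a (by decide +kernel), s 17 a (by decide +kernel)⟩
      ⟨m11 b (by decide +kernel), s 23 b (by decide +kernel), s 17 b (by decide +kernel)⟩
      ⟨m11 m (by decide +kernel), s 23 m (by decide +kernel), n 17 m (by decide +kernel)⟩
      ⟨m11 d (by decide +kernel), n 23 d (by decide +kernel)⟩
  · exact ch_sub r2 r3 r5 r1 ⟨m22 a (by decide +kernel), s 17 a (by decide +kernel), (mD a).2 (by decide +kernel)⟩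
      ⟨m22 b (by decide +kernel), s 17 b (by decide +kernel), (mD b).2 (by decide +kernel)⟩
      ⟨m22 c (by decide +kernel), s 17 c (by decide +kernel), mt (mD c).1 (by decide +kernel)⟩
      ⟨m22 m (by decide +kernel), n 17 m (by decide +kernel)⟩
  · exact ch_sub r2 r3 r5 r1 ⟨m23 a (by decide +kernel), s 0 a (by decide +kernel), s 17 a (by decide +kernel)⟩
      ⟨m23 b (by decide +kernel), s 0 b (by decide +kernel), s 17 b (by decide +kernel)⟩
      ⟨m23 m (by decide +kernel), s 0 m (by decide +kernel), n 17 m (by decide +kernel)⟩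
      ⟨m23 e (by decide +kernel), n 0 e (by decide +kernel)⟩

theorem kl33 : KL33 := fun F _ _ hF ⟨H, hH, ns⟩ => ns <| by
  have := Cfsg.Agent.S0249.result (F := F) 3 le_rfl
  have c : Nat.card PSL(3, F) = 5616 := by
    have := Cfsg.Agent.S0243.result hF 3 (by norm_num)
    simp [Fin.prod_univ_three] at this
    omega
  have : Finite PSL(3, F) := Nat.finite_of_card_ne_zero (by omega)
  have p13 := Fact.mk (by decide : Nat.Prime 13)
  have m := H.card_mul_index
  have B : ∀ (X : Type) [Group X] [Finite X], Nat.card X ∣ 432 → Group.IsSolvable X := fun X _ _ k =>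
    H5.isSolvable_of_card_dvd_prime_pow_mul (a := 4) (b := 3) Nat.prime_two Nat.prime_three k
  by_cases d : 13 ∣ Nat.card H
  swap
  · exact B H (((Nat.Prime.coprime_iff_not_dvd p13.1).2 d).symm.dvd_of_dvd_mul_left (show _ ∣ 13 * 432 from Dvd.intro _ (m.trans c)))
  have i : 13 ≤ H.index := by
    have k : H.normalCore = ⊥ := (IsSimpleGroup.eq_bot_or_eq_top_of_normal _ inferInstance).resolve_right fun e =>
      hH (top_unique (e.ge.trans H.normalCore_le))
    have := card_dvd_of_injective _ ((MonoidHom.ker_eq_bot_iff _).1 (H.normalCore_eq_ker.symm.trans k))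
    rw [Nat.card_perm, c] at this
    exact p13.1.dvd_factorial.1 ((by norm_num : 13 ∣ 5616).trans this)
  obtain ⟨P⟩ : Nonempty (Sylow 13 H) := inferInstance
  have m2 := P.1.card_mul_index
  have j : P.1.index ∣ 432 := ((Nat.Prime.coprime_iff_not_dvd p13.1).2 P.not_dvd_index).symm.dvd_of_dvd_mul_left
    (show _ ∣ 13 * 432 from (Dvd.intro_left _ m2).trans (Dvd.intro _ (m.trans c)))
  obtain ⟨k, hk⟩ := P.2.exists_card_eq
  have q : 13 ≤ Nat.card P.1 := Nat.le_of_dvd Nat.card_pos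
    (((Nat.Prime.coprime_iff_not_dvd p13.1).2 P.not_dvd_index).dvd_of_dvd_mul_right (m2 ▸ d))
  have n1 := card_sylow_modEq_one 13 H
  have n2 := P.card_dvd_index
  by_cases e : Nat.card (Sylow 13 H) = 1
  · have := (Nat.card_eq_one_iff_unique.1 e).1
    have := Sylow.normal_of_subsingleton P
    have := B (H ⧸ P.1) j
    have := P.2.isNilpotent
    exact Group.isSolvable_of_ker_le_range P.1.subtype (QuotientGroup.mk' P.1) (by simp)
  have l : P.1.index ≤ 33 := by
    have := Nat.mul_le_mul (m2 ▸ Nat.mul_le_mul_right P.1.index q) i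
    omega
  have z : P.1.index ≠ 0 := index_ne_zero_of_finite
  have := Nat.le_of_dvd (Nat.pos_of_ne_zero z) n2
  have n3 := n2.trans j
  have : P.1.index = 27 := by
    unfold Nat.ModEq at n1
    generalize Nat.card (Sylow 13 H) = n at *
    obtain rfl | rfl : n = 14 ∨ n = 27 := by omega
    · omega
    · omega
  exact H5.isSolvable_of_card_dvd_prime_pow_mul (a := k) (b := 3) p13.1 Nat.prime_three (by rw [← m2, hk, this]; rfl)

end H7.MS
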