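import Cfsg.Agent.H27.MS1
import Cfsg.Agent.H23.BinPSL
import Cfsg.Agent.H11.SylSL2
import Cfsg.Agent.S0076

/-! S5899, chunk `TYo`: `L₂(q)`, `q` odd, has one class of involutions and dihedral Sylow `2`-subgroups. -/

set_option autoImplicit false

namespace H7.MS
open Cfsg Subgroup H17.GS H27.MS QuaternionGroup
open H19 hiding eq_bot_mono
open H23.S2 (pi pi_eq_one pi_surj m m_surj m_mul m_one m_neg m_inj isConj_invol)
open scoped MatrixGroups

universe u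

theorem pi_inv {F : Type*} [Field F] (h2 : (2 : F) ≠ 0) {A : SL(2, F)} : pi F A = 1 ↔ A * A = 1 := by
  rw [pi_eq_one]
  refine ⟨by rintro (rfl | rfl) <;> simp, fun h => ?_⟩
  obtain ⟨a, b, c, d, e, rfl⟩ := m_surj A
  simp only [m_mul, m_one, m_neg, m_inj] at h ⊢
  grind

theorem dih {F : Type*} [Field F] [Fintype F] (h2 : (2 : F) ≠ 0) (U : Sylow 2 PSL(2, F)) : ∃ k, 1 ≤ k ∧ ∃ a b : PSL(2, F),
    a ≠ 1 ∧ b ≠ 1 ∧ a * a = 1 ∧ b * b = 1 ∧ (a * b) ^ 2 ^ k = 1 ∧ Nat.card U = 2 ^ (k + 1) ∧ U.1 = zpowers a ⊔ zpowers b := by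
  have := Fact.mk Nat.prime_two
  obtain ⟨Q, rfl⟩ := Sylow.mapSurjective_surjective (pi_surj (F := F)) 2 U
  obtain ⟨k, hk, ⟨e⟩⟩ := H11.sylow_two_sl2 h2 Q
  have : NeZero (2 ^ k) := ⟨by positivity⟩
  let j : QuaternionGroup (2 ^ k) →* SL(2, F) := Q.1.subtype.comp e.symm.toMonoidHom
  have ji : Function.Injective j := Subtype.val_injective.comp e.symm.injective
  let f := (pi F).comp j
  have f1 : ∀ g, f g = 1 ↔ g * g = 1 := fun g => by
    rw [MonoidHom.comp_apply, pi_inv h2, ← map_mul, map_eq_one_iff _ ji]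
  have r : (Q.mapSurjective (pi_surj (F := F))).1 = f.range := by
    rw [MonoidHom.range_comp, MonoidHom.range_comp, MonoidHom.range_eq_top.2 e.symm.surjective, ← MonoidHom.range_eq_map, range_subtype]; rfl
  have x2 : ∀ i, (xa i : QuaternionGroup (2 ^ k)) * xa i = a (2 ^ k : ℕ) := fun i => by rw [← sq, xa_sq]
  have a2 : (a (2 ^ k : ℕ) : QuaternionGroup (2 ^ k)) * a (2 ^ k : ℕ) = 1 := by
    rw [← x2 0, ← xa_pow_four 0]; simp only [pow_succ, pow_zero, one_mul, mul_assoc]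
  have a1 : (a (2 ^ k : ℕ) : QuaternionGroup (2 ^ k)) ≠ 1 := fun h => by
    have := orderOf_dvd_of_pow_eq_one ((xa_sq 0).trans h); rw [orderOf_xa] at this; omega
  have fa := (f1 _).2 a2
  have x1 : ∀ i, f (xa i) ≠ 1 := fun i h => a1 ((x2 i).symm.trans ((f1 _).1 h))
  have x3 : ∀ i, f (xa i) * f (xa i) = 1 := fun i => by rw [← map_mul, x2, fa]
  have ab : f (xa 0) * f (xa 1) = f (a 1) := by
    rw [← map_mul, xa_mul_xa, sub_zero, ← a_mul_a, map_mul, fa, one_mul]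
  refine ⟨k, hk, f (xa 0), f (xa 1), x1 0, x1 1, x3 0, x3 1, by rw [ab, ← map_pow, a_one_pow, fa], ?_, ?_⟩
  · have c := f.ker.card_mul_index
    have k2 : Nat.card f.ker = 2 := by
      refine (Nat.card_eq_two_iff' 1).2 ⟨⟨_, fa⟩, fun h => a1 (congrArg Subtype.val h), fun y hy => Subtype.ext (ji ?_)⟩
      have n : ∀ g, f g = 1 → g ≠ 1 → j g = -1 := fun g h g1 => (pi_eq_one.1 h).resolve_left ((map_ne_one_iff _ ji).2 g1)
      rw [n _ y.2 fun h => hy (Subtype.ext h), n _ fa a1]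
    rw [k2, index_ker, Nat.card_eq_fintype_card (α := QuaternionGroup _), QuaternionGroup.card, ← r] at c
    change Nat.card (Q.mapSurjective (pi_surj (F := F))).1 = _
    rw [pow_succ]; omega
  · rw [r]
    refine le_antisymm ?_ (sup_le (zpowers_le.2 ⟨_, rfl⟩) (zpowers_le.2 ⟨_, rfl⟩))
    have m0 : f (xa 0) ∈ zpowers (f (xa 0)) ⊔ zpowers (f (xa 1)) := mem_sup_left (mem_zpowers _)
    have ma : ∀ i, f (a i) ∈ zpowers (f (xa 0)) ⊔ zpowers (f (xa 1)) := fun i => by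
      rw [← ZMod.natCast_zmod_val i, ← a_one_pow, map_pow, ← ab]
      exact pow_mem (mul_mem m0 (mem_sup_right (mem_zpowers _))) _
    rintro _ ⟨i | i, rfl⟩
    · exact ma i
    · rw [← zero_add i, ← xa_mul_a, map_mul]; exact mul_mem m0 (ma i)

variable {G : Type u} [Group G] [Finite G] {N Q T : Subgroup G} {X : Type} [Group X] {π : N →* X}

omit [Finite G] in
theorem card_T (k : ∀ g : N, π g = 1 ↔ (g : G) ∈ Q) (qT : Q ≤ T) (tN : T ≤ N) : #T = #(im π T) * #Q := by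
  have c := (imHom π tN).ker.card_mul_index
  rw [index_ker, MonoidHom.range_eq_top.2 (imHom_surj π tN), card_top,
    show (imHom π tN).ker = Q.subgroupOf T from ext fun x => imHom_eq_one.trans (k _),
    Nat.card_congr (subgroupOfEquivOfLe qT).toEquiv] at c
  rw [← c, mul_comm]

omit [Finite G] in
theorem pre_im (k : ∀ g : N, π g = 1 ↔ (g : G) ∈ Q) (qT : Q ≤ T) (tN : T ≤ N) : pre π (im π T) = T :=
  le_antisymm (fun x hx => by
    obtain ⟨h, y, hy, e⟩ := mem_pre.1 hx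
    have := qT ((k (y⁻¹ * ⟨x, h⟩)).1 (by rw [map_mul, map_inv, e, inv_mul_cancel]))
    simpa using T.mul_mem hy this) (le_pre_im tN)

theorem tyo : TYo.{u} := by
  intro G _ _ N Q T fr po
  have := Fact.mk Nat.prime_two
  obtain ⟨F, _, _, q, hq, hc, π, su, k⟩ := id po
  have o : Odd (Fintype.card F) := hq ▸ by
    rcases hc with ⟨r, -, -, rfl⟩ | ⟨p, l, -⟩ | rfl
    exacts [Odd.pow (by decide), p.odd_of_ne_two (by omega), by decide]
  have h2 := H11.two_ne_zero_of_odd_card o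
  have tN := fr.syl.le
  have qT : Q ≤ T := fr.syl.le_of_norm' fr.nq.le fr.pg (tN.trans fr.nq.norm)
  have iv : ∀ {a} (h : Iv N Q a), π ⟨a, h.1⟩ ≠ 1 ∧ π ⟨a, h.1⟩ * π ⟨a, h.1⟩ = 1 := fun h =>
    ⟨fun e => h.2.1 ((k _).1 e), by rw [← map_mul]; exact (k _).2 h.2.2⟩
  have cq : ∀ {g a b : N}, π g * π a * (π g)⁻¹ = π b → (g : G) * a * (g : G)⁻¹ * (b : G)⁻¹ ∈ Q := fun {g a b} e =>
    (k (g * a * g⁻¹ * b⁻¹)).1 (by simp only [map_mul, map_inv, e, mul_inv_cancel])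
  refine ⟨fun a b ha hb => ?_, ?_⟩
  · obtain ⟨c, e⟩ := isConj_iff.1 (isConj_invol h2 (iv ha).1 (iv ha).2 (iv hb).1 (iv hb).2)
    obtain ⟨g, rfl⟩ := su c
    exact ⟨g, g.2, cq e⟩
  have sy := fr.syl.im le_rfl π
  rw [show im π N = ⊤ from eq_top_iff.2 fun x _ => let ⟨g, e⟩ := su x; ⟨g, g.2, e⟩] at sy
  obtain ⟨U, hU⟩ := sy.exists_sylow_top
  obtain ⟨n, hn, a, b, a1, b1, a2, b2, ab, c, e⟩ := dih h2 U
  have ct : #T = 2 ^ (n + 1) * #Q := by rw [card_T k qT tN, ← hU, ← c]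
  rcases hn.eq_or_lt with rfl | hn
  · have K := H11.isKleinFour_of_not_isCyclic (G := U.1) c (H11.sylow_two_psl2_not_isCyclic h2 U)
    have s : ∀ x ∈ U.1, x * x = 1 := fun x hx => congrArg Subtype.val (IsKleinFour.mul_self (⟨x, hx⟩ : U.1))
    have mU : ∀ {t} (h : t ∈ T), π ⟨t, tN h⟩ ∈ U.1 := fun h => hU ▸ mem_im_of h
    refine .inl ⟨po, ct, fun t ht => (k (⟨t, tN ht⟩ * ⟨t, tN ht⟩)).1 (by rw [map_mul, s _ (mU ht)]), fun a b ha hb => ?_⟩
    have ha' : Iv N Q a := ⟨tN ha.1, ha.2⟩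
    have hb' : Iv N Q b := ⟨tN hb.1, hb.2⟩
    obtain ⟨c, e⟩ := isConj_iff.1 (isConj_invol h2 (iv ha').1 (iv ha').2 (iv hb').1 (iv hb').2)
    have fx : ∀ y ∈ U.1, ∀ x ∈ U, (fun y => x * y * x⁻¹) '' {y} = {y} := fun y hy x hx => by
      have := s _ (mul_mem hx hy)
      rw [Set.image_singleton, show x * y * x⁻¹ = (x * y * (x * y)) * (y * y)⁻¹ * y * (x * x)⁻¹ by group, this, s y hy, s x hx]; simp
    obtain ⟨g, hg, e⟩ := Agent.S0076.result U {π ⟨a, ha'.1⟩} {π ⟨b, hb'.1⟩} (Set.singleton_subset_iff.2 (mU ha.1))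
      (Set.singleton_subset_iff.2 (mU hb.1)) (fx _ (mU ha.1)) (fx _ (mU hb.1)) c (by rw [Set.image_singleton, e])
    obtain ⟨g, rfl⟩ := su g
    rw [Set.image_singleton, Set.singleton_eq_singleton_iff] at e
    refine ⟨g, ⟨g.2, ?_⟩, cq e⟩
    rw [← pre_im k qT tN, ← hU]
    exact norms_pre (zpowers_le.2 g.2) (by rw [im_zpowers]; exact zpowers_le.2 hg) (mem_zpowers _)
  · obtain ⟨x, hx, rfl⟩ : a ∈ im π T := by rw [← hU, e]; exact mem_sup_left (mem_zpowers _)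
    obtain ⟨y, hy, rfl⟩ : b ∈ im π T := by rw [← hU, e]; exact mem_sup_right (mem_zpowers _)
    have l : Q ⊔ zpowers x.1 ⊔ zpowers y.1 ≤ T := sup_le (sup_le qT (zpowers_le.2 hx)) (zpowers_le.2 hy)
    refine .inr ⟨n, po, hn, ct, x, y, ⟨hx, fun h => a1 ((k _).2 h), (k (x * x)).1 (by rw [map_mul, a2])⟩,
      ⟨hy, fun h => b1 ((k _).2 h), (k (y * y)).1 (by rw [map_mul, b2])⟩, le_antisymm ?_ l,
      (k ((x * y) ^ 2 ^ n)).1 (by rw [map_pow, map_mul, ab])⟩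
    rw [← pre_im k (le_sup_left.trans le_sup_left) (l.trans tN), ← im_le_iff tN, ← hU, e, ← im_zpowers, ← im_zpowers]
    exact sup_le (im_mono (le_sup_right.trans le_sup_left)) (im_mono le_sup_right)

end H7.MS
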