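import Cfsg.Agent.H7.Sym6
import Cfsg.Agent.H21.SymSyl3

/-! Blocks of alternating groups: heights and characters of degree `p` of the defect groups. -/

set_option autoImplicit false
open Finset Equiv Function Cfsg H5 H8 H28 H21 MonoidAlgebra SemidirectProduct
open scoped Nat

namespace H7.Sn

section Deg
variable {p : ℕ} [hp : Fact p.Prime] {α β : Type*} [Fintype α] [DecidableEq α] [Fintype β]
  [DecidableEq β]

/-- has an irreducible character of degree `p` -/
def HD (p : ℕ) (G : Type*) [Group G] : Prop := ∃ χ : IrrCharacter G, charDegree χ.1 = p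

omit hp in
theorem HD.of_surj {G H : Type*} [Group G] [Group H] [Finite G] (h : HD p H) (f : G →* H)
    (hf : Surjective f) : HD p G :=
  have ⟨χ, h⟩ := h
  ⟨⟨_, H6.irr_comp_surjective χ.2 f hf⟩, by simpa [charDegree] using h⟩

theorem hd_step {R : Subgroup (Wr (Cp p) β)} (hR : IsPGroup p R) (Q : Sylow p (Perm β))
    (h1 : R.map rightHom = Q) (h2 : ∀ b b', b ≠ b' → ∃ d, inl d ∈ R ∧ d b = .ofAdd 1 ∧ d b' = 1)
    (h3 : p ≤ Fintype.card β) (ih : p ^ 2 ≤ Fintype.card β → HD p Q) : HD p R := by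
  let f : R →* Q := (rightHom.comp R.subtype).codRestrict _ fun r => h1.le ⟨r, r.2, rfl⟩
  have hf : Surjective f := fun q => have ⟨r, h, e⟩ := h1.ge q.2; ⟨⟨r, h⟩, Subtype.ext e⟩
  rcases le_or_gt (p ^ 2) (Fintype.card β) with h | h
  · exact (ih h).of_surj f hf
  obtain ⟨q, b, hb⟩ : ∃ (q : Q) (b : β), q • b ≠ b := by_contra fun e =>
    Q.ne_bot_of_dvd_card (by simpa [Fintype.card_perm, hp.out.dvd_factorial])
      (eq_bot_iff.2 fun q hq => Equiv.ext fun b => not_not.1 fun h => e ⟨⟨q, hq⟩, b, h⟩)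
  let N := (MulAction.stabilizer Q b).comap f
  have hN : N.index = p := by
    obtain ⟨k, hk⟩ := Q.2.index (MulAction.stabilizer Q b)
    have h4 := Set.ncard_le_card (MulAction.orbit Q b)
    rw [← MulAction.index_stabilizer, hk, Nat.card_eq_fintype_card] at h4
    have h5 := (Nat.pow_lt_pow_iff_right hp.out.one_lt).1 (h4.trans_lt h)
    rw [Subgroup.index_comap_of_surjective _ hf, hk]
    interval_cases k
    · exact absurd ((Subgroup.index_eq_one.1 hk).ge (Subgroup.mem_top q)) hb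
    · simp
  have : N.Normal := Subgroup.normal_of_index_eq_minFac_card (by
    obtain ⟨k, hk⟩ := IsPGroup.iff_card.1 hR
    rw [hN, hk, hp.out.pow_minFac fun e => hp.out.not_dvd_one (by simpa [hN, hk, e] using N.index_dvd_card)])
  obtain ⟨ζ, hζ⟩ := CommGroup.exists_apply_ne_one_of_hasEnoughRootsOfUnity (Cp p) ℂ
    (a := .ofAdd 1) (by simp)
  let l : N →* Cp p := .mk' (fun n => n.1.1.left b) fun m n => by
    have : m.1.1.right⁻¹ b = b := Perm.inv_eq_iff_eq.2 (Eq.symm m.2)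
    simp [Wr.mul_left, this]
  have := Fintype.ofFinite R
  refine ⟨⟨_, H6.irr_indFun_of_inertia_le (isIrrCharacter_unitsHom (ζ.comp l)) fun g hg => ?_⟩,
    H8.charDegree_eq (by simp [H5.indFun_apply_one, hN])⟩
  by_contra e
  obtain ⟨d, hd, h4, h5⟩ := h2 b (g.1.right⁻¹ b) fun h => e (Perm.eq_inv_iff_eq.1 h)
  have := H6.mem_inertia'.1 hg ⟨⟨_, hd⟩, show (inl d : Wr (Cp p) β).right b = b by simp⟩
  have h6 : (g.1 * inl d * g.1⁻¹).left b = 1 := by
    simpa [Wr.mul_left, show d (g.1.right.symm b) = 1 from h5, -mul_inv_cancel] using congrFun (congrArg left (mul_inv_cancel g.1)) b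
  exact hζ (Units.ext (by simpa [l, h4, h6, -mul_left] using this.symm))

omit [Fintype α] [DecidableEq α] in
theorem hd_of_emb [Finite α] {R : Subgroup (Perm α)} (e : Cp p × β ↪ α) (Q : Sylow p (Perm β))
    (hR : R ≤ (Q.1.comap rightHom).map (wrEmb e)) (h1 : ∀ h ∈ Q.1, ∃ w, w.right = h ∧ wrEmb e w ∈ R)
    (h2 : ∀ b b', b ≠ b' → ∃ d, wrEmb e (inl d) ∈ R ∧ d b = .ofAdd 1 ∧ d b' = 1)
    (h3 : p ≤ Fintype.card β) (ih : p ^ 2 ≤ Fintype.card β → HD p Q) : HD p R := by
  have h4 := Subgroup.map_comap_eq_self (hR.trans (Subgroup.map_le_range _ _))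
  have f := ((R.comap (wrEmb e)).equivMapOfInjective _ (wrEmb.inj e)).trans (MulEquiv.subgroupCongr h4)
  refine (hd_step (((wrEmb.isPGroup e Q.2).to_le hR).of_equiv f.symm) Q (le_antisymm ?_ fun q hq => ?_)
    h2 h3 ih).of_surj f.symm.toMonoidHom f.symm.surjective
  · rintro _ ⟨w, hw, rfl⟩
    obtain ⟨v, hv, e'⟩ := hR hw
    exact wrEmb.inj e e' ▸ hv
  · obtain ⟨w, h, h'⟩ := h1 q hq
    exact ⟨w, h', h⟩

theorem hd_perm (P : Sylow p (Perm α)) (h : p ≤ Fintype.card α / p)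
    (ih : p ^ 2 ≤ Fintype.card α / p → ∀ Q : Sylow p (Perm (Fin (Fintype.card α / p))), HD p Q) :
    HD p P := by
  obtain ⟨e, Q, hP⟩ := exists_wr P
  exact hd_of_emb e Q hP.le (fun h hh => hP ▸ exists_right_eq e h hh) (fun b b' h =>
    ⟨Pi.mulSingle b (.ofAdd 1), hP.ge ⟨_, by simp, rfl⟩, by simp, by simp [h.symm]⟩) (by simpa)
    fun h => ih (by simpa using h) Q

theorem hd_fin (n : ℕ) : p ^ 2 ≤ n → ∀ P : Sylow p (Perm (Fin n)), HD p P := by
  induction n using Nat.strong_induction_on with | h n ih => ?_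
  refine fun h P => hd_perm P (by simpa [Nat.le_div_iff_mul_le hp.out.pos, sq] using h) (ih _ ?_)
  simpa using Nat.div_lt_self ((pow_pos hp.out.pos 2).trans_le h) hp.out.one_lt

theorem hd_alt (P : Sylow p (Perm α)) (h : p ≤ Fintype.card α / p)
    (h2 : p = 2 → 3 ≤ Fintype.card α / p) : HD p ↥(P.1 ⊓ alternatingGroup α) := by
  rcases eq_or_ne p 2 with rfl | e
  swap
  · rw [inf_eq_left.2 (le_alt_of_odd e P.2)]
    exact hd_perm P h (hd_fin _)
  obtain ⟨e, Q, hP⟩ := exists_wr P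
  refine hd_of_emb e Q (inf_le_left.trans hP.le) (fun h hh => ?_) (fun b b' h => ?_) (by simpa)
    fun h => hd_fin _ (by simpa using h) Q
  · obtain ⟨w, h1, h2⟩ := exists_right_eq e h hh
    rcases Int.units_eq_one_or (Perm.sign (wrEmb e w)) with k | k
    · exact ⟨w, h1, hP.ge h2, k⟩
    · let b : Fin (Fintype.card α / 2) := ⟨0, by omega⟩
      refine ⟨inl (Pi.mulSingle b t2) * w, by simpa using h1, ?_⟩
      rw [map_mul, ← tau_eq]
      exact ⟨hP.ge (mul_mem (tau_mem e _ b) h2), by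
        simp [Perm.mem_alternatingGroup, sign_tau, k]⟩
  · obtain ⟨c, h3⟩ := exists_mem_notMem_of_card_lt_card (s := {b, b'}) (t := univ)
      (card_le_two.trans_lt (by simpa [Nat.lt_iff_add_one_le] using h2 rfl))
    obtain ⟨h3, h4⟩ : ¬ c = b ∧ ¬ c = b' := by simpa using h3
    refine ⟨Pi.mulSingle b t2 * Pi.mulSingle c t2, ?_, by simp [Ne.symm h3, t2],
      by simp [Ne.symm h4, h.symm]⟩
    rw [map_mul, map_mul, ← tau_eq, ← tau_eq]
    exact ⟨hP.ge (mul_mem (tau_mem e _ _) (tau_mem e _ _)), by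
      simp [Perm.mem_alternatingGroup, sign_tau]⟩

end Deg

theorem carry {p : ℕ} (hp : p.Prime) (w : ℕ) : p ≤ w → (p = 2 ∧ w % 4 = 3) ∨ ∃ a b c, a + b + c = w ∧
    (p = 2 → c = 0) ∧ (w !).factorization p =
      (a !).factorization p + (b !).factorization p + (c !).factorization p + 1 := by
  induction w using Nat.strong_induction_on with | h w ih => ?_
  intro h
  have h0 := Nat.div_add_mod w p
  have h1 := Nat.mod_lt w hp.pos
  have h2 : ∀ a, ((p * a + w % p)!).factorization p = a + (a !).factorization p := fun a => by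
    rw [fact_factorial hp, Nat.mul_add_div hp.pos, Nat.div_eq_of_lt h1, add_zero]
  have h3 : ∀ a, ((p * a)!).factorization p = a + (a !).factorization p := fun a => by
    rw [fact_factorial hp, Nat.mul_div_cancel_left _ hp.pos]
  obtain ⟨v, hv⟩ := Nat.exists_eq_succ_of_ne_zero (Nat.div_pos h hp.pos).ne'
  by_cases e : p ∣ w / p
  · obtain h4 | ⟨a, b, c, h4, h5, h6⟩ := ih _ (Nat.div_lt_self (hp.pos.trans_le h) hp.one_lt)
      (Nat.le_of_dvd (by omega) e)
    · obtain ⟨rfl, -⟩ := id h4; omega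
    refine .inr ⟨p * a + w % p, p * b, p * c, by grind, by grind, ?_⟩
    rw [h2, h3, h3, fact_factorial hp]; omega
  by_cases e' : p = 2 ∧ w % p = 1
  · obtain ⟨rfl, -⟩ := id e'; omega
  refine .inr ⟨p * v + (p - 1), 1, w % p, by rw [hv, Nat.mul_succ] at h0; omega, by omega, ?_⟩
  rw [fact_factorial hp w, fact_factorial hp (_ + _), Nat.mul_add_div hp.pos,
    Nat.div_eq_of_lt (Nat.sub_one_lt hp.ne_zero), fact_factorial hp (w % p), Nat.div_eq_of_lt h1, hv,
    Nat.factorial_succ, Nat.factorization_mul (by omega) (Nat.factorial_ne_zero _), Finsupp.add_apply,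
    Nat.factorization_eq_zero_of_not_dvd (by rwa [hv] at e)]
  simp; omega

variable {ι α : Type*} [Fintype ι] [DecidableEq ι] [Fintype α] [DecidableEq α] {p : ℕ}
  {β κ : ι → ℤ} {ψ : IrrCharacter (Perm α)} {M : Ideal AlgInt} {w : ℕ}

omit [DecidableEq ι] in
theorem exists_top (hκ : Injective κ) {r : ℤ} {m : ℕ} (h : #{i | κ i % p = r} = m + 1) :
    ∃ t, κ t % p = r ∧ rk p κ t = m ∧ Top p κ t := by
  obtain ⟨t, h1, h2⟩ := exists_rk hκ (m.lt_succ_self.trans_eq h.symm)
  refine ⟨t, h1, h2, fun j e => not_lt.1 fun e' => ?_⟩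
  have := rk_lt_rk e.symm e'
  have := rk_lt_card (p := p) κ j
  rw [e, h1] at this
  omega

theorem Wt.exists_mem (hp : 0 < p) (hκ : Wt α p κ w) (hN : Fintype.card α ≤ Fintype.card ι) {a : ι → ℕ}
    (h : ∑ i, a i = w) (ha : ∀ i j, κ i % p = κ j % p → κ i < κ j → a i ≤ a j) :
    ∃ ψ : IrrCharacter (Perm α), Rep (fun i => κ i + p * a i) ψ ∧ core p (fun i => κ i + p * a i) = κ :=
  have h1 := core_add hp hκ.good hκ.cor ha
  (rep_of_good hN h1.1 (by rw [← hκ.sum, ← h, sum_add_distrib, Nat.cast_sum, mul_sum])).imp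
    fun _ h => ⟨h, h1.2⟩

variable (hκ : Wt α p κ w) (hN : (p + 1) * Fintype.card α ≤ Fintype.card ι)
include hκ hN

theorem Wt.phi_top [hp : Fact p.Prime] {m : ℕ} (hm : m ≤ p) (j : Fin m → ℕ) (h : ∑ r, j r = w)
    (h1 : (w !).factorization p = ∑ r, ((j r)!).factorization p + 1) :
    ∃ β, ∃ ψ : IrrCharacter (Perm α), Rep β ψ ∧ core p β = κ ∧
      ((pm (.replicate w p) * alt κ).coeff β).natAbs.factorization p = 1 ∧
      ∀ v r, v + 2 = w → 2 ≤ j r → (pm ((p * 2) ::ₘ .replicate v p) * alt κ).coeff β ≠ 0 := by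
  have h0 : w ≠ 0 := by rintro rfl; simp at h1
  have h2 : ∀ r : Fin m, ∃ t, κ t % p = (r : ℕ) ∧ Top p κ t := fun r => by
    have := hκ.card_runner hN (r.2.trans_le hm)
    have := hκ.le
    obtain ⟨t, h1, -, h2⟩ := exists_top hκ.good.inj (Nat.succ_pred_eq_of_pos (by
      nlinarith [hp.out.pos, Nat.pos_of_ne_zero h0] : 0 < #{i | κ i % p = (r : ℕ)})).symm
    exact ⟨t, h1, h2⟩
  choose t h2 h3 using h2
  have h4 : Injective t := fun r s e => Fin.ext (by have := h2 r; rw [e, h2] at this; omega)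
  let a := extend t j 0
  have h5 : ∀ i, a i ≠ 0 → Top p κ i := fun i hi => by
    obtain ⟨r, rfl⟩ := not_not.1 (mt (extend_apply' j (0 : ι → ℕ) i) hi); exact h3 r
  have h6 : ∑ i, a i = w := h ▸ (Fintype.sum_of_injective t h4 _ _ (fun i hi => extend_apply' j (0 : ι → ℕ) i hi)
    fun r => (h4.extend_apply _ _ r).symm).symm
  obtain ⟨ψ, r, c⟩ := hκ.exists_mem hp.out.pos (by nlinarith) h6 fun i l e e' =>
    (not_not.1 fun h => (h5 i h l e.symm).not_gt e').trans_le (Nat.zero_le _)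
  refine ⟨_, ψ, r, c, ?_, fun v r hv hr => ?_⟩
  · have h7 := congrArg (fun x => x.natAbs.factorization p) (coeff_pm_nat hp.out.pos h6)
    rw [← Fintype.prod_of_injective t h4 (fun r => ((j r)! : ℤ)) _ (fun i hi => by
      simp [a, extend_apply' j (0 : ι → ℕ) i hi]) fun r => by simp [a, h4.extend_apply], ← Nat.cast_prod,
      ← coeff_top hκ.good.inj (dvd_rep w) h5] at h7
    simp only [Int.natAbs_mul, Int.natAbs_natCast] at h7
    rw [Nat.factorization_mul (by simpa using (hκ.phi_pos hp.out.pos r c).ne') (by positivity),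
      Nat.factorization_prod fun _ _ => Nat.factorial_ne_zero _, Finsupp.add_apply, h1,
      Finsupp.finsetSum_apply] at h7
    omega
  · rw [coeff_top hκ.good.inj (by simpa using dvd_rep v) h5, pm_cons, coeff_ps_mul]
    refine (sum_pos' (fun i _ => pm_nonneg _ _) ⟨t r, mem_univ _, (pm_nonneg _ _).lt_of_ne' fun e => ?_⟩).ne'
    have h7 : 2 ≤ a (t r) := by simpa [a, h4.extend_apply]
    have := coeff_pm_nat hp.out.pos (a := update a (t r) (a (t r) - 2)) (w := v) (by
      rw [sum_update_of_mem (mem_univ _)]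
      rw [← add_sum_erase _ _ (mem_univ (t r)), ← sdiff_singleton_eq_erase] at h6
      omega)
    rw [show (fun i => (p : ℤ) * update a (t r) (a (t r) - 2) i) = _ from funext fun i => ?_, e] at this
    · exact Nat.factorial_ne_zero v (by simpa using this.symm)
    · rcases eq_or_ne i (t r) with rfl | e <;> simp [*, mul_sub]

theorem Wt.phi_hook (hp : 2 ≤ p) (hw : 2 ≤ w) : ∃ β, ∃ ψ : IrrCharacter (Perm α), Rep β ψ ∧
    core p β = κ ∧ (pm (.replicate w p) * alt κ).coeff β = ((w - 1 : ℕ) : ℤ) := by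
  obtain ⟨w, rfl⟩ := Nat.exists_eq_add_of_le' hw
  have h1 := hκ.card_runner hN (r := 0) (by omega)
  obtain ⟨m, hm⟩ := Nat.exists_eq_add_of_le' (le_trans (by nlinarith [hκ.le]) h1 : 2 ≤ _)
  obtain ⟨t, h2, h3, h4⟩ := exists_top (m := m + 1) hκ.good.inj hm
  obtain ⟨s, h5, h6⟩ := exists_rk hκ.good.inj (t := m) (lt_of_lt_of_eq (by omega) hm.symm)
  have h7 : κ s + p = κ t := by
    rw [← congrFun hκ.cor s, ← congrFun hκ.cor t, core, core, h2, h3, h5, h6]; push_cast; ring
  have h8 : s ≠ t := fun e => by rw [e] at h6; omega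
  obtain ⟨ψ, r, c⟩ := hκ.exists_mem (by omega) (by nlinarith)
    (a := Pi.single t (w + 1) + Pi.single s 1) (by simp [sum_add_distrib]) fun i j e e' => by
      rcases eq_or_ne i t with rfl | h
      · exact absurd (h4 j e.symm) e'.not_ge
      rcases eq_or_ne i s with rfl | h'
      · obtain rfl := hκ.good.inj (le_antisymm (h4 j (by rw [← e, h2, h5])) (h7 ▸ mod_gap e e'))
        simp [h, h.symm]
      · simp [h, h']
  exact ⟨_, ψ, r, c, coeff_hook (by omega) hκ.good.inj h8 h7 h4 _⟩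

omit hN in
theorem Wt.ne_zero' (hp : 0 < p) {x : Perm α} (hx : ∀ k ∈ x.cycleType, p ∣ k)
    (h1 : x.cycleType.sum = p * w) (r : Rep β ψ) (c : core p β = κ)
    (h : (pm x.cycleType * alt κ).coeff β ≠ 0) : ψ.1 x ≠ 0 := by
  have := X_mul hp hκ (Perm.disjoint_one_right x) hx h1.ge c
  rw [mul_one, X, ← Int.cast_mul, Int.cast_inj] at this
  rw [Ne, r.eq_zero_iff, this]
  exact mul_ne_zero (hκ.co_one_ne_zero h1) h

variable [hp : Fact p.Prime] (hM : IsPModular p M) (hB : IsPBlock M (Fam α p κ))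
include hM hB

theorem Wt.ht_zero (hw : w < p) (h : ψ ∈ Fam α p κ) : blockHeight p (Fam α p κ) ψ.1 = 0 := by
  obtain ⟨β, r, rfl⟩ := h
  rw [height_eq hM hκ hB r rfl]
  refine Nat.factorization_eq_zero_of_not_dvd fun e => hw.not_ge (hp.out.dvd_factorial.1 (e.trans
    (Int.natAbs_dvd_natAbs.2 (phi_dvd hp.out.pos r.good.1 (r.good.2.trans hκ.sum.symm)
      fun t j hj δ h1 h2 => St_dvd ?_ h1 h2))))
  rcases isEmpty_or_nonempty {i // core p β i % p = t} with h | ⟨⟨i, rfl⟩⟩
  · simp at h2; omega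
  have h3 := Int.emod_nonneg (core p β i) (Int.natCast_ne_zero.2 hp.out.ne_zero)
  have := hκ.card_runner hN ((Int.toNat_lt h3).2 (Int.emod_lt_of_pos _ (Int.natCast_pos.2 hp.out.pos)))
  rw [Int.toNat_of_nonneg h3, ← Fintype.card_subtype] at this
  nlinarith [hκ.le, hp.out.pos]

theorem Wt.ht_one (hw : p ≤ w) (h2 : p = 2 → 3 ≤ w) : ∃ ψ ∈ Fam α p κ,
    blockHeight p (Fam α p κ) ψ.1 = 1 ∧ (p = 2 → ∃ x ∉ alternatingGroup α, ψ.1 x ≠ 0) := by
  have h1 : p = 2 → Odd w → ∀ ψ ∈ Fam α p κ, ∃ x ∉ alternatingGroup α, ψ.1 x ≠ 0 := by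
    rintro rfl ho ψ h
    obtain ⟨x, hx⟩ := exists_cycleType_rep Nat.prime_two hκ.le
    exact ⟨x, by simp [Perm.mem_alternatingGroup, Perm.sign_of_cycleType, hx, pow_add,
      ho.neg_one_pow, pow_mul'], hκ.ne_zero two_pos hx h⟩
  obtain ⟨rfl, h⟩ | ⟨a, b, c, h3, h4, h5⟩ := carry hp.out w hw
  · obtain ⟨β, ψ, r, c, e⟩ := hκ.phi_hook hN le_rfl hw
    refine ⟨ψ, ⟨β, r, c⟩, ?_, fun _ => h1 rfl (Nat.odd_iff.2 (by omega)) ψ ⟨β, r, c⟩⟩
    rw [height_eq hM hκ hB r c, e, Int.natAbs_natCast]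
    rw [show w - 1 = 2 * ((w - 1) / 2) by omega, Nat.factorization_eq_of_coprime_left (by
      simp [Nat.odd_iff]; omega) (by simp), Nat.prime_two.factorization_self]
  rcases eq_or_ne p 2 with rfl | e
  · obtain ⟨β, ψ, r, c, h6, h7⟩ := hκ.phi_top hN le_rfl ![a, b] (by simpa [h4] using h3)
      (by simpa [h4] using h5)
    refine ⟨ψ, ⟨β, r, c⟩, (height_eq hM hκ hB r c).trans h6, fun _ => (w.even_or_odd.elim
      (fun he => ?_) fun ho => h1 rfl ho ψ ⟨β, r, c⟩)⟩
    obtain ⟨v, rfl⟩ := Nat.exists_eq_add_of_le' hw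
    obtain ⟨x, hx⟩ := (Perm.exists_with_cycleType_iff α (m := (2 * 2) ::ₘ .replicate v 2)).2 ⟨by
      have := hκ.le; simp; omega, by simp +contextual [Multiset.mem_replicate]⟩
    refine ⟨x, by simp [Perm.mem_alternatingGroup, Perm.sign_of_cycleType, hx, pow_add, pow_mul',
      (show Even v by grind).neg_one_pow]; decide, hκ.ne_zero' two_pos (by simpa [hx] using dvd_rep v)
        (by simp [hx]; ring) r c (hx ▸ ?_)⟩
    exact (show 2 ≤ a ∨ 2 ≤ b by grind).elim (h7 v 0 rfl) (h7 v 1 rfl)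
  · obtain ⟨β, ψ, r, c, h6, -⟩ := hκ.phi_top hN (hp.out.two_le.lt_of_ne' e) ![a, b, c]
      (by simpa [Fin.sum_univ_three]) (by simpa [Fin.sum_univ_three])
    exact ⟨ψ, ⟨β, r, c⟩, (height_eq hM hκ hB r c).trans h6, fun h => absurd h e⟩

omit hκ hN hB in
theorem alt_height {b : Set (IrrCharacter (alternatingGroup α))} (hb : IsPBlock M b)
    {D : Subgroup (alternatingGroup α)} (hD : IsDefectGroup p M b D) :
    ((∃ χ ∈ b, blockHeight p b χ.1 = 1) ∧ HD p D) ∨
      ((∀ χ ∈ b, blockHeight p b χ.1 = 0) ∧ IsMulCommutative D) := by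
  have hc := card_isDefectGroup hM hb hD
  rcases le_or_gt (blockDefect p b) 2 with h | h
  · refine .inr ⟨fun χ hχ => by_contra fun e => by have := height_add_two_le hM hb hχ e; omega, ?_⟩
    interval_cases blockDefect p b
    · rw [Subgroup.card_eq_one.1 hc]; infer_instance
    · exact (isCyclic_of_prime_card (hc.trans (pow_one p))).isMulCommutative
    · exact IsPGroup.isMulCommutative_of_card_eq_prime_sq hc
  obtain ⟨κ, w, hκ, hB, h0, y, P, hw, hD', ⟨e⟩⟩ := alt_str (ι := Fin ((p + 1) * Fintype.card α)) hM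
    (by simp [add_mul]) hb hD
  have hd := defect_le hw ((Nat.card_congr e.toEquiv).trans hc)
  have h1 : 2 ≤ Fintype.card {a // y a = a} := hp.out.two_le.trans (not_lt.1 fun e => by
    simp [← hw, Nat.div_eq_of_lt e] at hd; omega)
  have h2 : 2 ≤ Fintype.card α := h1.trans (Fintype.card_subtype_le _)
  have := Fintype.one_lt_card_iff_nontrivial.1 h2
  have h3 : ∀ χ ∈ Fam α p κ, ∀ θ ∈ b, classInner (fun n : alternatingGroup α => χ.1 n) θ.1 ≠ 0 →
      (p = 2 → ∃ x ∉ alternatingGroup α, χ.1 x ≠ 0) →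
        blockHeight p b θ.1 = blockHeight p (Fam α p κ) χ.1 := fun χ hχ θ hθ h3 h4 => by
    have h5 : (charDegree χ.1).factorization p = (charDegree θ.1).factorization p := by
      rcases eq_or_ne p 2 with rfl | e
      · obtain ⟨x, h5, h6⟩ := h4 rfl
        rw [← res_eq (by simp [Nat.prime_two]) h5 h6 h3]; rfl
      obtain ⟨k, h5, h6⟩ := H6.exists_degree_ratio χ.2 θ.2 h3
      rw [alternatingGroup.index_eq_two] at h5
      rw [H8.charDegree_eq (h6.trans (by rw [irr_apply_one, ← Nat.cast_mul])), Nat.factorization_mul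
        (ne_zero_of_dvd_ne_zero two_ne_zero h5) (charDegree_ne_zero θ), Finsupp.add_apply,
        Nat.factorization_eq_zero_of_not_dvd fun h => e ((Nat.prime_dvd_prime_iff_eq hp.out
          Nat.prime_two).1 (h.trans h5)), zero_add]
    have h6 := H21.factorization_degree (p := p) hχ
    have h7 := H21.factorization_degree (p := p) hθ
    have h8 := card_isDefectGroup hM hB hD'
    have h9 := Subgroup.relIndex_mul_relIndex ⊥ (P.1 ⊓ alternatingGroup _) _ bot_le inf_le_right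
    have h11 := not_dvd_relIndex_alt P
    have h10 := fun e => h11 ((dvd_zero p).trans (Eq.symm e).dvd)
    rw [Subgroup.card_map_of_injective Perm.ofSubtype_injective, P.card_eq_multiplicity,
      Nat.pow_right_inj hp.out.one_lt, Nat.card_perm, Nat.card_eq_fintype_card, ← card_alt_two_mul h1,
      ← Subgroup.relIndex_bot_left, ← h9, Subgroup.relIndex_bot_left, Nat.card_congr e.toEquiv, hc,
      Nat.factorization_mul two_ne_zero (mul_ne_zero (pow_ne_zero _ hp.out.ne_zero) h10),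
      Nat.factorization_mul (pow_ne_zero _ hp.out.ne_zero) h10] at h8
    rw [Nat.card_perm, Nat.card_eq_fintype_card, ← card_alt_two_mul h2,
      Nat.factorization_mul two_ne_zero Nat.card_pos.ne'] at h6
    simp only [Finsupp.add_apply, hp.out.factorization_pow, Finsupp.single_eq_same,
      Nat.factorization_eq_zero_of_not_dvd h11] at h6 h8
    omega
  rcases lt_or_ge w p with h4 | h4
  · refine .inr ⟨fun θ hθ => ?_, ?_⟩
    · obtain ⟨χ, hχ, h5⟩ := exists_above_of_cover hM hB hb h0 hθ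
      rw [h3 χ hχ θ hθ h5 ?_, hκ.ht_zero (by simp) hM hB h4 hχ]
      rintro rfl
      interval_cases w <;> simp_all
    · have := (sylow_perm_comm_iff P).2 (by rwa [sq, ← Nat.div_lt_iff_lt_mul hp.out.pos, hw])
      exact ⟨⟨e.surjective.forall₂.2 fun a b => by
        rw [← map_mul, ← map_mul]
        exact congrArg e (Subtype.ext (setLike_mul_comm a.2.1 b.2.1))⟩⟩
  have h5 : p = 2 → 3 ≤ w := by
    rintro rfl
    have := Nat.prime_two.factorization_self
    by_contra
    interval_cases w <;> simp_all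
    omega
  obtain ⟨χ, hχ, h6, h7⟩ := hκ.ht_one (by simp) hM hB h4 h5
  obtain ⟨θ, hθ, h8⟩ := exists_below_of_cover hM hB hb h0 hχ
  exact .inl ⟨⟨θ, hθ, (h3 χ hχ θ hθ h8 h7).trans h6⟩,
    (hd_alt P (hw ▸ h4) (hw ▸ h5)).of_surj e.symm.toMonoidHom e.symm.surjective⟩

end H7.Sn
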