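import Cfsg.Agent.H7.ZB
import Cfsg.Agent.H1.Frattini
import Cfsg.Agent.H2.Coprime

/-!
# Blocks with normal defect group and equal height zero degrees
-/

set_option autoImplicit false
open Cfsg MonoidAlgebra
open H5 H8 H28
open scoped ComplexConjugate commutatorElement

namespace H7

section Abstract

variable {k : Type*} [Field k] [IsAlgClosed k] {G : Type*} [Group G] [Finite G] {p : ℕ}
  [hp : Fact p.Prime] [CharP k p] {P : Subgroup G} {b e : k[G]}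

/-- For a normal defect group the inertial group controls fusion. -/
theorem MaxP.fus_of_normal [P.Normal] (m : MaxP p ⊤ ⊤ b P e) {Q : Subgroup G} {x : G}
    (h : Fus p ⊤ ⊤ P e Q x) : ∃ t ∈ stab e, t⁻¹ * x ∈ 𝐂 Q := by
  induction Q using WellFoundedGT.induction generalizing x with
  | _ Q ih =>
  have hP : P ≤ stab e := mem_Fix_iff_le_stab.1 m.bp.fix_self
  rcases h.le.eq_or_lt with rfl | hlt
  · exact ⟨x, ((fus_iff_of_norm m.hHX m.bp (.refl _ _) (mem_normalizer_of_normal _ x)).1 h).2,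
      by simp⟩
  obtain ⟨hx, f, h1, h2⟩ := h
  have h3 : cj x (P ⊓ 𝐍 Q) = P ⊓ 𝐍 (cj x Q) := by rw [cj_inf, cj_normal, cj_normalizer]
  have hC : ⊤ ⊓ 𝐂 (cj x Q) ≤ ⊤ ⊓ 𝐂 (cj x Q) ⊔ P ⊓ 𝐍 (cj x Q) := le_sup_left
  have hK : ⊤ ⊓ 𝐂 (cj x Q) ⊔ P ⊓ 𝐍 (cj x Q) ≤ ⊤ ⊓ 𝐍 (cj x Q) :=
    sup_le (cent_le_inf le_rfl) (inf_le_inf_right _ le_top)
  have hfix : ca x f ∈ H8.Fix k (⊤ ⊓ 𝐂 (cj x Q) ⊔ P ⊓ 𝐍 (cj x Q)) :=
    mem_Fix_sup.2 ⟨(m.isBP h2).fix_cent, h2.fix m.hHX m.bp⟩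
  obtain ⟨y, hy, h4⟩ := m.exists_ext h1 hx h2 hC hK hfix ((m.isDef_iff_card h2 hC hK hfix).2
    fun z _ => by conv_rhs => rw [← card_cj z, cj_inf, cj_normal]) le_rfl (h3.le.trans le_sup_right)
  obtain ⟨t, ht, h5⟩ := ih _ (lt_of_lt_of_le (lt_inf_normalizer m.isDef.isP hlt) le_sup_right) h4
  obtain ⟨c, hc, r, hr, rfl⟩ := (mem_sup_of_le_normalizer'
    (normalizer_inf_cent top_le_norm_top (inf_le_inf_right _ le_top))).1 hy
  have h6 : (r * x)⁻¹ * c * (r * x) ∈ 𝐂 Q := by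
    have h7 : r⁻¹ * c * r⁻¹⁻¹ ∈ 𝐂 (cj x Q) :=
      (conj_mem_centralizer_iff ((𝐍 _).inv_mem hr.2) c).2 hc.2
    rw [← cj_centralizer, mem_cj] at h7
    simpa [mul_assoc] using h7
  have h7 := Subgroup.centralizer_le (le_sup_left (a := Q) (b := P ⊓ 𝐍 Q)) h5
  refine ⟨r⁻¹ * t, mul_mem (inv_mem (hP hr.1)) ht, ?_⟩
  simpa [mul_assoc] using (𝐂 Q).mul_mem h7 ((𝐂 Q).inv_mem h6)

theorem MaxP.anil_of_normal [P.Normal] (m : MaxP p ⊤ ⊤ b P e) (h : stab e ≤ P ⊔ 𝐂 P) :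
    ANil p ⊤ ⊤ b := m.anil_iff.2 fun Q x hx => by
  obtain ⟨t, ht, h1⟩ := MaxP.fus_of_normal m hx
  obtain ⟨u, hu, c, hc, rfl⟩ := (mem_sup_of_le_normalizer'
    (le_normalizer_of_le_centralizer le_rfl)).1 (h ht)
  exact ⟨u, hu, by
    simpa [mul_assoc] using (𝐂 Q).mul_mem (Subgroup.centralizer_le hx.le hc) h1⟩

end Abstract

variable {G : Type*} [Group G] [Finite G] {p : ℕ} {M : Ideal AlgInt} {B : Set (IrrCharacter G)}

theorem exists_pow_mem_cent_of_commutator [Fact p.Prime] {G' : Type*} [Group G'] {D : Subgroup G}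
    (hD : IsPGroup p D) {f : G →* G'} (h : f.ker ≤ ⁅D, D⁆) {x : G}
    (hx : f x ∈ 𝐂 (D.map f)) : ∃ k : ℕ, x ^ p ^ k ∈ 𝐂 D := by
  obtain ⟨u, hu⟩ := exists_isPPart (p := p) x
  obtain ⟨k, hk⟩ := (isPPart_isPElt hu).exists_pow
  have h1 : u⁻¹ * x ∈ 𝐂 D := by
    refine H2.le_centralizer_of_frattini (A := Subgroup.zpowers (u⁻¹ * x)) ?_ (le_trans ?_
      (h.trans (H1.commutator_le_frattiniOf_of_isNilpotent hD.isNilpotent))) (Subgroup.mem_zpowers _)
    · rw [Nat.card_zpowers]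
      obtain ⟨n, hn⟩ := IsPGroup.iff_card.1 (hD.to_subgroup (frattini D))
      rw [hn]
      exact (((Nat.Prime.coprime_iff_not_dvd Fact.out).2 (isPPart_not_dvd hu)).symm).pow_right _
    · rw [← Subgroup.map_eq_bot_iff, Subgroup.map_commutator, Subgroup.commutator_comm,
        Subgroup.commutator_eq_bot_iff_le_centralizer, MonoidHom.map_zpowers, Subgroup.zpowers_le]
      obtain ⟨e, rfl⟩ := isPPart_exists_pow hu
      rw [map_mul, map_inv, map_pow]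
      exact mul_mem (inv_mem (pow_mem hx _)) hx
  refine ⟨k, ?_⟩
  have h2 : x ^ p ^ k = (u⁻¹ * x) ^ p ^ k := by
    rw [(isPPart_commute hu).inv_left.mul_pow, inv_pow, hk, inv_one, one_mul]
  rw [h2]
  exact pow_mem h1 _

theorem nil_of_normal_eqdeg (hM : IsPModular p M) (hB : IsPBlock M B) {D : Subgroup G} [D.Normal]
    (hD : IsDefectGroup p M B D) {d : ℕ}
    (h : ∀ χ ∈ B, blockHeight p B χ.1 = 0 → charDegree χ.1 = d) : IsNilpotentBlock p M B := by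
  haveI := charP_kk hM
  haveI := Fact.mk hM.1
  obtain ⟨e, m⟩ := exists_maxP_block hM hB hD
  have hP := m.isDef.isP
  refine (isNilpotentBlock_iff hM).2 ⟨hB, MaxP.anil_of_normal m ?_⟩
  let π := QuotientGroup.mk' ⁅D, D⁆
  have hπ : Function.Surjective π := QuotientGroup.mk'_surjective _
  have hk : π.ker = ⁅D, D⁆ := QuotientGroup.ker_mk' _
  have hkD : π.ker ≤ D := hk.le.trans (Subgroup.commutator_le_left D D)
  haveI : (D.map π).Normal := Subgroup.Normal.map inferInstance π hπ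
  have hP' : IsPGroup p (D.map π) := hP.map π
  have hab : D.map π ≤ 𝐂 (D.map π) := by
    rw [← Subgroup.commutator_eq_bot_iff_le_centralizer, ← Subgroup.map_commutator,
      Subgroup.map_eq_bot_iff, hk]
  have hpel : ∀ x : G, π x ∈ 𝐂 (D.map π) → ∃ n : ℕ, x ^ p ^ n ∈ 𝐂 D := fun x hx =>
    exists_pow_mem_cent_of_commutator hP hk.le hx
  have he := m.bp.prim
  rw [top_inf_eq] at he
  have h1 := (regInj_of_cent (hP.to_le (inf_le_left.trans hkD)) fun x hx _ =>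
    Subgroup.centralizer_le (inf_le_left.trans hkD) hx).isPrim_emb hM le_rfl
    Subgroup.le_normalizer he
  have hXC : (𝐂 D).map π ≤ 𝐂 (D.map π) := by
    rintro _ ⟨x, hx, rfl⟩
    exact map_mem_cent_map π hx
  obtain ⟨f, hf, h2⟩ := exists_prim_Br_mul_ne_zero (le_refl (𝐂 (D.map π))) ⊥ h1.ne
  rw [Br_bot] at h2
  have h3 : ∀ f, IsPrim (ZA (kk M) (𝐂 (D.map π)) (𝐂 (D.map π))) f → f * emb π e ≠ 0 →
      f * emb π e = emb π e := fun f hf h2 => by
    refine h1.mul_eq_self_of_ne_zero ⟨idem_mem_Supp_of_pel hM (fun x hx => ?_) hf.mem hf.idem,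
      Fix_anti hXC hf.mem.2⟩ hf.idem h2
    obtain ⟨y, rfl⟩ := hπ x
    obtain ⟨n, hn⟩ := hpel y hx
    exact ⟨n, _, hn, map_pow _ _ _⟩
  obtain ⟨b, hb, h4⟩ := exists_prim_Br_mul_ne_zero (le_refl (⊤ : Subgroup (G ⧸ ⁅D, D⁆))) ⊥ h1.ne
  rw [Br_bot] at h4
  obtain ⟨C, hC, rfl⟩ := exists_block_of_isPrim hM hb
  have h5 : eB M (dom π hπ B) * emb π e = emb π e := by
    rw [← emb_eB hπ (fB_mem_VG hM hB), ← map_mul, ← Br_eq_self_of_normal le_rfl hP le_top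
      (top_le_norm D) m.prim.mem m.prim.idem, m.br]
  have h6 : C ⊆ dom π hπ B := subset_of_eB_mul_ne_zero hM (fB_dom_mem_VG (fB_mem_VG hM hB)) hC
    fun h' => h4 (by rw [← h5, ← mul_assoc, ← Zc_comm (eB_mem_Zc _), h', zero_mul])
  obtain ⟨E, hE⟩ := H8.exists_isDefectGroup hM hC
  obtain ⟨P, hP1, hP2⟩ := exists_defect_of_dom hM hB hC h6 hE
  obtain ⟨x, rfl⟩ := isDefectGroup_conj hM hB hD hP1
  rw [cj_normal] at hP2
  have hE' := (H8.isDefectGroup_iff hM hC).1 hE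
  obtain rfl : E = D.map π := le_antisymm hP2
    (hE'.le_of_normal le_rfl hb.mem hb.idem hP' le_top (top_le_norm _))
  have h7 : Br (D.map π) (eB M C) * f = f := by
    rw [Br_eq_self_of_normal le_rfl hP' le_top (top_le_norm _) hb.mem hb.idem]
    refine hf.mul_eq_self_of_ne_zero ⟨mem_Supp_centralizer_of_normal le_rfl hP' le_top
      (top_le_norm _) hb.mem hb.idem, eB_mem_Fix _ _⟩ hb.idem fun h' => h4 ?_
    rw [← h3 f hf h2, ← mul_assoc, h', zero_mul]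
  have m' : MaxP p ⊤ ⊤ (eB M C) (D.map π) f :=
    ⟨le_rfl, top_le_norm_top, hb, hE', ⟨le_top, hP', by rwa [top_inf_eq]⟩, h7⟩
  have h8 := eqdeg_stab_le hM hC (d := d) (fun ψ hψ => by
    refine h (infl π hπ ψ) (h6 hψ) ?_
    have h9 := factorization_degree hM hB hD (h6 hψ)
    have h10 := H6.ito ψ.2 (A := D.map π)
      (fun a ha b hb => Subgroup.mem_centralizer_iff.1 (hab hb) a ha) (irr_apply_one ψ)
    rw [Subgroup.index_map_eq _ hπ hkD] at h10
    have h11 := (Nat.factorization_le_iff_dvd (charDegree_ne_zero ψ)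
      Subgroup.FiniteIndex.index_ne_zero).2 h10 p
    have h12 : charDegree (infl π hπ ψ).1 = charDegree ψ.1 := charDegree_eq (by
      rw [infl_apply, map_one, irr_apply_one])
    rw [h12] at h9
    omega) m' hab
  have h9 : ∀ t ∈ stab e, π t ∈ 𝐂 (D.map π) := fun t ht => by
    refine h8 ⟨⟨trivial, mem_normalizer_of_normal _ _⟩, ?_⟩
    have h10 : ca (π t) (emb π e) = emb π e := by rw [← emb_ca, ht]
    have h11 := hf.ca_of_mem (mem_normalizer_of_normal _ (π t)) (mem_normalizer_of_normal _ _)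
    exact h11.eq_of_mul_eq (isCommSub_ZA le_rfl) hf h1.ne (by
      rw [← h10, ← map_mul, h3 f hf h2]) (h3 f hf h2)
  have h10 := m.not_dvd_relIndex
  rw [top_inf_eq, Subgroup.normalizer_eq_top, top_inf_eq, sup_comm] at h10
  rw [sup_comm]
  exact (sup_eq_of_not_dvd (mem_Fix_iff_le_stab.1 he.mem.2) (le_top.trans (top_le_norm _))
    (mem_Fix_iff_le_stab.1 m.bp.fix_self) h10 fun t ht => hpel t (h9 t ht)).ge

end H7
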