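import Cfsg.Agent.H20.CF7
import Cfsg.Agent.H10.Syl
import Cfsg.Prelude.Def_Blocks

/-! Groups with average character degree at most two: counting lemmas. -/

set_option autoImplicit false
set_option linter.unusedSectionVars false

namespace H7.AD
open Cfsg Subgroup H19 H20
open scoped Classical commutatorElement

variable {G : Type*} [Group G] [Finite G] {H M N U V W : Subgroup G} {χ ψ l : G → ℂ}

/-- irreducible characters of `H / M` -/
noncomputable def IM (H M : Subgroup G) : Finset (G → ℂ) := (Irr H).filter fun χ => M ≤ cker χ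
/-- linear characters of `H / M` -/
noncomputable def LM (H M : Subgroup G) : Finset (G → ℂ) := (IM H M).filter fun χ => deg χ = 1
/-- the excess of the degrees over two -/
noncomputable def bb (H M : Subgroup G) : ℕ := ∑ χ ∈ IM H M, (deg χ - 2)
/-- the number of linear characters -/
noncomputable def aa (H M : Subgroup G) : ℕ := (⁅H, H⁆ ⊔ M).relIndex H

theorem mem_IM : χ ∈ IM H M ↔ χ ∈ Irr H ∧ M ≤ cker χ := Finset.mem_filter
theorem IM_bot (H : Subgroup G) : IM H ⊥ = Irr H := Finset.filter_true_of_mem fun _ _ => bot_le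
theorem mem_LM : χ ∈ LM H M ↔ Lin H χ ∧ M ≤ cker χ := by
  rw [LM, Finset.mem_filter, mem_IM]
  exact ⟨fun h => ⟨lin_of_deg (irr_chr h.1.1) h.2, h.1.2⟩, fun h => ⟨⟨h.1.irr, h.2⟩, h.1.deg⟩⟩
theorem aa_pos (H M : Subgroup G) : 0 < aa H M := relIndex_pos _ _

theorem card_LM (hM : M ⊴ H) : (LM H M).card = aa H M := by
  rw [aa, ← sum_irr_ker_deg ((der_normal H).sup hM), Finset.card_eq_sum_ones]
  refine Finset.sum_congr ?_ fun χ h => ?_
  · ext χ
    rw [mem_LM, Finset.mem_filter, sup_le_iff]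
    exact ⟨fun h => ⟨h.1.irr, h.1.der_le, h.2⟩, fun h => ⟨(irr_lin_iff h.1).2 h.2.1, h.2.2⟩⟩
  · rw [Finset.mem_filter, sup_le_iff] at h
    rw [((irr_lin_iff h.1).2 h.2.1).deg]; rfl

theorem lin_cancel {a b : G → ℂ} (hl : Lin H l) (ha : a ∈ Irr H) (hb : b ∈ Irr H) (e : l * a = l * b) :
    a = b := CF_ext (irr_cf ha) (irr_cf hb) fun x hx =>
  mul_left_cancel₀ (hl.ne_zero hx) (congrFun e x)

theorem deg_lin_mul (hl : Lin H l) (ψ : G → ℂ) : deg (l * ψ) = deg ψ :=
  deg_congr (by rw [Pi.mul_apply, hl.one, one_mul])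

theorem lemQ (hN : N ⊴ H) {R : Finset (G → ℂ)} (h1 : R ⊆ Irr H)
    (hR : ∀ l ψ, Lin H l → ψ ∈ IM H N → l * ψ ∉ R) :
    aa H ⊥ * bb H N + aa H N * ∑ χ ∈ R, (deg χ - 2) ≤ aa H N * bb H ⊥ := by
  have m : ∀ p ∈ LM H ⊥ ×ˢ IM H N, p.1 * p.2 ∈ Irr H \ R := fun p hp => by
    rw [Finset.mem_product, mem_LM] at hp
    exact Finset.mem_sdiff.2 ⟨irr_mul_lin (mem_IM.1 hp.2).1 hp.1.1, hR _ _ hp.1.1 hp.2⟩
  have e := Finset.sum_fiberwise_of_maps_to m fun p => deg p.2 - 2
  rw [Finset.sum_product' (f := fun _ ψ => deg ψ - 2), Finset.sum_const, card_LM (NormalIn.bot H), smul_eq_mul] at e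
  rw [bb, ← e, bb, IM_bot, ← Finset.sum_sdiff h1, mul_add, Finset.mul_sum (Irr H \ R)]
  refine Nat.add_le_add_right (Finset.sum_le_sum fun χ _ => ?_) _
  rw [Finset.sum_congr rfl (g := fun _ => deg χ - 2) fun p hp => by
    rw [Finset.mem_filter, Finset.mem_product, mem_LM] at hp
    rw [← hp.2, deg_lin_mul hp.1.1.1], Finset.sum_const, smul_eq_mul]
  refine Nat.mul_le_mul_right _ ?_
  rcases Finset.eq_empty_or_nonempty ((LM H ⊥ ×ˢ IM H N).filter fun p => p.1 * p.2 = χ) with c | ⟨q, hq⟩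
  · rw [c]; exact Nat.zero_le _
  rw [← card_LM hN]
  simp only [Finset.mem_filter, Finset.mem_product, mem_LM, mem_IM] at hq
  obtain ⟨⟨⟨q1, -⟩, q2, q3⟩, q4⟩ := hq
  refine Finset.card_le_card_of_injOn (fun p => star q.1 * p.1) (fun p hp => ?_) fun p hp r hr e => ?_
  · simp only [Finset.coe_filter, Finset.mem_product, mem_LM, mem_IM, Set.mem_ofPred_eq] at hp
    obtain ⟨⟨⟨p1, -⟩, p2, p3⟩, p4⟩ := hp
    refine Finset.mem_coe.2 (mem_LM.2 ⟨q1.star.mul p1, fun x hx => ((q1.star.mul p1).mem_cker (hN.le hx)).2 ?_⟩)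
    have a := congrFun (p4.trans q4.symm) x
    have b := congrFun (p4.trans q4.symm) 1
    simp only [Pi.mul_apply, p1.one, q1.one, one_mul, cker_apply (p3 hx), cker_apply (q3 hx)] at a b
    rw [b, mul_left_inj' (irr_one_ne q2)] at a
    rw [Pi.mul_apply, a, mul_comm]; exact q1.mul_conj (hN.le hx)
  · simp only [Finset.coe_filter, Finset.mem_product, mem_LM, mem_IM, Set.mem_ofPred_eq] at hp hr
    have a := lin_cancel q1.star hp.1.1.1.irr hr.1.1.1.irr e
    exact Prod.ext a (lin_cancel hp.1.1.1 hp.1.2.1 hr.1.2.1 (by rw [hp.2, a, hr.2]))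

theorem ac_quot (hN : N ⊴ H) (h : bb H ⊥ ≤ aa H ⊥) : bb H N ≤ aa H N := by
  have := lemQ hN (Finset.empty_subset _) fun _ _ _ _ => Finset.notMem_empty _
  have a := aa_pos H ⊥
  rw [Finset.sum_empty, mul_zero, add_zero] at this
  exact Nat.le_of_mul_le_mul_left (this.trans (by rw [mul_comm (aa H ⊥)]; exact Nat.mul_le_mul_left _ h)) a

section
variable {Q : Type*} [Group Q] [Finite Q] {f : G →* Q} (hf : Function.Surjective f) (B : Subgroup Q)
include hf

theorem der_comap : ⁅B.comap f, B.comap f⁆ ⊔ f.ker = ⁅B, B⁆.comap f := by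
  rw [← comap_map_eq, map_commutator, map_comap_eq_self_of_surjective hf]

theorem aa_comap : aa (B.comap f) f.ker = aa B ⊥ := by
  rw [aa, aa, der_comap hf, sup_bot_eq, relIndex_comap, map_comap_eq_self_of_surjective hf]

theorem bb_comap : bb B ⊥ ≤ bb (B.comap f) f.ker := by
  have s := f.subgroupComap_surjective_of_surjective B hf
  rw [bb, bb, IM_bot]
  refine le_of_eq_of_le (Eq.trans (Finset.sum_congr rfl fun χ _ => ?_) (Finset.sum_image
    (g := fun χ => pull (f.subgroupComap B) (rs B χ)) (fun a ha b hb e => ?_)).symm)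
    (Finset.sum_le_sum_of_subset fun χ h => ?_)
  · rw [deg, deg, pull_one]; rfl
  · refine CF_ext (irr_cf ha) (irr_cf hb) fun x hx => ?_
    obtain ⟨y, hy⟩ := s ⟨x, hx⟩
    have := congrFun e y
    simp only [pull_of_mem _ _ y.2, Subtype.coe_eta, hy] at this
    exact this
  · obtain ⟨a, ha, rfl⟩ := Finset.mem_image.1 h
    refine mem_IM.2 ⟨irr_pull _ s (irr_rs ha), fun x hx => ker_le_cker_pull _ _ ?_⟩
    have : x ∈ B.comap f := by rw [mem_comap, MonoidHom.mem_ker.1 hx]; exact B.one_mem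
    exact ⟨⟨x, this⟩, Subtype.ext hx, rfl⟩
end

variable (G) in
/-- all proper subgroups have average degree at most two -/
def PP : Prop := ∀ H : Subgroup G, H ≠ ⊤ → bb H ⊥ ≤ aa H ⊥

theorem PP.map {Q : Type*} [Group Q] [Finite Q] (h : PP G) (f : G →* Q) (hf : Function.Surjective f) :
    PP Q := fun B hB => by
  rw [← aa_comap hf]
  refine (bb_comap hf B).trans (ac_quot ⟨fun x hx => ?_, ?_⟩ (h _ fun e => hB ?_))
  · rw [mem_comap, MonoidHom.mem_ker.1 hx]; exact B.one_mem
  · rw [normalizer_eq_top]; exact le_top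
  · exact comap_injective hf (by rw [e, comap_top])

theorem ac_of (h : ∑ χ ∈ Irr H, deg χ ≤ 2 * (Irr H).card) : bb H ⊥ ≤ aa H ⊥ := by
  have : ∑ χ ∈ Irr H, deg χ + (LM H ⊥).card = bb H ⊥ + 2 * (Irr H).card := by
    rw [bb, LM, IM_bot, Finset.card_filter, Finset.card_eq_sum_ones, Finset.mul_sum,
      ← Finset.sum_add_distrib, ← Finset.sum_add_distrib]
    refine Finset.sum_congr rfl fun χ h => ?_
    have := irr_deg_pos h
    split_ifs <;> omega
  rw [← card_LM (NormalIn.bot H)]; omega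

theorem pp_of (h : ∀ H : Subgroup G, H ≠ ⊤ → (∑ᶠ χ : IrrCharacter H, charDegree (χ : H → ℂ)) ≤
    2 * Nat.card (IrrCharacter H)) : PP G := fun H hH => ac_of <| by
  have := h H hH
  rw [finsum_eq_sum_of_fintype] at this
  rw [card_Irr, sum_Irr]
  refine le_of_eq_of_le (Finset.sum_congr rfl fun θ _ => ?_) this
  rw [deg, charDegree, ← H.coe_one, extendByZero, Subtype.val_injective.extend_apply]

theorem der_le_two (h : N.relIndex H = 2) : ⁅H, H⁆ ≤ N := commutator_le.2 fun a ha b hb => by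
  have := fun x y => mul_mem_iff_of_index_two (a := x) (b := y) h
  have k : (⟨a, ha⟩ * ⟨b, hb⟩ * (⟨a, ha⟩⁻¹ * ⟨b, hb⟩⁻¹) : H) ∈ N.subgroupOf H := by
    rw [this, this, this, inv_mem_iff, inv_mem_iff]
  rw [commutatorElement_def, mul_assoc]; exact k

/-- a perfect group has average degree more than two -/
theorem eq_bot_of_perfect (hp : ⁅H, H⁆ = H) (h : bb H ⊥ ≤ aa H ⊥) : H = ⊥ := by
  have a : aa H ⊥ = 1 := by rw [aa, sup_bot_eq, hp, relIndex_self]
  have l := card_LM (NormalIn.bot H)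
  have d := sum_irr_deg_sq H
  rw [a, bb, IM_bot] at h
  rw [a, LM, IM_bot, Finset.card_filter] at l
  have k : ∀ χ ∈ Irr H, deg χ ^ 2 = (if deg χ = 1 then 1 else 0) + 4 * (if deg χ = 2 then 1 else 0) +
      9 * (deg χ - 2) := fun χ hχ => by
    have := irr_deg_pos hχ
    have := (Finset.single_le_sum (f := fun χ => deg χ - 2) (fun _ _ => Nat.zero_le _) hχ).trans h
    have : deg χ = 1 ∨ deg χ = 2 ∨ deg χ = 3 := by omega
    rcases this with e | e | e <;> simp [e]
  rw [Finset.sum_congr rfl k, Finset.sum_add_distrib, Finset.sum_add_distrib, l, ← Finset.mul_sum,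
    ← Finset.mul_sum, ← Finset.card_filter] at d
  by_cases c : ∑ χ ∈ Irr H, (deg χ - 2) = 0
  · rcases Finset.eq_empty_or_nonempty ((Irr H).filter fun χ => deg χ = 2) with e | ⟨χ, e⟩
    · rw [e, c] at d; exact card_eq_one.1 d.symm
    · rw [Finset.mem_filter] at e
      have := e.2 ▸ irr_deg_dvd e.1
      omega
  have : Fact (Nat.Prime 2) := ⟨Nat.prime_two⟩
  obtain ⟨P⟩ : Nonempty (Sylow 2 H) := inferInstance
  have cP : (Nat.card P).Prime := by
    obtain ⟨n, hn⟩ := IsPGroup.iff_card.1 P.isPGroup'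
    have a1 := hn ▸ P.dvd_card_of_dvd_card (show 2 ∣ #H by omega)
    have a2 := hn ▸ card_subgroup_dvd_card (P : Subgroup H)
    rcases n with _ | _ | n
    · simp at a1
    · rw [hn]; exact Nat.prime_two
    · have := (Dvd.intro_left (2 ^ n) (show 2 ^ n * 4 = 2 ^ (n + 1 + 1) by ring)).trans a2
      omega
  obtain ⟨K, hK⟩ := H10.exists_index_two_of_cyclic (even_iff_two_dvd.2 (by omega)) P (cyclic_of_prime cP)
  have : (K.map H.subtype).relIndex H = 2 := by rw [relIndex, subgroupOf, comap_map_eq_self_of_injective H.subtype_injective, hK]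
  have b := der_le_two this
  rw [hp, ← relIndex_eq_one, this] at b
  omega

end H7.AD
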