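import Cfsg.Agent.H7.AD1

/-! Groups with average character degree at most two: Frobenius sections, modules. -/

set_option autoImplicit false
set_option linter.unusedSectionVars false

namespace H7.AD
open Cfsg Subgroup H19 H20
open scoped Classical commutatorElement

variable {G : Type*} [Group G] [Finite G] {H M N U V W Q Z : Subgroup G} {χ ψ l : G → ℂ}

theorem le_bb {R : Finset (G → ℂ)} (h : R ⊆ Irr H) : ∑ χ ∈ R, (deg χ - 2) ≤ bb H ⊥ := by
  rw [bb, IM_bot]; exact Finset.sum_le_sum_of_subset h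

section
variable (hU : U ⊴ H) (ab : Ab U) (hc : ∀ k ∈ U, k ≠ 1 → H ⊓ C[k] ≤ U)
include hU ab hc

theorem frob_bb : (#U - 1) * (U.relIndex H - 2) ≤ U.relIndex H * bb H ⊥ := by
  have d := (comm_iff_der.1 ab).le
  have i := sind_irr_of_cent (M := ⊥) hU hc le_rfl
  have c := card_SInd_lin hU hU.norm le_rfl (NormalIn.bot H).norm bot_le d i
  rw [sup_bot_eq, relIndex_self, relIndex_bot_left] at c
  have := le_bb i
  rw [Finset.sum_congr rfl fun χ h => by rw [sind_lin_deg hU.le d h], Finset.sum_const, smul_eq_mul] at this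
  rw [← c, Nat.add_sub_cancel, mul_right_comm, mul_comm]
  exact Nat.mul_le_mul_left _ this

theorem frob_der (ne : U.relIndex H ≠ 1) : U ≤ ⁅H, H⁆ := fun x hx =>
  mem_of_forall_cker (der_normal H) (hU.le hx) fun θ h1 h2 => by
    by_contra k
    exact ne ((sind_lin_deg hU.le (comm_iff_der.1 ab).le (irr_mem_SInd hU.le hU.norm le_rfl bot_le
      (sind_irr_of_cent hU hc le_rfl) h1 bot_le fun e => k (e hx))).symm.trans ((irr_lin_iff h1).2 h2).deg)

theorem frob_aa (ne : U.relIndex H ≠ 1) : aa H ⊥ ≤ U.relIndex H :=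
  relIndex_le_of_le_left ((frob_der hU ab hc ne).trans le_sup_left) (relIndex_ne_zero' _ _)

theorem frob_ac (h : bb H ⊥ ≤ aa H ⊥) : (#U - 1) * (U.relIndex H - 2) ≤ U.relIndex H ^ 2 := by
  by_cases c : U.relIndex H = 1
  · simp [c]
  exact (frob_bb hU ab hc).trans (sq (U.relIndex H) ▸ Nat.mul_le_mul_left _ (h.trans (frob_aa hU ab hc c)))

theorem frob_two (ne : U.relIndex H ≠ 1) (ho : Odd (U.relIndex H)) {X : Subgroup G} (hX : X ≤ H) :
    X.relIndex H ≠ 2 := fun e => by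
  have := relIndex_dvd_of_le_left H ((frob_der hU ab hc ne).trans (der_le_two e))
  rw [e] at this
  exact Nat.not_even_iff_odd.2 ho (even_iff_two_dvd.2 this)
end

theorem relIndex_sup_zpowers {y : G} {p : ℕ} (hp : p.Prime) (hn : y ∈ N(U)) (h1 : y ∉ U) (h2 : y ^ p ∈ U) :
    U.relIndex (U ⊔ zpowers y) = p := by
  have n := zpowers_le.2 hn
  rw [relIndex_sup_of_norm n]
  have : (U.subgroupOf (zpowers y)).Normal := inferInstance
  have k : orderOf ((⟨y, mem_zpowers y⟩ : zpowers y) : zpowers y ⧸ U.subgroupOf (zpowers y)) = p := by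
    have : Fact p.Prime := ⟨hp⟩
    refine orderOf_eq_prime ?_ (mt (QuotientGroup.eq_one_iff _).1 h1)
    rw [← QuotientGroup.mk_pow, QuotientGroup.eq_one_iff]; exact h2
  rw [relIndex, index, ← k]
  refine (orderOf_eq_card_of_forall_mem_zpowers fun q => ?_).symm
  obtain ⟨⟨_, i, rfl⟩, rfl⟩ := QuotientGroup.mk_surjective q
  exact ⟨i, rfl⟩

/-- a non-abelian subgroup of order `p r` -/
theorem PP.pr (h : PP G) (hs : ¬ Group.IsSolvable G) {x y : G} {p r k : ℕ} (hp : p.Prime) (hr : r.Prime)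
    (hx : x ^ p = 1) (hy : y ^ r = 1) (e : y * x * y⁻¹ = x ^ k) (n : y * x ≠ x * y) :
    (p - 1) * (r - 2) ≤ r ^ 2 := by
  have : Fact p.Prime := ⟨hp⟩
  have c : #(zpowers x) = p := by
    rw [Nat.card_zpowers]; exact orderOf_eq_prime hx (by rintro rfl; simp at n)
  have yn : y ∈ N(zpowers x) := mem_norm_of_cj_le (by rw [cj_zpowers, e]; exact zpowers_le.2 (pow_mem (mem_zpowers x) k))
  have yc : y ∉ C(zpowers x) := by rw [cent_zpowers, mem_cent1]; exact n
  have ab := comm_zpowers x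
  have i := relIndex_sup_zpowers hr yn (fun e => yc (comm_iff_le_cent.1 ab e)) (hy ▸ one_mem _)
  have hU : zpowers x ⊴ zpowers x ⊔ zpowers y := ⟨le_sup_left, sup_le le_normalizer (zpowers_le.2 yn)⟩
  rw [← c, ← i]
  refine frob_ac hU ab (fun u hu u1 => ?_) (h _ fun e => hs ?_)
  · rw [← cent_eq_cent1_of_prime (c ▸ hp) hu u1]
    refine ((eq_of_prime_index (le_inf le_sup_left (comm_iff_le_cent.1 ab)) inf_le_left (i ▸ hr)).resolve_right
      fun e => yc ?_).le
    exact (e.ge (mem_sup_right (mem_zpowers y))).2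
  · have : Sol (zpowers x ⊔ zpowers y : Subgroup G) := sol_sup (sol_of_ab ab) (sol_of_ab (comm_zpowers y)) (zpowers_le.2 yn)
    rw [e] at this
    exact Group.isSolvable_of_surjective (f := (⊤ : Subgroup G).subtype) fun x => ⟨⟨x, trivial⟩, rfl⟩

theorem comm_le_cker {μ : G → ℂ} (hV : H ≤ N(V)) (hμ : Lin V μ) (h : CInv H μ) : ⁅V, H⁆ ≤ cker μ := by
  refine commutator_le.2 fun v hv g hg => ?_
  have k := conj_mem_of_norm (hV hg) (inv_mem hv)
  rw [show ⁅v, g⁆ = v * (g * v⁻¹ * g⁻¹) by simp [commutatorElement_def, mul_assoc],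
    hμ.mem_cker (mul_mem hv k), hμ.map_mul hv k, h.conj hg, hμ.mul_inv hv]

/-- characters above non-invariant characters of an abelian normal subgroup -/
theorem rest_le (hV : V ⊴ H) (ab : Ab V) (hN : N ≤ H) (hc : N ≤ C(V))
    (h2 : ∀ X ≤ H, N ≤ X → X.relIndex H ≠ 2) :
    #V ≤ 3 * ∑ χ ∈ IrrK H ⁅V, H⁆ ⊥, (deg χ - 2) + ⁅V, H⁆.relIndex V := by
  have w := commg_le_left hV.norm
  have c := card_IrrK (normal_of_ab ab w) (NormalIn.bot V) (comm_iff_der.1 ab).le
  rw [sup_bot_eq, relIndex_bot_left] at c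
  rw [← c, Finset.mul_sum]
  refine Nat.add_le_add_right ((Finset.card_le_card (t := (IrrK H ⁅V, H⁆ ⊥).biUnion fun χ =>
    (Irr V).filter fun μ => dot V χ μ ≠ 0) fun μ hμ => ?_).trans
    (Finset.card_biUnion_le.trans (Finset.sum_le_sum fun χ hχ => ?_))) _
  · obtain ⟨m1, -, m2⟩ := mem_IrrK.1 hμ
    obtain ⟨χ, a, b⟩ := irr_exists_above m1 hV.le
    exact Finset.mem_biUnion.2 ⟨χ, mem_IrrK.2 ⟨a, bot_le, fun k =>
      m2 (le_cker_of_below (irr_chr a) hV.le m1 b w k)⟩, Finset.mem_filter.2 ⟨m1, b⟩⟩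
  obtain ⟨a, -, b⟩ := mem_IrrK.1 hχ
  obtain ⟨μ, m1, m2⟩ := irr_exists_below a hV.le
  have d := Nat.le_of_dvd (irr_deg_pos a) ((Dvd.intro _ rfl).trans (clifford_dvd hV a m1 m2))
  have o := Finset.card_le_card (s := (Irr V).filter fun μ => dot V χ μ ≠ 0) (t := orb H μ) fun ν hν =>
    clifford_conj hV a m1 (Finset.mem_filter.1 hν).1 m2 (Finset.mem_filter.1 hν).2
  rw [card_orb] at o
  have o1 : (inertia H μ).relIndex H ≠ 1 := fun e => b (le_cker_of_above a hV.le (irr_chr m1) m2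
    (commg_normr V H) w (comm_le_cker hV.norm (irr_lin_of_ab m1 ab) (le_inertia_iff.1 (relIndex_eq_one.1 e)).2))
  have o2 := h2 _ (inertia_le H μ) (le_inertia_iff.2 ⟨hN, fun g hg x => by
    by_cases k : x ∈ V
    · rw [← mem_cent.1 (hc hg) x k, mul_inv_cancel_right]
    · rw [irr_zero m1 k, irr_zero m1 (mt (conj_mem_iff_of_norm (hV.norm (hN hg))).1 k)]⟩)
  have := relIndex_pos (inertia H μ) H
  omega

theorem card_comm_le (hV : V ⊴ H) (hN : N ⊴ H) (hVN : V ≤ N) (hc : N ≤ C(V))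
    (h2 : ∀ X ≤ H, N ≤ X → X.relIndex H ≠ 2) (ha : aa H N ≤ bb H N + 2) (hk : N ≤ ⁅H, H⁆ ⊔ V)
    (h : bb H ⊥ ≤ aa H ⊥) : #⁅V, H⁆ ≤ 7 := by
  have ab : Ab V := comm_iff_le_cent.2 (hVN.trans hc)
  have w := commg_le_left hV.norm
  have w' : ⁅V, H⁆ ≤ ⁅H, H⁆ := commutator_mono hV.le le_rfl
  have r := rest_le hV ab hN.le hc h2
  have q := lemQ hN (R := IrrK H ⁅V, H⁆ ⊥) (fun _ => irrK_irr) fun l ψ a b c => (mem_IrrK.1 c).2.2
    ((le_inf (w'.trans a.der_le) ((w.trans hVN).trans (mem_IM.1 b).2)).trans (inf_cker_le_mul _ _))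
  have e : aa H ⊥ = ⁅H, H⁆.relIndex V * aa H N := by
    rw [aa, aa, sup_bot_eq, ← relIndex_sup_of_norm (hV.le.trans (der_normal H).norm),
      le_antisymm (sup_le_sup_left hVN _) (sup_le le_sup_left hk),
      relIndex_mul_relIndex _ _ _ le_sup_left (sup_le (der_le H) hN.le)]
  have t := relIndex_le_of_le_left w' (relIndex_ne_zero' ⁅V, H⁆ V)
  have c := card_mul_relIndex w
  have p := relIndex_pos ⁅V, H⁆ V
  have p' := aa_pos H N
  generalize ∑ χ ∈ IrrK H ⁅V, H⁆ ⊥, (deg χ - 2) = s at *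
  have : aa H N * s ≤ aa H N * (2 * ⁅H, H⁆.relIndex V) := by nlinarith
  have := Nat.le_of_mul_le_mul_left this p'
  exact Nat.le_of_mul_le_mul_right (by omega) p

/-- the binary octahedral group -/
theorem oct (hQ : Q ⊴ H) (hZ : Z ⊴ H) (z1 : Z ≠ ⊥) (d : ⁅Q, Q⁆ = Z)
    (i1 : Z.relIndex Q = 4) (i2 : Q.relIndex H = 6) {y : G} (hy : y ∈ ⁅H, H⁆)
    (hf : Q ≤ ⁅Q, zpowers y⁆) : 3 ≤ bb H ⊥ := by
  have zq : Z ≤ Q := d ▸ der_le Q
  have yH := der_le H hy
  have s := sum_IrrK_deg hQ hZ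
  rw [sup_of_le_left zq, ← relIndex_mul_relIndex Z Q H zq hQ.le, i1, i2] at s
  have a : ∑ χ ∈ IrrK H Q Z, deg χ ^ 2 ≤ ∑ χ ∈ IrrK H Q Z, 9 * (deg χ - 2) := Finset.sum_le_sum fun χ hχ => by
    have b := Finset.single_le_sum (f := fun χ => deg χ ^ 2) (fun _ _ => Nat.zero_le _) hχ
    obtain ⟨c1, c2, c3⟩ := mem_IrrK.1 hχ
    obtain ⟨μ, m1, m2⟩ := irr_exists_below c1 hQ.le
    have e := Nat.le_of_dvd (irr_deg_pos c1) ((Dvd.intro _ rfl).trans (clifford_dvd hQ c1 m1 m2))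
    have n : y ∉ inertia H μ := fun k => c3 (le_cker_of_above c1 hQ.le (irr_chr m1) m2 hQ.norm le_rfl
      (hf.trans (comm_le_cker ((zpowers_le.2 yH).trans hQ.norm) ((irr_lin_iff m1).2
        (d ▸ le_cker_of_below (irr_chr c1) hQ.le m1 m2 zq c2)) ((cinv_inertia H μ).mono (zpowers_le.2 k)))))
    have o1 : (inertia H μ).relIndex H ≠ 1 := fun e => n (relIndex_eq_one.1 e yH)
    have o2 : (inertia H μ).relIndex H ≠ 2 := fun e => n (der_le_two e hy)
    have := relIndex_pos (inertia H μ) H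
    have : deg χ ≤ 4 := by by_contra k; nlinarith
    have : deg χ = 3 ∨ deg χ = 4 := by omega
    rcases this with e | e <;> simp [e]
  obtain ⟨ψ, p1, p2, p3⟩ : ∃ ψ ∈ Irr H, ¬ Z ≤ cker ψ ∧ 3 ≤ deg ψ := by
    obtain ⟨χ, c⟩ := IrrK_nonempty hZ (NormalIn.bot H) (mt le_bot_iff.1 z1)
    obtain ⟨c1, -, c2⟩ := mem_IrrK.1 c
    by_cases k : 3 ≤ deg χ
    · exact ⟨χ, c1, c2, k⟩
    obtain ⟨θ, t1, t2⟩ := irr_exists_below c1 hQ.le
    have t3 : deg θ ≠ 1 := fun e => c2 (le_cker_of_above c1 hQ.le (irr_chr t1) t2 hZ.norm zq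
      (d ▸ (lin_of_deg (irr_chr t1) e).der_le))
    have := irr_deg_pos t1
    have r : Res Q χ = θ := eq_irr_of_deg_le (chr_Res (irr_chr c1) hQ.le) t1 (by simpa using t2)
      (by rw [deg_Res]; omega)
    obtain ⟨β, b⟩ := IrrK_nonempty (der_normal H) hQ fun e => by
      have := relIndex_eq_one.2 (hf.trans ((commutator_mono le_rfl (zpowers_le.2 (e hy))).trans d.le))
      omega
    obtain ⟨b1, b2, b3⟩ := mem_IrrK.1 b
    have b4 : deg β ≠ 1 := fun e => b3 (lin_of_deg (irr_chr b1) e).der_le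
    have := irr_deg_pos b1
    refine ⟨β * χ, gallagher_irr hQ (irr_chr c1) (r ▸ t1) b1 b2, fun e => c2 fun z hz =>
      (chr_mem_cker (irr_chr c1) (hZ.le hz)).2 ?_, ?_⟩
    · have := cker_apply (e hz)
      rwa [Pi.mul_apply, Pi.mul_apply, cker_apply (b2 (zq hz)), mul_right_inj' (irr_one_ne b1)] at this
    · rw [deg_eq_of_cast (n := deg β * deg θ) (by
        rw [Pi.mul_apply, irr_deg b1, Nat.cast_mul, ← irr_deg t1, ← r, Res_one])]
      nlinarith [show 2 ≤ deg β by omega, show 2 ≤ deg θ by omega]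
  have := le_bb (H := H) (R := insert ψ (IrrK H Q Z)) (Finset.insert_subset p1 fun _ => irrK_irr)
  rw [Finset.sum_insert fun e => p2 (mem_IrrK.1 e).2.1] at this
  rw [← Finset.mul_sum] at a
  omega

theorem ker_conjNormal (V : Subgroup G) [V.Normal] : (MulAut.conjNormal : G →* MulAut V).ker = C(V) := by
  ext g
  rw [MonoidHom.mem_ker, mem_cent, MulEquiv.ext_iff, Subtype.forall]
  refine forall₂_congr fun v hv => ?_
  rw [Subtype.ext_iff, MulAut.conjNormal_apply, mul_inv_eq_iff_eq_mul, eq_comm]; rfl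

theorem small_cent [V.Normal] (hp : commutator G = ⊤) (h : (#V).Prime ∨ #V = 4 ∧ 24 < C(V).index) :
    C(V) = ⊤ := by
  rw [← ker_conjNormal] at h ⊢
  rcases h with h | ⟨h, k⟩
  · have := cyclic_of_prime h
    let _ := (this.mulAutMulEquiv _).toMonoidHom.commGroupOfInjective (this.mulAutMulEquiv _).injective
    exact top_le_iff.1 (hp.ge.trans (Abelianization.commutator_subset_ker _))
  · have := Nat.card_le_card_of_injective (fun x : (MulAut.conjNormal : G →* MulAut V).range => x.1.toEquiv)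
      (MulEquiv.toEquiv_injective.comp Subtype.val_injective)
    rw [← index_ker, show Nat.card (V ≃ V) = _ from Nat.card_perm, h] at this
    exact absurd (k.trans_le this) (by decide)

theorem sq_cent {E : Subgroup G} (hn : E ≤ N(V)) (h : #⁅V, E⁆ ≤ 2) {e : G} (he : e ∈ E) : e * e ∈ C(V) := by
  have u : ∀ a ∈ ⁅V, E⁆, ∀ b ∈ ⁅V, E⁆, a ≠ 1 → b ≠ 1 → a = b := fun a ha b hb a1 b1 => by
    by_contra k
    let _ := Fintype.ofFinite ↥⁅V, E⁆
    have := Fintype.two_lt_card_iff.2 ⟨(1 : ↥⁅V, E⁆), ⟨a, ha⟩, ⟨b, hb⟩, mt (congrArg Subtype.val) a1.symm,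
      mt (congrArg Subtype.val) b1.symm, mt (congrArg Subtype.val) k⟩
    rw [Nat.card_eq_fintype_card] at h
    omega
  refine mem_cent.2 fun v hv => ?_
  have c : e * v * e⁻¹ * v⁻¹ ∈ ⁅V, E⁆ := by rw [commutator_comm]; exact commutator_mem_commutator he hv
  by_cases k : e * v * e⁻¹ * v⁻¹ = 1
  · rw [mul_inv_eq_one, mul_inv_eq_iff_eq_mul] at k
    rw [← mul_assoc, ← k, mul_assoc, ← k, mul_assoc]
  have := u _ (conj_mem_of_norm (commg_normr V E he) c) _ (inv_mem c) (mt conj_eq_one_iff'.1 k) (mt inv_eq_one.1 k)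
  calc v * (e * e) = (e * v * e⁻¹ * v⁻¹)⁻¹ * (e * v * e) := by group
    _ = _ := by rw [← this]; group

section
universe u
variable {S : Type*} [Group S] [Finite S] [IsSimpleGroup S] {B D : Subgroup S} {w : S}

/-- a Borel-like subgroup -/
structure Good (B D : Subgroup S) (w : S) : Prop where
  ne : B ≠ ⊤
  le : D ≤ B
  nb : D ≠ ⊥
  odd : Odd #D
  wn : w ∈ N(D)
  gen : B ⊔ zpowers w = ⊤
  two : ∀ X ≤ B, X.relIndex B ≠ 2
  ac : aa B ⊥ ≤ bb B ⊥ + 2
  big : 24 < Nat.card S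

theorem Good.nonc (h : Good B D w) {f : G →* S} (hf : Function.Surjective f) (hP : PP G)
    (hp : commutator G = ⊤) [V.Normal] (hm : ∀ X, X ⊴ ⊤ → X ≤ V → X = ⊥ ∨ X = V) (h1 : V ≤ f.ker)
    (h2 : f.ker ≤ C(V)) (hk : f.ker ≤ ⁅B.comap f, B.comap f⁆ ⊔ V) : C(V) = ⊤ := by
  have n : ∀ X : Subgroup G, X ≤ N(V) := fun _ => le_top.trans (normalIn_top (H := V)).norm
  have kl : ∀ X : Subgroup S, f.ker ≤ X.comap f := fun X => ker_le_comap f X
  have ab : Ab V := comm_iff_le_cent.2 (h1.trans h2)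
  by_contra c
  have c : C(V) = f.ker := by
    rw [← comap_map_eq_self h2] at c ⊢
    rcases (normal_centralizer.map f hf : (C(V).map f).Normal).eq_bot_or_eq_top with e | e
    · rw [e]; rfl
    · rw [e] at c; exact (c rfl).elim
  have w7 := card_comm_le ⟨h1.trans (kl B), n _⟩ ⟨kl B, le_normalizer_of_normal.trans' le_top⟩ h1 h2
    (fun X a b e => h.two (X.map f) (map_le_iff_le_comap.2 a) (by
      rwa [← comap_map_eq_self b, relIndex_comap, map_comap_eq_self_of_surjective hf] at e))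
    (by rw [aa_comap hf]; exact h.ac.trans (Nat.add_le_add_right (bb_comap hf B) 2)) hk
    (hP _ fun e => h.ne (comap_injective hf (by rw [e, comap_top])))
  have w3 : 2 < #⁅V, D.comap f⁆ := by
    by_contra k
    obtain ⟨d, d1, d2⟩ := exists_ne_one h.nb
    obtain ⟨e, rfl⟩ := hf d
    have := sq_cent (n _) (not_lt.1 k) (show e ∈ D.comap f from d1)
    rw [c, MonoidHom.mem_ker, map_mul, ← sq] at this
    exact d2 (orderOf_eq_one_iff.1 (Nat.eq_one_of_dvd_coprimes (Nat.coprime_two_left.2 h.odd)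
      (orderOf_dvd_of_pow_eq_one this) (orderOf_dvd_card' d1)))
  have n6 : ∀ X ≤ V, #X ≠ 6 := fun X hX e => by
    obtain ⟨x, x1, x2⟩ := exists_orderOf_eq_prime (H := X) Nat.prime_three (by omega)
    have := (hm _ ⟨le_top, norms_Ohm1 2 (n _)⟩ (Ohm1_le 2 V)).resolve_left
      (Ohm1_ne_bot Nat.prime_two (Dvd.dvd.trans (by omega) (card_dvd hX)))
    have := x2 ▸ orderOf_dvd_of_pow_eq_one (pow_of_mem_Ohm1 ab (this.ge (hX x1)))
    omega
  have l : ⁅V, D.comap f⁆ ≤ ⁅V, B.comap f⁆ := commutator_mono le_rfl (comap_mono h.le)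
  have lv := commg_le_left (n (B.comap f))
  have e : ⁅V, D.comap f⁆ = ⁅V, B.comap f⁆ := eq_of_le_of_card_eq l (by
    obtain ⟨k, hk⟩ := card_dvd l
    have := n6 _ lv
    have := card_pos ⁅V, B.comap f⁆
    rcases k with _ | _ | _ | k
    · omega
    · omega
    · have : #⁅V, D.comap f⁆ = 3 := by omega
      omega
    · nlinarith)
  obtain ⟨v, rfl⟩ := hf w
  have t : ⁅V, B.comap f⁆ ⊴ ⊤ := ⟨le_top, by
    have : B.comap f ⊔ zpowers v = ⊤ := by
      rw [← comap_map_eq_self ((kl B).trans (le_sup_left (b := zpowers v))), Subgroup.map_sup,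
        map_comap_eq_self_of_surjective hf, MonoidHom.map_zpowers, h.gen, comap_top]
    rw [← this]
    refine sup_le (commg_normr _ _) (e ▸ norms_comm (n _) (zpowers_le.2 ?_))
    exact le_normalizer_comap f h.wn⟩
  rw [e] at w3
  have e := (hm _ t lv).resolve_left fun e => by rw [e, card_bot] at w3; omega
  rw [e] at w3 w7
  have := n6 V le_rfl
  have b := h.big
  rw [← card_top, ← f.range_eq_top_of_surjective hf, ← index_ker, ← c] at b
  have := small_cent hp (V := V) (by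
    have : #V = 3 ∨ #V = 4 ∨ #V = 5 ∨ #V = 7 := by omega
    rcases this with e | e | e | e <;> simp [e, b] <;> norm_num)
  rw [this, index_top] at b
  omega

/-- perfect central extensions are detected on `B` -/
def Cen (B : Subgroup S) : Prop := ∀ (G : Type u) [Group G] [Finite G] (f : G →* S), Function.Surjective f →
  commutator G = ⊤ → PP G → f.ker ≤ center G → f.ker ≤ ⁅B.comap f, B.comap f⁆

theorem Good.central (h : Good B D w) (hc : Cen.{u} B) {G : Type u} [Group G] [Finite G] {f : G →* S}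
    (hf : Function.Surjective f) (hp : commutator G = ⊤) (hP : PP G) (hn : Nil f.ker) :
    f.ker ≤ center G := by
  induction hm : Nat.card G using Nat.strong_induction_on generalizing G with | _ m ih => ?_
  have q : ∀ (M : Subgroup G) [M.Normal] (a : M ≤ f.ker), Function.Surjective (QuotientGroup.lift M f a) ∧
      commutator (G ⧸ M) = ⊤ ∧ PP (G ⧸ M) := fun M _ a =>
    ⟨QuotientGroup.lift_surjective_of_surjective M f hf a, by
      rw [commutator_def, ← map_top_of_surjective _ (QuotientGroup.mk'_surjective M), ← map_commutator,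
        ← commutator_def, hp], hP.map _ (QuotientGroup.mk'_surjective M)⟩
  have k : ∀ (M : Subgroup G) [M.Normal] (a : M ≤ f.ker),
      (QuotientGroup.lift M f a).ker ≤ center _ ↔ ⁅f.ker, ⊤⁆ ≤ M := fun M _ a => by
    rw [QuotientGroup.ker_lift, ← centralizer_univ, ← coe_top, ← commutator_eq_bot_iff_le_centralizer,
      ← map_top_of_surjective _ (QuotientGroup.mk'_surjective M), ← map_commutator, Subgroup.map_eq_bot_iff,
      QuotientGroup.ker_mk']
  rw [← centralizer_univ, ← coe_top, ← commutator_eq_bot_iff_le_centralizer]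
  by_contra c
  have l : ⁅f.ker, ⊤⁆ ≤ f.ker := commutator_le_left _ _
  have mn : ∀ X : Subgroup G, X ⊴ ⊤ → X ≤ ⁅f.ker, ⊤⁆ → X = ⊥ ∨ X = ⁅f.ker, ⊤⁆ := fun X a b => or_iff_not_imp_left.2 fun e => by
    have := a.normal
    obtain ⟨q1, q2, q3⟩ := q X (b.trans l)
    refine le_antisymm b ((k X (b.trans l)).1 (ih (Nat.card (G ⧸ X)) ?_ q1 q2 q3 (by rw [QuotientGroup.ker_lift]; exact H1.isNilpotent_map hn _) rfl))
    rw [← hm, card_eq_card_quotient_mul_card_subgroup X]
    exact lt_mul_of_one_lt_right Nat.card_pos (ne_bot_iff_one_lt_card.1 e)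
  obtain ⟨q1, q2, q3⟩ := q _ l
  have a := comap_mono (f := QuotientGroup.mk' ⁅f.ker, ⊤⁆) (hc _ _ q1 q2 q3 ((k _ l).2 le_rfl))
  rw [← der_comap (QuotientGroup.mk'_surjective _), QuotientGroup.ker_mk', comap_comap, MonoidHom.comap_ker] at a
  have b := h.nonc hf hP hp mn l (cents_symm (commg_eq_bot.1 ((mn _ normalIn_top (commutator_le_left _ _)).resolve_right
    (nil_commg_lt hn l le_rfl le_normalizer_of_normal c).ne))) a
  have d : ⁅⁅f.ker, ⊤⁆, ⊤⁆ = ⊥ := commg_eq_bot.2 (cents_symm b.ge)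
  have := three_subgroup (H := ⊤) (K := ⊤) (L := f.ker) (by rwa [commutator_comm ⊤]) d
  rw [← commutator_def, hp, commutator_comm] at this
  exact c this
end

end H7.AD
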