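import Cfsg.Agent.H7.AM1
import Cfsg.Agent.H1.RC8
import Cfsg.Agent.H0.Y.J

/-! Extensions of the Baby Monster by its 4371-dimensional module (S5590): vocabulary, pieces and kit. -/

set_option autoImplicit false
set_option linter.unusedSectionVars false

namespace H7.BX
open Cfsg H15 H19 H0 H0.Mo H0.Y H1.RC H7.AM Subgroup Function Module
open H14.Mn (Mon zM)

universe u v w

section
variable {F : Type*} [Field F] {V : Type*} [AddCommGroup V] [Module F V] {Γ G : Type*} [Group Γ] [Group G]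

/-- `Γ` is an extension of `X` by the module `ρ 1 V` -/
structure Ex (φ : Γ →* G) (ι : V → Γ) (ρ : G → End F V) (X : Subgroup G) : Prop where
  rp : Rp X ρ
  add : ∀ v w, ι (v + w) = ι v * ι w
  inj : ∀ v, ι v = 1 → ρ 1 v = 0
  ker : ∀ γ, φ γ = 1 ↔ ∃ v, ι v = γ
  act : ∀ γ v, γ * ι v * γ⁻¹ = ι (ρ (φ γ) v)
  mem : ∀ γ, φ γ ∈ X
  sur : ∀ x ∈ X, ∃ γ, φ γ = x

/-- `K` is mapped isomorphically onto `H` -/
structure Lf (φ : Γ →* G) (H : Subgroup G) (K : Subgroup Γ) : Prop where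
  inj : ∀ k ∈ K, φ k = 1 → k = 1
  mem : ∀ k ∈ K, φ k ∈ H
  sur : ∀ h ∈ H, ∃ k ∈ K, φ k = h

/-- no fixed vectors -/
def Z0 (ρ : G → End F V) (H : Subgroup G) : Prop := ∀ v, (∀ h ∈ H, ρ h v = v) → v = 0

/-- cocycles -/
structure Coc (ρ : G → End F V) (H : Subgroup G) (c : G → V) : Prop where
  one : c 1 = 0
  mul : ∀ x ∈ H, ∀ y ∈ H, c (x * y) = c x + ρ x (c y)

/-- all cocycles are coboundaries -/
def H1c (ρ : G → End F V) (H : Subgroup G) : Prop := ∀ c, Coc ρ H c → ∃ v, ∀ x ∈ H, c x = ρ 1 v - ρ x v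

/-- all lifts are conjugate -/
def H1l (φ : Γ →* G) (ι : V → Γ) (H : Subgroup G) : Prop := ∀ K K', Lf φ H K → Lf φ H K' → ∃ v, cj (ι v) K = K'

/-- the representation of `C[t]` -/
structure Rb (t : Mon) (ρ : Mon → End F V) : Prop where
  r : Rr t ρ
  a2 : A2 zM t
  nz : ∀ z, IsConj zM z → t ∈ Qo z → ρ z ≠ 1
  dim : finrank F V ≤ 4371

end

/-- collinear points of the geometry of the Baby Monster -/
def Nt (t w y : Mon) : Prop := Nb w y ∧ t ∈ Qo w ∧ t ∈ Qo y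

section
variable {Γ : Type u} [Group Γ] {P : Type u} [MulAction Γ P]

structure Pt (t : Mon) (φ : Γ →* Mon) (pr : P → Mon) : Prop where
  cen : ∀ γ, φ γ ∈ C[t]
  eqv : ∀ (γ : Γ) p, pr (γ • p) = φ γ * pr p * (φ γ)⁻¹
  lift : ∀ p, ∀ g ∈ C[t] ⊓ C[pr p], ∃ γ : Γ, φ γ = g ∧ γ • p = p
  inj : ∀ (γ : Γ) (p : P), γ • p = p → φ γ = 1 → γ = 1
  onto : ∀ y, IsConj zM y → t ∈ Qo y → ∃ p, pr p = y

structure Cv (t : Mon) (φ : Γ →* Mon) (pr : P → Mon) (ad : P → P → Prop) : Prop extends Pt t φ pr where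
  smul : ∀ (γ : Γ) {p q}, ad p q → ad (γ • p) (γ • q)
  symm : ∀ {p q}, ad p q → ad q p
  nb : ∀ {p q}, ad p q → Nt t (pr p) (pr q)
  ex : ∀ p y, Nt t (pr p) y → ∃ q, ad p q ∧ pr q = y
  uniq : ∀ {p q q'}, ad p q → ad p q' → pr q = pr q' → q = q'
  tri : ∀ {p q r}, ad p q → ad p r → Nt t (pr q) (pr r) → ad q r

structure Sk (t : Mon) (φ : Γ →* Mon) (pr : P → Mon) (sp : P → P → Prop) : Prop extends Pt t φ pr where
  smul : ∀ (γ : Γ) {p q}, sp p q → sp (γ • p) (γ • q)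
  symm : ∀ {p q}, sp p q → sp q p
  ex : ∀ p y w, A2 zM (pr p * y) → Nt t w (pr p) → Nt t w y → ∃ q, sp p q ∧ pr q = y
  uniq : ∀ {p q q'}, sp p q → sp p q' → pr q = pr q' → q = q'
  tri : ∀ {p q r} (w), sp p q → sp p r → A2 zM (pr q * pr r) → Nt t w (pr p) → Nt t w (pr q) → Nt t w (pr r) → sp q r

/-- the lifted nodes of `Y₄₃₃` (and the nodes `5`, `10`) -/
structure Nd (φ : Γ →* Mon) (g : ℕ → Mon) (y : ℕ → Γ) : Prop where
  im : ∀ i < 14, i ≠ 4 → φ (y i) = g i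
  cox : ∀ i < 14, ∀ j < 14, i ≠ 4 → j ≠ 4 → (y i * y j) ^ ex i j = 1
  sp : (y 0 * y 6 * y 7 * y 0 * y 1 * y 2 * y 0 * y 11 * y 12) ^ 10 = 1
  e1 : (y 0 * y 6 * y 7 * y 1 * y 2 * y 3 * y 11) ^ 9 = y 5
  e3 : (y 0 * y 6 * y 7 * y 1 * y 11 * y 12 * y 13) ^ 9 = 1

end

/-! ### the pieces: the second Conway group -/

def EPS : Prop := ∀ (F : Type v) (V : Type w) [Field F] [NeZero (2 : F)] [AddCommGroup V] [Module F V]
  [FiniteDimensional F V] (π : Co0 → End F V) (T : GolayPt → End F V), C2 π T → ∀ g ∈ Hb,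
  (g • lU' = lU' → π g * T pa = T pa) ∧ (g • lU' = -lU' → π g * T pa = -T pa)

def HC : Prop := ∀ (F : Type v) (V : Type w) [Field F] [NeZero (2 : F)] [AddCommGroup V] [Module F V]
  [FiniteDimensional F V] (π : Co0 → End F V) (T : GolayPt → End F V), C2 π T → H1c π Hb

def HB : Prop := ∀ (Γ : Type u) (F : Type v) (V : Type w) [Group Γ] [Field F] [NeZero (2 : F)] [NeZero (3 : F)]
  [AddCommGroup V] [Module F V] [FiniteDimensional F V] (φ : Γ →* Co0) (ι : V → Γ) (π : Co0 → End F V)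
  (T : GolayPt → End F V), Ex φ ι π sCo2 → C2 π T → ∃ K, Lf φ Hb K

def CO : Prop := ∀ (Γ : Type u) (F : Type v) (V : Type w) [Group Γ] [Field F] [NeZero (2 : F)] [NeZero (3 : F)]
  [AddCommGroup V] [Module F V] [FiniteDimensional F V] (φ : Γ →* Co0) (ι : V → Γ) (π : Co0 → End F V)
  (T : GolayPt → End F V), Ex φ ι π sCo2 → C2 π T → ∃ K, Lf φ sCo2 K

/-! ### the pieces: the geometry -/

def NX : Prop := ∀ t z : Mon, A2 zM t → IsConj zM z → t ∈ Qo z → ∃ s, Nt t z s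

def SX : Prop := ∀ t z s : Mon, A2 zM t → Nt t z s → ∃ f R, St (Qo z) (Qo s) z s t f R

def TW : Prop := ∀ (t z s a : Mon) (f : C[z] →* Spor.Co1) (R : Mon → Lam → Prop), St (Qo z) (Qo s) z s t f R →
  Nt t z a → ∃ k ∈ sCo2, R a (k • lE)

def FT : Prop := ∀ (F : Type v) (V : Type w) [Field F] [NeZero (2 : F)] [AddCommGroup V] [Module F V]
  [FiniteDimensional F V] (ρ : Mon → End F V) (t z s a : Mon), Rb t ρ → Nt t z s → Nt t z a → Nt t s a →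
  Z0 ρ (C[t] ⊓ C[z] ⊓ C[s] ⊓ C[a])

def HK : Prop := ∀ (F : Type v) (V : Type w) [Field F] [NeZero (2 : F)] [AddCommGroup V] [Module F V]
  [FiniteDimensional F V] (ρ : Mon → End F V) (t z s : Mon), Rb t ρ → Nt t z s → H1c ρ (C[t] ⊓ C[z] ⊓ C[s])

def UQ : Prop := ∀ (F : Type v) (V : Type w) [Field F] [NeZero (2 : F)] [AddCommGroup V] [Module F V]
  [FiniteDimensional F V] (ρ : Mon → End F V) (t z s : Mon) (c : Mon → V), Rb t ρ → Nt t z s →
  Coc ρ (C[t] ⊓ C[z]) c → (∀ x ∈ C[t] ⊓ C[z] ⊓ C[s], c x = 0) → ∀ x ∈ C[t] ⊓ C[z], c x = 0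

def C1 : Prop := ∀ (Γ : Type u) (F : Type v) (V : Type w) [Group Γ] [Field F] [NeZero (2 : F)] [NeZero (3 : F)]
  [AddCommGroup V] [Module F V] [FiniteDimensional F V] (φ : Γ →* Mon) (ι : V → Γ) (ρ : Mon → End F V) (t z : Mon),
  Rb t ρ → Ex φ ι ρ C[t] → IsConj zM z → t ∈ Qo z → ∃ K, Lf φ (C[t] ⊓ C[z]) K

def CV : Prop := ∀ (Γ : Type u) (F : Type v) (V : Type w) [Group Γ] [Field F] [NeZero (2 : F)] [NeZero (3 : F)]
  [AddCommGroup V] [Module F V] [FiniteDimensional F V] (φ : Γ →* Mon) (ι : V → Γ) (ρ : Mon → End F V) (t : Mon),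
  Rb t ρ → Ex φ ι ρ C[t] → ∃ (P : Type u) (_ : MulAction Γ P) (pr : P → Mon) (ad : P → P → Prop), Cv t φ pr ad

def SY : Prop := ∀ t a b w w' : Mon, A2 zM t → A2 zM (a * b) → Nt t w a → Nt t w b → Nt t w' a → Nt t w' b →
  w = w' ∨ Nt t w w' ∨ ∃ v, Nt t v a ∧ Nt t v b ∧ Nt t v w ∧ Nt t v w'

def SK : Prop := ∀ (Γ : Type u) [Group Γ] (φ : Γ →* Mon) (P : Type u) [MulAction Γ P] (pr : P → Mon)
  (ad : P → P → Prop) (t : Mon), A2 zM t → Cv t φ pr ad → Sk t φ pr (Sp pr ad)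

def YB : Prop := ∀ (Γ : Type u) [Group Γ] (φ : Γ →* Mon) (P : Type u) [MulAction Γ P] (pr : P → Mon)
  (sp : P → P → Prop) (x u : Mon) (π : Mon → X) (g : ℕ → Mon), Y6 zM x π g u → Sk (g 5) φ pr sp →
  ∃ y, Nd φ (nd x g u) y

/-! ### kit -/

section
variable {F : Type*} [Field F] {V : Type*} [AddCommGroup V] [Module F V] {Γ G : Type*} [Group Γ] [Group G]
  {φ : Γ →* G} {ι : V → Γ} {ρ : G → End F V} {X H H' N : Subgroup G} {K K' : Subgroup Γ} {γ δ : Γ} {v w : V} {x y : G}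
  {c : G → V}

theorem rp_ap (h : Rp X ρ) (hx : x ∈ X) (hy : y ∈ X) (v : V) : ρ x (ρ y v) = ρ (x * y) v := by
  rw [h x hx y hy]; rfl

theorem Z0.mono (h : Z0 ρ H) (l : H ≤ H') : Z0 ρ H' := fun v k => h v fun x m => k x (l m)

namespace Lf
variable (L : Lf φ H K)
include L
theorem eq (a : γ ∈ K) (b : δ ∈ K) (e : φ γ = φ δ) : γ = δ :=
  mul_inv_eq_one.1 (L.inj _ (mul_mem a (inv_mem b)) (by simp [e]))
theorem res (l : H' ≤ H) : Lf φ H' (K ⊓ H'.comap φ) :=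
  ⟨fun k m => L.inj k m.1, fun _ m => m.2, fun h m => let ⟨k, a, e⟩ := L.sur h (l m); ⟨k, ⟨a, show φ k ∈ H' from e ▸ m⟩, e⟩⟩
theorem conj (γ : Γ) : Lf φ (cj (φ γ) H) (cj γ K) := by
  refine ⟨fun k m e => ?_, fun k m => ?_, fun h m => ?_⟩
  · obtain ⟨k, a, rfl⟩ := mem_cj'.1 m
    rw [L.inj k a (by simpa using e)]; simp
  · obtain ⟨k, a, rfl⟩ := mem_cj'.1 m
    exact mem_cj'.2 ⟨_, L.mem k a, by simp⟩
  · obtain ⟨h, a, rfl⟩ := mem_cj'.1 m
    obtain ⟨k, b, rfl⟩ := L.sur h a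
    exact ⟨_, mem_cj'.2 ⟨k, b, rfl⟩, by simp⟩
/-- two lifts, one contained in the other -/
theorem eq_of_le (L' : Lf φ H K') (l : K ≤ K') : K = K' := l.antisymm fun k m =>
  let ⟨_, a, e⟩ := L.sur _ (L'.mem k m); L'.eq (l a) m e ▸ a
/-- elements of a lift normalize the lifts of the subgroups which they normalize -/
theorem nrm (l : H' ≤ H) (a : γ ∈ K) (n : φ γ ∈ N(H')) : γ ∈ N(K ⊓ H'.comap φ) :=
  mem_norm_iff_cj.2 <| (cj_of_mem_norm n ▸ (L.res l).conj γ).eq_of_le (L.res l) fun k m => by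
    obtain ⟨j, b, rfl⟩ := mem_cj'.1 m
    refine mem_inf.2 ⟨mul_mem (mul_mem a b.1) (inv_mem a), ?_⟩
    rw [mem_comap, map_mul, map_mul, map_inv]
    exact (mem_normalizer_iff.1 n _).1 b.2
omit L in
/-- the same for elements which normalize the lift -/
theorem nrm' (a : γ ∈ N(K)) (n : φ γ ∈ N(H')) : γ ∈ N(K ⊓ H'.comap φ) := mem_normalizer_iff.2 fun k => by
  rw [mem_inf, mem_inf, mem_comap, mem_comap, map_mul, map_mul, map_inv]
  exact and_congr (mem_normalizer_iff.1 a k) (mem_normalizer_iff.1 n _)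
/-- semidirect products -/
theorem sup (L' : Lf φ H' K') (n : K' ≤ N(K)) (d : ∀ x ∈ H, x ∈ H' → x = 1) : Lf φ (H ⊔ H') (K ⊔ K') := by
  have m : ∀ k ∈ K ⊔ K', ∃ a ∈ K, ∃ b ∈ K', a * b = k := fun k m => by
    rw [← SetLike.mem_coe, coe_mul_of_right_le_normalizer_left K K' n] at m
    exact m
  refine ⟨fun k hk e => ?_, fun k hk => ?_, fun h hh => ?_⟩
  · obtain ⟨a, ha, b, hb, rfl⟩ := m k hk
    rw [map_mul, mul_eq_one_iff_eq_inv] at e
    have := d _ (L.mem a ha) (e ▸ inv_mem (L'.mem b hb))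
    rw [L.inj a ha this, L'.inj b hb (by simpa [this] using e), mul_one]
  · obtain ⟨a, ha, b, hb, rfl⟩ := m k hk
    exact map_mul φ a b ▸ mul_mem_sup (L.mem a ha) (L'.mem b hb)
  · exact (sup_le (fun h m => let ⟨k, a, e⟩ := L.sur h m; ⟨k, mem_sup_left a, e⟩)
      (fun h m => let ⟨k, a, e⟩ := L'.sur h m; ⟨k, mem_sup_right a, e⟩) : H ⊔ H' ≤ (K ⊔ K').map φ) hh
end Lf

namespace Coc
variable (h : Coc ρ H c)
include h
theorem mono (l : H' ≤ H) : Coc ρ H' c := ⟨h.one, fun x a y b => h.mul x (l a) y (l b)⟩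
theorem o (hx : x ∈ H) : ρ 1 (c x) = c x := by simpa [h.one] using (h.mul 1 (one_mem H) x hx).symm
/-- the zeros -/
def zer : Subgroup G where
  carrier := {x | x ∈ H ∧ c x = 0}
  one_mem' := ⟨one_mem H, h.one⟩
  mul_mem' := fun a b => ⟨mul_mem a.1 b.1, by rw [h.mul _ a.1 _ b.1, a.2, b.2, map_zero, add_zero]⟩
  inv_mem' := fun {x} a => ⟨inv_mem a.1, by simpa [a.2, h.one] using (h.mul _ (inv_mem a.1) _ a.1).symm⟩
theorem sub (r : Rp X ρ) (l : H ≤ X) (v : V) : Coc ρ H fun x => c x - (ρ 1 v - ρ x v) :=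
  ⟨by simp [h.one], fun x a y b => by
    rw [h.mul x a y b, map_sub, map_sub, rp_ap r (l a) (one_mem X), rp_ap r (l a) (l b), mul_one]; abel⟩
/-- `c x` is fixed by the elements `n` with `c n = 0 = c (x⁻¹ n x)` -/
theorem fix (hx : x ∈ H) (hy : y ∈ H) (e : c y = 0) (e' : c (x⁻¹ * y * x) = 0) : ρ y (c x) = c x := by
  have a := h.mul y hy x hx
  have b := h.mul x hx _ (mul_mem (mul_mem (inv_mem hx) hy) hx)
  rw [e', map_zero, add_zero, ← mul_assoc, ← mul_assoc, mul_inv_cancel, one_mul, a, e, zero_add] at b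
  exact b
end Coc

/-- averaging -/
theorem h1c_of [Finite H] (n : (#H : F) ≠ 0) : H1c ρ H := fun c h => by
  have := Fintype.ofFinite H
  refine ⟨(#H : F)⁻¹ • ∑ y : H, c y, fun x a => ?_⟩
  have e : ∑ y : H, c y = (#H : F) • c x + ρ x (∑ y : H, c y) := by
    rw [map_sum, Nat.card_eq_fintype_card, Nat.cast_smul_eq_nsmul,
      ← Finset.card_univ, ← Finset.sum_const, ← Finset.sum_add_distrib]
    exact (Equiv.sum_comp (Equiv.mulLeft (⟨x, a⟩ : H)) _).symm.trans (Finset.sum_congr rfl fun y _ => h.mul x a y y.2)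
  rw [map_smul, map_smul, map_sum, Finset.sum_congr rfl fun (y : H) _ => h.o y.2, ← smul_sub, sub_eq_of_eq_add e,
    smul_smul, inv_mul_cancel₀ n, one_smul]

theorem nz2 [NeZero (2 : F)] [Finite H] (p : IsPGroup 2 H) : (#H : F) ≠ 0 := by
  have := Fact.mk Nat.prime_two
  obtain ⟨n, e⟩ := IsPGroup.iff_card.1 p
  rw [e]; simpa using pow_ne_zero n (two_ne_zero (α := F))

namespace Ex
variable (E : Ex φ ι ρ X)
include E
theorem zero : ι 0 = 1 := by simpa using E.add 0 0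
theorem neg (v : V) : ι (-v) = (ι v)⁻¹ := eq_inv_of_mul_eq_one_left (by rw [← E.add, neg_add_cancel, E.zero])
theorem im (v : V) : φ (ι v) = 1 := (E.ker _).2 ⟨v, rfl⟩
theorem o (v : V) : ι (ρ 1 v) = ι v := by simpa using (E.act 1 v).symm
theorem ap (hx : x ∈ X) (hy : y ∈ X) (v : V) : ρ x (ρ y v) = ρ (x * y) v := rp_ap E.rp hx hy v
theorem oo (hx : x ∈ X) (v : V) : ρ 1 (ρ x v) = ρ x v := by rw [E.ap (one_mem X) hx, one_mul]
theorem oo' (hx : x ∈ X) (v : V) : ρ x (ρ 1 v) = ρ x v := by rw [E.ap hx (one_mem X), mul_one]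
theorem ext (e : ι v = ι w) : ρ 1 v = ρ 1 w := by
  rw [← sub_eq_zero, ← map_sub]
  exact E.inj _ (by rw [sub_eq_add_neg, E.add, E.neg, e, mul_inv_cancel])
theorem cm (γ : Γ) (v : V) : γ * ι v = ι (ρ (φ γ) v) * γ := by rw [← E.act, inv_mul_cancel_right]
theorem dd : ∃ d : Γ → V, ∀ γ, φ γ = 1 → ι (d γ) = γ ∧ ρ 1 (d γ) = d γ := by
  choose! d hd using fun γ => (E.ker γ).1
  exact ⟨fun γ => ρ 1 (d γ), fun γ e => ⟨(E.o _).trans (hd γ e), E.oo (one_mem X) _⟩⟩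
theorem of_eq (e : φ γ = φ δ) : ∃ v, ρ 1 v = v ∧ γ = ι v * δ :=
  let ⟨d, hd⟩ := E.dd
  let ⟨a, b⟩ := hd (γ * δ⁻¹) (by simp [e])
  ⟨_, b, by rw [a, inv_mul_cancel_right]⟩
theorem cjv (γ : Γ) (v : V) : ι v * γ * (ι v)⁻¹ = ι (ρ 1 v - ρ (φ γ) v) * γ := by
  rw [← E.neg, mul_assoc, E.cm, ← mul_assoc, ← E.o v, ← E.add, map_neg, sub_eq_add_neg]

/-- existence of lifts -/
theorem lift [Finite H] (l : H ≤ X) (n : (#H : F) ≠ 0) : ∃ K, Lf φ H K := by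
  have := Fintype.ofFinite H
  obtain ⟨d, hd⟩ := E.dd
  choose! σ hσ using E.sur
  let f : H → H → V := fun x y => d (σ x * σ y * (σ (x * y))⁻¹)
  have s : ∀ x : H, φ (σ x) = x := fun x => hσ _ (l x.2)
  have f1 : ∀ x y : H, ι (f x y) = σ x * σ y * (σ (x * y))⁻¹ ∧ ρ 1 (f x y) = f x y := fun x y =>
    hd _ (by rw [map_mul, map_mul, map_inv, s, s, ← coe_mul, s]; simp)
  have co : ∀ x y z : H, f x y + f (x * y) z = ρ x (f y z) + f x (y * z) := fun x y z => by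
    have := E.ext (v := f x y + f (x * y) z) (w := ρ x (f y z) + f x (y * z)) (by
      rw [E.add, E.add, show ρ x = ρ (φ (σ x)) by rw [s x], ← E.act, (f1 _ _).1, (f1 _ _).1, (f1 _ _).1, (f1 _ _).1]; simp [mul_assoc])
    rwa [map_add, map_add, (f1 _ _).2, (f1 _ _).2, (f1 _ _).2, E.oo (l x.2)] at this
  let u : H → V := fun x => (#H : F)⁻¹ • ∑ z, f x z
  have e : ∀ x y : H, -u x + ρ x (-u y) + f x y = -u (x * y) := fun x y => by
    have := Finset.sum_congr (s₁ := Finset.univ) rfl fun z _ => co x y z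
    rw [Finset.sum_add_distrib, Finset.sum_add_distrib, Finset.sum_const, Finset.card_univ, ← Nat.card_eq_fintype_card,
      ← Nat.cast_smul_eq_nsmul F, ← map_sum, show ∑ z, f x (y * z) = ∑ z, f x z from
        Equiv.sum_comp (Equiv.mulLeft y) (f x)] at this
    have := congrArg ((#H : F)⁻¹ • ·) this
    simp only [smul_add, smul_smul, inv_mul_cancel₀ n, one_smul, ← map_smul] at this
    rw [map_neg, ← neg_add, add_comm (u x)]
    exact (congrArg (-· + f x y) this.symm).trans (by abel)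
  let τ : H →* Γ := .mk' (fun x => ι (-u x) * σ x) fun x y => by
    rw [← e, E.add, E.add, (f1 _ _).1, show ρ x = ρ (φ (σ x)) by rw [s x], ← E.act]; simp [mul_assoc]
  have t : ∀ x, φ (τ x) = x := fun x => by simp [τ, E.im, s]
  exact ⟨τ.range, by rintro _ ⟨x, rfl⟩ e; rw [show x = 1 from Subtype.ext ((t x).symm.trans e), map_one],
    by rintro _ ⟨x, rfl⟩; exact t x ▸ x.2, fun h m => ⟨_, ⟨⟨h, m⟩, rfl⟩, t _⟩⟩

/-- the cocycle of two lifts -/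
theorem coc (L : Lf φ H K) (L' : Lf φ H K') : ∃ c, Coc ρ H c ∧ ∀ k ∈ K, ι (c (φ k)) * k ∈ K' := by
  choose! σ s1 s2 using L.sur
  choose! σ' s1' s2' using L'.sur
  obtain ⟨d, hd⟩ := E.dd
  have e := fun x (a : x ∈ H) => hd (σ' x * (σ x)⁻¹) (by simp [s2 x a, s2' x a])
  have m : ∀ {σ : G → Γ} {K}, Lf φ H K → (∀ x ∈ H, σ x ∈ K) → (∀ x ∈ H, φ (σ x) = x) →
      ∀ x ∈ H, ∀ y ∈ H, σ (x * y) = σ x * σ y := fun L a b x p y q =>
    L.eq (a _ (mul_mem p q)) (mul_mem (a x p) (a y q)) (by rw [map_mul, b _ (mul_mem p q), b x p, b y q])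
  refine ⟨fun x => d (σ' x * (σ x)⁻¹), ⟨?_, fun x a y b => ?_⟩, fun k a => ?_⟩
  · rw [← (e 1 (one_mem H)).2]
    exact E.inj _ (by rw [(e 1 (one_mem H)).1, L.inj _ (s1 1 (one_mem H)) (s2 1 (one_mem H)),
      L'.inj _ (s1' 1 (one_mem H)) (s2' 1 (one_mem H))]; simp)
  · have := E.ext (v := d (σ' (x * y) * (σ (x * y))⁻¹)) (w := d (σ' x * (σ x)⁻¹) + ρ x (d (σ' y * (σ y)⁻¹))) (by
      rw [E.add, (e _ (mul_mem a b)).1, (e x a).1, show ρ x = ρ (φ (σ x)) by rw [s2 x a], ← E.act, (e y b).1,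
        m L s1 s2 x a y b, m L' s1' s2' x a y b]; simp [mul_assoc])
    rwa [map_add, (e _ (mul_mem a b)).2, (e x a).2, E.oo (s2 x a ▸ E.mem _)] at this
  · have b := L.mem k a
    rw [(e _ b).1, L.eq (s1 _ b) a (s2 _ b), inv_mul_cancel_right]
    exact s1' _ b

theorem cjl (L : Lf φ H K) (v : V) : Lf φ H (cj (ι v) K) := by simpa [E.im] using L.conj (ι v)

theorem h1l (h : H1c ρ H) : H1l φ ι H := fun K K' L L' => by
  obtain ⟨c, a, b⟩ := E.coc L L'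
  obtain ⟨v, e⟩ := h c a
  refine ⟨v, (E.cjl L v).eq_of_le L' fun k m => ?_⟩
  obtain ⟨k, p, rfl⟩ := mem_cj'.1 m
  rw [E.cjv, ← e _ (L.mem k p)]; exact b k p

/-- lifts which normalize a lift -/
theorem nex (h : H1l φ ι H) (L : Lf φ H K) (hx : x ∈ X) (n : x ∈ N(H)) : ∃ γ ∈ N(K), φ γ = x := by
  obtain ⟨γ, rfl⟩ := E.sur x hx
  obtain ⟨v, e⟩ := h _ _ (cj_of_mem_norm n ▸ L.conj γ) L
  exact ⟨ι v * γ, mem_norm_iff_cj.2 (by rw [cj_mul, e]), by simp [E.im]⟩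

theorem nfix (L : Lf φ H K) (n : ι v ∈ N(K)) (hx : x ∈ H) : ρ x v = ρ 1 v := by
  obtain ⟨k, a, rfl⟩ := L.sur x hx
  have := L.eq ((mem_normalizer_iff.1 n k).1 a) a (by simp [E.im])
  rw [E.cjv, mul_eq_right] at this
  have := E.inj _ this
  rwa [map_sub, E.oo (one_mem X), E.oo (E.mem k), sub_eq_zero, eq_comm] at this

theorem nfix' (L : Lf φ H K) (h : ∀ x ∈ H, ρ x v = ρ 1 v) : ι v ∈ N(K) :=
  centralizer_le_normalizer _ (mem_centralizer_iff.2 fun k a => by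
    rw [E.cm, h _ (L.mem k a), E.o])

theorem nuq (z : Z0 ρ H) (L : Lf φ H K) (a : γ ∈ N(K)) (b : δ ∈ N(K)) (e : φ γ = φ δ) : γ = δ := by
  obtain ⟨v, o, rfl⟩ := E.of_eq e
  rw [z v fun x m => (E.nfix L ((Subgroup.mul_mem_cancel_right _ b).1 a) m).trans o, E.zero, one_mul]

end Ex
end

theorem Nt.symm {t a b : Mon} (h : Nt t a b) : Nt t b a := ⟨h.1.symm, h.2.2, h.2.1⟩

end H7.BX
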