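import Cfsg.Agent.H7.BX0
import Cfsg.Agent.H15.BX0

/-! Extensions of the second Conway group by its 23-dimensional module split (S5590, piece SC). -/

set_option autoImplicit false
set_option linter.unusedSectionVars false
set_option maxRecDepth 100000

namespace H7.BX
open Cfsg H15 H19 H0 H0.Mo H0.Y H1.RB H1.RC Subgroup Function Module
open H16 (evA Rels gen nth evA_cons evA_append)

universe u v

/-! ### explicit elements -/

def Wx : List ℕ := [0, 1, 6, 3, 1, 6, 3, 1, 6, 3, 6]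
noncomputable def xx : Co0 := evA Co2.g Wx
noncomputable def gg (j : ℕ) : Co0 := xx⁻¹ * Co2.g j * xx
def ve (i : ℕ) : Lam := [vw pa pb, vw (pt 1) (pt 10), vv (pt 1) (pt 10), vv (pt 5) (pt 12), vw (pt 5) (pt 12),
  vw (pt 16) (pt 19)].getD i 0
def cv (i a b : ℕ) : ℕ := a <<< (25 * [23, 1, 1, 5, 5, 16].getD i 0) +
  (if i = 2 ∨ i = 3 then a else b) <<< (25 * [0, 10, 10, 12, 12, 19].getD i 0)
noncomputable def ck (j a b : ℕ) : Bool :=
  H16.force (H16.apM 25 33554431 31 Co2.C (Wx ++ [j] ++ Wx.reverse) (cv a 4 27)) fun y => eqz y (cv b 4 27) || eqz y (cv b 27 4)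

theorem gg_eq (j : ℕ) : gg j = evA Co2.g (Wx ++ [j] ++ Wx.reverse) := by
  have s : ∀ k < 8, (Co2.g k)⁻¹ = Co2.g k := fun k h => inv_eq_of_mul_eq_one_right (by
    simpa using Co2.rels [k, k] ((by decide +kernel : ∀ k < 8, [k, k] ∈ Co2.Rl) k h))
  simp (disch := decide) [gg, xx, Wx, s, mul_assoc]

def Pm (g : Co0) (v w : Lam) : Prop := g • v = w ∨ g • v = -w

theorem ck_sound {j a b : ℕ} (h : j < 8 ∧ a < 6 ∧ b < 6 ∧ ck j a b = true) : Pm (gg j) (ve a) (ve b) := by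
  have c : ∀ i < 6, Cd (cf (ve i)) (cv i 4 27) ∧ Cd (cf (-ve i)) (cv i 27 4) ∧ sqNorm (cf (ve i)) ≤ 64 ∧
      sqNorm (cf (-ve i)) ≤ 64 := by unfold Cd; decide +kernel
  have w : ∀ k ∈ Wx ++ [j] ++ Wx.reverse, k < 8 := by simp [Wx, h.1]
  obtain ⟨-, ha, hb, e⟩ := h
  rw [ck, H16.force_eq, Bool.or_eq_true] at e
  rw [gg_eq]
  exact e.imp (Co2.ml.smul_eq w (c a ha).1 (c b hb).1 (c a ha).2.2.1 (c b hb).2.2.1)
    (Co2.ml.smul_eq w (c a ha).1 (c b hb).2.1 (c a ha).2.2.1 (c b hb).2.2.2)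

def tb (j a : ℕ) : ℕ := if j = 2 then [0, 2, 1].getD a 0 else if j = 6 then [1, 0, 2, 3, 5, 4].getD a 0 else a

theorem cks : (∀ j < 8, j ≠ 3 → ∀ a < 3, ck j a (tb j a) = true) ∧ (∀ a < 6, ck 6 a (tb 6 a) = true) ∧
    ∀ a ∈ [0, 3, 4], ck 3 a a = true := by decide +kernel

theorem gg_U {j : ℕ} (h : j < 8) : gg j ∈ sCo2 :=
  have x : xx ∈ sCo2 := gen_Co2 ▸ H16.evA_mem_gen _ (by decide)
  mul_mem (mul_mem (inv_mem x) (gen_Co2 ▸ H16.mem_gen _ h)) x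

/-! ### stabilizers of pairs of vectors -/

section
variable {g h : Co0} {v w x : Lam} {n : ℕ}

theorem Pm.mul (a : Pm g w x) (b : Pm h v w) : Pm (g * h) v x := by
  rcases a with a | a <;> rcases b with b | b <;> simp [Pm, mul_smul, a, b, co_neg]
theorem Pm.inv (a : Pm g v w) : Pm g⁻¹ w v := a.imp (fun a => inv_smul_eq_iff.2 a.symm) fun a =>
  inv_smul_eq_iff.2 (by rw [co_neg, a, neg_neg])

/-- the elements which fix the first `n` pairs -/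
def Sn (n : ℕ) : Subgroup Co0 where
  carrier := {g | g ∈ sCo2 ∧ ∀ i < n, Pm g (ve i) (ve i)}
  one_mem' := ⟨one_mem _, fun _ _ => .inl (one_smul _ _)⟩
  mul_mem' := fun a b => ⟨mul_mem a.1 b.1, fun i h => (a.2 i h).mul (b.2 i h)⟩
  inv_mem' := fun a => ⟨inv_mem a.1, fun i h => (a.2 i h).inv⟩

theorem Hb_iff : g ∈ Hb ↔ g ∈ sCo2 ∧ Pm g (ve 0) (ve 0) := by
  rw [show ve 0 = lU' from U'_vw.symm]; rfl
theorem Sn_mono {m : ℕ} (l : m ≤ n) : Sn n ≤ Sn m := fun _ a => ⟨a.1, fun i h => a.2 i (h.trans_le l)⟩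
theorem Sn_Hb (l : 0 < n) : Sn n ≤ Hb := fun _ a => Hb_iff.2 ⟨a.1, a.2 0 l⟩
theorem Sn_norm (a : g ∈ sCo2) (τ : ℕ → ℕ) (b : ∀ i < n, τ i < n ∧ τ (τ i) = i ∧ Pm g (ve i) (ve (τ i))) : g ∈ N(Sn n) :=
  mem_normalizer_fintype fun x m => ⟨mul_mem (mul_mem a m.1) (inv_mem a), fun i h => by
    have c := (b _ (b i h).1).2.2
    rw [(b i h).2.1] at c
    exact (c.mul (m.2 _ (b i h).1)).mul c.inv⟩

theorem n3 {j : ℕ} (h : j < 8) (e : j ≠ 3) : gg j ∈ N(Sn 3) := Sn_norm (gg_U h) (tb j) fun i a =>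
  have : ∀ j < 8, ∀ i < 3, tb j i < 3 ∧ tb j (tb j i) = i := by decide
  ⟨(this j h i a).1, (this j h i a).2, ck_sound ⟨h, by omega, by have := this j h i a; omega, cks.1 j h e i a⟩⟩
theorem p6 {i : ℕ} (a : i < 6) : Pm (gg 6) (ve i) (ve (tb 6 i)) :=
  ck_sound ⟨by decide, a, (by decide : ∀ i < 6, tb 6 i < 6) i a, cks.2.1 i a⟩
theorem n6 : gg 6 ∈ N(Sn 6) := Sn_norm (gg_U (by decide)) (tb 6) fun i a =>
  have : ∀ i < 6, tb 6 i < 6 ∧ tb 6 (tb 6 i) = i := by decide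
  ⟨(this i a).1, (this i a).2, p6 a⟩
theorem p3 {i : ℕ} (a : i ∈ [0, 3, 4]) : Pm (gg 3) (ve i) (ve i) :=
  have : i < 6 := (by decide : ∀ i ∈ [0, 3, 4], i < 6) i a
  ck_sound ⟨by decide, this, this, cks.2.2 i a⟩
theorem gH {j : ℕ} (h : j < 8) (e : j ≠ 6) : gg j ∈ Hb := Hb_iff.2 ⟨gg_U h, by
  by_cases c : j = 3
  · exact c ▸ p3 (by simp)
  · simpa [tb, e] using ck_sound ⟨h, by decide, by simp [tb, e], cks.1 j h c 0 (by decide)⟩⟩
theorem g7 : gg 7 ∈ Sn 3 := ⟨gg_U (by decide), fun i a => ck_sound ⟨by decide, by omega, by omega, cks.1 7 (by decide) (by decide) i a⟩⟩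

theorem sg6 {m : ℕ} (h : m ∈ [7953446, 7793628]) : ∃ hc : S m ∈ cw, sgn hc ∈ EE ⊓ Sn 6 := by
  have c : ∀ m ∈ [7953446, 7793628], isC m = true ∧ pa ∉ S m ∧ pb ∉ S m ∧ (pt 1 ∈ S m ↔ pt 10 ∈ S m) ∧
    (pt 5 ∈ S m ↔ pt 12 ∈ S m) ∧ (pt 16 ∈ S m ↔ pt 19 ∈ S m) := by decide +kernel
  obtain ⟨c, a, b, d, e, f⟩ := c m h
  refine ⟨S_mem_cw c, ⟨_, _, rfl⟩, sgn_U _ a b, fun i hi => ?_⟩
  interval_cases i <;> simp only [Pm, ve, List.getD_cons_zero, List.getD_cons_succ, sgn_vv', sgn_vw, a, b, d, e, f] <;>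
    split_ifs <;> simp

/-- an element which moves the line -/
theorem exh : ∃ h ∈ Hb, Pm h (ve 1) (ve 3) ∧ Pm h (ve 2) (ve 4) := by
  obtain ⟨σ, m, e1, e2, e3, e4⟩ := m24_trans4 (a := pa) (b := pb) (c := pt 1) (d := pt 10) (a' := pa) (b' := pb)
    (c' := pt 5) (d' := pt 12) (by decide) (by decide) (by decide) (by decide) (by decide) (by decide) (by decide)
    (by decide) (by decide) (by decide) (by decide) (by decide)
  obtain ⟨C, hC, a, b⟩ := pat (i := pt 12) [pa, pb, pt 5] (by simp) (by decide)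
  simp only [List.forall_mem_cons] at b
  refine ⟨sgn hC * prmH ⟨σ, m⟩, mul_mem (H0_le (sgn_H0 hC b.1 b.2.1)) (prm_Hb (.inl ⟨e1, e2⟩)), .inl ?_, .inl ?_⟩ <;>
    simp [ve, mul_smul, prm_vv, prm_vw, e3, e4, sgn_vv', sgn_vw, a, b]

end

section
variable {F V : Type u} [Field F] [NeZero (2 : F)] [AddCommGroup V] [Module F V] [FiniteDimensional F V]
  {π : Co0 → End F V} {T : GolayPt → End F V}

theorem z6 (nz : H15.BX.NZ F V) (h : C2 π T) : Z0 π ((EE ⊓ Sn 6) ⊔ cj (gg 6) (EE ⊓ Sn 6)) := fun v f => by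
  refine nz π T h v (f 1 (one_mem _)) (fun j a b => ?_) ?_
  · obtain ⟨j, hj, rfl⟩ := exists_pt j
    obtain ⟨m, p, q⟩ := (by decide +kernel : ∀ j < 24, pt j ≠ pa → pt j ≠ pb → ∃ m ∈ [7953446, 7793628], pt j ∈ S m) j hj a b
    obtain ⟨c, r⟩ := sg6 p
    exact ⟨_, Sn_Hb (by decide) r.2, f _ (mem_sup_left r), by rw [sgn_e8, if_pos q]⟩
  · obtain ⟨c, r⟩ := sg6 (m := 7953446) (by simp)
    refine ⟨_, Sn_Hb (by decide) ((mem_normalizer_iff.1 n6 _).1 r.2), f _ (mem_sup_right (mem_cj'.2 ⟨_, r, rfl⟩)), ?_⟩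
    have e : sgn c • ve 1 = -ve 1 := by
      have : pt 1 ∈ S 7953446 ∧ pt 10 ∈ S 7953446 := by decide +kernel
      simp [ve, sgn_vw, this]
    rw [show lU' = ve 0 from U'_vw, mul_smul, mul_smul]
    rcases p6 (i := 1) (by decide) with k | k <;> change _ = _ at k
    · rw [show (gg 6)⁻¹ • ve 0 = ve 1 from inv_smul_eq_iff.2 k.symm, e, co_neg, k]; rfl
    · rw [show (gg 6)⁻¹ • ve 0 = -ve 1 from inv_smul_eq_iff.2 (by rw [co_neg, k, neg_neg]; rfl), co_neg, e, neg_neg, k]; rfl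

variable {Γ : Type*} [Group Γ] {φ : Γ →* Co0} {ι : V → Γ} {K : Subgroup Γ}

theorem ev_mem {G : Type*} [Group G] {y : ℕ → G} {H : Subgroup G} {W : List ℕ} (h : ∀ j ∈ W, y j ∈ H) : evA y W ∈ H := by
  induction W with
  | nil => exact one_mem H
  | cons k W ih => exact mul_mem (ih fun j a => h j (.tail _ a)) (h k (.head _))

theorem ev_map {G G' : Type*} [Group G] [Group G'] (f : G →* G') {y : ℕ → G} {g : ℕ → G'} {W : List ℕ}
    (h : ∀ j ∈ W, f (y j) = g j) : f (evA y W) = evA g W := by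
  induction W with
  | nil => exact map_one f
  | cons k W ih => rw [evA_cons, evA_cons, map_mul, ih fun j a => h j (.tail _ a), h k (.head _)]

theorem ev_cj {G : Type*} [Group G] (y : ℕ → G) (a : G) (W : List ℕ) :
    evA (fun j => a * y j * a⁻¹) W = a * evA y W * a⁻¹ := (ev_map (MulAut.conj a).toMonoidHom fun _ _ => rfl).symm

theorem co (nz : H15.BX.NZ F V) (h : C2 π T) (E : Ex φ ι π sCo2) (L : Lf φ Hb K) : ∃ K, Lf φ sCo2 K := by
  let W := EE ⊓ Sn 3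
  let k := gg 6
  have k3 : k ∈ N(Sn 3) := n3 (by decide) (by decide)
  have sH : Sn 3 ≤ Hb := Sn_Hb (by decide)
  have nW : Sn 3 ≤ N(W) := fun x m => mem_normalizer_fintype fun e a =>
    mem_inf.2 ⟨conj_EE (Hb_NN (sH m)) a.1, mul_mem (mul_mem m a.2) (inv_mem m)⟩
  have l1 : cj k W ≤ Sn 3 := cj_of_mem_norm k3 ▸ cj_mono _ inf_le_right
  have l : W ⊔ cj k W ≤ Sn 3 := sup_le inf_le_right l1
  have pW : IsPGroup 2 W := EE_pg.to_inf_left
  have p : IsPGroup 2 (W ⊔ cj k W : Subgroup Co0) := pW.to_sup_of_normal_left' (pW.map _) (l1.trans nW)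
  have rl : Rels gg Co2.Rl := fun r m => by
    have := ev_cj Co2.g xx⁻¹ r
    rwa [Co2.rels r m, inv_inv, mul_one, inv_mul_cancel] at this
  have kk : k * k = 1 := by simpa using rl [6, 6] (by decide +kernel)
  have nN : Sn 3 ≤ N(W ⊔ cj k W) := fun x m => mem_norm_iff_cj.2 (by
    rw [cj_sup, cj_of_mem_norm (nW m), cj_cj, show x * k = k * (k⁻¹ * x * k⁻¹⁻¹) by group, cj_mul,
      cj_of_mem_norm (nW ((mem_normalizer_iff.1 (inv_mem k3) _).1 m))])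
  have kN : k ∈ N(W ⊔ cj k W) := mem_norm_iff_cj.2 (by rw [cj_sup, cj_cj, kk, cj_one, sup_comm])
  have l6 : EE ⊓ Sn 6 ≤ W := inf_le_inf_left _ (Sn_mono (by decide))
  have z := (z6 nz h).mono (sup_le_sup l6 (cj_mono _ l6))
  have z' : Z0 π (Sn 6) := (z6 nz h).mono (sup_le inf_le_right ((cj_mono _ inf_le_right).trans (cj_of_mem_norm n6).le))
  have L1 := L.res (l.trans sH)
  have L3 := L.res sH
  obtain ⟨κ, n1, e⟩ := E.nex (E.h1l (h1c_of (nz2 p))) L1 (gg_U (by decide)) kN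
  have nκ : κ ∈ N(K ⊓ (Sn 3).comap φ) := mem_norm_iff_cj.2 <|
    (cj_of_mem_norm k3 ▸ e ▸ L3.conj κ).eq_of_le L3 fun a m₀ => by
      obtain ⟨a, m, rfl⟩ := mem_cj'.1 m₀
      obtain ⟨b, m', e'⟩ := L3.sur _ ((mem_normalizer_iff.1 k3 _).1 m.2)
      rwa [E.nuq z L1 (mul_mem (mul_mem n1 (L.nrm (l.trans sH) m.1 (nN m.2))) (inv_mem n1))
        (L.nrm (l.trans sH) m'.1 (nN m'.2)) (by rw [e', map_mul, map_mul, map_inv, e])]
  choose! y y1 y2 using fun j (a : j < 8 ∧ j ≠ 6) => L.sur _ (gH a.1 a.2)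
  obtain ⟨y', y6, yo⟩ : ∃ y' : ℕ → Γ, y' 6 = κ ∧ ∀ j, j ≠ 6 → y' j = y j :=
    ⟨update y 6 κ, update_self .., fun j c => update_of_ne c ..⟩
  have im : ∀ j < 8, φ (y' j) = gg j := fun j a => by
    by_cases c : j = 6
    · rw [c, y6, e]
    · rw [yo j c, y2 j ⟨a, c⟩]
  have mK : ∀ j, j < 8 ∧ j ≠ 6 → y' j ∈ K := fun j a => by rw [yo j a.2]; exact y1 j a
  have mN : ∀ j, j < 8 ∧ j ≠ 3 → y' j ∈ N(K ⊓ (Sn 3).comap φ) := fun j a => by
    by_cases c : j = 6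
    · rwa [c, y6]
    · exact L.nrm sH (mK j ⟨a.1, c⟩) ((im j a.1).symm ▸ n3 a.1 a.2)
  have ev : ∀ r ∈ Co2.Rl, φ (evA y' r) = 1 := fun r m =>
    (ev_map φ fun j a => im j ((by decide +kernel : ∀ r ∈ Co2.Rl, ∀ j ∈ r, j < 8) r m j a)).trans (rl r m)
  have rN : ∀ r ∈ Co2.Rl, (∀ j ∈ r, j < 8 ∧ j ≠ 3) → evA y' r = 1 := fun r m c =>
    E.nuq (z.mono l) L3 (ev_mem fun j a => mN j (c j a)) (one_mem _) ((ev r m).trans (map_one φ).symm)
  have κκ : κ * κ = 1 := by simpa [y6] using rN [6, 6] (by decide +kernel) (by decide)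
  have R : Rels y' Co2.Rl := fun r m => by
    rcases (by decide +kernel : ∀ r ∈ Co2.Rl, (∀ j ∈ r, j < 8 ∧ j ≠ 3) ∨ (∀ j ∈ r, j < 8 ∧ j ≠ 6) ∨
      r = [3, 6, 3, 6, 3, 6, 3, 6] ∨ r = [1, 3, 6, 7, 6, 3, 1, 3, 6, 7, 6, 3, 1, 3, 6, 7, 6, 3]) r m with c | c | c | c
    · exact rN r m c
    · exact L.inj _ (ev_mem fun j a => mK j (c j a)) (ev r m)
    · obtain ⟨a, ha, a1, a2⟩ := exh
      obtain ⟨α, hα, rfl⟩ := L.sur a ha
      have a0 := (Hb_iff.1 ha).2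
      have L' := L.conj (α * κ)
      have tr : ∀ {β}, β ∈ K → Pm (φ β) (ve 0) (ve 0) → Pm (φ β) (ve 3) (ve 3) → Pm (φ β) (ve 4) (ve 4) →
          β ∈ cj (α * κ) K := fun {β} m b0 b3 b4 => by
        have : α⁻¹ * β * α ∈ K ⊓ (Sn 3).comap φ := mem_inf.2 ⟨mul_mem (mul_mem (inv_mem hα) m) hα, E.mem _, fun i hi => by
          rw [map_mul, map_mul, map_inv]
          interval_cases i
          exacts [(a0.inv.mul b0).mul a0, (a1.inv.mul b3).mul a1, (a2.inv.mul b4).mul a2]⟩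
        have := ((mem_normalizer_iff.1 (inv_mem nκ) _).1 this).1
        rw [mem_cj]; simpa [mul_assoc] using this
      have L6 := L.res (Sn_Hb (n := 6) (by decide))
      have l6 : Sn 6 ≤ cj (φ (α * κ)) Hb := fun x m =>
        let ⟨β, b, e⟩ := L6.sur x m
        e ▸ L'.mem _ (tr b.1 (b.2.2 0 (by decide)) (b.2.2 3 (by decide)) (b.2.2 4 (by decide)))
      have q := L6.eq_of_le (L'.res l6) fun β b =>
        ⟨tr b.1 (b.2.2 0 (by decide)) (b.2.2 3 (by decide)) (b.2.2 4 (by decide)), b.2⟩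
      have u : Pm (φ (α * κ)) (ve 0) (ve 3) := by rw [map_mul, e]; exact a1.mul (p6 (i := 0) (by decide))
      obtain ⟨κ', m', e'⟩ := L'.sur k (mem_cj.2 (Hb_iff.2 ⟨mul_mem (mul_mem (inv_mem (E.mem _)) (gg_U (by decide))) (E.mem _),
        (u.inv.mul (p6 (i := 3) (by decide))).mul u⟩))
      have : κ' = κ := E.nuq z' L6 (q ▸ L'.nrm l6 m' (e' ▸ n6)) (by
        have := Lf.nrm' (H' := Sn 6) nκ (e ▸ n6)
        rwa [inf_assoc, ← comap_inf, inf_eq_right.2 (Sn_mono (by decide))] at this) (e'.trans e.symm)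
      refine L'.inj _ (ev_mem fun j a => ?_) (ev r m)
      rcases (by subst c; simp at a; tauto : j = 3 ∨ j = 6) with rfl | rfl
      · have i3 := im 3 (by decide)
        exact tr (mK 3 (by decide)) (i3 ▸ p3 (by simp)) (i3 ▸ p3 (by simp)) (i3 ▸ p3 (by simp))
      · rw [this] at m'; rwa [y6]
    · refine L.inj _ ?_ (ev r m)
      have a : κ * y' 7 * κ ∈ K := by
        have := ((mem_normalizer_iff.1 nκ _).1 ⟨mK 7 (by decide), show φ _ ∈ _ from im 7 (by decide) ▸ g7⟩).1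
        rwa [inv_eq_of_mul_eq_one_right κκ] at this
      have := pow_mem (mul_mem (mul_mem (mul_mem (mK 3 (by decide)) a) (mK 3 (by decide))) (mK 1 (by decide))) 3
      subst c
      simpa [pow_succ, mul_assoc, y6] using this
  obtain ⟨ξ, eξ⟩ := E.sur xx (gen_Co2 ▸ H16.evA_mem_gen _ (by decide))
  obtain ⟨f, f1, -⟩ := Co2.bound.exists_hom Co2.rels Co2.card (g := fun j => ξ * y' j * ξ⁻¹) fun r m => by
    rw [ev_cj, R r m, mul_one, mul_inv_cancel]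
  have s : ∀ x, φ (f x) = x := DFunLike.congr_fun (MonoidHom.eq_of_eqOn_dense (f := φ.comp f) (g := Subgroup.subtype _)
    (closure_closure_coe_preimage (k := Co2.g '' Set.Iio 8)) (by
      rintro ⟨_, m⟩ ⟨j, a, rfl⟩
      refine (congrArg φ (f1 j a)).trans ?_
      change _ = Co2.g j
      rw [map_mul, map_mul, map_inv, eξ, im j a, gg]; group))
  exact ⟨f.range, by rintro _ ⟨x, rfl⟩ e; rw [show x = 1 from Subtype.ext ((s x).symm.trans e), map_one],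
    fun a _ => E.mem a, fun x m => ⟨_, ⟨⟨x, gen_Co2 ▸ m⟩, rfl⟩, s _⟩⟩

end

/-! ### translation -/

section
variable {F V : Type u} [Field F] [AddCommGroup V] [Module F V] {G : Type} [Group G] {X : Type v} [Group X]
  {κ : X →* G} {T S : Subgroup G} {ρ : G → End F V} {d : X → V}

/-- the part of the kernel on which `d` vanishes -/
def kd (E : H15.BX.Ey κ T ρ d) : Subgroup X where
  carrier := {a | κ a = 1 ∧ d a = 0}
  one_mem' := ⟨map_one κ, E.toEx.one⟩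
  mul_mem' := fun a b => ⟨by rw [map_mul, a.1, b.1, mul_one], by rw [E.add _ _ a.1 b.1, a.2, b.2, add_zero]⟩
  inv_mem' := fun {a} m => ⟨by rw [map_inv, m.1, inv_one], by
    simpa [m.2, E.toEx.one] using (E.add a a⁻¹ m.1 (by rw [map_inv, m.1, inv_one])).symm⟩

instance (E : H15.BX.Ey κ T ρ d) : (kd E).Normal := ⟨fun a m x => ⟨by simp [m.1], by rw [E.eqv x a (E.ran x) m.1, m.2, map_zero]⟩⟩

theorem red (E : H15.BX.Ey κ T ρ d) : ∃ (φ : X ⧸ kd E →* G) (ι : V → X ⧸ kd E), Ex φ ι ρ T ∧ (∀ x : X, φ x = κ x) ∧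
    ∀ a, κ a = 1 → ι (d a) = a := by
  have o : ∀ v, ρ 1 (ρ 1 v) = ρ 1 v := fun v => by rw [rp_ap E.rp (one_mem T) (one_mem T), one_mul]
  choose i i1 i2 using fun v => E.onto _ (o v)
  have q : ∀ {a b : X}, κ a = 1 → κ b = 1 → d a = d b → (a : X ⧸ kd E) = b := fun {a b} p q e => QuotientGroup.eq.2
    ⟨by simp [p, q], by
      have := E.add a (a⁻¹ * b) p (by simp [p, q])
      rwa [mul_inv_cancel_left, e, left_eq_add] at this⟩
  have j : ∀ a, κ a = 1 → (i (d a) : X ⧸ kd E) = a := fun a e => q (i1 _) e ((i2 _).trans (E.toEx.fix e))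
  refine ⟨QuotientGroup.lift _ κ fun _ m => m.1, fun v => i v, ⟨E.rp, fun v w => ?_, fun v e => ?_, fun γ => ?_,
    fun γ v => ?_, fun γ => ?_, fun x m => ?_⟩, fun _ => rfl, j⟩
  · exact q (b := i v * i w) (i1 _) (by simp [i1]) (by rw [E.add _ _ (i1 _) (i1 _), i2, i2, i2, map_add])
  · exact (i2 v).symm.trans ((QuotientGroup.eq_one_iff _).1 e).2
  · obtain ⟨x, rfl⟩ := QuotientGroup.mk_surjective γ
    exact ⟨fun e => ⟨_, j x e⟩, fun ⟨v, e⟩ => e ▸ i1 v⟩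
  · obtain ⟨x, rfl⟩ := QuotientGroup.mk_surjective γ
    exact q (a := x * i v * x⁻¹) (by simp [i1]) (i1 _) (by
      rw [E.eqv _ _ (E.ran x) (i1 _), i2, i2, rp_ap E.rp (E.ran x) (one_mem T), mul_one]
      exact ((rp_ap E.rp (one_mem T) (E.ran x) v).trans (by rw [one_mul])).symm)
  · obtain ⟨x, rfl⟩ := QuotientGroup.mk_surjective γ
    exact E.ran x
  · exact (E.sur x m).elim fun a e => ⟨a, e⟩

variable {φ : X →* G} {ι : V → X}

theorem lf_of (E : Ex φ ι ρ T) (l : S ≤ T) (h : ∀ d, H15.BX.Ex φ S ρ d → H15.BX.Sp φ S ρ d) : ∃ K, Lf φ S K := by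
  obtain ⟨d, hd⟩ := E.dd
  have u : ∀ {a v}, φ a = 1 → ρ 1 v = v → ι v = a → d a = v := fun p o e => by
    rw [← (hd _ p).2, ← o]; exact E.ext ((hd _ p).1.trans e.symm)
  obtain ⟨D, D1, D2⟩ := h d ⟨H15.BX.rp_mono E.rp l, fun g m => E.sur g (l m), fun a b p q => u (by simp [p, q])
    (by rw [map_add, (hd a p).2, (hd b q).2]) (by rw [E.add, (hd a p).1, (hd b q).1]),
    fun x a _ p => u (by simp [p]) (E.oo (E.mem x) _) (by rw [← E.act, (hd a p).1])⟩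
  have D0 : D 1 = 0 := (D2 1 (map_one φ)).trans (u (map_one φ) (map_zero _) E.zero)
  let K : Subgroup X := ⟨⟨⟨{x | φ x ∈ S ∧ D x = 0}, fun a b => ⟨map_mul φ _ _ ▸ mul_mem a.1 b.1, by
    rw [D1 _ _ a.1 b.1, a.2, b.2, map_zero, add_zero]⟩⟩, map_one φ ▸ one_mem S, D0⟩, fun {x} a =>
    ⟨map_inv φ _ ▸ inv_mem a.1, by
      have := D1 _ _ (map_inv φ _ ▸ inv_mem a.1) a.1
      rwa [inv_mul_cancel, D0, a.2, map_zero, add_zero, eq_comm] at this⟩⟩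
  refine ⟨K, fun k m e => by rw [← (hd k e).1, ← D2 k e, m.2, E.zero], fun k m => m.1, fun x m => ?_⟩
  obtain ⟨γ, rfl⟩ := E.sur x (l m)
  have o : ρ 1 (D γ) = D γ := by simpa [D0] using (D1 1 γ (map_one φ ▸ one_mem S) m).symm
  refine ⟨ι (-D γ) * γ, ⟨by simpa [E.im] using m, ?_⟩, by simp [E.im]⟩
  rw [D1 _ _ (E.im _ ▸ one_mem S) m, D2 _ (E.im _), E.im, o, u (E.im _) (by rw [map_neg, o]) rfl, neg_add_cancel]

theorem sp_of {Γ : Type*} [Group Γ] {φ : Γ →* G} {ι : V → Γ} {K : Subgroup Γ} (E : Ex φ ι ρ T) (L : Lf φ S K) (p : X →* Γ)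
    (e : ∀ x, φ (p x) = κ x) (j : ∀ a, κ a = 1 → ι (d a) = p a ∧ ρ 1 (d a) = d a) : H15.BX.Sp κ S ρ d := by
  obtain ⟨c, hc⟩ := E.dd
  choose! σ s1 s2 using L.sur
  have q := fun x (m : κ x ∈ S) => hc (p x * (σ (κ x))⁻¹) (by simp [e, s2 _ m])
  refine ⟨fun x => c (p x * (σ (κ x))⁻¹), fun x y a b => ?_, fun a o => ?_⟩
  · have m := map_mul κ x y ▸ mul_mem a b
    have := E.ext (v := c (p (x * y) * (σ (κ (x * y)))⁻¹))
      (w := c (p x * (σ (κ x))⁻¹) + ρ (κ x) (c (p y * (σ (κ y))⁻¹))) (by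
      rw [E.add, (q _ m).1, (q x a).1, show ρ (κ x) = ρ (φ (σ (κ x))) by rw [s2 _ a], ← E.act, (q y b).1,
        L.eq (s1 _ m) (mul_mem (s1 _ a) (s1 _ b)) (by rw [map_mul φ, s2 _ m, s2 _ a, s2 _ b, map_mul])]
      simp [mul_assoc])
    rwa [map_add, (q _ m).2, (q x a).2, E.oo (e x ▸ E.mem _)] at this
  · have m : κ a ∈ S := o ▸ one_mem S
    beta_reduce
    rw [← (q a m).2, ← (j a o).2]
    exact E.ext (by rw [(q a m).1, (j a o).1, L.inj _ (s1 _ m) ((s2 _ m).trans o), inv_one, mul_one])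

end

theorem sc {F V : Type u} [Field F] [NeZero (2 : F)] [AddCommGroup V] [Module F V] [FiniteDimensional F V]
    (hb : H15.BX.HB.{u, v} F V) (nz : H15.BX.NZ F V) : H15.BX.SC.{u, v} F V := fun X _ κ π T d h3 h E => by
  obtain ⟨φ, ι, E', e, j⟩ := red E
  obtain ⟨K, L⟩ := lf_of E' Hb_le fun d => hb _ φ π T d h3 h
  obtain ⟨K, L⟩ := co nz h E' L
  exact sp_of E' L (QuotientGroup.mk' _) e fun a o => ⟨j a o, E.toEx.fix o⟩

end H7.BX
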