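import Cfsg.Agent.H24.ClassSize
import Cfsg.Agent.H5.Burnside
import Cfsg.Agent.H1.Fitting

set_option autoImplicit false
set_option linter.style.longLine false
set_option linter.unusedSectionVars false

namespace H7.Der
open Subgroup MulAction

variable {G : Type*} [Group G] [Finite G]

/-- subgroups of `N` normalised by `N` -/
def Nm (N T : Subgroup G) : Prop := T ≤ N ∧ ∀ n ∈ N, ∀ t ∈ T, n * t * n⁻¹ ∈ T

/-- minimal normal subgroups of `N` -/
def Mn (N T : Subgroup G) : Prop := Nm N T ∧ T ≠ ⊥ ∧ ∀ L, Nm N L → L ≤ T → L = ⊥ ∨ L = T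

theorem Nm.conj {N T : Subgroup G} [hN : N.Normal] (h : Nm N T) (g : G) : Nm N (T.map (MulAut.conj g).toMonoidHom) := by
  refine ⟨?_, ?_⟩
  · rintro _ ⟨t, ht, rfl⟩; exact hN.conj_mem _ (h.1 ht) g
  · rintro n hn _ ⟨t, ht, rfl⟩
    refine ⟨(g⁻¹ * n * g) * t * (g⁻¹ * n * g)⁻¹, h.2 _ (by simpa using hN.conj_mem _ hn g⁻¹) _ ht, ?_⟩
    simp [mul_assoc]

theorem Mn.conj {N T : Subgroup G} [hN : N.Normal] (h : Mn N T) (g : G) : Mn N (T.map (MulAut.conj g).toMonoidHom) := by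
  refine ⟨h.1.conj g, fun hb => h.2.1 ((map_eq_bot_iff_of_injective _ (MulAut.conj g).injective).1 hb), fun L hL hle => ?_⟩
  have e : ∀ X : Subgroup G, (X.map (MulAut.conj g⁻¹).toMonoidHom).map (MulAut.conj g).toMonoidHom = X := by
    intro X; rw [map_map]; convert map_id X; ext x; simp [mul_assoc]
  rcases h.2.2 _ (hL.conj g⁻¹) (by
    rintro _ ⟨l, hl, rfl⟩
    obtain ⟨t, ht, rfl⟩ := hle hl
    simpa [mul_assoc] using ht) with h1 | h1
  · left; rw [← e L, h1, Subgroup.map_bot]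
  · right; rw [← e L, h1]

theorem Mn.comm {N T U : Subgroup G} (h : Mn N T) (h' : Mn N U) (hne : U ≠ T) : U ≤ centralizer (T : Set G) := by
  have h1 : T ⊓ U = ⊥ := by
    rcases h.2.2 (T ⊓ U) ⟨inf_le_left.trans h.1.1, fun n hn t ht => ⟨h.1.2 n hn t ht.1, h'.1.2 n hn t ht.2⟩⟩ inf_le_left with h1 | h1
    · exact h1
    · rcases h'.2.2 T h.1 (h1 ▸ inf_le_right) with h2 | h2
      · exact absurd h2 h.2.1
      · exact absurd h2.symm hne
  intro u hu t ht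
  have : t * u * t⁻¹ * u⁻¹ ∈ T ⊓ U := ⟨by
    have := T.mul_mem ht (h.1.2 u (h'.1.1 hu) _ (T.inv_mem ht)); simpa [mul_assoc] using this,
    U.mul_mem (h'.1.2 t (h.1.1 ht) u hu) (U.inv_mem hu)⟩
  rw [h1, mem_bot, mul_inv_eq_one, mul_inv_eq_iff_eq_mul] at this
  exact this

theorem exists_Mn {N : Subgroup G} (h : N ≠ ⊥) : ∃ T, Mn N T := by
  obtain ⟨T, -, ⟨h1, h2⟩, h3⟩ := H1.exists_minimal_le (P := fun T : Subgroup G => Nm N T ∧ T ≠ ⊥)
    (⟨⟨le_rfl, fun n hn t ht => N.mul_mem (N.mul_mem hn ht) (N.inv_mem hn)⟩, h⟩ : Nm N N ∧ N ≠ ⊥)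
  refine ⟨T, h1, h2, fun L hL hle => ?_⟩
  by_cases hb : L = ⊥
  · exact Or.inl hb
  · exact Or.inr (h3 L ⟨hL, hb⟩ hle)

section minimal
variable {N T : Subgroup G} [hN : N.Normal] (hmin : ∀ K : Subgroup G, K.Normal → K ≤ N → K = ⊥ ∨ K = N) (hT : Mn N T)
include hmin hT

theorem Mn.decomp {n : G} (hn : n ∈ N) : ∃ t ∈ T, ∃ c ∈ centralizer (T : Set G), n = t * c := by
  let S : Subgroup G :=
    { carrier := {n | ∃ t ∈ T, ∃ c ∈ centralizer (T : Set G), n = t * c}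
      one_mem' := ⟨1, T.one_mem, 1, one_mem _, by simp⟩
      mul_mem' := by
        rintro _ _ ⟨t, ht, c, hc, rfl⟩ ⟨t', ht', c', hc', rfl⟩
        exact ⟨t * t', T.mul_mem ht ht', c * c', mul_mem hc hc', by rw [mul_assoc, ← mul_assoc c, ← hc t' ht']; group⟩
      inv_mem' := by
        rintro _ ⟨t, ht, c, hc, rfl⟩
        exact ⟨t⁻¹, T.inv_mem ht, c⁻¹, inv_mem hc, by rw [hc t ht, mul_inv_rev]⟩ }
  have h1 : normalClosure (T : Set G) = N := by
    rcases hmin _ inferInstance (normalClosure_le_normal hT.1.1) with h | h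
    · exact absurd (le_bot_iff.1 (h ▸ le_normalClosure)) hT.2.1
    · exact h
  have h2 : normalClosure (T : Set G) ≤ S := by
    rw [normalClosure, closure_le]
    intro x hx
    obtain ⟨t, ht, hc⟩ := Group.mem_conjugatesOfSet_iff.1 hx
    obtain ⟨g, rfl⟩ := isConj_iff.1 hc
    have hm : g * t * g⁻¹ ∈ T.map (MulAut.conj g).toMonoidHom := ⟨t, ht, rfl⟩
    by_cases he : T.map (MulAut.conj g).toMonoidHom = T
    · exact ⟨_, he ▸ hm, 1, one_mem _, by simp⟩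
    · exact ⟨1, T.one_mem, _, hT.comm (hT.conj g) he hm, by simp⟩
  exact h2 (h1.symm ▸ hn)

theorem Mn.inf_cent (hs : ¬ Group.IsSolvable N) : ∀ t ∈ T, t ∈ centralizer (T : Set G) → t = 1 := by
  rcases hT.2.2 (T ⊓ centralizer (T : Set G)) ⟨inf_le_left.trans hT.1.1, fun n hn t ht => ⟨hT.1.2 n hn t ht.1, fun u hu => by
      have := ht.2 _ (hT.1.2 n⁻¹ (N.inv_mem hn) u hu)
      calc u * (n * t * n⁻¹) = n * (n⁻¹ * u * n⁻¹⁻¹ * t) * n⁻¹ := by group
        _ = _ := by rw [this]; group⟩⟩ inf_le_left with h | h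
  · intro t h1 h2; exact mem_bot.1 (h ▸ ⟨h1, h2⟩)
  · exfalso
    have h1 : T ≤ centralizer (T : Set G) := h.symm.le.trans inf_le_right
    have h2 : T ≤ N ⊓ centralizer (N : Set G) := fun t ht => ⟨hT.1.1 ht, fun n hn => by
      obtain ⟨u, hu, c, hc, rfl⟩ := hT.decomp hmin hn
      rw [mul_assoc, ← hc t ht, ← mul_assoc, h1 ht u hu, mul_assoc]⟩
    rcases hmin (N ⊓ centralizer (N : Set G)) inferInstance inf_le_left with h3 | h3
    · exact hT.2.1 (le_bot_iff.1 (h3 ▸ h2))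
    · have h4 : N ≤ centralizer (N : Set G) := h3.symm.le.trans inf_le_right
      exact hs (Group.isSolvable_of_comm fun a b => Subtype.ext (h4 b.2 a a.2))

theorem Mn.simple : IsSimpleGroup T := by
  haveI : Nontrivial T := (nontrivial_iff_ne_bot T).2 hT.2.1
  refine ⟨fun L hL => ?_⟩
  rcases hT.2.2 (L.map T.subtype) ⟨(map_subtype_le _).trans hT.1.1, by
    rintro n hn _ ⟨l, hl, rfl⟩
    obtain ⟨u, hu, c, hc, rfl⟩ := hT.decomp hmin hn
    refine ⟨_, hL.conj_mem l hl ⟨u, hu⟩, ?_⟩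
    have := hc l l.2
    simp only [coe_subtype, coe_mul, InvMemClass.coe_inv, mul_inv_rev]
    rw [mul_assoc u c, ← this]; group⟩ (map_subtype_le _) with h | h
  · exact Or.inl ((map_eq_bot_iff_of_injective _ T.subtype_injective).1 h)
  · right
    rw [eq_top_iff]
    intro x _
    obtain ⟨y, hy, hyx⟩ := (h.symm ▸ x.2 : (x : G) ∈ L.map T.subtype)
    exact (Subtype.ext hyx : y = x) ▸ hy

theorem Mn.not_comm (hs : ¬ Group.IsSolvable N) : ¬ IsMulCommutative T := fun hc =>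
  hT.2.1 (eq_bot_iff.2 fun t ht => mem_bot.2 (hT.inf_cent hmin hs t ht fun u hu =>
    congrArg Subtype.val (hc.is_comm.comm ⟨u, hu⟩ ⟨t, ht⟩)))

theorem Mn.not_solv (hs : ¬ Group.IsSolvable N) : ¬ Group.IsSolvable T := fun h => by
  haveI := hT.simple hmin
  exact hT.not_comm hmin hs ⟨⟨IsSimpleGroup.comm_iff_isSolvable.2 h⟩⟩

end minimal

variable (Ω : Type*) [MulAction G Ω]

/-- derangements -/
def Dr (g : G) : Prop := ∀ ω : Ω, g • ω ≠ ω

variable {Ω}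

theorem Dr.conj {g h : G} (hg : Dr Ω g) (hc : IsConj g h) : Dr Ω h := by
  obtain ⟨c, rfl⟩ := isConj_iff.1 hc
  intro ω h
  apply hg (c⁻¹ • ω)
  rw [mul_smul, mul_smul, ← eq_inv_smul_iff] at h; exact h

theorem semireg [FaithfulSMul G Ω] {C : Subgroup G} (hC : IsPretransitive C Ω) {t : G} (ht : ∀ c ∈ C, c * t = t * c)
    (h1 : t ≠ 1) : Dr Ω t := by
  intro ω h
  apply h1
  refine eq_of_smul_eq_smul (α := Ω) fun β => ?_
  obtain ⟨c, rfl⟩ := hC.exists_smul_eq ω β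
  rw [one_smul, Subgroup.smul_def, ← mul_smul, ← ht c c.2, mul_smul, h]

theorem struct [FaithfulSMul G Ω] [Nontrivial G] (hq : ∀ N : Subgroup G, N.Normal → N ≠ ⊥ → IsPretransitive N Ω) :
    (∃ (N : Subgroup G) (p : ℕ), p.Prime ∧ N.Normal ∧ N ≠ ⊥ ∧ Cfsg.IsElementaryAbelian p N) ∨
    (∃ T : Subgroup G, T.Normal ∧ IsSimpleGroup T ∧ ¬ IsMulCommutative T ∧ centralizer (T : Set G) = ⊥) ∨
    ∃ (T : Subgroup G) (x : G), ¬ Group.IsSolvable T ∧ (∀ c ∈ T, c ≠ 1 → Dr Ω (x * c)) ∧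
      (∀ c ∈ T, orderOf c ∣ orderOf (x * c)) ∧ ∀ c ∈ T, ∀ c' ∈ T, IsConj (x * c) (x * c') → orderOf c = orderOf c' := by
  obtain ⟨N, hN, hN0, hmin⟩ := H1.exists_minimal_normal (G := G)
  by_cases hs : Group.IsSolvable N
  · obtain ⟨M, p, hp, -, h2, h3, h4, -⟩ := H1.exists_minimal_normal_elementary_le N hN0 hs
    exact Or.inl ⟨M, p, hp, h2, h3, h4⟩
  right
  obtain ⟨T, hT⟩ := exists_Mn hN0
  have hsr : (∀ t ∈ T, t ≠ 1 → Dr Ω t) → ∃ (T : Subgroup G) (x : G), ¬ Group.IsSolvable T ∧ (∀ c ∈ T, c ≠ 1 → Dr Ω (x * c)) ∧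
      (∀ c ∈ T, orderOf c ∣ orderOf (x * c)) ∧ ∀ c ∈ T, ∀ c' ∈ T, IsConj (x * c) (x * c') → orderOf c = orderOf c' := fun h =>
    ⟨T, 1, hT.not_solv hmin hs, by simpa using h, by simp, fun c _ c' _ h => by
      obtain ⟨g, hg⟩ := isConj_iff.1 h
      rw [one_mul, one_mul] at hg
      rw [← hg]; exact ((MulAut.conj g).orderOf_eq c).symm⟩
  by_cases hTN : T = N
  · subst hTN
    by_cases hC : centralizer (T : Set G) = ⊥
    · exact Or.inl ⟨T, hN, hT.simple hmin, hT.not_comm hmin hs, hC⟩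
    · exact Or.inr (hsr fun t ht h1 => semireg (hq _ inferInstance hC) (fun c hc => (hc t ht).symm) h1)
  right
  by_cases hsemi : ∀ t ∈ T, t ≠ 1 → Dr Ω t
  · exact hsr hsemi
  push Not at hsemi
  obtain ⟨s, hs1, hs2, hs3⟩ := hsemi
  simp only [Dr, not_forall, not_not] at hs3
  obtain ⟨α, hα⟩ := hs3
  obtain ⟨g0, hg0⟩ : ∃ g : G, T.map (MulAut.conj g).toMonoidHom ≠ T := by
    by_contra h
    push Not at h
    rcases hmin T ⟨fun t ht g => h g ▸ ⟨t, ht, rfl⟩⟩ hT.1.1 with h1 | h1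
    · exact hT.2.1 h1
    · exact hTN h1
  have hU := hT.conj g0
  set U := T.map (MulAut.conj g0).toMonoidHom
  have hUC := hT.comm hU hg0
  have hZ := hT.inf_cent hmin hs
  have htr := hq N hN hN0
  let R : Subgroup T :=
    { carrier := {t | ∃ c ∈ centralizer (T : Set G), (t * c) • α = α}
      one_mem' := ⟨1, one_mem _, by simp⟩
      mul_mem' := by
        rintro t t' ⟨c, hc, h⟩ ⟨c', hc', h'⟩
        refine ⟨c * c', mul_mem hc hc', ?_⟩
        rw [show ((t * t' : T) : G) * (c * c') = (t * c) * (t' * c') by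
          rw [coe_mul, mul_assoc (t : G) c, ← mul_assoc c, ← hc t' t'.2]; group, mul_smul, h', h]
      inv_mem' := by
        rintro t ⟨c, hc, h⟩
        refine ⟨c⁻¹, inv_mem hc, ?_⟩
        rw [show ((t⁻¹ : T) : G) * c⁻¹ = (t * c)⁻¹ by rw [hc t t.2, mul_inv_rev]; rfl, inv_smul_eq_iff, h] }
  have hR : R ≠ ⊤ := by
    intro hR
    rcases hT.2.2 (T ⊓ stabilizer G α) ⟨inf_le_left.trans hT.1.1, fun n hn u hu => ⟨hT.1.2 n hn u hu.1, by
      obtain ⟨t, ht, c, hc, rfl⟩ := hT.decomp hmin hn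
      obtain ⟨d, hd, h⟩ : (⟨t, ht⟩ : T) ∈ R := hR ▸ mem_top _
      have e : t * c * u * (t * c)⁻¹ = (t * d) * u * (t * d)⁻¹ := by
        rw [mul_assoc t c, ← hc u hu.1, mul_assoc t d, ← hd u hu.1]; group
      rw [e]
      exact (stabilizer G α).mul_mem ((stabilizer G α).mul_mem h hu.2) ((stabilizer G α).inv_mem h)⟩⟩ inf_le_left with h | h
    · exact hs2 (mem_bot.1 (h ▸ ⟨hs1, hα⟩))
    · have h1 : T ≤ stabilizer G α := h ▸ inf_le_right
      apply hs2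
      refine eq_of_smul_eq_smul (α := Ω) fun β => ?_
      obtain ⟨n, rfl⟩ := htr.exists_smul_eq α β
      have := h1 (hT.1.2 _ (N.inv_mem n.2) s hs1)
      rw [mem_stabilizer_iff, inv_inv, mul_smul, mul_smul, inv_smul_eq_iff] at this
      rw [one_smul, Subgroup.smul_def, this]
  obtain ⟨x, hx⟩ := H24.exists_not_mem_conj hR
  have hx1 : (x : G) ≠ 1 := fun h => hx 1 (by rw [show x = 1 from Subtype.ext h]; simp)
  have huniq : ∀ t ∈ T, ∀ t' ∈ T, ∀ c ∈ centralizer (T : Set G), ∀ c' ∈ centralizer (T : Set G), t * c = t' * c' → t = t' ∧ c = c' := by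
    intro t ht t' ht' c hc c' hc' h
    have h1 : t'⁻¹ * t = c' * c⁻¹ := by rw [inv_mul_eq_iff_eq_mul, ← mul_assoc, ← h]; simp
    have h2 := hZ _ (T.mul_mem (T.inv_mem ht') ht) (h1 ▸ mul_mem hc' (inv_mem hc))
    have h3 : t = t' := (inv_mul_eq_one.1 h2).symm
    exact ⟨h3, by rw [h3] at h; exact mul_left_cancel h⟩
  refine ⟨U, x, hU.not_solv hmin hs, fun c hc _ β hβ => ?_, fun c hc => ?_, fun c hc c' hc' h => ?_⟩
  · obtain ⟨n, rfl⟩ := htr.exists_smul_eq α β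
    obtain ⟨t, ht, d, hd, hn⟩ := hT.decomp hmin n.2
    refine hx ⟨t, ht⟩ ⟨d⁻¹ * c * d, mul_mem (mul_mem (inv_mem hd) (hUC hc)) hd, ?_⟩
    rw [Subgroup.smul_def, hn, ← mul_smul, ← inv_smul_eq_iff, ← mul_smul] at hβ
    convert hβ using 2
    have h1 := hd _ (T.mul_mem (T.mul_mem (T.inv_mem ht) x.2) ht)
    have h2 := hUC hc t ht
    simp only [coe_mul, InvMemClass.coe_inv]
    calc t⁻¹ * x * t * (d⁻¹ * c * d) = d⁻¹ * (d * (t⁻¹ * x * t)) * (d⁻¹ * c * d) := by group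
      _ = d⁻¹ * t⁻¹ * x * (t * c) * d := by rw [← h1]; group
      _ = _ := by rw [h2]; group
  · have h1 : Commute (x : G) c := hUC hc x x.2
    have h2 := pow_orderOf_eq_one ((x : G) * c)
    rw [h1.mul_pow] at h2
    exact orderOf_dvd_of_pow_eq_one (huniq _ (T.pow_mem x.2 _) 1 T.one_mem _ (pow_mem (hUC hc) _) 1 (one_mem _) (by simpa using h2)).2
  · obtain ⟨g, hg⟩ := isConj_iff.1 h
    have e : g * x * g⁻¹ * (g * c * g⁻¹) = x * c' := by rw [← hg]; group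
    have o1 : ∀ y : G, orderOf (g * y * g⁻¹) = orderOf y := fun y => (MulAut.conj g).orderOf_eq y
    have m1 : g * x * g⁻¹ ∈ T.map (MulAut.conj g).toMonoidHom := ⟨x, x.2, rfl⟩
    have m2 : g * c * g⁻¹ ∈ U.map (MulAut.conj g).toMonoidHom := ⟨c, hc, rfl⟩
    by_cases h1 : T.map (MulAut.conj g).toMonoidHom = T
    · have h2 : U.map (MulAut.conj g).toMonoidHom ≠ T := fun h2 =>
        hg0 (map_injective (MulAut.conj g).injective (h2.trans h1.symm))
      rw [h1] at m1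
      rw [← (huniq _ m1 _ x.2 _ (hT.comm (hU.conj g) h2 m2) _ (hUC hc') e).2, o1]
    · have h3 := hT.comm (hT.conj g) h1 m1
      by_cases h2 : U.map (MulAut.conj g).toMonoidHom = T
      · rw [h2] at m2
        rw [← h3 _ m2] at e
        obtain ⟨a, b⟩ := huniq _ m2 _ x.2 _ h3 _ (hUC hc') e
        rw [← b, o1, ← a, o1]
      · exact absurd (huniq 1 T.one_mem _ x.2 _ (mul_mem h3 (hT.comm (hU.conj g) h2 m2)) _ (hUC hc') (by rw [one_mul, e])).1.symm hx1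

theorem three_primes {T : Type*} [Group T] [Finite T] (h : ¬ Group.IsSolvable T) :
    ∃ p q r : ℕ, p.Prime ∧ q.Prime ∧ r.Prime ∧ p ≠ q ∧ p ≠ r ∧ q ≠ r ∧ p ∣ Nat.card T ∧ q ∣ Nat.card T ∧ r ∣ Nat.card T := by
  have key : ∀ p q : ℕ, p.Prime → q.Prime → ∃ r : ℕ, r.Prime ∧ r ∣ Nat.card T ∧ r ≠ p ∧ r ≠ q := by
    intro p q hp hq
    by_contra hc
    push Not at hc
    exact h (H5.isSolvable_of_primes_subset_pair hp hq fun r hr hd => by
      by_cases h1 : r = p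
      · exact Or.inl h1
      · exact Or.inr (hc r hr hd h1))
  obtain ⟨p, hp, hp', -⟩ := key 2 2 Nat.prime_two Nat.prime_two
  obtain ⟨q, hq, hq', h1, -⟩ := key p p hp hp
  obtain ⟨r, hr, hr', h2, h3⟩ := key p q hp hq
  exact ⟨p, q, r, hp, hq, hr, h1.symm, h2.symm, h3.symm, hp', hq', hr'⟩

theorem three_der [FaithfulSMul G Ω] [Nontrivial G] (hq : ∀ N : Subgroup G, N.Normal → N ≠ ⊥ → IsPretransitive N Ω)
    (hnas : ¬ ∃ T : Subgroup G, T.Normal ∧ IsSimpleGroup T ∧ ¬ IsMulCommutative T ∧ centralizer (T : Set G) = ⊥) :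
    (∃ N : Subgroup G, N.Normal ∧ N ≠ ⊥ ∧ IsMulCommutative N) ∨
      ∃ a b c : G, Dr Ω a ∧ Dr Ω b ∧ Dr Ω c ∧ ¬ IsConj a b ∧ ¬ IsConj a c ∧ ¬ IsConj b c := by
  rcases struct hq with ⟨N, p, -, h1, h2, h3⟩ | h | ⟨T, x, h1, h2, -, h4⟩
  · exact Or.inl ⟨N, h1, h2, h3.1⟩
  · exact absurd h hnas
  right
  obtain ⟨p, q, r, hp, hq, hr, a1, a2, a3, b1, b2, b3⟩ := three_primes h1
  have key : ∀ p : ℕ, p.Prime → p ∣ Nat.card T → ∃ c ∈ T, c ≠ 1 ∧ orderOf c = p := by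
    intro p hp hd
    haveI := Fact.mk hp
    obtain ⟨c, hc⟩ := exists_prime_orderOf_dvd_card' p hd
    refine ⟨c, c.2, fun h => hp.one_lt.ne ?_, by rw [orderOf_coe, hc]⟩
    rw [← hc, ← orderOf_coe, h, orderOf_one]
  obtain ⟨a, ha, ha1, rfl⟩ := key p hp b1
  obtain ⟨b, hb, hb1, rfl⟩ := key q hq b2
  obtain ⟨c, hc, hc1, rfl⟩ := key r hr b3
  exact ⟨_, _, _, h2 a ha ha1, h2 b hb hb1, h2 c hc hc1, fun h => a1 (h4 _ ha _ hb h), fun h => a2 (h4 _ ha _ hc h),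
    fun h => a3 (h4 _ hb _ hc h)⟩

theorem prim_q [FaithfulSMul G Ω] (h : IsPreprimitive G Ω) (N : Subgroup G) (hN : N.Normal) (h0 : N ≠ ⊥) : IsPretransitive N Ω := by
  apply IsQuasiPreprimitive.isPretransitive_of_normal
  intro hf
  apply h0
  rw [eq_bot_iff]
  intro n hn
  rw [mem_bot]
  refine eq_of_smul_eq_smul (α := Ω) fun β => ?_
  have : β ∈ fixedPoints N Ω := hf ▸ Set.mem_univ β
  rw [one_smul]; exact this ⟨n, hn⟩

theorem nontriv [Nontrivial Ω] (h : IsPretransitive G Ω) : Nontrivial G := by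
  obtain ⟨a, b, hab⟩ := exists_pair_ne Ω
  obtain ⟨g, hg⟩ := h.exists_smul_eq a b
  exact ⟨g, 1, fun h => hab (by rw [← hg, h, one_smul])⟩

section affine
variable [FaithfulSMul G Ω] {V : Subgroup G} [hV : V.Normal] (hc : IsMulCommutative V) (htr : IsPretransitive V Ω)
include hc htr

theorem aff_dr {v : G} (hv : v ∈ V) (h1 : v ≠ 1) : Dr Ω v :=
  semireg htr (fun c hc' => congrArg Subtype.val (hc.is_comm.comm ⟨c, hc'⟩ ⟨v, hv⟩)) h1

theorem aff_one {v : G} (hv : v ∈ V) {a : Ω} (h : v • a = a) : v = 1 := by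
  by_contra h1; exact aff_dr hc htr hv h1 a h

theorem aff_stab (a : Ω) : stabilizer V a = ⊥ :=
  eq_bot_iff.2 fun v hv => mem_bot.2 (Subtype.ext (aff_one hc htr v.2 hv))

theorem aff_out {g : G} (h1 : g ≠ 1) {a b : Ω} (hab : a ≠ b) (ha : g • a = a) (hb : g • b = b) : ∃ y, Dr Ω y ∧ y ∉ V := by
  obtain ⟨v, rfl⟩ := htr.exists_smul_eq a b
  have hm : ∀ u : V, g⁻¹ * u * g * (u : G)⁻¹ ∈ V := fun u => V.mul_mem (by simpa using hV.conj_mem _ u.2 g⁻¹) (V.inv_mem u.2)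
  let ψ : V → V := fun u => ⟨_, hm u⟩
  have ha' : g⁻¹ • a = a := inv_smul_eq_iff.2 ha.symm
  have hni : ¬ Function.Surjective ψ := by
    rw [← Finite.injective_iff_surjective]
    intro hi
    have : ψ v = ψ 1 := by
      apply Subtype.ext
      simp only [ψ, OneMemClass.coe_one, mul_one, inv_mul_cancel, inv_one]
      apply aff_one hc htr (hm v) (a := (v : G) • a)
      rw [Subgroup.smul_def] at hb
      rw [mul_smul, inv_smul_smul, mul_smul, ha, mul_smul, inv_smul_eq_iff, hb]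
    exact hab (by rw [hi this, one_smul])
  simp only [Function.Surjective, not_forall, not_exists] at hni
  obtain ⟨w, hw⟩ := hni
  refine ⟨g * w, fun β hβ => ?_, fun h => h1 (aff_one hc htr ((V.mul_mem_cancel_right w.2).1 h) ha)⟩
  obtain ⟨u, rfl⟩ := htr.exists_smul_eq a β
  apply hw u
  apply Subtype.ext
  have h2 : g⁻¹ * (u : G)⁻¹ * g * w * u = 1 := by
    apply aff_one hc htr (V.mul_mem (V.mul_mem (by simpa using hV.conj_mem _ (V.inv_mem u.2) g⁻¹) w.2) u.2) (a := a)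
    rw [Subgroup.smul_def] at hβ
    rw [mul_assoc _ g, mul_smul, mul_smul, hβ, mul_smul, inv_smul_smul, ha']
  simp only [ψ]
  calc g⁻¹ * u * g * (u : G)⁻¹ = g⁻¹ * u * g * (g⁻¹ * (u : G)⁻¹ * g * w * u) * (u : G)⁻¹ := by rw [h2, mul_one]
    _ = w := by group

theorem aff_conj {v w : G} (hv : v ∈ V) (h : IsConj v w) (a : Ω) : ∃ h : G, h • a = a ∧ h • v • a = w • a := by
  obtain ⟨g, rfl⟩ := isConj_iff.1 h
  obtain ⟨u, hu⟩ := htr.exists_smul_eq (g • a) a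
  rw [Subgroup.smul_def, ← mul_smul] at hu
  refine ⟨u * g, hu, ?_⟩
  have h1 : (u : G) * (g * v * g⁻¹) = g * v * g⁻¹ * u := congrArg Subtype.val (hc.is_comm.comm u ⟨_, hV.conj_mem v hv g⟩)
  calc (u * g) • v • a = ((u : G) * (g * v * g⁻¹) * g) • a := by rw [← mul_smul]; congr 1; group
    _ = _ := by rw [h1, mul_assoc, mul_smul, hu]

theorem aff_two (h : ∀ v ∈ V, ∀ w ∈ V, v ≠ 1 → w ≠ 1 → IsConj v w) : IsMultiplyPretransitive G Ω 2 := by
  rw [is_two_pretransitive_iff]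
  intro a b c d hab hcd
  obtain ⟨u, rfl⟩ := htr.exists_smul_eq a c
  obtain ⟨v, rfl⟩ := htr.exists_smul_eq a b
  obtain ⟨w, hw⟩ := htr.exists_smul_eq a (u⁻¹ • d)
  obtain ⟨k, k1, k2⟩ := aff_conj hc htr v.2 (h v v.2 w w.2 (fun h => hab (by rw [Subgroup.smul_def, h, one_smul]))
    (fun h => hcd (by rw [Subgroup.smul_def, h, one_smul] at hw; rw [hw, smul_inv_smul]))) a
  refine ⟨u * k, by rw [mul_smul, k1]; rfl, ?_⟩
  rw [mul_smul, Subgroup.smul_def, k2, ← Subgroup.smul_def, ← Subgroup.smul_def, hw, smul_inv_smul]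

end affine

theorem sharp_conj [Finite Ω] (h2 : IsMultiplyPretransitive G Ω 2) (hs : ∀ g : G, g ≠ 1 → ∀ a b : Ω, a ≠ b → g • a = a → g • b ≠ b)
    [Nonempty Ω] [FaithfulSMul G Ω] {x y : G} (hx : Dr Ω x) (hy : Dr Ω y) : IsConj x y := by
  classical
  rw [is_two_pretransitive_iff] at h2
  obtain ⟨a⟩ := ‹Nonempty Ω›
  obtain ⟨k, k1, k2⟩ := h2 (hx a).symm (hy a).symm
  have hz : Dr Ω (k * x * k⁻¹) := hx.conj (isConj_iff.2 ⟨k, rfl⟩)
  suffices h : k * x * k⁻¹ = y from isConj_iff.2 ⟨k, h⟩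
  have hza : (k * x * k⁻¹) • a = y • a := by rw [mul_smul, mul_smul, inv_smul_eq_iff.2 k1.symm, k2]
  generalize k * x * k⁻¹ = z at hz hza
  have hdet : ∀ g g' : G, g • a = g' • a → g • y • a = g' • y • a → g = g' := by
    intro g g' h1 h3
    by_contra hne
    exact hs (g'⁻¹ * g) (fun h => hne (inv_mul_eq_one.1 h).symm) a (y • a) (hy a).symm
      (by rw [mul_smul, h1, inv_smul_smul]) (by rw [mul_smul, h3, inv_smul_smul])
  have hex : ∀ d : Ω, d ≠ a → d ≠ y • a → ∃ g : G, g • a = y • a ∧ g • d = d := fun d h1 h3 => h2 h1.symm h3.symm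
  choose! F hF using hex
  let φ : Ω → Ω := fun d => if d = a then y • y • a else if d = y • a then z • y • a else F d • y • a
  have hG : ∀ d, ∃ g : G, g • a = y • a ∧ φ d = g • y • a ∧ (d = a → g = y) ∧ (d = y • a → g = z) ∧ (d ≠ a → d ≠ y • a → g • d = d) := by
    intro d
    by_cases h1 : d = a
    · exact ⟨y, rfl, by simp [φ, h1], fun _ => rfl, fun h => absurd (h1.symm.trans h).symm (hy a), fun h => absurd h1 h⟩
    by_cases h3 : d = y • a
    · exact ⟨z, hza, by simp only [φ, if_neg h1, if_pos h3], fun h => absurd h h1, fun _ => rfl, fun _ h => absurd h3 h⟩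
    · exact ⟨F d, (hF d h1 h3).1, by simp only [φ, if_neg h1, if_neg h3], fun h => absurd h h1, fun h => absurd h h3,
        fun _ _ => (hF d h1 h3).2⟩
  by_contra hne
  have hinj : Function.Injective φ := by
    intro d e hde
    obtain ⟨g, g1, g2, g3, g4, g5⟩ := hG d
    obtain ⟨g', f1, f2, f3, f4, f5⟩ := hG e
    obtain rfl := hdet g g' (g1.trans f1.symm) (g2.symm.trans (hde.trans f2))
    by_cases d1 : d = a
    · by_cases e1 : e = a
      · exact d1.trans e1.symm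
      by_cases e2 : e = y • a
      · exact absurd ((f4 e2).symm.trans (g3 d1)) hne
      · exact absurd (by rw [← g3 d1]; exact f5 e1 e2) (hy e)
    by_cases d2 : d = y • a
    · by_cases e1 : e = a
      · exact absurd ((g4 d2).symm.trans (f3 e1)) hne
      by_cases e2 : e = y • a
      · exact d2.trans e2.symm
      · exact absurd (by rw [← g4 d2]; exact f5 e1 e2) (hz e)
    by_cases e1 : e = a
    · exact absurd (by rw [← f3 e1]; exact g5 d1 d2) (hy d)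
    by_cases e2 : e = y • a
    · exact absurd (by rw [← f4 e2]; exact g5 d1 d2) (hz d)
    by_contra hne'
    exact hs g (fun h => hy a (by rw [← g1, h, one_smul])) d e hne' (g5 d1 d2) (f5 e1 e2)
  obtain ⟨d, hd⟩ := Finite.injective_iff_surjective.1 hinj (y • a)
  obtain ⟨g, g1, g2, -⟩ := hG d
  rw [hd, ← g1] at g2
  exact hy a (by rw [← g1]; exact (smul_left_cancel g g2).symm)

theorem exists_dr [Nontrivial Ω] (h : IsPretransitive G Ω) : ∃ g : G, Dr Ω g := by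
  obtain ⟨a, b, hab⟩ := exists_pair_ne Ω
  obtain ⟨x, hx⟩ := H24.exists_not_mem_conj (H := stabilizer G a) (fun ht => by
    obtain ⟨g, hg⟩ := h.exists_smul_eq a b
    exact hab (by rw [← hg]; exact (ht ▸ mem_top g : g ∈ stabilizer G a).symm))
  refine ⟨x, fun β hβ => ?_⟩
  obtain ⟨g, rfl⟩ := h.exists_smul_eq a β
  exact hx g (by rw [mem_stabilizer_iff, mul_smul, mul_smul, hβ, inv_smul_smul])

/-- classes of derangements -/
abbrev Cl (G Ω : Type*) [Group G] [MulAction G Ω] := {c : ConjClasses G // ∃ g : G, ConjClasses.mk g = c ∧ ∀ ω : Ω, g • ω ≠ ω}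

theorem cl_one : Nat.card (Cl G Ω) = 1 ↔ (∃ g : G, Dr Ω g) ∧ ∀ x y : G, Dr Ω x → Dr Ω y → IsConj x y := by
  rw [Nat.card_eq_one_iff_unique]
  constructor
  · rintro ⟨h1, ⟨_, g, -, hg⟩⟩
    exact ⟨⟨g, hg⟩, fun x y hx hy => ConjClasses.mk_eq_mk_iff_isConj.1
      (congrArg Subtype.val (h1.elim (⟨_, x, rfl, hx⟩ : Cl G Ω) ⟨_, y, rfl, hy⟩))⟩
  · rintro ⟨⟨g, hg⟩, h⟩
    exact ⟨⟨fun ⟨_, x, rfl, hx⟩ ⟨_, y, rfl, hy⟩ => Subtype.ext (ConjClasses.mk_eq_mk_iff_isConj.2 (h x y hx hy))⟩, ⟨⟨_, g, rfl, hg⟩⟩⟩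

theorem cl_two (h : Nat.card (Cl G Ω) = 2) {a b c : G} (ha : Dr Ω a) (hb : Dr Ω b) (hc : Dr Ω c) :
    IsConj a b ∨ IsConj a c ∨ IsConj b c := by
  obtain ⟨y, -, hy⟩ := (Nat.card_eq_two_iff' (⟨_, a, rfl, ha⟩ : Cl G Ω)).1 h
  by_contra hn
  push Not at hn
  have h1 := hy ⟨_, b, rfl, hb⟩ (fun h => hn.1 (ConjClasses.mk_eq_mk_iff_isConj.1 (congrArg Subtype.val h)).symm)
  have h2 := hy ⟨_, c, rfl, hc⟩ (fun h => hn.2.1 (ConjClasses.mk_eq_mk_iff_isConj.1 (congrArg Subtype.val h)).symm)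
  exact hn.2.2 (ConjClasses.mk_eq_mk_iff_isConj.1 (congrArg Subtype.val (h1.trans h2.symm)))

end H7.Der
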