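import Cfsg.Agent.H17.FV0

/-! S5720, chunk CH. -/

set_option autoImplicit false
set_option linter.unusedSectionVars false

open Module LinearMap

namespace H7.FV
universe v w

section
variable {K M : Type*} [Field K] [AddCommGroup M] [Module K M] [FiniteDimensional K M]

theorem step (f : End K M) {S T : Submodule K M} (h : ∀ x ∈ S, f x ∈ T) :
    finrank K S ≤ finrank K ↥(ker f ⊓ S) + finrank K T := by
  have h1 := finrank_range_add_finrank_ker (f.restrict h)
  have h2 := Submodule.finrank_le (range (f.restrict h))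
  have h3 : finrank K (ker (f.restrict h)) = finrank K ↥(ker f ⊓ S) := by
    rw [show ker (f.restrict h) = (ker f).comap S.subtype from Submodule.ext fun x => Subtype.ext_iff,
      ← Submodule.finrank_map_subtype_eq, Submodule.map_comap_subtype, inf_comm]
  omega

theorem chain (f : End K M) (W : ℕ → Submodule K M) (h : ∀ j, ∀ x ∈ W j, f x ∈ W (j + 2)) (m j : ℕ) :
    finrank K ↥(ker (f ^ m) ⊓ W j) ≤ ∑ i ∈ Finset.range m, finrank K ↥(ker f ⊓ W (j + 2 * i)) := by
  induction m generalizing j with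
  | zero => rw [pow_zero, show ker (1 : End K M) = ⊥ from ker_id, bot_inf_eq]; simp
  | succ m ih =>
    have h1 := step f (S := ker (f ^ (m + 1)) ⊓ W j) (T := ker (f ^ m) ⊓ W (j + 2)) fun x hx =>
      ⟨by have := hx.1; rw [pow_succ] at this; exact this, h j x hx.2⟩
    have h2 : finrank K ↥(ker f ⊓ (ker (f ^ (m + 1)) ⊓ W j)) ≤ finrank K ↥(ker f ⊓ W j) :=
      Submodule.finrank_mono (inf_le_inf_left _ inf_le_right)
    have h3 := ih (j + 2)
    rw [Finset.sum_range_succ']
    have e : ∀ i, j + 2 * (i + 1) = j + 2 + 2 * i := fun i => by ring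
    rw [Finset.sum_congr rfl fun i _ => by rw [e], show j + 2 * 0 = j from rfl]
    omega

theorem indep {ι : Type*} [Fintype ι] (P : ι → End K M) (h1 : ∀ i, P i * P i = P i)
    (h2 : ∀ i k, i ≠ k → P i * P k = 0) (U : Submodule K M) :
    ∑ i, finrank K ↥(U ⊓ range (P i)) ≤ finrank K U := by
  classical
  rw [← finrank_pi_fintype]
  refine finrank_le_finrank_of_injective (f := ∑ i, (Submodule.inclusion inf_le_left) ∘ₗ
    (proj i : (∀ i, ↥(U ⊓ range (P i))) →ₗ[K] _)) ((injective_iff_map_eq_zero _).2 fun x hx => ?_)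
  have e : ∑ i, (x i : M) = 0 := by simpa using congrArg Subtype.val hx
  funext k
  have := congrArg (P k) e
  rw [map_sum, map_zero, Finset.sum_eq_single k] at this
  · obtain ⟨y, hy⟩ := (x k).2.2
    refine Subtype.ext ?_
    rw [← hy, ← End.mul_apply, h1, hy] at this
    exact this
  · intro i _ hi
    obtain ⟨y, hy⟩ := (x i).2.2
    rw [← hy, ← End.mul_apply, h2 _ _ hi.symm, LinearMap.zero_apply]
  · simp

theorem two_sum (f : ℕ → ℕ) (d : ℕ) : ∑ i ∈ Finset.range d, f (2 * i) + ∑ i ∈ Finset.range d, f (1 + 2 * i) =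
    ∑ i ∈ Finset.range (2 * d), f i := by
  induction d with
  | zero => simp
  | succ d ih =>
    rw [show 2 * (d + 1) = 2 * d + 1 + 1 by ring]
    simp only [Finset.sum_range_succ, ← ih, add_comm 1 (2 * d)]
    ring
end

open H17.FV in
theorem ch : CH.{v, w} := by
  intro K A M _ _ _ _ _ _ _ _ p hp' _ D ν hp hν ef j
  have hd : 2 * ((p - 1) / 2) = p - 1 := by
    have := hp'.out.eq_two_or_odd; omega
  have hW : ∀ j, ∀ x ∈ range (act K M (D.π j)), act K M D.e x ∈ range (act K M (D.π (j + 2))) := by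
    rintro j _ ⟨x, rfl⟩
    exact ⟨act K M D.e x, by rw [← End.mul_apply, ← End.mul_apply, ← map_mul, ← map_mul, ef.eπ]⟩
  have c1 := chain (act K M D.e) (fun j => range (act K M (D.π j))) hW ((p - 1) / 2) j
  have c2 := chain (act K M D.e) (fun j => range (act K M (D.π j))) hW ((p - 1) / 2) (j + 1)
  have c3 := two_sum (fun i => finrank K ↥(ker (act K M D.e) ⊓ range (act K M (D.π (j + i))))) ((p - 1) / 2)
  have c4 := indep (fun i : Fin (p - 1) => act K M (D.π (j + i))) (fun i => by rw [← map_mul, ef.ππ])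
    (fun i k h => by
      rw [← map_mul, ef.orth, map_zero]
      exact fun e => h (Fin.ext (Nat.ModEq.eq_of_lt_of_lt (Nat.ModEq.add_left_cancel' _ e) i.2 k.2)))
    (ker (act K M D.e))
  rw [Fin.sum_univ_eq_sum_range (fun i => finrank K ↥(ker (act K M D.e) ⊓ range (act K M (D.π (j + i))))),
    ← hd, ← c3] at c4
  rw [show act K M (D.e ^ ((p - 1) / 2)) = act K M D.e ^ ((p - 1) / 2) from map_pow (Algebra.lsmul K K M) _ _]
  rw [Finset.sum_congr rfl fun i _ => by rw [add_assoc j 1]] at c2
  exact (add_le_add c1 c2).trans c4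

end H7.FV
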