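import Cfsg.Agent.H19.Amb6
import Cfsg.Agent.H11.SL
import Cfsg.Agent.S0262
import Cfsg.Agent.S2602
import Cfsg.Agent.S2904
import Cfsg.Agent.S2119

/-! Gagola's theorem, part 3: primes with cyclic Sylow subgroups not dividing `|Out|`. -/

set_option autoImplicit false
open Cfsg Subgroup

namespace H7.GG
open H19
open scoped MatrixGroups

/-- a prime with cyclic Sylow subgroups and no outer automorphisms of that order -/
def Gd (S : Type*) [Group S] : Prop := ∃ r : ℕ, r.Prime ∧ r ∣ Nat.card S ∧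
  (∀ A : Subgroup S, PG r A → Cyc A) ∧ ∀ α : MulAut S, PiE {r} α → ∃ g, ∀ x, α x = g * x * g⁻¹

theorem Gd.of_equiv {S S' : Type*} [Group S] [Group S'] (h : Gd S') (e : S ≃* S') : Gd S := by
  obtain ⟨r, h1, h2, h3, h4⟩ := h
  refine ⟨r, h1, Nat.card_congr e.toEquiv ▸ h2, fun A hA => ?_, fun α hα => ?_⟩
  · have := h3 (A.map e.toMonoidHom) (hA.dvd (card_map_dvd _ _))
    exact isCyclic_of_surjective _ (A.equivMapOfInjective e.toMonoidHom e.injective).symm.surjective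
  · obtain ⟨g, hg⟩ := h4 (MulAut.congr e α) (by unfold PiE at *; rwa [MulEquiv.orderOf_eq])
    refine ⟨e.symm g, fun x => e.injective ?_⟩
    simpa using hg (e x)

theorem cyc_of_not_sq {S : Type*} [Group S] [Finite S] {r : ℕ} (hr : r.Prime)
    (h : ¬ r ^ 2 ∣ Nat.card S) (A : Subgroup S) (hA : PG r A) : Cyc A := by
  obtain ⟨k, hk⟩ := hA.exists_card
  have h1 : k ≤ 1 := by
    by_contra h2
    exact h ((pow_dvd_pow r (by omega)).trans (hk ▸ card_subgroup_dvd_card A))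
  interval_cases k
  · rw [card_eq_one.1 (hk.trans (pow_zero r))]; exact cyc_bot
  · exact cyclic_of_prime (by rw [hk, pow_one]; exact hr)

theorem exists_prime {p f : ℕ} (hp : p.Prime) (hf : 2 ≤ f) :
    ∃ r : ℕ, r.Prime ∧ r ≠ 2 ∧ r ≠ p ∧ ¬ r ∣ f ∧ r ∣ (p ^ f) ^ 2 - 1 := by
  by_cases h : p = 2 ∧ f = 3
  · obtain ⟨rfl, rfl⟩ := h
    exact ⟨7, by norm_num, by norm_num, by norm_num, by norm_num, by norm_num⟩
  obtain ⟨r, h1, h2, h3⟩ := Cfsg.Agent.S2904.result p (f * 2) hp.one_lt (by omega)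
    (fun e => h ⟨e.1, by omega⟩) (fun e => by omega)
  have h4 : r ≠ p := by
    rintro rfl
    have := (Nat.dvd_sub_iff_right (Nat.one_le_pow _ _ hp.pos) (dvd_pow_self r (by omega))).1 h2
    exact hp.one_lt.ne' (Nat.dvd_one.1 this)
  have h5 : f * 2 ≤ r - 1 := by
    by_contra h6
    refine h3 (r - 1) (by have := h1.two_le; omega) (by omega) ?_
    have := Nat.ModEq.pow_totient ((Nat.coprime_primes hp h1).2 h4.symm)
    rw [Nat.totient_prime h1] at this
    exact (Nat.modEq_iff_dvd' (Nat.one_le_pow _ _ hp.pos)).1 this.symm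
  exact ⟨r, h1, by omega, h4, fun e => by have := Nat.le_of_dvd (by omega) e; omega,
    by rwa [← pow_mul]⟩

theorem inner_psl {F : Type*} [Field F] [Fintype F] {p f r : ℕ} [Fact p.Prime] (hf : 1 ≤ f)
    (hF : Fintype.card F = p ^ f) (h4 : 4 ≤ p ^ f) (hr : r.Prime) (h2 : r ≠ 2) (h3 : ¬ r ∣ f)
    (α : MulAut PSL(2, F)) (hα : PiE {r} α) : ∃ g, ∀ x, α x = g * x * g⁻¹ := by
  obtain ⟨φ, -, -, h5⟩ := Cfsg.Agent.S2602.result hf hF h4
  set a : Cfsg.Out PSL(2, F) := QuotientGroup.mk' _ α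
  have ha : PiE {r} a := hα.dvd (orderOf_map_dvd _ _)
  have h6 : φ a = 1 := PiN.e_eq_one (ha.dvd (orderOf_map_dvd _ _))
    ((PiN.of_not_dvd h3).dvd ((orderOf_dvd_natCard (φ a)).trans (by
      rw [Nat.card_congr Multiplicative.toAdd, Nat.card_zmod])))
  have h7 : a = 1 := PiN.e_eq_one ha ((PiN.of_not_dvd (n := 2) fun e =>
    h2 ((Nat.prime_dvd_prime_iff_eq hr Nat.prime_two).1 e)).dvd
      ((Subgroup.orderOf_dvd_natCard φ.ker h6).trans (h5 ▸ Nat.gcd_dvd_left _ _)))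
  obtain ⟨g, hg⟩ := (QuotientGroup.eq_one_iff α).1 h7
  exact ⟨g, fun x => by rw [← hg]; rfl⟩

theorem gd_psl {F : Type*} [Field F] [Fintype F] (h4 : 4 ≤ Fintype.card F) : Gd PSL(2, F) := by
  obtain ⟨p, hc⟩ := CharP.exists F
  obtain ⟨f, hp, hF⟩ := FiniteField.card F p
  haveI := Fact.mk hp
  have hc := H11.card_psl_two (F := F)
  have key : ∀ r : ℕ, r.Prime → r ≠ 2 → r ∣ Fintype.card F * (Fintype.card F ^ 2 - 1) →
      r ∣ Nat.card PSL(2, F) := fun r hr h2 h => ((hr.dvd_mul).1 (hc ▸ h)).resolve_left fun e =>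
    h2 ((Nat.prime_dvd_prime_iff_eq hr Nat.prime_two).1 (e.trans (Nat.gcd_dvd_left _ _)))
  by_cases hf : 2 ≤ (f : ℕ)
  · obtain ⟨r, h1, h2, h3, h5, h6⟩ := exists_prime hp hf
    haveI := Fact.mk h1
    refine ⟨r, h1, key r h1 h2 (hF ▸ h6.mul_left _), fun A hA => ?_,
      inner_psl f.pos hF (hF ▸ h4) h1 h2 h5⟩
    obtain ⟨Q, hQ⟩ := hA.isPGroup.exists_le_sylow
    obtain ⟨R, rfl⟩ := Sylow.mapSurjective_surjective
      (QuotientGroup.mk'_surjective (center SL(2, F))) r Q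
    have := Cfsg.Agent.S0262.result p r h2 h3 R
    exact cyc_mono (isCyclic_of_surjective _ (MonoidHom.subgroupMap_surjective _ _)) hQ
  · have h1 : (f : ℕ) = 1 := by have := f.pos; omega
    have h2 : p ≠ 2 := by rintro rfl; rw [hF, h1] at h4; omega
    refine ⟨p, hp, key p hp h2 (Dvd.dvd.mul_right (by rw [hF, h1, pow_one]) _),
      cyc_of_not_sq hp fun e => ?_, inner_psl f.pos hF (hF ▸ h4) hp h2
        (by rw [h1]; exact fun e => hp.one_lt.ne' (Nat.dvd_one.1 e))⟩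
    have h3 := e.trans (hc ▸ Dvd.intro_left _ rfl)
    rw [hF, h1, pow_one] at h3
    nth_rw 1 [sq] at h3
    have h5 := Nat.dvd_of_mul_dvd_mul_left hp.pos h3
    have := (Nat.dvd_sub_iff_right (Nat.one_le_pow _ _ hp.pos) (dvd_pow_self p two_ne_zero)).1 h5
    exact hp.one_lt.ne' (Nat.dvd_one.1 this)

theorem gd_A7 : Gd (alternatingGroup (Fin 7)) := by
  have hc : Nat.card (alternatingGroup (Fin 7)) = 2520 := by
    have := two_mul_card_alternatingGroup (α := Fin 7)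
    rw [Fintype.card_perm, Fintype.card_fin, ← Nat.card_eq_fintype_card,
      show Nat.factorial 7 = 5040 from rfl] at this
    omega
  refine ⟨7, by norm_num, by rw [hc]; norm_num, cyc_of_not_sq (by norm_num) (by rw [hc]; norm_num),
    fun α hα => ?_⟩
  obtain ⟨h1, h2⟩ := Cfsg.Agent.S2119.result 7 (by norm_num) (by norm_num)
  obtain ⟨σ, rfl⟩ := h2 α
  have h3 : PiE {7} σ := by unfold PiE at *; rwa [orderOf_injective _ h1] at hα
  have h4 : σ ∈ alternatingGroup (Fin 7) := by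
    refine zpowers_le.1 (le_of_pi_of_relIndex (M := ⊤) le_normalizer_of_normal le_top le_top
      (piG_zpowers.2 h3) ?_)
    rw [relIndex_top_right, alternatingGroup.index_eq_two]
    exact PiN.of_not_dvd (by norm_num)
  exact ⟨⟨σ, h4⟩, fun x => Subtype.ext (by simp)⟩

end H7.GG
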