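import Cfsg.Agent.H7.GG2
import Cfsg.Agent.H7.GG3
import Cfsg.Agent.H1.GFitting

/-! Gagola's theorem, part 4: groups of central type and components. -/

set_option autoImplicit false
open Cfsg Subgroup

namespace H7.GG
open H20 H19 H6 H8
open scoped ComplexConjugate Classical commutatorElement

universe u
variable {H G : Type u} [Group H] [Group G] [Finite H] [Finite G] {π : H →* G} {l : H → ℂ}
  {e p : ℕ} {A R S : Subgroup G} {x y s c : H}

theorem comm_of_coprime {z b : H} {m n : ℕ} (hz : ∀ g, g * z = z * g) (h : x * b * x⁻¹ * b⁻¹ = z)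
    (hm : ∀ g, g * x ^ m = x ^ m * g) (hn : b ^ n = 1) (hc : m.Coprime n) : x * b = b * x := by
  have h1 : z ^ n = 1 := by
    have e1 : x * b * x⁻¹ = z * b := by rw [← h]; group
    have e2 := congrArg (· ^ n) e1
    simp only [conj_pow, hn] at e2
    rw [Commute.mul_pow (hz b).symm, hn] at e2
    simpa using e2.symm
  have h2 : z ^ m = 1 := by
    have e1 : b * x⁻¹ * b⁻¹ = x⁻¹ * z := by rw [← h]; group
    have e2 := congrArg (· ^ m) e1
    simp only [conj_pow] at e2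
    rw [Commute.mul_pow (hz x⁻¹), inv_pow, (Commute.inv_right (hm b) : b * _ = _)] at e2
    simpa using e2.symm
  have h3 : z = 1 := by simpa using pow_eq_one_iff_of_coprime hc |>.1 ⟨h2, h1⟩
  rw [h3] at h
  calc x * b = x * b * x⁻¹ * b⁻¹ * (b * x) := by group
    _ = _ := by rw [h, one_mul]

structure CE (π : H →* G) (l : H → ℂ) (e : ℕ) : Prop where
  surj : Function.Surjective π
  cent : ⊤ ≤ C(π.ker)
  lin : Lin π.ker l
  faith : cker l = ⊥
  fr : FR ⊤ π.ker l e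
  hyp : Hyp ⊤ π.ker

theorem ker_comm_iff : x * y * x⁻¹ * y⁻¹ ∈ π.ker ↔ π y ∈ C[π x] := by
  rw [MonoidHom.mem_ker, mem_cent1]
  simp only [map_mul, map_inv, mul_inv_eq_iff_eq_mul, one_mul]
  exact eq_comm

namespace CE
variable (h : CE π l e)
include h

theorem cz {z : H} (hz : π z = 1) (g : H) : g * z = z * g := (mem_cent.1 (h.cent (mem_top g)) z hz).symm

theorem rel (A : Subgroup G) : π.ker.relIndex (A.comap π) = #A := by
  rw [relIndex_ker, map_comap_eq_self_of_surjective h.surj]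

theorem ab_cyc (hA : Cyc A) : Ab (A.comap π) := by
  obtain ⟨g, rfl⟩ := cyc_iff.1 hA
  obtain ⟨u, rfl⟩ := h.surj g
  rw [← MonoidHom.map_zpowers, comap_map_eq]
  exact comm_sup (comm_zpowers u) (comm_iff_le_cent.2 (le_top.trans h.cent)) (le_top.trans h.cent)

theorem comm_perf (hS : ⁅S, S⁆ = S) (hc : π c ∈ C(S)) (hs : π s ∈ S) : c * s = s * c := by
  have h1 : ⁅S.comap π, zpowers c⁆ ≤ π.ker := by
    rw [← Subgroup.map_eq_bot_iff, map_commutator, map_comap_eq_self_of_surjective h.surj,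
      MonoidHom.map_zpowers, commg_eq_bot]
    exact cents_symm (zpowers_le.2 hc)
  have h2 : ⁅⁅S.comap π, zpowers c⁆, S.comap π⁆ = ⊥ :=
    commg_eq_bot.2 (h1.trans (cents_symm (le_top.trans h.cent)))
  have h3 := commg_eq_bot.1 (three_subgroup h2 (by rwa [commutator_comm (zpowers c)]))
  have h4 : S.comap π ≤ ⁅S.comap π, S.comap π⁆ ⊔ π.ker := by
    rw [← comap_map_eq, map_commutator, map_comap_eq_self_of_surjective h.surj, hS]
  exact mem_cent.1 (sup_le h3 (cents_symm (le_top.trans h.cent)) (h4 hs)) c (mem_zpowers c)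

theorem fr_syl (hp : p.Prime) (hR : Syl p R ⊤) : ∃ k, FR (R.comap π) π.ker l k :=
  h.fr.sylow hp (ker_le_comap π R) le_top (h.rel R ▸ hR.pi) (by
    rw [relIndex_top_right, index_comap_of_surjective _ h.surj, ← relIndex_top_right]
    exact hR.not_dvd hp)

theorem ct (hp : p.Prime) (hR : Syl p R ⊤) (hx : π x ∈ R) (h1 : π x ≠ 1) :
    ∃ y, π y ∈ R ∧ π y ∈ C[π x] ∧ x * y ≠ y * x := by
  obtain ⟨k, hk⟩ := h.fr_syl hp hR
  obtain ⟨y, h2, h3, h4⟩ := fr_ct hk (le_top.trans h.cent) h.lin hx h1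
  exact ⟨y, h2, ker_comm_iff.1 h3, h4⟩

theorem constt_ne (hx : PiE {p} (π x)) (hs : π s ∈ C[π x]) (hne : x * s ≠ s * x) :
    x * constt {p} s ≠ constt {p} s * x := fun e1 => hne <| by
  have h1 : π (constt {p}ᶜ s) ∈ C[π x] := constt_mem (H := (C[π x]).comap π) _ hs
  have h2 := comm_of_coprime (h.cz (ker_comm_iff.2 h1)) rfl
    (h.cz (by rw [map_pow, pow_orderOf_eq_one])) (pow_orderOf_eq_one _)
    (hx.coprime (constt_pi _ s))
  rw [← constt_mul_compl {p} s, ← mul_assoc, e1, mul_assoc, h2, mul_assoc]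

theorem key (hp : p.Prime) (hR : Syl p R ⊤) (hF : fittingSubgroup G = ⊥) (hS : IsComponent S)
    (hx : π x ∈ R) (hxS : π x ∈ S) (h1 : π x ≠ 1)
    (hin : ∀ y ∈ R, y ∈ N(S) → ∃ g ∈ S, g⁻¹ * y ∈ C(S)) :
    ∃ y ∈ R, y ∈ C[π x] ∧ ∃ s, π s ∈ S ∧ PiE {p} (π s) ∧ (∀ a ∈ S, y ∈ C[a] → π s ∈ C[a]) ∧
      x * s ≠ s * x := by
  obtain ⟨y, h2, h3, h4⟩ := h.ct hp hR hx h1
  have h5 : π y ∈ N(S) := by
    by_contra hn
    have := commg_eq_bot.1 (H1.commutator_eq_bot_of_component_ne hS (H1.isComponent_conj hS (π y))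
      fun e => hn (mem_norm_iff_cj.2 e.symm))
    have h6 : π x ∈ cj (π y) S := by
      rw [mem_cj, mul_assoc, ← mem_cent1.1 h3]; simpa using hxS
    refine h1 (mem_bot.1 (hF ▸ H1.component_inf_centralizer_le_fitting hS ⟨hxS, ?_⟩))
    exact cents_symm this h6
  obtain ⟨g, hg, h6⟩ := hin _ h2 h5
  obtain ⟨s, rfl⟩ := h.surj g
  have h7 : ∀ a ∈ S, π y ∈ C[a] → π s ∈ C[a] := fun a ha hy => by
    simpa using mul_mem hy (inv_mem (cent_le_cent1 ha h6))
  have h8 := h.comm_perf (c := s⁻¹ * y) (H1.isQuasisimple_subgroup_iff.1 hS.2).1 (by simpa using h6) hxS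
  have h9 : x * s ≠ s * x := fun e1 => h4 (by
    calc x * y = x * s * (s⁻¹ * y) := by group
      _ = s * (s⁻¹ * y * x) := by rw [e1, h8, mul_assoc]
      _ = _ := by group)
  exact ⟨π y, h2, h3, constt {p} s, constt_mem (H := S.comap π) _ hg,
    (constt_pi _ s).dvd (orderOf_map_dvd _ _),
    fun a ha hy => constt_mem (H := (C[a]).comap π) _ (h7 a ha hy),
    h.constt_ne (hR.pi.elt hx) (h7 _ hxS h3) h9⟩

end CE

/-- conjugation automorphism -/
theorem inner_of {y : G} (hy : y ∈ N(S)) (h : ∃ g : S, ∀ x : S,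
    normalizerMonoidHom S ⟨y, hy⟩ x = g * x * g⁻¹) : ∃ g ∈ S, g⁻¹ * y ∈ C(S) := by
  obtain ⟨g, hg⟩ := h
  refine ⟨g, g.2, mem_cent.2 fun a ha => ?_⟩
  have : y * a * y⁻¹ = g * a * (g : G)⁻¹ := congrArg Subtype.val (hg ⟨a, ha⟩)
  calc a * ((g : G)⁻¹ * y) = (g : G)⁻¹ * (g * a * (g : G)⁻¹) * y := by group
    _ = _ := by rw [← this]; group

theorem piE_aut {y : G} (hy : y ∈ N(S)) (h : PiE {p} y) :
    PiE {p} (normalizerMonoidHom S ⟨y, hy⟩) :=
  h.dvd ((orderOf_map_dvd _ _).trans (by rw [← orderOf_coe]))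

theorem CE.not_gd (h : CE π l e) (hF : fittingSubgroup G = ⊥) (hS : IsComponent S) : ¬ Gd S := by
  rintro ⟨r, h1, h2, h3, h4⟩
  obtain ⟨g, hg, hg'⟩ := exists_orderOf_eq_prime h1 h2
  obtain ⟨x, rfl⟩ := h.surj g
  have h5 : PiE {r} (π x) := by unfold PiE; rw [hg']; exact (piN_prime h1).2 rfl
  obtain ⟨R, hR, hR'⟩ := (piG_zpowers.2 h5).exists_syl le_top
  obtain ⟨y, -, h6, s, h7, h8, h9, h10⟩ := h.key h1 hR hF hS (zpowers_le.1 hR') hg
    (fun e => h1.one_lt.ne' (by rw [← hg', e, orderOf_one]))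
    fun y hy hn => inner_of hn (h4 _ (piE_aut hn (hR.pi.elt hy)))
  have h11 : zpowers (π x) ⊔ zpowers (π s) ≤ S := sup_le (zpowers_le.2 hg) (zpowers_le.2 h7)
  have h12 : PG r (zpowers (π x) ⊔ zpowers (π s) : Subgroup G) :=
    (piG_zpowers.2 h5).sup (piG_zpowers.2 h8)
      (zpowers_le.2 (cent1_le_norm_zpowers _ (h9 _ hg h6)))
  have h13 := h3 ((zpowers (π x) ⊔ zpowers (π s)).subgroupOf S)
    (by unfold PG PiG; rwa [card_subgroupOf' h11])
  have h14 : Cyc (zpowers (π x) ⊔ zpowers (π s) : Subgroup G) :=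
    isCyclic_of_surjective _ (subgroupOfEquivOfLe h11).surjective
  exact h10 (mul_comm_of_comm (h.ab_cyc h14) (mem_sup_left (mem_zpowers (π x)))
    (mem_sup_right (mem_zpowers (π s))))

end H7.GG
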