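import Cfsg.Agent.H7.GG4
import Cfsg.Agent.S0112
import Cfsg.Agent.S0113
import Cfsg.Agent.S4593

/-! Gagola's theorem, part 5: the prime 2. -/

set_option autoImplicit false
open Cfsg Subgroup

namespace H7.GG
open H20 H19 H6 H8
open scoped ComplexConjugate Classical commutatorElement

universe u

theorem no_fix {X : Type*} [Group X] [Finite X] {p : ℕ} [hp : Fact p.Prime] (P : Sylow p X)
    (hP : IsMulCommutative P) {z : X} (hz : z ∈ P) (hd : z ∈ commutator X)
    (hf : ∀ g ∈ N((P : Subgroup X)), g * z = z * g) : z = 1 := by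
  letI : CommGroup P := { (inferInstance : Group P) with mul_comm := hP.is_comm.comm }
  have h1 := MonoidHom.transfer_eq_pow (MonoidHom.id P) z fun k g hg => by
    obtain ⟨n, hn, e⟩ := P.conj_eq_normalizer_conj_of_mem (z ^ k) g (pow_mem hz k) hg
    rw [e, mul_assoc, ← (Commute.pow_right (hf n hn) k).eq, inv_mul_cancel_left]
  rw [Abelianization.commutator_subset_ker _ hd] at h1
  have h2 : z ^ (P : Subgroup X).index = 1 := (congrArg Subtype.val h1).symm
  exact PiN.e_eq_one ((syl_sylow_top P).pi.elt hz)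
    ((PiN.of_not_dvd P.not_dvd_index).dvd (orderOf_dvd_of_pow_eq_one h2))

theorem ab_of_map {X : Type*} [Group X] {S : Subgroup X} {P : Subgroup S}
    (h : Ab (P.map S.subtype)) : Ab P := comm_iff_le_cent.2 fun a ha => mem_cent.2 fun b hb =>
  Subtype.ext (mul_comm_of_comm h ⟨b, hb, rfl⟩ ⟨a, ha, rfl⟩)

theorem ab_of_index {X : Type*} [Group X] [Finite X] {W K : Subgroup X} (hc : W ≤ C(K))
    (h : W.relIndex K ∣ 2) : Ab K := by
  rcases (Nat.dvd_prime Nat.prime_two).1 h with h | h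
  · exact comm_iff_le_cent.2 ((relIndex_eq_one.1 h).trans hc)
  · exact ab_of_cyc_quo (norms_of_cents (cents_symm hc)) (inf_le_left.trans hc)
      (cyc_quo_of_prime (norms_of_cents (cents_symm hc)) (h ▸ Nat.prime_two))

theorem sixteen {X : Type*} [Group X] [Finite X] (hX : Nat.card X = 16) (hZ : #(center X) = 2) :
    ∃ x : X, x ≠ 1 ∧ C[x] ≤ zpowers x := by
  have hT : #(⊤ : Subgroup X) = 16 := card_top.trans hX
  have hc : ∀ x : X, ⊤ ≤ C[x] → x ∈ center X := fun x h =>
    mem_center_iff.2 fun g => mem_cent1.1 (h (mem_top g))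
  have hm : ∀ A B : Subgroup X, #A = 8 → A ≤ B → B = A ∨ B = ⊤ := fun A B h1 h2 => by
    have := card_mul_relIndex (le_top : A ≤ ⊤)
    exact eq_of_prime_index h2 le_top (by
      rw [show A.relIndex ⊤ = 2 by rw [h1, hT] at this; omega]; exact Nat.prime_two)
  by_cases h : ∃ x : X, #(C[x]) = 4
  · obtain ⟨x, hx⟩ := h
    haveI := Fact.mk Nat.prime_two
    have h1 := Cfsg.Agent.S0112.result (p := 2) 4 hX C[x] hx (le_antisymm
      (cent_le_cent1 (mem_cent1_self x))
      (comm_iff_le_cent.1 (ab_of_card_sq Nat.prime_two (by rw [hx]; norm_num))))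
    obtain ⟨D, h2, h3⟩ := Cfsg.Agent.S0113.result 4 (by norm_num) hX h1
    obtain ⟨g, rfl⟩ := cyc_iff.1 h2
    have h4 := card_mul_index (zpowers g)
    have h5 : #(zpowers g) = 8 := by rw [h3, hX] at h4; omega
    refine ⟨g, fun e => by simp [e] at h5, ?_⟩
    rcases hm _ C[g] h5 (zpowers_le.2 (mem_cent1_self g)) with e | e
    · exact e.le
    · have := card_le (zpowers_le.2 (hc g e.ge)); omega
  push Not at h
  have key : ∀ x : X, x ∉ center X → #(C[x]) = 8 ∧ Ab C[x] := fun x hx => by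
    have h1 : center X ⊔ zpowers x ≤ C[x] ⊓ C(C[x]) := sup_le
      (le_inf (center_le_centralizer _) (center_le_centralizer _))
      (zpowers_le.2 ⟨mem_cent1_self x, le_cent1_iff.1 le_rfl⟩)
    have h2 : 2 < #(center X ⊔ zpowers x) := hZ ▸ card_lt (lt_of_le_of_ne le_sup_left fun e =>
      hx (e.ge (mem_sup_right (mem_zpowers x))))
    have h3 := card_le (h1.trans inf_le_left)
    have h4 : #(C[x]) < 16 := hT ▸ card_lt (lt_top_iff_ne_top.2 fun e => hx (hc x e.ge))
    have h5 : #(C[x]) ∣ 16 := hX ▸ card_subgroup_dvd_card _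
    have h6 := h x
    have h7 : #(C[x]) = 8 := by
      have := Nat.le_of_dvd (by norm_num) h5
      interval_cases #(C[x]) <;> omega
    refine ⟨h7, ab_of_index (h1.trans inf_le_right) ?_⟩
    have h8 := card_mul_relIndex (h1.trans inf_le_left)
    rw [h7] at h8
    have h9 : #(center X ⊔ zpowers x) ≤ 8 := h7 ▸ h3
    have h10 : (center X ⊔ zpowers x).relIndex C[x] = 1 ∨
        (center X ⊔ zpowers x).relIndex C[x] = 2 := by
      interval_cases #(center X ⊔ zpowers x) <;> omega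
    rcases h10 with e | e <;> rw [e]; norm_num
  obtain ⟨x, -, hx⟩ := SetLike.not_le_iff_exists.1 (fun e : ⊤ ≤ center X => by
    have := card_le e; omega)
  obtain ⟨y, -, hy⟩ := SetLike.not_le_iff_exists.1 fun e => hx (hc x e)
  obtain ⟨a1, a2⟩ := key x hx
  obtain ⟨b1, b2⟩ := key y fun e => hy (center_le_centralizer _ e)
  have h1 : C[y] ≤ N(C[x]) := by
    have := card_mul_index C[x]
    haveI := normal_of_index_eq_two (H := C[x]) (by rw [a1, hX] at this; omega)
    exact le_normalizer_of_normal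
  have h2 := card_sup_mul_inf h1
  have h3 : C[x] ⊓ C[y] ≤ center X := fun z hz => by
    refine hc z ((hm _ C[z] a1 (le_cent1_iff.2 (comm_iff_le_cent.1 a2 hz.1))).resolve_left
      fun e => hy (e.le (mem_cent1_symm.1 hz.2))).ge
  have h4 := card_le h3
  have h5 := card_le (le_top : C[x] ⊔ C[y] ≤ ⊤)
  rw [a1, b1] at h2
  nlinarith

variable {H G : Type u} [Group H] [Group G] [Finite H] [Finite G] {π : H →* G} {l : H → ℂ}
  {e p : ℕ} {A R S : Subgroup G} {x y s c : H}

theorem fr_of_center {Z K : Subgroup H} (hc : ⊤ ≤ C(Z)) (hl : Lin Z l) (hf : cker l = ⊥)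
    (hZ : Z ≤ K) (hK : ⁅K, K⁆ ≤ Z) (hU : K ⊓ C(K) ≤ Z) : ∃ f, f ^ 2 = Z.relIndex K := by
  obtain ⟨φ, hφ⟩ := exists_ovr hZ hl.irr
  have h1 : ovr K Z l = {φ} := Finset.eq_singleton_iff_unique_mem.2 ⟨hφ, fun ψ hψ => by
    obtain ⟨c, h1, h2⟩ := trans_of_cent hc hl hf hZ hK hU hφ hψ
    rw [← h2, (irr_cinv (mem_ovr.1 hφ).1).cfj_eq h1]⟩
  have hn : Z ⊴ K := ⟨hZ, norms_of_cents (le_top.trans hc)⟩
  have h2 : inertia K l = K := inertia_eq_self (cinv_of_cent (le_top.trans hc) hl.chr.2)
  obtain ⟨f, -, h3, -⟩ := Ind_ab_inertia hn hl.irr (h2.symm ▸ hK)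
  exact ⟨f, by simpa [h1, h2] using h3⟩

namespace CE
variable (h : CE π l e)
include h

theorem ab_eight (hS : ⁅S, S⁆ = S) (hA : Syl 2 A S) (ha : Ab A) (h8 : #A = 8) :
    Ab (A.comap π) := by
  set K := A.comap π with hK
  have hm : K.map π = A := map_comap_eq_self_of_surjective h.surj A
  have hZ : π.ker ≤ K ⊓ C(K) := le_inf (ker_le_comap π A) (cents_symm (le_top.trans h.cent))
  have h1 := relIndex_mul_relIndex _ _ _ hZ inf_le_left
  rw [h.rel, h8, relIndex_ker] at h1
  by_cases h2 : #((K ⊓ C(K)).map π) = 1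
  · obtain ⟨f, hf⟩ := fr_of_center h.cent h.lin h.faith (ker_le_comap π A) (by
      rw [← Subgroup.map_eq_bot_iff, map_commutator, hm]; exact comm_iff_der.1 ha)
      ((Subgroup.map_eq_bot_iff _).1 (card_eq_one.1 h2))
    rw [h.rel, h8] at hf
    have : f ≤ 3 := by nlinarith
    interval_cases f <;> omega
  by_cases h3 : #((K ⊓ C(K)).map π) = 2
  · exfalso
    haveI := Fact.mk Nat.prime_two
    obtain ⟨u, hu, hu'⟩ := (Nat.card_eq_two_iff' 1).1 h3
    obtain ⟨P, rfl⟩ := hA.exists_sylow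
    have h4 : (u : G) ∈ (P : Subgroup S).map S.subtype := hm ▸ map_mono inf_le_left u.2
    obtain ⟨z, hz, hz'⟩ := h4
    have h5 := no_fix P (ab_of_map ha) hz
      (by rw [← mem_map_iff_mem S.subtype_injective, map_subtype_commutator, hS]; exact z.2)
      fun g hg => by
        obtain ⟨n, hn⟩ := h.surj g
        have h6 : π n ∈ N((P : Subgroup S).map S.subtype) :=
          hn ▸ le_normalizer_map S.subtype ⟨g, hg, rfl⟩
        have h7 : n ∈ N(K) := le_normalizer_comap π h6
        have h9 : π n ∈ N((K ⊓ C(K)).map π) :=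
          le_normalizer_map π ⟨n, norm_le_norm_center K h7, rfl⟩
        have h10 := hu' ⟨_, conj_mem_of_norm h9 u.2⟩ fun e => hu (Subtype.ext
          (conj_eq_one_iff'.1 (congrArg Subtype.val e)))
        have h11 : π n * u * (π n)⁻¹ = u := congrArg Subtype.val h10
        rw [hn, ← hz', mul_inv_eq_iff_eq_mul] at h11
        exact Subtype.ext h11
    exact hu (Subtype.ext (by rw [← hz', h5]; rfl))
  refine ab_of_index (W := K ⊓ C(K)) inf_le_right ?_
  have := Nat.le_of_dvd (by norm_num) (Dvd.intro _ h1)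
  have h4 : (K ⊓ C(K)).relIndex K = 1 ∨ (K ⊓ C(K)).relIndex K = 2 := by
    interval_cases #((K ⊓ C(K)).map π) <;> omega
  rcases h4 with e | e <;> rw [e]; norm_num

theorem card_syl (hR : Syl 2 R ⊤) (h8 : 8 ∣ #R) : Ab R ∨ #R = 16 := by
  by_cases h1 : 2 ^ 6 ∣ π.ker.relIndex ⊤
  · have := h.hyp 2 Nat.prime_two h1 _ (ker_le_comap π R) le_top (h.rel R ▸ hR.pi)
    rw [← Subgroup.map_eq_bot_iff, map_commutator, map_comap_eq_self_of_surjective h.surj] at this
    exact .inl (comm_iff_der.2 this)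
  · right
    obtain ⟨k, hk⟩ := h.fr_syl Nat.prime_two hR
    have h2 := hk.sq
    rw [h.rel] at h2
    obtain ⟨a, ha⟩ := hR.pi.exists_card
    have h3 : a ≤ 5 := by
      by_contra h3
      refine h1 ((pow_dvd_pow 2 (by omega : 6 ≤ a)).trans ?_)
      rw [← comap_top π, h.rel, ← ha]; exact card_dvd le_top
    rw [ha] at h2 h8 ⊢
    have : k ≤ 5 := by
      have : 2 ^ a ≤ 2 ^ 5 := Nat.pow_le_pow_right two_pos h3
      nlinarith
    interval_cases a <;> interval_cases k <;> omega

theorem not_eight (hF : fittingSubgroup G = ⊥) (hS : IsComponent S) (hA : Syl 2 A S) (ha : Ab A)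
    (h8 : #A = 8) : False := by
  have hp := (H1.isQuasisimple_subgroup_iff.1 hS.2).1
  have h1 := h.ab_eight hp hA ha h8
  obtain ⟨R, hR, hAR⟩ := hA.pi.exists_syl le_top
  rcases h.card_syl hR (h8 ▸ card_dvd hAR) with h2 | h2
  · obtain ⟨g, hg, hg1⟩ := exists_ne_one (ne_bot_iff_one_lt_card.2 (by omega) : A ≠ ⊥)
    obtain ⟨x, rfl⟩ := h.surj g
    haveI := H1.component_isSimpleGroup_of_fitting_eq_bot hF hS
    haveI := Fact.mk Nat.prime_two
    obtain ⟨y, hy, -, s, h3, h4, h5, h6⟩ := h.key Nat.prime_two hR hF hS (hAR hg) (hA.le hg) hg1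
      fun y hy hn => inner_of hn <| by
        obtain ⟨P, rfl⟩ := hA.exists_sylow
        have hna := H1.Quasisimple.not_isSolvable hS.2
        refine Cfsg.Agent.S4593.result ?_ ?_ P
          (ab_of_map ha) _
          ((piE_aut hn (hR.pi.elt hy)).exists_pow (orderOf_pos _).ne') fun z hz => Subtype.ext ?_
        · exact (IsSimpleGroup.eq_bot_or_eq_top_of_normal _ inferInstance).resolve_right fun e =>
            hna (Group.isSolvable_of_comm fun a b => mem_center_iff.1 (e.ge (mem_top b)) a)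
        · refine (IsSimpleGroup.eq_bot_or_eq_top_of_normal _ inferInstance).resolve_right fun e => ?_
          have h3 : PiG {2}ᶜ S := by
            have := Oc_pi {2}ᶜ S
            rwa [← pPrimeCore_map_eq Nat.prime_two, e, ← MonoidHom.range_eq_map, range_subtype]
              at this
          exact h3.not_dvd Nat.prime_two rfl ((by norm_num : 2 ∣ 8).trans (h8 ▸ card_dvd hA.le))
        · exact mul_inv_eq_iff_eq_mul.2 (mul_comm_of_comm h2 hy (hAR ⟨z, hz, rfl⟩))
    have h7 : π s ∈ C(A) := mem_cent.2 fun a ha => (mem_cent1.1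
      (h5 a (hA.le ha) (mem_cent1.2 (mul_comm_of_comm h2 hy (hAR ha))))).symm
    exact h6 (mul_comm_of_comm h1 hg (hA.mem_of_norm h3 h4 (cent_le_norm A h7)))
  · obtain ⟨k, hk⟩ := h.fr_syl Nat.prime_two hR
    have h3 := card_mul_relIndex hAR
    have h4 : A.relIndex R = 2 := by rw [h8, h2] at h3; omega
    have h5 : A.comap π ⊴ R.comap π := ⟨comap_mono hAR, (comap_mono
      (hR.pi.norm_of_index hAR h4 Nat.prime_two)).trans (le_normalizer_comap π)⟩
    obtain ⟨φ, hφ⟩ := exists_ovr (ker_le_comap π A) h.lin.irr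
    obtain ⟨a, f, -, -, h6, h7⟩ := hk.struct h5 (ker_le_comap π A) hφ
    rw [(irr_lin_of_ab (mem_ovr.1 hφ).1 h1).deg, h.lin.deg, mul_one] at h6
    have h9 := relIndex_dvd_left (le_inertia (irr_cinv (mem_ovr.1 hφ).1) h5.le) (R.comap π)
    rw [relIndex_comap, map_comap_eq_self_of_surjective h.surj, h4] at h9
    rw [← h6, one_pow, one_mul, h.rel, h8] at h7
    rw [h7] at h9
    omega

end CE

end H7.GG
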