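import Cfsg.Agent.H24.NE7
import Cfsg.Agent.H4.Mx4

/-! Essential subgroups over a `p`-group of maximal class (S5267): vocabulary and chunks.
Paper proofs: `notes/GP.md`. -/

set_option autoImplicit false

namespace H7.GP
open Subgroup H25 H25.FS H4 H4.P5 H4.G3 H4.Mx
open scoped commutatorElement

universe u

section defs
variable {Γ : Type*} [Group Γ]

/-- `l` is additive on `A` -/
def Ad {p : ℕ} (A : Subgroup Γ) (l : Γ → ZMod p) : Prop := ∀ x ∈ A, ∀ y ∈ A, l (x * y) = l x + l y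

/-- `A / B` is elementary abelian -/
structure El (p : ℕ) (A B : Subgroup Γ) : Prop where
  le : B ≤ A
  cm : ∀ x ∈ A, ∀ y ∈ A, ⁅x, y⁆ ∈ B
  pw : ∀ x ∈ A, x ^ p ∈ B

/-- products of `R + 1` commutator maps with elements of `Y` send `A` into `B` -/
def Nil (R : ℕ) (A B : Subgroup Γ) (Y : Set Γ) : Prop :=
  ∃ L : ℕ → Subgroup Γ, A ≤ L 0 ∧ (∀ r, ∀ y ∈ Y, ∀ w ∈ A, w ∈ L r → ⁅y, w⁆ ∈ L (r + 1)) ∧
    ∀ w ∈ A, w ∈ L (R + 1) → w ∈ B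

/-- ordered product of powers -/
def ph {p α : ℕ} (y : Fin α → Γ) (a : Fin α → ZMod p) : Γ := (List.ofFn fun i => y i ^ (a i).val).prod

/-- `y` is a basis of an elementary abelian subgroup of `N / E` -/
structure Fr (p : ℕ) (E N : Subgroup Γ) {α : ℕ} (y : Fin α → Γ) : Prop where
  mem : ∀ i, y i ∈ N
  pw : ∀ i, y i ^ p ∈ E
  cm : ∀ i j, ⁅y i, y j⁆ ∈ E
  free : ∀ a : Fin α → ZMod p, ph y a ∈ E → a = 0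

/-- the chain `S = P 0 > γ₁ = P 1 > γ₂ = P 2 > ⋯ > P n = 1` of a group of maximal class,
`t 0 = s` uniform, `lc a` the coordinate on `P a / P (a + 1)` -/
structure CH (p n : ℕ) (P : ℕ → Subgroup Γ) (t : ℕ → Γ) (lc : ℕ → Γ → ZMod p) : Prop where
  pg : IsPGroup p (P 0)
  four : 4 ≤ n
  anti : Antitone P
  chr : ∀ a, nz (P 0) ≤ nz (P a)
  card : ∀ a ≤ n, Nat.card (P a) = p ^ (n - a)
  mem : ∀ a, t a ∈ P a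
  add : ∀ a, Ad (P a) (lc a)
  ker : ∀ a < n, ∀ u ∈ P a, lc a u = 0 ↔ u ∈ P (a + 1)
  one : ∀ a < n, lc a (t a) = 1
  succ : ∀ a, 1 ≤ a → t (a + 1) = ⁅t a, t 0⁆
  act : ∀ a, ∀ u ∈ P a, ∀ g ∈ P 0, ⁅u, g⁆ ∈ P (a + 1)
  cm0 : ∀ a b, ∀ u ∈ P a, ∀ v ∈ P b, ⁅u, v⁆ ∈ P (a + b)
  cm1 : ∀ a b, 1 ≤ a → 1 ≤ b → a + b + 2 ≤ n → ∀ u ∈ P a, ∀ v ∈ P b, ⁅u, v⁆ ∈ P (a + b + 1)
  pow : ∀ a, 2 ≤ a → ∀ u ∈ P a, u ^ p ∈ P (a + (p - 1))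
  star : ∀ a, 1 ≤ a → a + p ≤ n → 2 ≤ a ∨ p + 2 ≤ n → ∀ u ∈ P a, u ^ p ∈ P (a + p) → u ∈ P (a + 1)

/-- not exceptional modulo `P c` -/
def Tr (P : ℕ → Subgroup Γ) (c : ℕ) : Prop :=
  ∀ a b, 1 ≤ a → 1 ≤ b → a + b < c → ∀ u ∈ P a, ∀ v ∈ P b, ⁅u, v⁆ ∈ P (a + b + 1)

/-- exceptional -/
structure EX (p n : ℕ) (P : ℕ → Subgroup Γ) : Prop where
  six : 6 ≤ n
  le : n ≤ p + 1
  pair : ∀ a b, 1 ≤ a → 1 ≤ b → a + b + 1 = n → ∀ u ∈ P a, ∀ v ∈ P b, ⁅u, v⁆ = 1 →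
    u ∈ P (a + 1) ∨ v ∈ P (b + 1)

/-- `y` shifts the levels `≥ j` by at least `D`, modulo `P c` -/
def Sh (P : ℕ → Subgroup Γ) (c j D : ℕ) (y : Γ) : Prop :=
  ∀ a, j ≤ a → ∀ w ∈ P a, ⁅y, w⁆ ∈ P (min (a + D) c)

/-- iterated commutator -/
def it (s : Γ) (k : ℕ) (y : Γ) : Γ := (fun z => ⁅z, s⁆)^[k] y

/-- the stabiliser of the chain below `P 0` -/
def Fl (P : ℕ → Subgroup Γ) : Subgroup Γ := ⨅ a, nz (P (a + 1))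

/-- `M` plays `Aut_F(γ₁)` -/
structure MM (p : ℕ) (P : ℕ → Subgroup Γ) (M : Subgroup Γ) : Prop where
  le : P 0 ≤ M
  nz : M ≤ nz (P 1)
  cz : cz (P 1) ≤ M
  syl : Syl p (ai (P 0) (P 1)) M

/-- consecutive `M`-invariant members of the chain -/
structure Gap (n : ℕ) (P : ℕ → Subgroup Γ) (M : Subgroup Γ) (a b : ℕ) : Prop where
  one : 1 ≤ a
  lt : a < b
  le : b ≤ n
  Ka : M ≤ nz (P a)
  Kb : M ≤ nz (P b)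
  no : ∀ k, a < k → k < b → ¬ M ≤ nz (P k)

/-- a counterexample `E < γ₁`; `X` minimal over the Sylow subgroup not in `H` -/
structure Cf (p : ℕ) (P : ℕ → Subgroup Γ) (M E X H : Subgroup Γ) : Prop where
  lc : Lc p E (P 1 ⊓ nz E) X H
  HX : H ≤ X
  min : ∀ Y, ai (P 1 ⊓ nz E) E ≤ Y → Y ≤ X → Y ≤ H ∨ X ≤ Y
  ext : H ≤ ai M E
  two : ¬ P 2 ≤ E

/-- the set-up: `U = P u`, `V = ⟨U^X⟩` of level `j`, `P (i + 1) = C(P j / P c)`, shift `d` -/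
structure Cg (p n : ℕ) (P : ℕ → Subgroup Γ) (M E X H V : Subgroup Γ) (i j u c d : ℕ) : Prop
    extends Cf p P M E X H where
  gap : Gap n P M u c
  Xc : X ≤ nz (P c)
  nU : ∀ g ∈ X, g ∈ H ↔ g ∈ nz (P u)
  UV : P u ≤ V
  VE : V ≤ E
  XV : X ≤ nz V
  gen : ∀ Y, (∀ g ∈ X, cj g (P u) ≤ Y) → V ≤ Y
  el : El p V (P c)
  sr : ∀ g ∈ X, g ∉ H → ∀ v ∈ P u, ∀ y ∈ P 1 ⊓ nz E, y ∉ E → ⁅y, g * v * g⁻¹⁆ ∈ P c →
    ∀ a ∈ X, ⁅a, v⁆ ∈ P c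
  cen : ∀ y ∈ P 1, y ∈ E ↔ ∀ v ∈ V, ⁅y, v⁆ ∈ P c
  j1 : 1 ≤ j
  ju : j < u
  Kj : M ≤ nz (P j)
  Vj : V ≤ P j
  Vj' : ¬ V ≤ P (j + 1)
  w : c ≤ j + p
  i2 : 2 ≤ i
  ic : i + 2 ≤ c
  Ki : M ≤ nz (P (i + 1))
  ci : ∀ y ∈ P 1, y ∈ P (i + 1) ↔ ∀ w ∈ P j, ⁅y, w⁆ ∈ P c
  iE : P (i + 1) ≤ E
  iN : P (i - 1) ≤ nz E
  nE : ∀ y ∈ P i, y ∈ E → y ∈ P (i + 1)
  dc : j + d < c
  sh : ∀ y ∈ P i, Sh P c j d y
  ex : ∀ y ∈ P i, y ∉ P (i + 1) → ∀ a, j ≤ a → a + d < c → ∀ w ∈ P a, ⁅y, w⁆ ∈ P (a + d + 1) →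
    w ∈ P (a + 1)

/-- a character of `M` trivial on `C(Q)` -/
structure Chr {p : ℕ} (M Q : Subgroup Γ) (θ : Γ → ZMod p) : Prop where
  mul : ∀ a ∈ M, ∀ b ∈ M, θ (a * b) = θ a * θ b
  one : ∀ k ∈ cz Q, θ k = 1

/-- characters of `M` have small order -/
def TQ (p n : ℕ) (P : ℕ → Subgroup Γ) (M : Subgroup Γ) : Prop :=
  ∀ θ : Γ → ZMod p, Chr M (P 1) θ → ∃ q, 1 ≤ q ∧ q + 2 ≤ p ∧ (∀ m ∈ M, θ m ^ q = 1) ∧
    ∀ a b, Gap n P M a b → a + 2 ≤ b → a + q < b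

/-- `C_S(Z₂)` -/
abbrev RR (n : ℕ) (P : ℕ → Subgroup Γ) : Subgroup Γ := P 0 ⊓ cz (P (n - 2))

/-- the allowed essential subgroups -/
def Cl (p n : ℕ) (P : ℕ → Subgroup Γ) (E : Subgroup Γ) : Prop :=
  (¬ E ≤ P 1 ∧ ¬ E ≤ RR n P ∧ (Nat.card E = p ^ 2 ∨ (Nat.card E = p ^ 3 ∧ ¬ Cm E))) ∨ E = P 1 ∨
    E = RR n P

/-- a saturated system over a group of maximal class with its chain -/
structure FC [Finite Γ] (F : FS Γ) (p n : ℕ) (P : ℕ → Subgroup Γ) (t : ℕ → Γ)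
    (lc : ℕ → Γ → ZMod p) : Prop extends CH p n P t lc where
  sat : F.Sat p
  mc : MaxC p n F.S
  P0 : P 0 = F.S
  P1 : P 1 = T1 F.S
  PD : ∀ k, 1 ≤ k → P (k + 1) = DD F.S k
  di : Tr P n ∨ EX p n P

end defs

section ad
variable {Γ : Type*} [Group Γ] {p : ℕ} {A B : Subgroup Γ} {l : Γ → ZMod p} {g x y : Γ}

theorem Ad.one (h : Ad A l) : l 1 = 0 := by simpa using h 1 (one_mem _) 1 (one_mem _)
theorem Ad.inv (h : Ad A l) (hx : x ∈ A) : l x⁻¹ = -l x :=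
  eq_neg_of_add_eq_zero_left (by rw [← h _ (inv_mem hx) _ hx, inv_mul_cancel, h.one])
theorem Ad.pow (h : Ad A l) (hx : x ∈ A) (k : ℕ) : l (x ^ k) = k * l x := by
  induction k with
  | zero => simp [h.one]
  | succ k ih => rw [pow_succ, h _ (pow_mem hx k) _ hx, ih]; push_cast; ring
theorem Ad.mono (h : Ad A l) (e : B ≤ A) : Ad B l := fun x hx y hy => h x (e hx) y (e hy)
theorem Ad.cj (h : Ad A l) (hg : g ∈ nz A) : Ad A fun x => l (g * x * g⁻¹) := fun x hx y hy => by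
  rw [← h _ (conj_mem_of_mem_nz hg hx) _ (conj_mem_of_mem_nz hg hy)]; group
theorem Ad.eq (h : Ad A l) (h0 : ∀ b ∈ B, l b = 0) (hx : x ∈ A) (hy : y ∈ A) (e : x * y⁻¹ ∈ B) :
    l x = l y := by
  have := h0 _ e
  rwa [h _ hx _ (inv_mem hy), h.inv hy, add_neg_eq_zero] at this
theorem Ad.conj (h : Ad A l) (hg : g ∈ A) (hx : x ∈ A) : l (g * x * g⁻¹) = l x := by
  rw [h _ (mul_mem hg hx) _ (inv_mem hg), h _ hg _ hx, h.inv hg]; ring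
/-- the kernel -/
def Ad.ker (h : Ad A l) : Subgroup Γ where
  carrier := {x | x ∈ A ∧ l x = 0}
  one_mem' := ⟨one_mem _, h.one⟩
  mul_mem' := fun {a b} ha hb => ⟨mul_mem ha.1 hb.1, by rw [h a ha.1 b hb.1, ha.2, hb.2, add_zero]⟩
  inv_mem' := fun {a} ha => ⟨inv_mem ha.1, by rw [h.inv ha.1, ha.2, neg_zero]⟩
theorem Ad.zero_sup (h : Ad A l) (hB : B ≤ A) (h0 : ∀ b ∈ B, l b = 0) (hx : x ∈ A) (h1 : l x = 0) :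
    ∀ y ∈ B ⊔ zpowers x, l y = 0 := fun _ hy =>
  ((sup_le (fun b hb => ⟨hB hb, h0 b hb⟩) (zpowers_le.2 ⟨hx, h1⟩) : _ ≤ h.ker) hy).2

end ad

/-- the chain exists -/
def CHX : Prop := ∀ {Γ : Type u} [Group Γ] [Finite Γ] {p n : ℕ} [Fact p.Prime] {F : FS Γ},
  F.Sat p → MaxC p n F.S → 4 ≤ n → ∃ P t lc, FC F p n P t lc

/-- set-up -/
def SET : Prop := ∀ {Γ : Type u} [Group Γ] [Finite Γ] {p n : ℕ} [Fact p.Prime]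
  {P : ℕ → Subgroup Γ} {t : ℕ → Γ} {lc : ℕ → Γ → ZMod p} {M E X H : Subgroup Γ},
  CH p n P t lc → MM p P M → Cf p P M E X H →
  ∃ E X H V i j u c d, Cg p n P M E X H V i j u c d

/-- quadratic action -/
def QL : Prop := ∀ {Γ : Type u} [Group Γ] [Finite Γ] {p n : ℕ} [Fact p.Prime]
  {P : ℕ → Subgroup Γ} {t : ℕ → Γ} {lc : ℕ → Γ → ZMod p} {M E X H V : Subgroup Γ} {i j u c d : ℕ},
  CH p n P t lc → Cg p n P M E X H V i j u c d → Tr P c → c + 1 ≤ j + 2 * d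

/-- counting zero levels -/
def ZC : Prop := ∀ {Γ : Type u} [Group Γ] [Finite Γ] {p n : ℕ} [Fact p.Prime]
  {P : ℕ → Subgroup Γ} {t : ℕ → Γ} {lc : ℕ → Γ → ZMod p} {V : Subgroup Γ} {y : Γ} {j c ν : ℕ},
  CH p n P t lc → c ≤ n → 1 ≤ j → c ≤ j + p → y ∈ P 1 → V ≤ P j → (∀ v ∈ V, ⁅y, v⁆ ∈ P c) →
  (¬ ∀ w ∈ P j, ⁅y, w⁆ ∈ P c) → (∀ w ∈ P j, ⁅it (t 0) (ν + 1) y, w⁆ ∈ P c) →
  ∃ Y ≤ V, (∀ v ∈ Y, ⁅it (t 0) ν y, v⁆ ∈ P c) ∧ Nat.card V ≤ Nat.card Y * p ^ ν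

/-- determinant trace argument -/
def DT : Prop := ∀ {Γ : Type u} [Group Γ] [Finite Γ] {p : ℕ} [Fact p.Prime]
  {E N X H M C U₀ U V : Subgroup Γ}, Lc p E N X H → H ≤ ai M E → El p V C → C ≤ U₀ → U₀ ≤ U →
  U ≤ V → V ≤ E → X ≤ nz V → X ≤ nz C → M ≤ nz U → M ≤ nz C → ¬ X ≤ nz U →
  (∀ a ∈ X, ∀ v ∈ U₀, ⁅a, v⁆ ∈ C) →
  ∃ θ : Γ → ZMod p, Chr M U θ ∧ ∀ (q α R r : ℕ) (y : Fin α → Γ), (∀ m ∈ M, θ m ^ q = 1) → 1 ≤ q →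
    Nat.card U ≤ Nat.card U₀ * p ^ r → Fr p E N y → Nil R V C (Set.range y) →
    (p - 1) * α ≤ q * (R * r)

/-- characters when `γ₁` is essential -/
def TO : Prop := ∀ {Γ : Type u} [Group Γ] [Finite Γ] {p n : ℕ} [Fact p.Prime]
  {P : ℕ → Subgroup Γ} {t : ℕ → Γ} {lc : ℕ → Γ → ZMod p} {M : Subgroup Γ} {c : ℕ},
  CH p n P t lc → MM p P M → Tr P c → c = n ∨ (c + 1 = n ∧ EX p n P) →
  (¬ ∀ x ∈ P 1, ∀ y ∈ P 1, ⁅x, y⁆ ∈ P c) → ¬ M ≤ Fl P → TQ p n P M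

/-- flag case -/
def CZ : Prop := ∀ {Γ : Type u} [Group Γ] [Finite Γ] {p n : ℕ} [Fact p.Prime]
  {P : ℕ → Subgroup Γ} {t : ℕ → Γ} {lc : ℕ → Γ → ZMod p} {M E X H V : Subgroup Γ} {i j u c d : ℕ},
  CH p n P t lc → MM p P M → Cg p n P M E X H V i j u c d → Tr P c → c + 1 ≤ j + 2 * d →
  M ≤ Fl P → False

/-- the case of small characters -/
def CO : Prop := ∀ {Γ : Type u} [Group Γ] [Finite Γ] {p n : ℕ} [Fact p.Prime]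
  {P : ℕ → Subgroup Γ} {t : ℕ → Γ} {lc : ℕ → Γ → ZMod p} {M E X H V : Subgroup Γ} {i j u c d : ℕ},
  CH p n P t lc → MM p P M → Cg p n P M E X H V i j u c d → Tr P c → c + 1 ≤ j + 2 * d →
  TQ p n P M → False

/-- exceptional case, `c = n` -/
def XC : Prop := ∀ {Γ : Type u} [Group Γ] [Finite Γ] {p n : ℕ} [Fact p.Prime]
  {P : ℕ → Subgroup Γ} {t : ℕ → Γ} {lc : ℕ → Γ → ZMod p} {M E X H V : Subgroup Γ} {i j u d : ℕ},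
  CH p n P t lc → MM p P M → EX p n P → Cg p n P M E X H V i j u n d → False

/-- essential subgroups with a uniform element -/
def CA : Prop := ∀ {Γ : Type u} [Group Γ] [Finite Γ] {p n : ℕ} [Fact p.Prime] {F : FS Γ}
  {P : ℕ → Subgroup Γ} {t : ℕ → Γ} {lc : ℕ → Γ → ZMod p} {E : Subgroup Γ},
  FC F p n P t lc → F.Ess E → ¬ E ≤ P 1 → ¬ E ≤ RR n P →
  Nat.card E = p ^ 2 ∨ (Nat.card E = p ^ 3 ∧ ¬ Cm E)

/-- normal essential subgroups in `γ₁` -/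
def NM : Prop := ∀ {Γ : Type u} [Group Γ] [Finite Γ] {p n : ℕ} [Fact p.Prime] {F : FS Γ}
  {P : ℕ → Subgroup Γ} {t : ℕ → Γ} {lc : ℕ → Γ → ZMod p} {k : ℕ},
  FC F p n P t lc → 2 ≤ k → ¬ F.Ess (P k)

/-- abelian of order `p ^ 3` -/
def AB : Prop := ∀ {Γ : Type u} [Group Γ] [Finite Γ] {p n : ℕ} [Fact p.Prime] {F : FS Γ}
  {P : ℕ → Subgroup Γ} {t : ℕ → Γ} {lc : ℕ → Γ → ZMod p} {E : Subgroup Γ},
  FC F p n P t lc → EX p n P → F.Ess E → Nat.card E = p ^ 3 → ¬ Cm E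

/-- small subgroups of `γ₁` -/
def SM : Prop := ∀ {Γ : Type u} [Group Γ] [Finite Γ] {p n : ℕ} [Fact p.Prime] {F : FS Γ}
  {P : ℕ → Subgroup Γ} {t : ℕ → Γ} {lc : ℕ → Γ → ZMod p} {E : Subgroup Γ},
  FC F p n P t lc → F.Ess E → E < P 1 → p ^ 3 ≤ Nat.card E ∧ (EX p n P → p ^ 4 ≤ Nat.card E)

/-- `C_S(Z₂)` essential -/
def RS : Prop := ∀ {Γ : Type u} [Group Γ] [Finite Γ] {p n : ℕ} [Fact p.Prime] {F : FS Γ}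
  {P : ℕ → Subgroup Γ} {t : ℕ → Γ} {lc : ℕ → Γ → ZMod p},
  FC F p n P t lc → EX p n P → F.Ess (RR n P) → n = 6

/-- proper subgroups of `C_S(Z₂)` -/
def RC : Prop := ∀ {Γ : Type u} [Group Γ] [Finite Γ] {p n : ℕ} [Fact p.Prime] {F : FS Γ}
  {P : ℕ → Subgroup Γ} {t : ℕ → Γ} {lc : ℕ → Γ → ZMod p} {E : Subgroup Γ},
  FC F p n P t lc → EX p n P → F.Ess E → E < RR n P → ¬ E ≤ P 1 →
  (∀ Q, F.Ess Q → Nat.card E < Nat.card Q → Cl p n P Q) → False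

/-- no extraspecial pearls in the exceptional case -/
def PX : Prop := ∀ {Γ : Type u} [Group Γ] [Finite Γ] {p n : ℕ} [Fact p.Prime] {F : FS Γ}
  {P : ℕ → Subgroup Γ} {t : ℕ → Γ} {lc : ℕ → Γ → ZMod p} {E : Subgroup Γ},
  FC F p n P t lc → EX p n P → (∀ Q, F.Ess Q → Cl p n P Q) → F.Ess E → Nat.card E = p ^ 3 → False

end H7.GP
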