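import Cfsg.Agent.H7.GP2

/-! The chain kit. -/

set_option autoImplicit false
set_option linter.unusedSectionVars false

namespace H7.GP
open Subgroup H25 H25.FS H4 H4.P5 H4.G3 H4.Mx
open scoped commutatorElement

universe u
variable {Γ : Type u} [Group Γ] [Finite Γ] {p n : ℕ} [hp : Fact p.Prime]
variable {P : ℕ → Subgroup Γ} {t : ℕ → Γ} {lc : ℕ → Γ → ZMod p}
variable {A B E M N Y : Subgroup Γ} {g h m s u v w x y : Γ} {a b c j k D : ℕ} {μ : ZMod p}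

theorem pel_chain (L : ℕ → Subgroup Γ) (k : ℕ) (h0 : ∀ i ≤ k, IsPGroup p (L i)) (h1 : PEl p (cz (L k)) g)
    (h2 : ∀ i < k, g ∈ stab (L i) (L (i + 1))) (h3 : ∀ i ≤ k, g ∈ nz (L i)) : PEl p (cz (L 0)) g := by
  induction k with
  | zero => exact h1
  | succ k ih =>
    exact ih (fun i hi => h0 i (by omega)) (pel_of_stab (h0 _ le_rfl) (h2 k (by omega)) (h3 _ le_rfl) h1)
      (fun i hi => h2 i (by omega)) fun i hi => h3 i (by omega)

theorem lc_chain (r : Lc p E N A B) (L : ℕ → Subgroup Γ) (k : ℕ) (h0 : L 0 = E) (hk : L k = ⊥ ∨ L k = fr E)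
    (h1 : ∀ i < k, L (i + 1) ≤ L i) (h2 : ∀ i ≤ k, A ≤ nz (L i)) (hx : x ∈ N)
    (h3 : ∀ i < k, ∀ w ∈ L i, ⁅x, w⁆ ∈ L (i + 1)) : x ∈ E := by
  have l : ∀ i ≤ k, L i ≤ E := fun i => by
    induction i with
    | zero => exact fun _ => h0.le
    | succ i ih => exact fun h => (h1 i h).trans (ih (by omega))
  refine r.mem_of (D := ⨅ i : Fin k, stab (L i) (L (i + 1))) (fun g hg => ?_) (fun g hg h => ?_) hx
    (mem_iInf.2 fun i => (stab_iff (h1 i i.2)).2 (h3 i i.2))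
  · exact mem_nz_of_conj_mem fun y hy => mem_iInf.2 fun i => conj_mem_of_mem_nz
      (nz_stab (h2 i i.2.le hg) (h2 _ i.2 hg)) (mem_iInf.1 hy i)
  rcases hk with e | e
  · exact h0 ▸ pel_chain L k (fun i hi => r.pE.to_le (l i hi)) (.of_mem (by simp [e]))
      (fun i hi => mem_iInf.1 h ⟨i, hi⟩) fun i hi => h2 i hi hg
  refine pel_of_coprime (K := A ⊓ ⨅ i : Fin k, stab (L i) (L (i + 1))) ⟨hg, h⟩ fun b hb hc =>
    cz_of_fr r.pE hc ?_
  have : ∀ i ≤ k, b ∈ stab E (L i) := fun i => by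
    induction i with
    | zero => exact fun _ => by rw [h0, stab_self]; exact r.An hb.1
    | succ i ih =>
      exact fun h => stab_of_coprime (r.pE.to_le (l i (by omega))) hc (ih (by omega)) (mem_iInf.1 hb.2 ⟨i, h⟩)
  exact e ▸ this k le_rfl

/-- uniform modulo `P c` -/
def Un (P : ℕ → Subgroup Γ) (c : ℕ) (g : Γ) : Prop :=
  ∀ a, 1 ≤ a → a + 1 < c → ∀ u ∈ P a, ⁅u, g⁆ ∈ P (a + 2) → u ∈ P (a + 1)

/-- leading coefficient of `y` at level `a` -/
def co (t : ℕ → Γ) (lc : ℕ → Γ → ZMod p) (y : Γ) (D a : ℕ) : ZMod p := lc (a + D) ⁅y, t a⁆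

/-- eigenvalue of `g` at level `a` -/
def chi (t : ℕ → Γ) (lc : ℕ → Γ → ZMod p) (a : ℕ) (g : Γ) : ZMod p := lc a (g * t a * g⁻¹)

/-- the ratio of consecutive eigenvalues -/
noncomputable def mu (t : ℕ → Γ) (lc : ℕ → Γ → ZMod p) (g : Γ) : ZMod p := chi t lc 2 g * (chi t lc 1 g)⁻¹

/-- the eigenvalues form a geometric progression -/
def Wt (t : ℕ → Γ) (lc : ℕ → Γ → ZMod p) (c : ℕ) (g : Γ) (μ : ZMod p) : Prop :=
  ∀ a, 1 ≤ a → a + 1 < c → chi t lc (a + 1) g = chi t lc a g * μ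

theorem Wt.pow (h : Wt t lc c g μ) (h1 : 1 ≤ a) (r : ℕ) (h2 : a + r < c) :
    chi t lc (a + r) g = chi t lc a g * μ ^ r := by
  induction r with
  | zero => simp
  | succ r ih => rw [← add_assoc, h (a + r) (by omega) h2, ih (by omega), pow_succ, mul_assoc]

theorem fl_nz (h : g ∈ Fl P) (h1 : 1 ≤ a) : g ∈ nz (P a) := by
  obtain ⟨a, rfl⟩ := Nat.exists_eq_add_of_le' h1
  exact mem_iInf.1 h a

theorem mem_fl (h : ∀ a, 1 ≤ a → g ∈ nz (P a)) : g ∈ Fl P := mem_iInf.2 fun _ => h _ (by omega)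

theorem Tr.mono (h : Tr P c) (e : k ≤ c) : Tr P k := fun a b h1 h2 h3 => h a b h1 h2 (by omega)

namespace CH
variable (o : CH p n P t lc)
include o

theorem le (a : ℕ) : P a ≤ P 0 := o.anti a.zero_le
theorem up (hu : u ∈ P a) (h : b ≤ a) : u ∈ P b := o.anti h hu
theorem nz0 (a : ℕ) : P 0 ≤ nz (P a) := (le_nz_self _).trans (o.chr a)
theorem nzb (a b : ℕ) : P a ≤ nz (P b) := (o.le a).trans (o.nz0 b)
theorem fl0 : nz (P 0) ≤ Fl P := fun _ h => mem_fl fun a _ => o.chr a h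
theorem pP (a : ℕ) : IsPGroup p (P a) := o.pg.to_le (o.le a)
theorem bot (h : n ≤ a) : P a = ⊥ :=
  le_bot_iff.1 ((o.anti h).trans (card_eq_one.1 (by simpa using o.card n le_rfl)).le)
theorem eq_one (h : n ≤ a) (hu : u ∈ P a) : u = 1 := (o.bot h).le hu
theorem lt_n (hu : u ∈ P a) (h : u ∉ P b) : a < n := not_le.1 fun e => h (o.eq_one e hu ▸ one_mem _)
theorem lt_of (hu : u ∈ P a) (h : u ∉ P b) : a < b := not_le.1 fun e => h (o.up hu e)
theorem card_eq (h : a < n) : Nat.card (P a) = Nat.card (P (a + 1)) * p := by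
  rw [o.card a h.le, o.card _ h, ← pow_succ]; congr 1; omega
theorem card_le (a : ℕ) : Nat.card (P a) ≤ Nat.card (P (a + 1)) * p := by
  rcases lt_or_ge a n with h | h
  · exact (o.card_eq h).le
  · rw [o.bot h, o.bot (h.trans a.le_succ)]; simpa using hp.out.one_le
theorem nm (h : a < n) : t a ∉ P (a + 1) := fun e =>
  one_ne_zero ((o.one a h).symm.trans ((o.ker a h _ (o.mem a)).2 e))
theorem idx (h : a < n) (e : P a ≤ P b) : b ≤ a := not_lt.1 fun c => o.nm h (o.up (e (o.mem a)) c)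
theorem zero (h : a < n) (hu : u ∈ P (a + 1)) : lc a u = 0 := (o.ker a h u (o.up hu a.le_succ)).2 hu
theorem ne (hu : u ∈ P a) (h : u ∉ P (a + 1)) : lc a u ≠ 0 := mt (o.ker a (o.lt_n hu h) u hu).1 h
theorem pw1 (hu : u ∈ P a) : u ^ p ∈ P (a + 1) := by
  rcases lt_or_ge a n with h | h
  · exact (o.ker a h _ (pow_mem hu p)).1 (by rw [(o.add a).pow hu]; simp)
  · rw [o.eq_one h hu, one_pow]; exact one_mem _
theorem sup (hu : u ∈ P a) (h : u ∉ P (a + 1)) : P (a + 1) ⊔ zpowers u = P a :=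
  eq_sup_of_card (o.pP a) (o.anti a.le_succ) (o.card_le a) hu h
theorem le_of (hu : u ∈ P a) (h : u ∉ P (a + 1)) (h1 : u ∈ Y) (h2 : P (a + 1) ≤ Y) : P a ≤ Y :=
  o.sup hu h ▸ sup_le h2 (zpowers_le.2 h1)
theorem act' (hu : u ∈ P a) (hg : g ∈ P 0) : ⁅g, u⁆ ∈ P (a + 1) := comm_symm (o.act a u hu g hg)
theorem cjm (hg : g ∈ P 0) (hu : u ∈ P a) : g * u * g⁻¹ ∈ P a := conj_mem_of_mem_nz (o.nz0 a hg) hu

theorem mq (h : a < n) (hu : u ∈ P a) (hv : v ∈ P a) (e : lc a u = lc a v) : u * v⁻¹ ∈ P (a + 1) :=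
  (o.ker a h _ (mul_mem hu (inv_mem hv))).1 (by rw [o.add a _ hu _ (inv_mem hv), (o.add a).inv hv, e]; ring)

theorem dec (hy : y ∈ P a) (h : y ∉ P (a + 1)) (hu : u ∈ P a) :
    ∃ k : ℕ, u * (y ^ k)⁻¹ ∈ P (a + 1) ∧ lc a u = k * lc a y := by
  have e : lc a u = ((lc a u / lc a y).val : ℕ) * lc a y := by
    rw [ZMod.natCast_zmod_val, div_mul_cancel₀ _ (o.ne hy h)]
  exact ⟨_, o.mq (o.lt_n hy h) hu (pow_mem hy _) (by rw [(o.add a).pow hy, ← e]), e⟩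

theorem lin {f : Γ → ZMod p} (h : a < n) (hf : Ad (P a) f) (h0 : ∀ u ∈ P (a + 1), f u = 0) (hu : u ∈ P a) :
    f u = lc a u * f (t a) := by
  obtain ⟨k, k1, k2⟩ := o.dec (o.mem a) (o.nm h) hu
  rw [hf.eq h0 hu (pow_mem (o.mem a) k) k1, hf.pow (o.mem a), k2, o.one a h, mul_one]

theorem lc_cj (h : a < n) (hg : g ∈ P 0) (hu : u ∈ P a) : lc a (g * u * g⁻¹) = lc a u :=
  (o.add a).eq (fun _ => o.zero h) (o.cjm hg hu) hu (o.act' hu hg)

theorem level (hu : u ∈ P a) (h : u ∉ P c) : ∃ k, a ≤ k ∧ k < c ∧ u ∈ P k ∧ u ∉ P (k + 1) := by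
  induction c with
  | zero => exact absurd (o.le a hu) h
  | succ c ih =>
    by_cases e : u ∈ P c
    · rcases le_or_gt a c with q | q
      · exact ⟨c, q, c.lt_succ_self, e, h⟩
      · exact absurd (o.up hu q) h
    · obtain ⟨k, h1, h2, h3⟩ := ih e
      exact ⟨k, h1, by omega, h3⟩

theorem adL (h : b < n) (hA : A ≤ P 0) (e : ∀ u ∈ A, ⁅u, g⁆ ∈ P b) : Ad A fun u => lc b ⁅u, g⁆ :=
  fun u hu v hv => by
    dsimp only
    rw [show ⁅u * v, g⁆ = u * ⁅v, g⁆ * u⁻¹ * ⁅u, g⁆ by simp only [commutatorElement_def]; group,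
      o.add b _ (o.cjm (hA hu) (e v hv)) _ (e u hu), o.lc_cj h (hA hu) (e v hv), add_comm]

theorem adR (h : b < n) (hA : A ≤ P 0) (e : ∀ u ∈ A, ⁅g, u⁆ ∈ P b) : Ad A fun u => lc b ⁅g, u⁆ :=
  fun u hu v hv => by
    dsimp only
    rw [show ⁅g, u * v⁆ = ⁅g, u⁆ * (u * ⁅g, v⁆ * u⁻¹) by simp only [commutatorElement_def]; group,
      o.add b _ (e u hu) _ (o.cjm (hA hu) (e v hv)), o.lc_cj h (hA hu) (e v hv)]

theorem step (h1 : 1 ≤ a) (h : a + 1 < n) (hu : u ∈ P a) : lc (a + 1) ⁅u, t 0⁆ = lc a u := by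
  rw [o.lin (by omega) (o.adL h (o.le a) fun u hu => o.act a u hu _ (o.mem 0))
    (fun u hu => o.zero h (o.act _ u hu _ (o.mem 0))) hu, ← o.succ a h1, o.one _ h, mul_one]

theorem stepg (T : Tr P c) (hc : c ≤ n) (h1 : 1 ≤ a) (h : a + 1 < c) (hu : u ∈ P a) (hg : g ∈ P 0) :
    lc (a + 1) ⁅u, g⁆ = lc a u * lc 0 g := by
  rw [o.lin (a := 0) (by omega) (o.adR (by omega) le_rfl (o.act a u hu))
    (fun v hv => o.zero (by omega) (T a 1 h1 le_rfl h u hu v hv)) hg, o.step h1 (by omega) hu, mul_comm]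

theorem trm : Tr P (n - 1) := fun a b h1 h2 h3 => o.cm1 a b h1 h2 (by omega)

theorem un_s : Un P n (t 0) := fun a h1 h u hu e =>
  (o.ker a (by omega) u hu).1 (by rw [← o.step h1 h hu, o.zero h e])

theorem un_of (T : Tr P c) (hc : c ≤ n) (hg : g ∈ P 0) (h0 : g ∉ P 1) : Un P c g := fun a h1 h u hu e =>
  (o.ker a (by omega) u hu).1 ((mul_eq_zero.1 ((o.stepg T hc h1 h hu hg).symm.trans
    (o.zero (by omega) e))).resolve_right (o.ne hg h0))

theorem down (U : Un P c g) (hu : u ∈ P 1) (h : a < c) (e : ⁅u, g⁆ ∈ P (a + 1)) : u ∈ P a := by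
  by_contra q
  obtain ⟨k, h1, h2, h3, h4⟩ := o.level hu q
  exact h4 (U k h1 (by omega) u h3 (o.up e (by omega)))

theorem inv_eq (U : Un P c g) (hc : 1 ≤ c) (hg : g ∈ P 0) (hY : g ∈ nz Y) (h1 : P c ≤ Y) (h2 : Y ≤ P 1) :
    ∃ k, 1 ≤ k ∧ k ≤ c ∧ Y = P k := by
  classical
  by_cases e : Y ≤ P c
  · exact ⟨c, hc, le_rfl, le_antisymm e h1⟩
  have ex : ∃ k, ¬ Y ≤ P (k + 1) := ⟨c - 1, by rwa [Nat.sub_add_cancel hc]⟩
  have k1 : 1 ≤ Nat.find ex := Nat.one_le_iff_ne_zero.2 fun q => Nat.find_spec ex (by rwa [q])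
  have k2 : Nat.find ex ≤ c - 1 := Nat.find_min' ex (by rwa [Nat.sub_add_cancel hc])
  have k3 : Y ≤ P (Nat.find ex) := by
    simpa [Nat.sub_add_cancel k1] using Nat.find_min ex (m := Nat.find ex - 1) (by omega)
  have k4 := Nat.find_spec ex
  generalize Nat.find ex = k at *
  have l1 : ∀ r, k + r < c → ∃ y ∈ Y, y ∈ P (k + r) ∧ y ∉ P (k + r + 1) := fun r => by
    induction r with
    | zero => exact fun _ => let ⟨y, hy, q⟩ := SetLike.not_le_iff_exists.1 k4; ⟨y, hy, k3 hy, q⟩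
    | succ r ih =>
      intro h
      obtain ⟨y, y1, y2, y3⟩ := ih (by omega)
      exact ⟨_, comm_mem_l y1 hY, o.act _ y y2 g hg, fun q => y3 (U (k + r) (by omega) h y y2 q)⟩
  have l2 : ∀ r, k + r ≤ c → P (c - r) ≤ Y := fun r => by
    induction r with
    | zero => exact fun _ => h1
    | succ r ih =>
      intro h
      obtain ⟨y, y1, y2, y3⟩ := l1 (c - (r + 1) - k) (by omega)
      rw [show k + (c - (r + 1) - k) = c - (r + 1) by omega] at y2 y3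
      exact o.le_of y2 y3 y1 (by rw [show c - (r + 1) + 1 = c - r by omega]; exact ih (by omega))
  exact ⟨k, k1, by omega, le_antisymm k3 (by
    simpa [show c - (c - k) = k by omega] using l2 (c - k) (by omega))⟩

theorem eqK (hY : t 0 ∈ nz Y) (h : Y ≤ P 1) : ∃ k, 1 ≤ k ∧ k ≤ n ∧ Y = P k :=
  o.inv_eq o.un_s (by have := o.four; omega) (o.mem 0) hY (by rw [o.bot le_rfl]; exact bot_le) h

/-- an `s`-invariant subgroup containing an element of level `a` contains `P a` -/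
theorem le_inv (hY : t 0 ∈ nz Y) (h : Y ≤ P 1) (hu : u ∈ Y) (h1 : u ∉ P (a + 1)) : P a ≤ Y := by
  obtain ⟨k, -, -, rfl⟩ := o.eqK hY h
  exact o.anti (Nat.le_of_lt_succ (o.lt_of hu h1))

theorem om (h1 : 1 ≤ a) (hu : u ∈ P a) (h : u ∉ P (a + 1)) (hc : c ≤ n) (e : u ^ p ∈ P c) :
    c < a + p ∨ (a = 1 ∧ c = n ∧ n = p + 1) := by
  by_contra q
  exact h (o.star a h1 (by omega) (by omega) u hu (o.up e (by omega)))

theorem omw (hu : u ∈ P 1) (hc : c ≤ n) (e : u ^ p ∈ P c) : u ∈ P (c - p) := by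
  by_contra q
  obtain ⟨k, h1, h2, h3, h4⟩ := o.level hu q
  have := o.om h1 h3 h4 hc e
  omega

theorem gapK (r : MM p P M) (q : Gap n P M a b) (h1 : Y ≤ P (a + 1)) (h2 : M ≤ nz Y) : Y ≤ P b := by
  obtain ⟨k, -, k2, rfl⟩ := o.eqK (h2 (r.le (o.mem 0))) (h1.trans (o.anti (by omega)))
  rcases k2.eq_or_lt with rfl | k2
  · exact o.anti q.le
  · exact o.anti (not_lt.1 fun c => q.no k (o.idx k2 h1) c h2)

theorem kf (r : MM p P M) (q : Gap n P M a b) (hy : y ∈ P 1) (hu : u ∈ P a) : ⁅y, u⁆ ∈ P b :=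
  o.gapK r q (Y := ⁅P 1, P a⁆) (commutator_le.2 fun _ hy _ hu => o.act' hu (o.le 1 hy))
    (fun _ hm => by rw [mem_nz, cj_commutator, mem_nz.1 (r.nz hm), mem_nz.1 (q.Ka hm)])
    (commutator_mem_commutator hy hu)

theorem elG (r : MM p P M) (q : Gap n P M a b) : El p (P a) (P b) :=
  ⟨o.anti q.lt.le, fun _ hx _ hy => o.kf r q (o.up hx q.one) hy, fun _ hx =>
    o.gapK r q (Y := fr (P a)) (fr_le_of (commutator_le.2 fun _ hy _ hu => o.act' hu (o.le a hy))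
      fun _ => o.pw1) (q.Ka.trans (nz_le_nz_fr _)) (pow_mem_fr (o.pP a) hx)⟩

theorem gapw (r : MM p P M) (q : Gap n P M a b) : b < a + p ∨ (a = 1 ∧ b = n ∧ n = p + 1) :=
  o.om q.one (o.mem a) (o.nm (q.lt.trans_le q.le)) q.le ((o.elG r q).pw _ (o.mem a))

/-- elements of `P 1` shifting by `D` -/
def ShG (c j D : ℕ) : Subgroup Γ where
  carrier := {y | y ∈ P 1 ∧ Sh P c j D y}
  one_mem' := ⟨one_mem _, fun _ _ _ _ => by simp⟩
  mul_mem' := fun {x y} hx hy => ⟨mul_mem hx.1 hy.1, fun a h w hw => by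
    rw [show ⁅x * y, w⁆ = x * ⁅y, w⁆ * x⁻¹ * ⁅x, w⁆ by simp only [commutatorElement_def]; group]
    exact mul_mem (o.cjm (o.le 1 hx.1) (hy.2 a h w hw)) (hx.2 a h w hw)⟩
  inv_mem' := fun {x} hx => ⟨inv_mem hx.1, fun a h w hw => by
    rw [show ⁅x⁻¹, w⁆ = x⁻¹ * ⁅x, w⁆⁻¹ * x⁻¹⁻¹ by simp only [commutatorElement_def]; group]
    exact o.cjm (o.le 1 (inv_mem hx.1)) (inv_mem (hx.2 a h w hw))⟩

theorem nz_ShG (hg : g ∈ Fl P) (hj : 1 ≤ j) (hc : 1 ≤ c) : g ∈ nz (o.ShG c j D) :=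
  mem_nz_of_conj_mem fun y hy => ⟨conj_mem_of_mem_nz (fl_nz hg le_rfl) hy.1, fun a h w hw => by
    rw [show ⁅g * y * g⁻¹, w⁆ = g * ⁅y, g⁻¹ * w * g⁆ * g⁻¹ by simp only [commutatorElement_def]; group]
    exact conj_mem_of_mem_nz (fl_nz hg (by omega))
      (hy.2 a h _ (conj_mem_of_mem_nz' (fl_nz hg (by omega)) hw))⟩

theorem shm (h : Sh P c j D y) (e : k ≤ D) : Sh P c j k y := fun a q w hw => o.up (h a q w hw) (by omega)
theorem sh0 (hy : y ∈ P b) : Sh P c j b y := fun a _ w hw => o.up (o.cm0 b a y hy w hw) (by omega)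
theorem shT (T : Tr P c) (hj : 1 ≤ j) (hb : 1 ≤ b) (hy : y ∈ P b) : Sh P c j (b + 1) y := fun a q w hw => by
  rcases lt_or_ge (b + a) c with e | e
  · exact o.up (T b a hb (by omega) e y hy w hw) (by omega)
  · exact o.up (o.cm0 b a y hy w hw) (by omega)
theorem shc (h : ∀ w ∈ P j, ⁅y, w⁆ ∈ P c) : Sh P c j D y := fun _ q w hw => o.up (h w (o.up hw q)) (by omega)
theorem shv (h : Sh P c j D y) (q : j ≤ a) (hw : w ∈ P a) (e : b ≤ a + D) (e' : b ≤ c) : ⁅y, w⁆ ∈ P b :=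
  o.up (h a q w hw) (by omega)

theorem co_lin (h : Sh P c j D y) (hc : c ≤ n) (q : j ≤ a) (e : a + D < c) (hw : w ∈ P a) :
    lc (a + D) ⁅y, w⁆ = lc a w * co t lc y D a :=
  o.lin (by omega) (o.adR (by omega) (o.le a) fun w hw => o.shv h q hw le_rfl e.le)
    (fun w hw => o.zero (by omega) (o.shv h (by omega) hw (by omega) e)) hw

theorem sh_succ (h : Sh P c j D y) (hc : c ≤ n) (e : ∀ a, j ≤ a → a + D < c → co t lc y D a = 0) :
    Sh P c j (D + 1) y := fun a q w hw => by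
  rcases lt_or_ge (a + D) c with e' | e'
  · exact o.up ((o.ker _ (by omega) _ (o.shv h q hw le_rfl e'.le)).1
      (by rw [o.co_lin h hc q e' hw, e a q e', mul_zero])) (by omega)
  · exact o.up (h a q w hw) (by omega)

omit o in
theorem leib_id (y s u : Γ) :
    ⁅⁅y, s⁆, s * y * u * (s * y)⁻¹⁆ = ⁅y, ⁅s, u⁆⁆ * ⁅⁅s, u⁆, ⁅y, u⁆⁆ * ⁅⁅y, u⁆, s⁆ := by
  simp only [commutatorElement_def]; group

theorem leib (hy : y ∈ P 1) (h : Sh P c j D y) : Sh P c j (D + 1) ⁅y, t 0⁆ := fun a q w hw => by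
  have hg := mul_mem (o.mem 0) (o.le 1 hy)
  have hu := conj_mem_of_mem_nz' (o.nz0 a hg) hw
  have h1 := o.act' hu (o.mem 0)
  rw [show w = t 0 * y * ((t 0 * y)⁻¹ * w * (t 0 * y)) * (t 0 * y)⁻¹ by group, leib_id]
  exact mul_mem (mul_mem (o.up (h _ (by omega) _ h1) (by omega))
    (o.up (o.act' (h a q _ hu) (o.le _ h1)) (by omega))) (o.up (o.act _ _ (h a q _ hu) _ (o.mem 0)) (by omega))

theorem leib' (hy : y ∈ P 1) (h : Sh P c j D y) (hc : c ≤ n) (hj : 1 ≤ j) (q : j ≤ a) (e : a + D + 1 < c) :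
    co t lc ⁅y, t 0⁆ (D + 1) a = co t lc y D a - co t lc y D (a + 1) := by
  have hg := mul_mem (o.mem 0) (o.le 1 hy)
  have h1 := o.act' (o.mem a) (o.mem 0)
  have h2 : ⁅y, t a⁆ ∈ P (a + D) := o.shv h q (o.mem a) le_rfl (by omega)
  have h3 : ⁅y, ⁅t 0, t a⁆⁆ ∈ P (a + D + 1) := o.shv h (by omega) h1 (by omega) (by omega)
  have h4 : ⁅⁅t 0, t a⁆, ⁅y, t a⁆⁆ ∈ P (a + D + 1 + 1) := o.up (o.cm0 _ _ _ h1 _ h2) (by omega)
  have e1 := o.co_lin (o.leib hy h) hc q e (o.cjm hg (o.mem a))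
  have e2 := o.co_lin h hc (a := a + 1) (by omega) (by omega) h1
  rw [o.lc_cj (by omega) hg (o.mem a), o.one a (by omega), one_mul, leib_id, ← add_assoc,
    o.add _ _ (mul_mem h3 (o.up h4 (by omega))) _ (o.act _ _ h2 _ (o.mem 0)), o.add _ _ h3 _ (o.up h4 (by omega)),
    o.zero (by omega) h4, o.step (by omega) (by omega) h2] at e1
  rw [show a + 1 + D = a + D + 1 by omega, ← commutatorElement_inv (t a), ← o.succ a (by omega),
    (o.add _).inv (o.mem _), o.one _ (by omega), o.succ a (by omega), commutatorElement_inv] at e2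
  rw [← e1, e2]; unfold co; ring

theorem exD (h : Sh P c j k y) (h0 : ¬ ∀ w ∈ P j, ⁅y, w⁆ ∈ P c) :
    ∃ D, k ≤ D ∧ j + D < c ∧ Sh P c j D y ∧ ¬ Sh P c j (D + 1) y := by
  have e : ∀ D, Sh P c j D y → j + D < c := fun D q => not_le.1 fun r => h0 fun w hw =>
    o.shv q le_rfl hw r le_rfl
  by_contra q
  push Not at q
  have : ∀ r, Sh P c j (k + r) y := fun r => by
    induction r with
    | zero => exact h
    | succ r ih => exact q (k + r) (by omega) (e _ ih) ih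
  have := e _ (this c)
  omega

theorem exco (h : Sh P c j D y) (hc : c ≤ n) (h' : ¬ Sh P c j (D + 1) y) :
    ∃ a, j ≤ a ∧ a + D < c ∧ co t lc y D a ≠ 0 := by
  simpa using mt (o.sh_succ h hc) h'

theorem xs (hy : y ∈ P 1) (h : Sh P c j D y) (h' : ¬ Sh P c j (D + 1) y) (hc : c ≤ n) (hj : 1 ≤ j)
    (h0 : ∀ w ∈ P j, ⁅⁅y, t 0⁆, w⁆ ∈ P c) (q : j ≤ a) (e : a + D < c) (hw : w ∈ P a)
    (e' : ⁅y, w⁆ ∈ P (a + D + 1)) : w ∈ P (a + 1) := by
  have k : ∀ r, j + r + D < c → co t lc y D (j + r) = co t lc y D j := fun r => by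
    induction r with
    | zero => exact fun _ => rfl
    | succ r ih =>
      intro q
      have := o.leib' hy h hc hj (a := j + r) (by omega) (by omega)
      rw [co, o.zero (by omega) (o.up (h0 _ (o.up (o.mem _) (by omega))) (by omega)), ih (by omega)] at this
      exact (sub_eq_zero.1 this.symm).symm
  obtain ⟨b, b1, b2, b3⟩ := o.exco h hc h'
  obtain ⟨a, rfl⟩ := Nat.exists_eq_add_of_le q
  obtain ⟨b, rfl⟩ := Nat.exists_eq_add_of_le b1
  have := o.co_lin h hc q e hw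
  rw [o.zero (by omega) e', k a e, ← k b b2] at this
  exact (o.ker _ (by omega) w hw).1 ((mul_eq_zero.1 this.symm).resolve_right b3)

theorem chi_eq (h : a < n) (h1 : g ∈ nz (P a)) (h2 : g ∈ nz (P (a + 1))) (hu : u ∈ P a) :
    lc a (g * u * g⁻¹) = lc a u * chi t lc a g :=
  o.lin h ((o.add a).cj h1) (fun _ hu => o.zero h (conj_mem_of_mem_nz h2 hu)) hu

theorem chi_mul (h : a < n) (h1 : g ∈ nz (P a)) (h2 : g ∈ nz (P (a + 1))) (h3 : m ∈ nz (P a)) :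
    chi t lc a (g * m) = chi t lc a g * chi t lc a m := by
  rw [mul_comm (chi t lc a g), chi, chi, ← o.chi_eq h h1 h2 (conj_mem_of_mem_nz h3 (o.mem a))]
  congr 1; group

theorem chi_ne (h : a < n) (h1 : g ∈ nz (P a)) (h2 : g ∈ nz (P (a + 1))) : chi t lc a g ≠ 0 :=
  o.ne (conj_mem_of_mem_nz h1 (o.mem a)) fun e => o.nm h (by simpa [mul_assoc] using conj_mem_of_mem_nz' h2 e)

theorem chi_one (h : a < n) (e : g ∈ cz (P a)) : chi t lc a g = 1 := by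
  rw [chi, mem_cz.1 e _ (o.mem a), o.one a h]

theorem chi_eig (h : a < n) (h1 : g ∈ nz (P a)) (h2 : g ∈ nz (P (a + 1))) (hu : u ∈ P a) :
    g * u * g⁻¹ * (u ^ (chi t lc a g).val)⁻¹ ∈ P (a + 1) :=
  o.mq h (conj_mem_of_mem_nz h1 hu) (pow_mem hu _) (by
    rw [o.chi_eq h h1 h2 hu, (o.add a).pow hu, ZMod.natCast_zmod_val, mul_comm])

theorem chi_stab (h : a < n) (h1 : g ∈ nz (P a)) (h2 : g ∈ nz (P (a + 1))) (e : chi t lc a g = 1) :
    g ∈ stab (P a) (P (a + 1)) := (stab_iff (o.anti a.le_succ)).2 fun _ hu =>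
  o.mq h (conj_mem_of_mem_nz h1 hu) hu (by rw [o.chi_eq h h1 h2 hu, e, mul_one])

theorem chrK (h0 : 1 ≤ a) (h : a < n) (h1 : M ≤ nz (P a)) (h2 : M ≤ nz (P (a + 1))) :
    Chr M (P 1) (chi t lc a) :=
  ⟨fun _ hg _ hm => o.chi_mul h (h1 hg) (h2 hg) (h1 hm), fun _ hk => o.chi_one h (cz_anti (o.anti h0) hk)⟩

theorem pel_fl (h : ∀ a, 1 ≤ a → a < n → g ∈ stab (P a) (P (a + 1))) : PEl p (cz (P 1)) g :=
  pel_chain (fun i => P (i + 1)) (n - 1) (fun _ _ => o.pP _)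
    (.of_mem (by simp [o.bot (show n ≤ n - 1 + 1 by omega)])) (fun i hi => h _ (by omega) (by omega))
    fun i hi => by
      rcases hi.eq_or_lt with rfl | hi
      · rw [o.bot (by omega)]; exact le_nz_bot _ (mem_top g)
      · exact (h _ (by omega) (by omega)).1

theorem w1 (T : Tr P c) (hc : c ≤ n) (hg : g ∈ Fl P) (hs : s ∈ P 0) (e : Agree (P 1) (g * t 0 * g⁻¹) s) :
    Wt t lc c g (lc 0 s) := fun a h1 h => by
  have h2 := conj_mem_of_mem_nz (fl_nz hg h1) (o.mem a)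
  have h3 := e _ (inv_mem (o.up h2 h1))
  rw [chi, chi, ← o.stepg T hc h1 h h2 hs, o.succ a h1]
  congr 1
  simp only [commutatorElement_def]
  rw [mul_assoc _ s, mul_assoc (g * t a * g⁻¹), ← h3]
  group

/-- the stabiliser in `M` of all the factors of the chain is induced by `S` -/
theorem ai_eq (r : MM p P M) : ai (P 0) (P 1) = M ⊓ ⨅ a, stab (P (a + 1)) (P (a + 2)) := by
  refine (r.syl.mono_right (le_inf r.syl.le fun g hg => mem_iInf.2 fun a => ?_) inf_le_left).eq_of_pel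
    (cz_le_ai _ _) (inf_le_left.trans (r.nz.trans (nz_le_nz_cz _))) fun k hk => o.pel_fl fun a h1 _ => ?_
  · obtain ⟨s, hs, e⟩ := hg.2
    exact (e.mono (o.anti (by omega))).mem_stab ((stab_iff (o.anti (by omega))).2 fun _ hu => o.act' hu hs)
  · obtain ⟨a, rfl⟩ := Nat.exists_eq_add_of_le' h1
    exact mem_iInf.1 hk.2 a

theorem nz_ai (r : MM p P M) : M ⊓ nz (ai (P 0) (P 1)) = M ⊓ Fl P := by
  refine le_antisymm (le_inf inf_le_left fun g hg => mem_iInf.2 fun a => ?_) (le_inf inf_le_left fun g hg => ?_)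
  · rcases le_or_gt n (a + 1) with q | q
    · rw [o.bot q]; exact le_nz_bot _ (mem_top g)
    obtain ⟨s, hs, e⟩ := (conj_mem_of_mem_nz' hg.2 (mem_ai_of_mem (o.mem 0) (o.nz0 1 (o.mem 0)))).2
    obtain ⟨k, -, k2, e⟩ := o.eqK (Y := cj g (P (a + 1))) (by
      rw [← cj_nz, mem_cj]; exact (e.mono (o.anti (by omega))).mem_nz (o.nz0 _ hs))
      ((cj_mono g (o.anti (by omega))).trans (mem_nz.1 (r.nz hg.1)).le)
    have := card_cj g (P (a + 1))
    rw [e, o.card _ k2, o.card _ q.le, Nat.pow_right_inj hp.out.one_lt] at this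
    rw [mem_nz, e, show k = a + 1 by omega]
  · rw [o.ai_eq r]
    exact mem_nz_inf (le_nz_self M hg.1) (mem_nz_of_conj_mem fun y hy => mem_iInf.2 fun a =>
      conj_mem_of_mem_nz (nz_stab (fl_nz hg.2 (by omega)) (fl_nz hg.2 (by omega))) (mem_iInf.1 hy a))

theorem wt_mu (r : MM p P M) (T : Tr P c) (hc : c ≤ n) (hm : m ∈ M) (hf : m ∈ Fl P) :
    Wt t lc c m (mu t lc m) := by
  obtain ⟨s, hs, e⟩ := (conj_mem_of_mem_nz ((o.nz_ai r).ge ⟨hm, hf⟩).2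
    (mem_ai_of_mem (o.mem 0) (o.nz0 1 (o.mem 0)))).2
  have := o.four
  rw [mu, o.w1 o.trm (by omega) hf hs e 1 le_rfl (by omega), mul_comm (chi t lc 1 m), mul_inv_cancel_right₀
    (o.chi_ne (by omega) (fl_nz hf le_rfl) (fl_nz hf (by omega)))]
  exact o.w1 T hc hf hs e

theorem mu_ne (hf : m ∈ Fl P) : mu t lc m ≠ 0 := by
  have := o.four
  exact mul_ne_zero (o.chi_ne (by omega) (fl_nz hf (by omega)) (fl_nz hf (by omega)))
    (inv_ne_zero (o.chi_ne (by omega) (fl_nz hf le_rfl) (fl_nz hf (by omega))))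

theorem mu_mul (hg : g ∈ Fl P) (hm : m ∈ Fl P) : mu t lc (g * m) = mu t lc g * mu t lc m := by
  have := o.four
  rw [mu, mu, mu, o.chi_mul (by omega) (fl_nz hg (by omega)) (fl_nz hg (by omega)) (fl_nz hm (by omega)),
    o.chi_mul (by omega) (fl_nz hg le_rfl) (fl_nz hg (by omega)) (fl_nz hm le_rfl), mul_inv]
  ring

theorem wt2 (hc : c ≤ n) (hm : m ∈ Fl P) (W : Wt t lc c m μ) (hb : 1 ≤ b) (hy : y ∈ P b) (hy' : y ∉ P (b + 1))
    (h : Sh P c 1 D y) (h' : ¬ Sh P c 1 (D + 1) y) : chi t lc b m = μ ^ D := by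
  obtain ⟨a, a1, a2, a3⟩ := o.exco h hc h'
  have bn := o.lt_n hy hy'
  have y1 := o.up hy hb
  have s0 := o.fl0 (le_nz_self _ (o.mem 0))
  have l1 : P (b + 1) ≤ o.ShG c 1 (D + 1) := by
    rcases lt_or_ge (b + 1) n with q | q
    · exact o.le_inv (o.nz_ShG s0 le_rfl (by omega)) (fun _ h => h.1)
        ⟨o.up (o.act _ _ y1 _ (o.mem 0)) (by omega), o.leib y1 h⟩ fun e => hy' (o.un_s b hb q y hy e)
    · rw [o.bot q]; exact bot_le
  have l2 : P b ≤ o.ShG c 1 D := o.le_of hy hy' ⟨y1, h⟩ fun u hu => ⟨(l1 hu).1, o.shm (l1 hu).2 (by omega)⟩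
  have ma := conj_mem_of_mem_nz (fl_nz hm a1) (o.mem a)
  have f1 : Ad (P b) fun u => lc (a + D) ⁅u, m * t a * m⁻¹⁆ :=
    o.adL (by omega) (o.le b) fun u hu => o.shv (l2 hu).2 a1 ma le_rfl a2.le
  have f2 : ∀ u ∈ P (b + 1), lc (a + D) ⁅u, m * t a * m⁻¹⁆ = 0 := fun u hu =>
    o.zero (by omega) (o.shv (l1 hu).2 a1 ma (by omega) a2)
  have e1 := f1.eq f2 (conj_mem_of_mem_nz (fl_nz hm hb) hy) (pow_mem hy _)
    (o.chi_eig bn (fl_nz hm hb) (fl_nz hm (by omega)) hy)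
  have e2 := f1.pow hy (chi t lc b m).val
  have e3 := o.chi_eq (a := a + D) (by omega) (fl_nz hm (by omega)) (fl_nz hm (by omega))
    (o.shv h a1 (o.mem a) le_rfl a2.le)
  rw [e2, o.co_lin h hc a1 a2 ma, ZMod.natCast_zmod_val, show ⁅m * y * m⁻¹, m * t a * m⁻¹⁆ = m * ⁅y, t a⁆ * m⁻¹ by
    simp only [commutatorElement_def]; group, e3, W.pow a1 D a2] at e1
  refine mul_right_cancel₀ (mul_ne_zero a3 (o.chi_ne (by omega) (fl_nz hm a1) (fl_nz hm (by omega)))) ?_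
  unfold co chi at *
  linear_combination -e1

theorem bil (h1 : 1 ≤ a) (h2 : 1 ≤ b) (e : a + b + 1 = n) (hu : u ∈ P a) (hv : v ∈ P b) :
    lc (a + b) ⁅u, v⁆ = lc a u * lc b v * lc (a + b) ⁅t a, t b⁆ := by
  rw [o.lin (by omega) (o.adL (by omega) (o.le a) fun u hu => o.cm0 a b u hu v hv)
    (fun u hu => o.zero (by omega) (o.up (o.cm0 _ b u hu v hv) (by omega))) hu,
    o.lin (by omega) (o.adR (by omega) (o.le b) fun v hv => o.cm0 a b _ (o.mem a) v hv)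
    (fun v hv => o.zero (by omega) (o.up (o.cm0 a _ _ (o.mem a) v hv) (by omega))) hv, mul_assoc]

theorem pairw (x : EX p n P) (hm : m ∈ Fl P) (h1 : 1 ≤ a) (h2 : 1 ≤ b) (e : a + b + 1 = n) :
    chi t lc (n - 1) m = chi t lc a m * chi t lc b m := by
  have h3 := o.cm0 a b _ (o.mem a) _ (o.mem b)
  have k : lc (a + b) ⁅t a, t b⁆ ≠ 0 := o.ne h3 fun q =>
    (x.pair a b h1 h2 e _ (o.mem a) _ (o.mem b) (o.eq_one e.ge q)).elim (o.nm (by omega)) (o.nm (by omega))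
  have e1 := o.bil h1 h2 e (conj_mem_of_mem_nz (fl_nz hm h1) (o.mem a)) (conj_mem_of_mem_nz (fl_nz hm h2) (o.mem b))
  rw [show ⁅m * t a * m⁻¹, m * t b * m⁻¹⁆ = m * ⁅t a, t b⁆ * m⁻¹ by simp only [commutatorElement_def]; group,
    o.chi_eq (by omega) (fl_nz hm (by omega)) (fl_nz hm (by omega)) h3, mul_comm] at e1
  rw [show n - 1 = a + b by omega]
  exact mul_right_cancel₀ k e1

/-- the centre of `P 1` in the exceptional case -/
theorem cenX (x : EX p n P) : P 1 ⊓ cz (P 1) = P (n - 1) := by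
  have := o.four
  refine le_antisymm (fun u hu => by_contra fun q => ?_) (le_inf (o.anti (by omega)) fun u hu =>
    mem_cz'.2 fun y hy => commutatorElement_eq_one_iff_mul_comm.1
      (o.eq_one (by omega) (o.act' hu (o.le 1 hy))))
  obtain ⟨k, k1, k2, k3, k4⟩ := o.level hu.1 q
  exact (x.pair k (n - 1 - k) k1 (by omega) (by omega) u k3 _ (o.mem _) (commutatorElement_eq_one_iff_mul_comm.2
    (mem_cz'.1 hu.2 _ (o.up (o.mem _) (by omega))).symm)).elim k4 (o.nm (by omega))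

end CH
end H7.GP
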