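import Cfsg.Agent.H7.GP0
import Mathlib.Algebra.Group.ForwardDiff

/-! The trace principle. -/

set_option autoImplicit false
set_option linter.unusedSectionVars false

namespace H7.GP
open Subgroup H25 H25.FS H4 H4.P5 H4.G3 H4.Mx H24.NE
open scoped commutatorElement

universe u
variable {Γ : Type u} [Group Γ] [Finite Γ] {p : ℕ} [hp : Fact p.Prime]
variable {A B C E H L N V W X Y : Subgroup Γ} {g h u v w x y z : Γ} {l : Γ → ZMod p} {α R : ℕ}

theorem tr {ι : Type} [Fintype ι] [DecidableEq ι] (φ : (ι → ZMod p) → Γ) (φX : ∀ a, φ a ∈ X)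
    (φH : ∀ a, φ a ∈ H) (h0 : ∀ g ∈ X, g⁻¹ * φ 0 * g ∈ H)
    (ha : ∀ a b, ∀ g ∈ X, g⁻¹ * ((φ (a + b))⁻¹ * (φ a * φ b)) * g ∈ H)
    (fr : ∀ g ∈ X, ∀ a, g⁻¹ * φ a * g ∈ H → g ∈ H ∨ a = 0) (F : Γ → ZMod p)
    (inv : ∀ g ∈ X, ∀ h ∈ X, h ∈ H → F (g * h) = F g)
    (sm : ∀ g₀ ∈ X, ∀ g ∈ X, ∑ a, F (g₀ * φ a * g) = 0) (hg : g ∈ X) : F g = F 1 := by
  classical
  let Q := X ⧸ H.subgroupOf X
  have := Fintype.ofFinite Q
  have k1 : ∀ g₀ ∈ X, ∀ g : X, F (g₀ * ((g : Q).out : X)) = F (g₀ * g) := fun g₀ h₀ g => by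
    obtain ⟨h, e⟩ := QuotientGroup.mk_out_eq_mul (H.subgroupOf X) g
    rw [e, coe_mul, ← mul_assoc]
    exact inv _ (mul_mem h₀ g.2) _ h.1.2 h.2
  have k2 : ∀ g₀ ∈ X, ∑ ω : Q, F (g₀ * (ω.out : X)) = F g₀ := fun g₀ h₀ => by
    rw [← Finset.add_sum_erase _ _ (Finset.mem_univ ((1 : X) : Q)), k1 _ h₀,
      sum_free (A := ι → ZMod p) (fun a (ω : Q) => (⟨φ a, φX a⟩ : X) • ω)]
    · simp
    · intro ω
      obtain ⟨g, rfl⟩ := QuotientGroup.mk_surjective ω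
      exact (QuotientGroup.eq.2 (by simpa [mem_subgroupOf, mul_assoc] using h0 g g.2)).symm
    · intro a b ω
      obtain ⟨g, rfl⟩ := QuotientGroup.mk_surjective ω
      exact QuotientGroup.eq.2 (by simpa [mem_subgroupOf, mul_assoc] using ha a b g g.2)
    · intro ω hω a
      obtain ⟨g, rfl⟩ := QuotientGroup.mk_surjective ω
      refine Finset.mem_erase.2 ⟨fun e => (Finset.mem_erase.1 hω).1 (QuotientGroup.eq.2 ?_), Finset.mem_univ _⟩
      have := QuotientGroup.eq.1 e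
      simp only [mem_subgroupOf, smul_eq_mul, mul_one, coe_inv, coe_mul, mul_inv_rev] at this ⊢
      exact (mul_mem_cancel_right (inv_mem (φH a))).1 this
    · intro ω hω a e
      obtain ⟨g, rfl⟩ := QuotientGroup.mk_surjective ω
      have := QuotientGroup.eq.1 e.symm
      refine (fr g g.2 a (by simpa [mem_subgroupOf, mul_assoc] using this)).resolve_left fun h =>
        (Finset.mem_erase.1 hω).1 (QuotientGroup.eq.2 (by simpa [mem_subgroupOf] using h))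
    · intro ω _
      obtain ⟨g, rfl⟩ := QuotientGroup.mk_surjective ω
      rw [← sm g₀ h₀ g g.2]
      exact Finset.sum_congr rfl fun a _ => (k1 _ h₀ ((⟨φ a, φX a⟩ : X) * g)).trans (congrArg F (mul_assoc _ _ _).symm)
  rw [← k2 g hg, ← k2 1 (one_mem _)]
  refine Fintype.sum_equiv (MulAction.toPerm (⟨g, hg⟩ : X)) _ _ fun ω => ?_
  obtain ⟨k, rfl⟩ := QuotientGroup.mk_surjective ω
  exact (k1 _ hg k).trans ((k1 _ (one_mem _) (⟨g, hg⟩ * k)).trans (by simp)).symm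

theorem ph_mem {y : Fin α → Γ} (h : ∀ i, y i ∈ X) (a : Fin α → ZMod p) : ph y a ∈ X :=
  list_prod_mem (by simpa [List.mem_ofFn] using fun i => pow_mem (h i) _)

theorem ph_zero (y : Fin α → Γ) : ph (p := p) y 0 = 1 := by simp [ph]

theorem ph_succ (y : Fin (α + 1) → Γ) (a : Fin (α + 1) → ZMod p) :
    ph y a = y 0 ^ (a 0).val * ph (fun i => y i.succ) fun i => a i.succ := by simp [ph]

theorem ph_one (y : Fin 1 → Γ) (a : Fin 1 → ZMod p) : ph y a = y 0 ^ (a 0).val := by simp [ph]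

theorem ph_add' {G : Type u} [Group G] [Finite G] {y : Fin α → G} (h1 : ∀ i, y i ^ p = 1)
    (h2 : ∀ i j, Commute (y i) (y j)) (a b : Fin α → ZMod p) : ph y (a + b) = ph y a * ph y b := by
  induction α with
  | zero => simp [ph]
  | succ α ih =>
    have c : ∀ a : Fin α → ZMod p, Commute (y 0) (ph (fun i => y i.succ) a) := fun a =>
      mem_centralizer_singleton_iff.1 (ph_mem (X := centralizer {y 0})
        (fun i => mem_centralizer_singleton_iff.2 (h2 _ _)) a) |>.symm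
    rw [ph_succ, ph_succ, ph_succ, Pi.add_apply, zp_add (h1 0)]
    refine (congrArg _ (ih (fun i => h1 _) (fun i j => h2 _ _) (fun i => a i.succ) fun i => b i.succ)).trans ?_
    rw [mul_assoc, mul_assoc, ← mul_assoc (ph _ _), ← ((c _).pow_left _).eq, mul_assoc]

theorem map_ph {G G' : Type*} [Group G] [Group G'] (f : G →* G') (y : Fin α → G) (a : Fin α → ZMod p) :
    f (ph y a) = ph (fun i => f (y i)) a := by
  simp [ph, map_list_prod, List.map_ofFn, Function.comp_def]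

theorem Fr.add {y : Fin α → Γ} (f : Fr p E N y) (hN : N ≤ nz E) (hE : E ≤ N) (a b : Fin α → ZMod p) :
    (ph y (a + b))⁻¹ * (ph y a * ph y b) ∈ E := by
  have := (normal_subgroupOf_iff_le_normalizer hE).2 hN
  let π := QuotientGroup.mk' (E.subgroupOf N)
  let y' : Fin α → N := fun i => ⟨y i, f.mem i⟩
  have e : ∀ a : Fin α → ZMod p, ph y a = ((ph y' a : N) : Γ) := fun a => (map_ph N.subtype y' a).symm
  have k : π (ph y' (a + b)) = π (ph y' a * ph y' b) := by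
    rw [map_mul, map_ph, map_ph, map_ph]
    refine ph_add' (fun i => ?_) (fun i j => ?_) a b
    · rw [← map_pow]; exact (QuotientGroup.eq_one_iff _).2 (f.pw i)
    · rw [← commutatorElement_eq_one_iff_commute, ← map_commutatorElement]
      exact (QuotientGroup.eq_one_iff _).2 (f.cm i j)
  rw [e, e, e]
  exact (QuotientGroup.eq (s := E.subgroupOf N)).1 k

theorem trF (r : Lc p E N A B) (h2 : X ≤ A) {y : Fin α → Γ} (f : Fr p E N y)
    (hy : ∀ i, y i ∈ X) (F : Γ → ZMod p) (inv : ∀ g ∈ X, ∀ h ∈ X, h ∈ B → F (g * h) = F g) {k : ℕ}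
    (deg : ∀ g₀ ∈ X, ∀ g ∈ X, (fun a => F (g₀ * ph y a * g)) ∈ Dg p (fun _ : Fin α => 1) k)
    (hk : k < (p - 1) * α) (hg : g ∈ X) : F g = F 1 := by
  have e : ∀ g ∈ X, ∀ e ∈ E, g⁻¹ * e * g ∈ B := fun g hg e he =>
    r.ai_le (r.N_ai (r.lt.le (conj_mem_of_mem_nz' (r.An (h2 hg)) he)))
  refine tr (H := B) (ph y) (ph_mem hy) (fun a => r.ai_le (r.N_ai (ph_mem f.mem a)))
    (fun g hg => e g hg _ (by rw [ph_zero]; exact one_mem _))
    (fun a b g hg => e g hg _ (f.add r.Nn r.lt.le a b)) (fun g hg a h => ?_) F inv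
    (fun g₀ h₀ g hg => Dg_sum (by simpa using hk) (deg g₀ h₀ g hg)) hg
  by_cases k : ph y a ∈ E
  · exact .inr (f.free a k)
  · exact .inl (inv_mem_iff.1 (r.conj (inv_mem (h2 hg)) (ph_mem f.mem a) k (by rwa [inv_inv])))

theorem newton (l : Γ → ZMod p) (y w : Γ) {k : ℕ} (hk : k < p) : l (y ^ k * w * (y ^ k)⁻¹) =
    ∑ r ∈ Finset.range p, (k.choose r : ZMod p) *
      (fun (l : Γ → ZMod p) w => l (y * w * y⁻¹) - l w)^[r] l w := by
  have e : ∀ r (l : Γ → ZMod p), (fwdDiff 1)^[r] (fun k : ℕ => l (y ^ k * w * (y ^ k)⁻¹)) = fun k : ℕ =>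
      (fun (l : Γ → ZMod p) w => l (y * w * y⁻¹) - l w)^[r] l (y ^ k * w * (y ^ k)⁻¹) := fun r => by
    induction r with
    | zero => exact fun _ => rfl
    | succ r ih =>
      intro l
      rw [Function.iterate_succ_apply, Function.iterate_succ_apply, ← ih]
      congr 1
      funext k
      simp only [fwdDiff, pow_succ']
      congr 2
      group
  have := shift_eq_sum_fwdDiff_iter 1 (fun k : ℕ => l (y ^ k * w * (y ^ k)⁻¹)) k 0
  simp only [e, zero_add, smul_eq_mul, mul_one, pow_zero, one_mul, inv_one, nsmul_eq_mul] at this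
  rw [this]
  exact Finset.sum_subset (Finset.range_mono hk) fun r _ h => by
    rw [Nat.choose_eq_zero_of_lt (by simpa using h)]; simp

theorem Dg_const {ι : Type} [Fintype ι] [DecidableEq ι] {w : ι → ℕ} (c : ZMod p) (k : ℕ) :
    (fun _ => c : (ι → ZMod p) → ZMod p) ∈ Dg p w k := by
  convert Dg_mono k.zero_le (Submodule.smul_mem _ c (Dg_one (p := p) (w := w))) using 1
  funext _; simp

theorem pd_aux {ι : Type} [Fintype ι] [DecidableEq ι] {Y : Set Γ} (L : ℕ → Subgroup Γ) (hY : ∀ y ∈ Y, y ∈ nz A)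
    (h : ∀ r, ∀ y ∈ Y, ∀ w ∈ A, w ∈ L r → ⁅y, w⁆ ∈ L (r + 1)) (h0 : A ≤ L 0) (hw : w ∈ A)
    (y : Fin α → Γ) (e : Fin α → ι) (hy : ∀ i, y i ∈ Y) (s : ℕ) (l : Γ → ZMod p) (h1 : Ad A l)
    (h2 : ∀ w ∈ A, w ∈ L (s + 1) → l w = 0) :
    (fun a : ι → ZMod p => l (ph y (a ∘ e) * w * (ph y (a ∘ e))⁻¹)) ∈ Dg p (fun _ => 1) s := by
  induction α generalizing s l with
  | zero => simpa [ph] using Dg_const _ _
  | succ α ih =>
    let T := fun (l : Γ → ZMod p) w => l (y 0 * w * (y 0)⁻¹) - l w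
    have n0 := hY _ (hy 0)
    have k : ∀ r, Ad A (T^[r] l) ∧ ∀ w ∈ A, w ∈ L (s + 1 - r) → T^[r] l w = 0 := fun r => by
      induction r with
      | zero => exact ⟨h1, h2⟩
      | succ r ih =>
        rw [Function.iterate_succ_apply']
        refine ⟨fun a ha b hb => ?_, fun w hw h' => ?_⟩
        · have := ih.1.cj n0 a ha b hb
          simp only [T] at this ⊢
          rw [this, ih.1 a ha b hb]; ring
        · have c := conj_mem_of_mem_nz n0 hw
          simp only [T]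
          rw [sub_eq_add_neg, ← ih.1.inv hw, ← ih.1 _ c _ (inv_mem hw)]
          refine ih.2 _ (mul_mem c (inv_mem hw)) ?_
          rcases le_or_gt (s + 1) r with q | q
          · rw [Nat.sub_eq_zero_of_le q]; exact h0 (mul_mem c (inv_mem hw))
          · exact (show s + 1 - (r + 1) + 1 = s + 1 - r by omega) ▸ h _ _ (hy 0) w hw h'
    have m : ∀ a : ι → ZMod p, ph (fun i => y i.succ) (a ∘ fun i => e i.succ) * w *
        (ph (fun i => y i.succ) (a ∘ fun i => e i.succ))⁻¹ ∈ A := fun a =>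
      conj_mem_of_mem_nz (ph_mem (fun i => hY _ (hy _)) _) hw
    have : (fun a : ι → ZMod p => l (ph y (a ∘ e) * w * (ph y (a ∘ e))⁻¹)) = ∑ r ∈ Finset.range p,
        (fun a : ι → ZMod p => (((a (e 0)).val.choose r : ℕ) : ZMod p)) * fun a => T^[r] l
        (ph (fun i => y i.succ) (a ∘ fun i => e i.succ) * w *
          (ph (fun i => y i.succ) (a ∘ fun i => e i.succ))⁻¹) := by
      funext a
      rw [Finset.sum_apply]
      refine Eq.trans ?_ (newton l (y 0) _ (a (e 0)).val_lt)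
      rw [ph_succ]
      congr 1
      simp only [Function.comp_def]
      group
    rw [this]
    refine Submodule.sum_mem _ fun r hr => ?_
    rcases le_or_gt r s with q | q
    · refine Dg_mono (by omega) (Dg_mul (Dg_choose (e 0) (Finset.mem_range.1 hr))
        (ih _ _ (fun i => hy _) (s - r) _ (k r).1 fun w hw h' => (k r).2 w hw ?_))
      rwa [show s + 1 - r = s - r + 1 by omega]
    · convert Submodule.zero_mem _
      funext a
      rw [Pi.mul_apply, (k r).2 _ (m a) (by rw [Nat.sub_eq_zero_of_le q]; exact h0 (m a)), mul_zero]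
      rfl

theorem pd {y : Fin α → Γ} (h : Nil R A B (Set.range y)) (hy : ∀ i, y i ∈ nz A) (h1 : Ad A l)
    (h2 : ∀ b ∈ B, l b = 0) (hw : w ∈ A) :
    (fun a => l (ph y a * w * (ph y a)⁻¹)) ∈ Dg p (fun _ : Fin α => 1) R := by
  obtain ⟨L, l0, l1, l2⟩ := h
  exact pd_aux L (by rintro _ ⟨i, rfl⟩; exact hy i) l1 l0 hw y id (fun i => ⟨i, rfl⟩) R l h1
    fun w hw h => h2 w (l2 w hw h)

theorem Nil.mono {Y Y' : Set Γ} {R' : ℕ} (h : Nil R A B Y) (e : Y' ⊆ Y) (hR : R ≤ R')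
    (hA : ∀ y ∈ Y', y ∈ nz A) (hB : ∀ y ∈ Y', y ∈ nz B) : Nil R' A B Y' := by
  obtain ⟨L, l0, l1, l2⟩ := h
  refine ⟨fun r => if r ≤ R then L r else B, by simpa using l0, fun r y hy w hw h => ?_, fun w _ h => ?_⟩
  · dsimp only at h ⊢
    split_ifs at h ⊢
    · exact l1 r y (e hy) w hw h
    · omega
    · obtain rfl : r = R := by omega
      exact l2 _ (comm_mem_r (hA y hy) hw) (l1 r y (e hy) w hw h)
    · exact comm_mem_r (hB y hy) h
  · simpa only [if_neg (show ¬ R' + 1 ≤ R by omega)] using h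

theorem exf (e : El p A B) (h1 : B ≤ Y) (h2 : Y ≤ A) (hw : w ∈ A) (hw' : w ∉ Y) :
    ∃ l : Γ → ZMod p, Ad A l ∧ (∀ y ∈ Y, l y = 0) ∧ l w ≠ 0 := by
  obtain ⟨Q, _, _, π, ρ, s⟩ := H0.exists_sec (p := p) (D := ⊥) h2 bot_le bot_le
    (commutator_le.2 fun a ha b hb => h1 (e.cm a ha b hb)) fun x hx => h1 (e.pw x hx)
  obtain ⟨f, hf⟩ := not_forall.1 (mt (Module.forall_dual_apply_eq_zero_iff (ZMod p) (π w)).1
    (mt (s.ker w hw).1 hw'))
  exact ⟨fun x => f (π x), fun x hx y hy => by simp only [s.add x hx y hy, map_add],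
    fun y hy => by simp only [(s.ker y (h2 hy)).2 hy, map_zero], hf⟩

/-- polynomial function of degree at most `k` on `[0, p)` -/
def Dx (p : ℕ) [Fact p.Prime] (k : ℕ) (f : ℕ → ZMod p) : Prop :=
  (fun a : Fin 1 → ZMod p => f (a 0).val) ∈ Dg p (fun _ => 1) k

section
variable {f f' : ℕ → ZMod p} {k k' : ℕ}
theorem Dx.mul (h : Dx p k f) (h' : Dx p k' f') : Dx p (k + k') fun n => f n * f' n := Dg_mul h h'
theorem Dx.add (h : Dx p k f) (h' : Dx p k f') : Dx p k fun n => f n + f' n := add_mem h h'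
theorem Dx.sub (h : Dx p k f) (h' : Dx p k f') : Dx p k fun n => f n - f' n := sub_mem h h'
theorem Dx.mono (h : Dx p k f) (e : k ≤ k') : Dx p k' f := Dg_mono e h
theorem Dx.const (c : ZMod p) (k : ℕ) : Dx p k fun _ => c := Dg_const c k
theorem Dx.id : Dx p 1 fun n => n := by
  simpa [Dx] using Dg_choose (p := p) (w := fun _ : Fin 1 => 1) 0 hp.out.one_lt
theorem Dx.pow (h : Dx p k f) (e : ℕ) : Dx p (e * k) fun n => f n ^ e := by
  induction e with
  | zero => simpa using Dx.const 1 0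
  | succ e ih => simpa [pow_succ, add_mul] using ih.mul h
theorem Dx.congr (h : Dx p k f) (e : ∀ n, f' n = f n) : Dx p k f' := (funext e : f' = f) ▸ h
end

theorem pd1 (h : Nil R A B {x}) (hx : x ∈ nz A) (h1 : Ad A l) (h2 : ∀ b ∈ B, l b = 0) (hw : w ∈ A) :
    Dx p R fun n => l (x ^ n * w * (x ^ n)⁻¹) := by
  simpa [ph_one, Dx] using pd (y := fun _ : Fin 1 => x) (by simpa using h) (fun _ => hx) h1 h2 hw

theorem fr1 (hN : IsPGroup p N) (hx : x ∈ N) (h1 : x ∉ E) (h2 : x ^ p ∈ E) : Fr p E N fun _ : Fin 1 => x :=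
  ⟨fun _ => hx, fun _ => h2, fun _ _ => by simp, fun a h => by
    rw [ph_one] at h
    funext i
    by_contra c
    exact H24.XE.pow_notMem hN hx h1 (by simpa [Subsingleton.elim 0 i] using c) h⟩

theorem tr1 (r : Lc p E N A B) (h2 : X ≤ A) (xN : x ∈ N) (xX : x ∈ X) (xE : x ∉ E)
    (xp : x ^ p ∈ E) (F : Γ → ZMod p) (inv : ∀ g ∈ X, ∀ h ∈ X, h ∈ B → F (g * h) = F g) {k : ℕ}
    (deg : ∀ g₀ ∈ X, ∀ g ∈ X, Dx p k fun n => F (g₀ * x ^ n * g)) (hk : k < p - 1) (hg : g ∈ X) :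
    F g = F 1 :=
  trF r h2 (fr1 r.pg xN xE xp) (fun _ => xX) F inv
    (fun g₀ h₀ g hg => by simpa [ph_one, Dx] using deg g₀ h₀ g hg) (by simpa using hk) hg

/-- eigenvector equation -/
theorem Ad.eig (h1 : Ad L l) (h2 : ∀ y ∈ Y, l y = 0) (gL : g ∈ nz L) (gY : g ∈ nz Y) (hL : h ∈ nz L)
    (hu : u ∈ L) {k : ℕ} (e : h * u * h⁻¹ * (u ^ k)⁻¹ ∈ Y) :
    l (g * h * u * (g * h)⁻¹) = k * l (g * u * g⁻¹) := by
  rw [← (h1.cj gL).pow hu, ← (h1.cj gL).eq (fun b hb => h2 _ (conj_mem_of_mem_nz gY hb))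
    (conj_mem_of_mem_nz hL hu) (pow_mem hu k) e]
  congr 1; group

theorem pdc (h : Nil R L Y {x}) (hx : x ∈ X) (XL : X ≤ nz L) (XY : X ≤ nz Y) (h1 : Ad L l)
    (h2 : ∀ b ∈ Y, l b = 0) (hu : u ∈ L) {g₀ : Γ} (h₀ : g₀ ∈ X) (hg : g ∈ X) :
    Dx p R fun n => l (g₀ * x ^ n * g * u * (g₀ * x ^ n * g)⁻¹) :=
  (pd1 h (XL hx) (h1.cj (XL h₀)) (fun b hb => h2 _ (conj_mem_of_mem_nz (XY h₀) hb))
    (conj_mem_of_mem_nz (XL hg) hu)).congr fun n => by congr 1; group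

theorem lt (r : Lc p E N A B) (h2 : X ≤ A) (xN : x ∈ N) (xX : x ∈ X) (xE : x ∉ E)
    (xp : x ^ p ∈ E) (el : El p L Y) (XL : X ≤ nz L) (XY : X ≤ nz Y) (nil : Nil R L Y {x}) (hu : u ∈ L)
    {e : ℕ} (eig : ∀ h ∈ X, h ∈ B → ∃ k : ℕ, (k : ZMod p) ^ e = 1 ∧ h * u * h⁻¹ * (u ^ k)⁻¹ ∈ Y)
    (e1 : 1 ≤ e) (he : e * R < p - 1) (hg : g ∈ X) : g * u * g⁻¹ ∈ Y ⊔ zpowers u := by
  by_contra c
  obtain ⟨l, l1, l2, l3⟩ := exf el le_sup_left (sup_le el.le (zpowers_le.2 hu))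
    (conj_mem_of_mem_nz (XL hg) hu) c
  have l4 : ∀ y ∈ Y, l y = 0 := fun y hy => l2 y (mem_sup_left hy)
  have := tr1 r h2 xN xX xE xp (fun g => l (g * u * g⁻¹) ^ e) (fun g hg h hh hB => by
    obtain ⟨k, k1, k2⟩ := eig h hh hB
    rw [l1.eig l4 (XL hg) (XY hg) (XL hh) hu k2, mul_pow, k1, one_mul])
    (fun g₀ h₀ g hg => (pdc nil xX XL XY l1 l4 hu h₀ hg).pow e) he hg
  simp only [one_mul, inv_one, mul_one, l2 u (mem_sup_right (mem_zpowers u))] at this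
  exact l3 (pow_eq_zero_iff (by omega) |>.1 (this.trans (zero_pow (by omega))))

theorem pt (r : Lc p E N A B) (h2 : X ≤ A) (xN : x ∈ N) (xX : x ∈ X) (xE : x ∉ E)
    (xp : x ^ p ∈ E) (el : El p V C) (XV : X ≤ nz V) (XC : X ≤ nz C) (nil : Nil 1 V C {x}) (hz : z ∈ V)
    (al : Γ → ZMod p) {k : ℕ} (eig : ∀ h ∈ X, h ∈ B → ∃ (a : ZMod p) (b : ℕ), a * b ^ k = 1 ∧
      h * z * h⁻¹ * (z ^ b)⁻¹ ∈ C ∧ ∀ g ∈ X, al (g * h) = a * al g)
    (deg : ∀ g₀ ∈ X, ∀ g ∈ X, Dx p R fun n => al (g₀ * x ^ n * g)) (k1 : 1 ≤ k) (hk : R + k < p - 1)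
    (hg : g ∈ X) (c : g * z * g⁻¹ ∉ C ⊔ zpowers z) : al g = 0 := by
  obtain ⟨l, l1, l2, l3⟩ := exf el le_sup_left (sup_le el.le (zpowers_le.2 hz))
    (conj_mem_of_mem_nz (XV hg) hz) c
  have l4 : ∀ y ∈ C, l y = 0 := fun y hy => l2 y (mem_sup_left hy)
  have := tr1 r h2 xN xX xE xp (fun g => al g * l (g * z * g⁻¹) ^ k) (fun g hg h hh hB => by
    obtain ⟨a, b, e1, e2, e3⟩ := eig h hh hB
    rw [l1.eig l4 (XV hg) (XC hg) (XV hh) hz e2, e3 g hg, mul_pow]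
    linear_combination al g * l (g * z * g⁻¹) ^ k * e1)
    (fun g₀ h₀ g hg => (deg g₀ h₀ g hg).mul ((pdc nil xX XV XC l1 l4 hz h₀ hg).pow k))
    (by simpa using hk) hg
  simp only [one_mul, inv_one, mul_one, l2 z (mem_sup_right (mem_zpowers z))] at this
  rw [zero_pow (by omega), mul_zero] at this
  exact (mul_eq_zero.1 this).resolve_right (pow_ne_zero _ l3)

end H7.GP
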