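import Cfsg.Agent.H7.GP1

/-! The set-up. -/

set_option autoImplicit false
set_option linter.unusedSectionVars false

namespace H7.GP
open Subgroup H25 H25.FS H4 H4.P5 H4.G3 H4.Mx
open scoped commutatorElement

universe u
variable {Γ : Type u} [Group Γ] [Finite Γ] {p n : ℕ} [hp : Fact p.Prime]
variable {P : ℕ → Subgroup Γ} {t : ℕ → Γ} {lc : ℕ → Γ → ZMod p}
variable {A B E H M N U X : Subgroup Γ} {g m : Γ} {a j u c : ℕ}

theorem lc_cj' (r : Lc p E N A B) (g : Γ) : Lc p (cj g E) (cj g N) (cj g A) (cj g B) :=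
  ⟨isPGroup_cj g r.pg, lt_of_le_of_ne (cj_mono g r.lt.le) fun e => r.lt.ne (by simpa using congrArg (cj g⁻¹) e),
    cj_mono g r.NA, cj_nz g E ▸ cj_mono g r.An, cj_cz g E ▸ cj_mono g r.cA, cj_ai g N E ▸ r.syl.cj g,
    fun h => r.nB (by simpa using cj_mono g⁻¹ h), fun a ha x hx hx' h => by
      rw [← cj_ai, mem_cj] at h
      exact mem_cj.2 (r.hB _ (mem_cj.1 ha) _ (mem_cj.1 hx) (mt mem_cj.2 hx') (by convert h using 1; group))⟩

theorem Cf.cj (q : Cf p P M E X H) (r : MM p P M) (hm : m ∈ M) (h2 : ¬ P 2 ≤ cj m E) :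
    Cf p P M (cj m E) (cj m X) (cj m H) := by
  have e : H25.cj m (P 1 ⊓ nz E) = P 1 ⊓ nz (H25.cj m E) := by rw [cj_inf, cj_nz, mem_nz.1 (r.nz hm)]
  refine ⟨e ▸ lc_cj' q.lc m, cj_mono m q.HX, fun Y h1 h2 => ?_, ?_, h2⟩
  · rw [← e, ← cj_ai, cj_le_iff] at h1
    exact (q.min _ h1 (le_cj_iff.1 h2)).imp le_cj_iff.2 cj_le_iff.2
  · simpa only [cj_ai, cj_eq_of_mem hm] using cj_mono m q.ext

theorem exV (hB : B ≤ U) (hU : U ≤ E) (h1 : X ≤ nz E) (h2 : X ≤ nz B) (h3 : ∀ e ∈ E, ∀ y ∈ U, ⁅e, y⁆ ∈ B)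
    (h4 : ∀ y ∈ U, y ^ p ∈ B) (h5 : E ≤ nz B) : ∃ W, El p W B ∧ X ≤ nz W ∧ U ≤ W ∧ W ≤ E ∧
      (∀ e ∈ E, ∀ w ∈ W, ⁅e, w⁆ ∈ B) ∧ ∀ K, (∀ g ∈ X, cj g U ≤ K) → W ≤ K := by
  let W := closure {w | ∃ g ∈ X, ∃ y ∈ U, w = g * y * g⁻¹}
  have k : ∀ K, (∀ g ∈ X, ∀ y ∈ U, g * y * g⁻¹ ∈ K) → W ≤ K := fun K b =>
    (closure_le _).2 fun _ ⟨g, hg, y, hy, e⟩ => e ▸ b g hg y hy
  have WE : W ≤ E := k E fun g hg y hy => conj_mem_of_mem_nz (h1 hg) (hU hy)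
  have c : ∀ e ∈ E, ∀ w ∈ W, ⁅e, w⁆ ∈ B := fun e he w hw => (k (cmSub e E B h5)
    (fun g hg y hy => ⟨conj_mem_of_mem_nz (h1 hg) (hU hy), by
      convert conj_mem_of_mem_nz (h2 hg) (h3 _ (conj_mem_of_mem_nz' (h1 hg) he) y hy) using 1
      simp only [commutatorElement_def]; group⟩) hw).2
  let Z : Subgroup Γ :=
    { carrier := {w | w ∈ W ∧ w ^ p ∈ B}
      one_mem' := ⟨one_mem _, by simp⟩
      mul_mem' := fun {a b} ha hb => ⟨mul_mem ha.1 hb.1, by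
        have := (normal_subgroupOf_iff_le_normalizer (hB.trans hU)).2 h5
        have q : ∀ w (h : w ∈ E), w ^ p ∈ B ↔ (QuotientGroup.mk' (B.subgroupOf E) ⟨w, h⟩) ^ p = 1 :=
          fun w h => by rw [← map_pow]; exact (QuotientGroup.eq_one_iff (N := B.subgroupOf E) (⟨w, h⟩ ^ p)).symm
        refine (q _ (mul_mem (WE ha.1) (WE hb.1))).2 ?_
        rw [← MulMemClass.mk_mul_mk E a b (WE ha.1) (WE hb.1), map_mul, Commute.mul_pow, (q _ _).1 ha.2,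
          (q _ _).1 hb.2, one_mul]
        rw [← commutatorElement_eq_one_iff_commute, ← map_commutatorElement]
        exact (QuotientGroup.eq_one_iff _).2 (c a (WE ha.1) b hb.1)⟩
      inv_mem' := fun {a} ha => ⟨inv_mem ha.1, by rw [inv_pow]; exact inv_mem ha.2⟩ }
  have m : ∀ g ∈ X, ∀ y ∈ U, g * y * g⁻¹ ∈ W := fun g hg y hy => subset_closure ⟨g, hg, y, hy, rfl⟩
  have UW : U ≤ W := fun y hy => by simpa using m 1 (one_mem _) y hy
  refine ⟨W, ⟨hB.trans UW, fun a ha => c a (WE ha), fun w hw => (k Z (fun g hg y hy => ⟨m g hg y hy, by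
    rw [conj_pow]; exact conj_mem_of_mem_nz (h2 hg) (h4 y hy)⟩) hw).2⟩,
    fun g hg => mem_nz_of_le (cj_le_iff.2 (k _ fun a ha y hy => mem_cj.2 ?_)), UW, WE, c,
    fun K h => k K fun g hg y hy => h g hg (conj_mem_cj g hy)⟩
  simpa [mul_assoc] using m _ (mul_mem hg ha) y hy

theorem CH.exgap (o : CH p n P t lc) (h1 : 1 ≤ a) (h2 : a < n) (h : M ≤ nz (P a)) : ∃ b, Gap n P M a b := by
  classical
  have k : M ≤ nz (P n) := by rw [o.bot le_rfl]; exact le_nz_bot _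
  have ex : ∃ b, a < b ∧ M ≤ nz (P b) := ⟨n, h2, k⟩
  exact ⟨Nat.find ex, h1, (Nat.find_spec ex).1, Nat.find_min' ex ⟨h2, k⟩, h, (Nat.find_spec ex).2,
    fun k k1 k2 k3 => Nat.find_min ex k2 ⟨k1, k3⟩⟩

theorem set1 (o : CH p n P t lc) (r : MM p P M) (q : Cf p P M E X H) :
    ∃ u c, Gap n P M u c ∧ P u ≤ E ∧ X ≤ nz (P c) ∧ ¬ X ≤ nz (P u) := by
  classical
  have := o.four
  have EP : E ≤ P 1 := q.lc.lt.le.trans inf_le_left
  have b : ∀ k, n ≤ k → ∀ Y : Subgroup Γ, Y ≤ nz (P k) := fun k h Y => by rw [o.bot h]; exact le_nz_bot _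
  let Q := fun k => M ≤ nz (P k) ∧ ¬ (P k ≤ E ∧ X ≤ nz (P k))
  have q1 : Q 1 := ⟨r.nz, fun h => q.lc.lt.not_ge (inf_le_left.trans h.1)⟩
  have u1 : 1 ≤ Nat.findGreatest Q n := Nat.le_findGreatest (by omega) q1
  have u2 : Q (Nat.findGreatest Q n) := Nat.findGreatest_spec (m := 1) (by omega) q1
  have u3 : ∀ k, Nat.findGreatest Q n < k → M ≤ nz (P k) → P k ≤ E ∧ X ≤ nz (P k) := fun k h1 h2 => by
    rcases le_total k n with e | e
    · by_contra h; exact Nat.findGreatest_is_greatest h1 e ⟨h2, h⟩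
    · exact ⟨by rw [o.bot e]; exact bot_le, b k e X⟩
  generalize Nat.findGreatest Q n = u at *
  have u4 : u < n := not_le.1 fun e => u2.2 ⟨by rw [o.bot e]; exact bot_le, b u e X⟩
  obtain ⟨c, gp⟩ := o.exgap u1 u4 u2.1
  have c1 := u3 c gp.lt gp.Kb
  suffices h : P u ≤ E from ⟨u, c, gp, h, c1.2, fun e => u2.2 ⟨h, e⟩⟩
  by_contra h
  obtain ⟨y, y1, y2, y3⟩ := exists_mem_nz_of_not_le o.pg (EP.trans (o.le 1)) (o.le u) (EP.trans (o.nzb 1 u)) h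
  have ex : ∀ k, ∃ b, k ≤ b ∧ M ≤ nz (P b) := fun k => ⟨max k n, le_max_left _ _, b _ (le_max_right _ _) M⟩
  have yP := o.up y1 u1
  refine y3 (lc_chain q.lc (fun i => Nat.casesOn i E fun i => P (Nat.find (ex (c + i)))) (n + 1) rfl
    (.inl (o.bot ((Nat.le_add_left n c).trans (Nat.find_spec (ex _)).1))) (fun i _ => ?_) (fun i _ => ?_)
    ⟨yP, y2⟩ fun i _ w hw => ?_)
  · cases i with
    | zero => exact (o.anti (Nat.find_spec (ex _)).1).trans c1.1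
    | succ i =>
      exact o.anti (Nat.find_min' (ex _) ⟨(Nat.le_succ _).trans (Nat.find_spec (ex (c + (i + 1)))).1,
        (Nat.find_spec (ex _)).2⟩)
  · cases i with
    | zero => exact q.lc.An
    | succ i =>
      exact (u3 _ (gp.lt.trans_le ((Nat.le_add_right c i).trans (Nat.find_spec (ex _)).1))
        (Nat.find_spec (ex _)).2).2
  · cases i with
    | zero => exact o.up (comm_symm (o.kf r gp (EP hw) y1)) (Nat.find_min' (ex _) ⟨le_rfl, gp.Kb⟩)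
    | succ i =>
      have s := Nat.find_spec (ex (c + i))
      rcases le_or_gt n (Nat.find (ex (c + i))) with e | e
      · rw [o.eq_one e hw]; simp
      obtain ⟨b, g⟩ := o.exgap (by have := gp.lt; omega) e s.2
      exact o.up (o.kf r g yP hw) (Nat.find_min' (ex _) ⟨by have := g.lt; omega, g.Kb⟩)

theorem set2 (o : CH p n P t lc) (r : MM p P M) (q : Cf p P M E X H) (gp : Gap n P M u c) (UE : P u ≤ E)
    (Xc : X ≤ nz (P c)) (nU : ¬ X ≤ nz (P u)) (j1 : 1 ≤ j) (Kj : M ≤ nz (P j)) (h1 : ∀ g ∈ X, cj g (P u) ≤ P j)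
    (h2 : ∃ g ∈ X, ∃ v ∈ P u, g * v * g⁻¹ ∉ P (j + 1)) : ∃ V i d, Cg p n P M E X H V i j u c d := by
  have EP : E ≤ P 1 := q.lc.lt.le.trans inf_le_left
  have cn := gp.le
  have uc := gp.lt
  obtain ⟨V, el, XV, UV, VE, cE, gen⟩ := exV (o.anti uc.le) UE q.lc.An Xc (fun e he y => o.kf r gp (EP he))
    (o.elG r gp).pw (EP.trans (o.nzb 1 c))
  have nU' : ∀ g ∈ X, g ∈ H ↔ g ∈ nz (P u) := fun g hg => ⟨fun h => by
    obtain ⟨m, hm, e⟩ := (q.ext h).2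
    exact (e.mono UE).mem_nz (gp.Ka hm), fun h => ((q.min (X ⊓ nz (P u)) (le_inf q.lc.syl.le fun a ha => by
      obtain ⟨k, hk, e⟩ := ha.2
      exact (e.mono UE).mem_nz (o.nzb 1 u hk.1)) inf_le_left).resolve_right fun e =>
        nU (e.trans inf_le_right)) ⟨hg, h⟩⟩
  have sr : ∀ g ∈ X, g ∉ H → ∀ v ∈ P u, ∀ y ∈ P 1 ⊓ nz E, y ∉ E → ⁅y, g * v * g⁻¹⁆ ∈ P c →
      ∀ a ∈ X, ⁅a, v⁆ ∈ P c := fun g hg hg' v hv y hy hy' e a ha => by
    refine comm_symm ((((q.min (cmSub v X (P c) Xc) (fun a ha => ⟨q.lc.syl.le ha, ?_⟩) fun _ h => h.1)).resolve_left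
      fun k => hg' (inv_mem_iff.1 (q.lc.conj (inv_mem hg) hy hy' (k ⟨mul_mem (mul_mem (inv_mem hg) (q.lc.NA hy))
        (inv_mem (inv_mem hg)), comm_symm ?_⟩)))) ha).2
    · obtain ⟨k, hk, e⟩ := ha.2
      refine comm_symm ?_
      rw [commutatorElement_def, e v (UE hv)]
      exact o.kf r gp hk.1 hv
    · convert conj_mem_of_mem_nz' (Xc hg) e using 1
      simp only [commutatorElement_def]; group
  have cen : ∀ y ∈ P 1, y ∈ E ↔ ∀ v ∈ V, ⁅y, v⁆ ∈ P c := fun y hy => ⟨cE y, fun h => by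
    by_contra k
    have l : E ≤ P 1 ⊓ stab V (P c) := le_inf EP fun e he => (stab_iff el.le).2 (cE e he)
    obtain ⟨y, y1, y2, y3⟩ := exists_mem_nz_of_not_le (o.pP 1) EP inf_le_left (l.trans (le_nz_self _))
      fun e => k (e ⟨hy, (stab_iff el.le).2 h⟩)
    obtain ⟨g, hg, hg'⟩ := SetLike.not_le_iff_exists.1 q.lc.nB
    exact nU fun a ha => nz_of_comm fun v hv => o.up (sr g hg hg' v hv y ⟨y1.1, y2⟩ y3
      (comm_of_stab y1.2 (conj_mem_of_mem_nz (XV hg) (UV hv))) a ha) uc.le⟩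
  have Vj := gen _ h1
  obtain ⟨v, v1, v2⟩ : ∃ v ∈ V, v ∉ P (j + 1) :=
    let ⟨g, hg, v, hv, e⟩ := h2
    ⟨_, conj_mem_of_mem_nz (XV hg) (UV hv), e⟩
  have ju : j < u := lt_of_le_of_ne (o.idx (by omega) (UV.trans Vj)) fun e =>
    nU (le_antisymm UV (e ▸ Vj) ▸ XV)
  have jc : P c ≤ P j := o.anti (by omega)
  have K : M ≤ nz (P 1 ⊓ stab (P j) (P c)) := fun m hm => mem_nz_inf (r.nz hm) (nz_stab (Kj hm) (gp.Kb hm))
  obtain ⟨k, k1, k2, e⟩ := o.eqK (K (r.le (o.mem 0))) inf_le_left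
  obtain ⟨i, rfl⟩ := Nat.exists_eq_add_of_le' k1
  have ci : ∀ y ∈ P 1, y ∈ P (i + 1) ↔ ∀ w ∈ P j, ⁅y, w⁆ ∈ P c := fun y hy => by
    rw [← e, mem_inf, stab_iff jc, and_iff_right hy]
  have iE : P (i + 1) ≤ E := fun y hy => (cen y (o.up hy k1)).2 fun v hv => (ci y (o.up hy k1)).1 hy v (Vj hv)
  have i2 : 2 ≤ i := not_lt.1 fun h => q.two ((o.anti (by omega)).trans iE)
  have ic : i + 1 ≤ c - 1 := o.idx (by omega) fun y hy => (ci y (o.up hy (by omega))).2 fun w hw =>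
    o.up (o.act _ y hy w (o.le j hw)) (by omega)
  have nm := o.nm (show i < n by omega)
  have t1 := o.up (o.mem i) (show 1 ≤ i by omega)
  obtain ⟨d, -, dc, d1, d2⟩ := o.exD (o.sh0 (o.mem i)) (mt (ci _ t1).2 nm)
  have l : ∀ D, P (i + 1) ≤ o.ShG c j D := fun D y hy => ⟨o.up hy k1, o.shc ((ci y (o.up hy k1)).1 hy)⟩
  have sh : P i ≤ o.ShG c j d := o.le_of (o.mem i) nm ⟨t1, d1⟩ (l d)
  have ex : ∀ y ∈ P i, y ∉ P (i + 1) → ∀ a, j ≤ a → a + d < c → ∀ w ∈ P a, ⁅y, w⁆ ∈ P (a + d + 1) →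
      w ∈ P (a + 1) := fun y hy hy' a a1 a2 w hw => o.xs (sh hy).1 (sh hy).2
    (fun h => d2 (o.le_of (Y := o.ShG c j (d + 1)) hy hy' ⟨(sh hy).1, h⟩ (l _) (o.mem i)).2) cn j1
    ((ci _ (o.up (o.act _ y hy _ (o.mem 0)) k1)).1 (o.act _ y hy _ (o.mem 0))) a1 a2 hw
  have := o.om j1 (Vj v1) v2 cn (el.pw v v1)
  exact ⟨V, i, d, q, gp, Xc, nU', UV, VE, XV, gen, el, sr, cen, j1, ju, Kj, Vj, fun h => v2 (h v1), by omega, i2,
    by omega, e ▸ K, ci, iE, fun y hy => nz_of_comm fun w hw => iE (o.up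
      (o.cm1 _ 1 (by omega) le_rfl (by omega) y hy w (EP hw)) (by omega)),
    fun y hy hE => by_contra fun h => v2 (ex y hy h j le_rfl dc v (Vj v1) (o.up (cE y hE v v1) dc)),
    dc, fun y hy => (sh hy).2, ex⟩

theorem set0 (o : CH p n P t lc) (r : MM p P M) (q : Cf p P M E X H) (h2 : ∀ m ∈ M, ¬ P 2 ≤ cj m E) :
    ∃ E X H V i j u c d, Cg p n P M E X H V i j u c d := by
  obtain ⟨u, c, gp, UE, Xc, nU⟩ := set1 o r q
  have EP : E ≤ P 1 := q.lc.lt.le.trans inf_le_left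
  let W := closure {w | ∃ m ∈ M, ∃ g ∈ X, ∃ v ∈ P u, w = m * (g * v * g⁻¹) * m⁻¹}
  have w1 : ∀ m ∈ M, ∀ g ∈ X, ∀ v ∈ P u, m * (g * v * g⁻¹) * m⁻¹ ∈ W := fun m hm g hg v hv =>
    subset_closure ⟨m, hm, g, hg, v, hv, rfl⟩
  have K : M ≤ nz W := fun a ha => mem_nz_of_le (cj_le_iff.2 ((closure_le _).2 fun _ ⟨m, hm, g, hg, v, hv, e⟩ =>
    mem_cj.2 (by simpa [e, mul_assoc] using w1 _ (mul_mem ha hm) g hg v hv)))
  obtain ⟨j, j1, -, e⟩ := o.eqK (K (r.le (o.mem 0))) ((closure_le _).2 fun _ ⟨m, hm, g, hg, v, hv, e⟩ =>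
    e ▸ conj_mem_of_mem_nz (r.nz hm) (EP (conj_mem_of_mem_nz (q.lc.An hg) (UE hv))))
  have un := gp.lt.trans_le gp.le
  have ju : j ≤ u := o.idx un fun v hv => by simpa [← e] using w1 1 (one_mem _) 1 (one_mem _) v hv
  obtain ⟨m, hm, g, hg, v, hv, k⟩ : ∃ m ∈ M, ∃ g ∈ X, ∃ v ∈ P u, m * (g * v * g⁻¹) * m⁻¹ ∉ P (j + 1) := by
    by_contra k
    push Not at k
    exact o.nm (by omega) ((e.ge.trans ((closure_le _).2 fun _ ⟨m, hm, g, hg, v, hv, e⟩ =>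
      e ▸ k m hm g hg v hv)) (o.mem j))
  obtain ⟨V, i, d, h⟩ := set2 o r (q.cj r hm (h2 m hm)) gp (by simpa only [mem_nz.1 (gp.Ka hm)] using cj_mono m UE)
    (by simpa only [cj_nz, mem_nz.1 (gp.Kb hm)] using cj_mono m Xc)
    (fun h => nU (by simpa only [cj_nz, mem_nz.1 (gp.Ka (inv_mem hm))] using cj_le_iff.1 h)) j1 (e ▸ K)
    (fun a ha => cj_le.2 fun v hv => by
      convert e.le (w1 m hm _ (mem_cj.1 ha) _ (conj_mem_of_mem_nz' (gp.Ka hm) hv)) using 1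
      group)
    ⟨_, conj_mem_cj m hg, _, conj_mem_of_mem_nz (gp.Ka hm) hv, by convert k using 2; group⟩
  exact ⟨_, _, _, V, i, j, u, c, d, h⟩

end H7.GP
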