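import Cfsg.Agent.H7.GP1

/-! Trace lemmas in the set-up. -/

set_option autoImplicit false
set_option linter.unusedSectionVars false

namespace H7.GP
open Subgroup H25 H25.FS H4 H4.P5 H4.G3 H4.Mx
open scoped commutatorElement

universe u
variable {Γ : Type u} [Group Γ] [Finite Γ] {p n : ℕ} [hp : Fact p.Prime]
variable {P : ℕ → Subgroup Γ} {t : ℕ → Γ} {lc : ℕ → Γ → ZMod p}
variable {A B E H K M V W X : Subgroup Γ} {g h m v w x y : Γ} {a e i j u c d k R : ℕ} {l : Γ → ZMod p}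

theorem Nil.sub {Y : Set Γ} (h : Nil R K B Y) (e : W ≤ K) : Nil R W B Y :=
  let ⟨L, l0, l1, l2⟩ := h
  ⟨L, e.trans l0, fun r y hy w hw => l1 r y hy w (e hw), fun w hw => l2 w (e hw)⟩

theorem exh {ε : ℕ} (hc : ε.Coprime (p - 1)) (e : ℕ) :
    ∃ h < p - 1, h * ε ≡ e [MOD p - 1] ∧ ∀ μ : ZMod p, μ ≠ 0 → μ ^ e = (μ ^ ε) ^ h := by
  have := hp.out.two_le
  obtain ⟨h, h1, h2⟩ := Nat.exists_mul_mod_eq_of_coprime e hc (by omega)
  have h3 : h * ε ≡ e [MOD p - 1] := by rw [mul_comm]; exact h2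
  exact ⟨h, h1, h3, fun μ hμ => by
    rw [← pow_mul, mul_comm]; exact pow_eq_pow_of_modEq h3.symm (ZMod.pow_card_sub_one_eq_one hμ)⟩

/-- the section generated by the conjugates of `y` -/
theorem exW (hB : B ≤ E) (h1 : X ≤ nz E) (h2 : X ≤ nz B) (hy : y ∈ E) (h3 : ∀ e ∈ E, ⁅e, y⁆ ∈ B)
    (h4 : y ^ p ∈ B) (h5 : E ≤ nz B) : ∃ W, El p W B ∧ X ≤ nz W ∧ y ∈ W ∧
      ∀ K, B ≤ K → (∀ g ∈ X, g * y * g⁻¹ ∈ K) → W ≤ K := by
  let W := B ⊔ closure {w | ∃ g ∈ X, w = g * y * g⁻¹}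
  have k : ∀ K, B ≤ K → (∀ g ∈ X, g * y * g⁻¹ ∈ K) → W ≤ K := fun K a b =>
    sup_le a ((closure_le _).2 fun _ ⟨g, hg, e⟩ => e ▸ b g hg)
  have WE : W ≤ E := k E hB fun g hg => conj_mem_of_mem_nz (h1 hg) hy
  have c : ∀ e ∈ E, ∀ w ∈ W, ⁅e, w⁆ ∈ B := fun e he w hw => (k (cmSub e E B h5)
    (fun b hb => ⟨hB hb, comm_mem_r (h5 he) hb⟩) (fun g hg => ⟨conj_mem_of_mem_nz (h1 hg) hy, by
      convert conj_mem_of_mem_nz (h2 hg) (h3 _ (conj_mem_of_mem_nz' (h1 hg) he)) using 1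
      simp only [commutatorElement_def]; group⟩) hw).2
  let Z : Subgroup Γ :=
    { carrier := {w | w ∈ W ∧ w ^ p ∈ B}
      one_mem' := ⟨one_mem _, by simp⟩
      mul_mem' := fun {a b} ha hb => ⟨mul_mem ha.1 hb.1, by
        have := (normal_subgroupOf_iff_le_normalizer hB).2 h5
        have q : ∀ w (h : w ∈ E), w ^ p ∈ B ↔ (QuotientGroup.mk' (B.subgroupOf E) ⟨w, h⟩) ^ p = 1 :=
          fun w h => by rw [← map_pow]; exact (QuotientGroup.eq_one_iff (N := B.subgroupOf E) (⟨w, h⟩ ^ p)).symm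
        refine (q _ (mul_mem (WE ha.1) (WE hb.1))).2 ?_
        rw [← MulMemClass.mk_mul_mk E a b (WE ha.1) (WE hb.1), map_mul, Commute.mul_pow, (q _ _).1 ha.2,
          (q _ _).1 hb.2, one_mul]
        rw [← commutatorElement_eq_one_iff_commute, ← map_commutatorElement]
        exact (QuotientGroup.eq_one_iff _).2 (c a (WE ha.1) b hb.1)⟩
      inv_mem' := fun {a} ha => ⟨inv_mem ha.1, by rw [inv_pow]; exact inv_mem ha.2⟩ }
  have m : ∀ g ∈ X, g * y * g⁻¹ ∈ W := fun g hg => mem_sup_right (subset_closure ⟨g, hg, rfl⟩)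
  refine ⟨W, ⟨le_sup_left, fun a ha => c a (WE ha), fun w hw => (k Z (fun b hb => ⟨mem_sup_left hb, pow_mem hb p⟩)
    (fun g hg => ⟨m g hg, by rw [conj_pow]; exact conj_mem_of_mem_nz (h2 hg) h4⟩) hw).2⟩,
    fun g hg => mem_nz_of_le (cj_le_iff.2 (k _ (cj_le_iff.1 ((mem_nz.1 (h2 hg)).le.trans le_sup_left))
      fun a ha => mem_cj.2 ?_)), by simpa using m 1 (one_mem _), k⟩
  simpa [mul_assoc] using m _ (mul_mem hg ha)

namespace Cg
variable (q : Cg p n P M E X H V i j u c d) (o : CH p n P t lc)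
include q o

omit o in
theorem cn : c ≤ n := q.gap.le
omit o in
theorem uc : u < c := q.gap.lt
omit o in
theorem EP : E ≤ P 1 := q.lc.lt.le.trans inf_le_left
omit o in
theorem cE : P c ≤ E := q.el.le.trans q.VE
omit o in
theorem exg : ∃ g ∈ X, g ∉ H := SetLike.not_le_iff_exists.1 q.lc.nB
omit o in
theorem exm (h1 : h ∈ H) : ∃ m ∈ M, Agree E h m := (q.ext h1).2
theorem xN (hy : y ∈ P i) : y ∈ P 1 ⊓ nz E := ⟨o.up hy (by have := q.i2; omega), q.iN (o.up hy (by omega))⟩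
theorem xX (hy : y ∈ P i) : y ∈ X := q.lc.NA (q.xN o hy)
omit o in
theorem xE (hy : y ∈ P i) (h : y ∉ P (i + 1)) : y ∉ E := mt (q.nE y hy) h
theorem xp (hy : y ∈ P i) : y ^ p ∈ E := q.iE (o.pw1 hy)
theorem nmi : t i ∉ P (i + 1) := o.nm (by have := q.ic; have := q.cn; omega)
theorem tE : t i ∉ E := q.xE (o.mem i) (q.nmi o)
theorem ud (r : MM p P M) : c ≤ u + d := not_lt.1 fun e => o.nm (q.uc.trans_le q.cn)
  (q.ex _ (o.mem i) (q.nmi o) u q.ju.le e _ (o.mem u) (o.up (o.kf r q.gap (q.xN o (o.mem i)).1 (o.mem u)) e))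
omit o in
theorem exv : ∃ v ∈ V, v ∈ P j ∧ v ∉ P (j + 1) :=
  let ⟨v, h1, h2⟩ := SetLike.not_le_iff_exists.1 q.Vj'
  ⟨v, h1, q.Vj h1, h2⟩
theorem id (T : Tr P c) : i + 1 ≤ d := not_lt.1 fun e => by
  have := q.dc; have := q.cn; have := q.i2
  exact o.nm (by omega) (q.ex _ (o.mem i) (q.nmi o) j le_rfl q.dc _ (o.mem j)
    (o.shv (o.shT T q.j1 (by omega) (o.mem i)) le_rfl (o.mem j) (by omega) (by omega)))

theorem quad (hq : c ≤ j + 2 * d) : Nil 1 V (P c) (P i) :=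
  ⟨fun r => P (min (j + r * d) c), q.Vj.trans (o.anti (by omega)), fun r y hy w hw h => by
    dsimp only at h ⊢
    rcases le_total c (j + r * d) with e | e
    · rw [min_eq_right e] at h
      exact o.up (o.act' h (o.le i hy)) (by omega)
    · rw [min_eq_left e] at h
      exact o.up (q.sh y hy _ (by omega) w h) (by rw [add_mul]; omega),
    fun w _ h => o.up h (by omega)⟩

theorem quad1 (hq : c ≤ j + 2 * d) (hx : x ∈ P i) : Nil 1 V (P c) {x} :=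
  let ⟨L, l0, l1, l2⟩ := q.quad o hq
  ⟨L, l0, fun r y hy => l1 r y (hy ▸ hx), l2⟩

theorem zsup (e : u + 1 = c) : P c ⊔ zpowers (t u) = P u := e ▸ o.sup (o.mem u) (o.nm (q.uc.trans_le q.cn))

theorem zn (e : u + 1 = c) (hg : g ∈ X) (h : g ∉ H) : g * t u * g⁻¹ ∉ P c ⊔ zpowers (t u) := fun k =>
  h ((q.nU g hg).2 (mem_nz_of_le (by
    rw [← q.zsup o e, cj_sup, cj_zpowers, mem_nz.1 (q.Xc hg)]
    exact sup_le le_sup_left (zpowers_le.2 k))))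

theorem zeig (e : u + 1 = c) (hm : m ∈ M) (k : Agree E h m) :
    h * t u * h⁻¹ * (t u ^ (chi t lc u m).val)⁻¹ ∈ P c := by
  rw [k _ (q.VE (q.UV (o.mem u))), ← e]
  exact o.chi_eig (q.uc.trans_le q.cn) (q.gap.Ka hm) (e ▸ q.gap.Kb hm) (o.mem u)

theorem zne (e : u + 1 = c) (hm : m ∈ M) : chi t lc u m ≠ 0 :=
  o.chi_ne (q.uc.trans_le q.cn) (q.gap.Ka hm) (e ▸ q.gap.Kb hm)

theorem zexp (e : u + 1 = c) (hq : c ≤ j + 2 * d) (h1 : 1 ≤ k) (h2 : k < p - 1)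
    (h : ∀ m ∈ M, chi t lc u m ^ k = 1) : False := by
  obtain ⟨g, hg, hg'⟩ := q.exg
  refine q.zn o e hg hg' (lt q.lc le_rfl (q.xN o (o.mem i)) (q.xX o (o.mem i)) (q.tE o) (q.xp o (o.mem i))
    q.el q.XV q.Xc (q.quad1 o hq (o.mem i)) (q.UV (o.mem u)) (fun a _ ha => ?_) h1 (by simpa using h2) hg)
  obtain ⟨m, hm, k⟩ := q.exm ha
  exact ⟨_, by rw [ZMod.natCast_zmod_val, h m hm], q.zeig o e hm k⟩

theorem modeq (e : u + 1 = c) (hq : c ≤ j + 2 * d) {μ : Γ → ZMod p} {ε a b : ℕ} (h0 : ∀ m ∈ M, μ m ≠ 0)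
    (h1 : ∀ m ∈ M, chi t lc u m = μ m ^ ε) (h2 : ∀ m ∈ M, μ m ^ a = μ m ^ b) : a ≡ b [MOD p - 1] := by
  wlog w : a ≤ b generalizing a b
  · exact (this (fun m hm => (h2 m hm).symm) (by omega)).symm
  obtain ⟨b, rfl⟩ := Nat.exists_eq_add_of_le w
  have := hp.out.two_le
  refine (Nat.ModEq.add_left a (?_ : b ≡ 0 [MOD p - 1])).symm
  by_contra k
  refine q.zexp o e hq (Nat.pos_of_ne_zero k) (Nat.mod_lt b (by omega)) fun m hm => ?_
  rw [h1 m hm, ← pow_mul, mul_comm, pow_mul, ← pow_eq_pow_mod b (ZMod.pow_card_sub_one_eq_one (h0 m hm)),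
    mul_left_cancel₀ (pow_ne_zero a (h0 m hm)) (((pow_add _ a b).symm.trans (h2 m hm).symm).trans
      (mul_one _).symm), one_pow]

theorem cop (e : u + 1 = c) (hq : c ≤ j + 2 * d) {μ : Γ → ZMod p} {ε : ℕ} (h0 : ∀ m ∈ M, μ m ≠ 0)
    (h1 : ∀ m ∈ M, chi t lc u m = μ m ^ ε) : ε.Coprime (p - 1) := by
  have := hp.out.two_le
  obtain ⟨a, ha⟩ := Nat.gcd_dvd_left ε (p - 1)
  obtain ⟨b, hb⟩ := Nat.gcd_dvd_right ε (p - 1)
  by_contra k
  have g0 := Nat.gcd_pos_of_pos_right ε (show 0 < p - 1 by omega)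
  have b0 : 0 < b := Nat.pos_of_ne_zero fun e => by rw [e] at hb; omega
  refine q.zexp o e hq b0 (by rw [hb]; exact lt_mul_left b0 (by unfold Nat.Coprime at k; omega)) fun m hm => ?_
  rw [h1 m hm, ← pow_mul, show ε * b = (p - 1) * a by rw [hb]; nth_rewrite 1 [ha]; ring, pow_mul,
    ZMod.pow_card_sub_one_eq_one (h0 m hm), one_pow]

/-- product trace with the generator of `P u / P c` -/
theorem ptz (e : u + 1 = c) (hq : c ≤ j + 2 * d) (al : Γ → ZMod p) (hk : k < p - 1)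
    (eig : ∀ h ∈ X, ∀ m ∈ M, Agree E h m → ∀ g ∈ X, al (g * h) = chi t lc u m ^ k * al g)
    (deg : ∀ g₀ ∈ X, ∀ g ∈ X, Dx p R fun n => al (g₀ * t i ^ n * g)) (hg : g ∈ X) (hg' : g ∉ H)
    (h0 : al g ≠ 0) : k ≤ R := not_lt.1 fun c => h0 <|
  pt q.lc le_rfl (q.xN o (o.mem i)) (q.xX o (o.mem i)) (q.tE o) (q.xp o (o.mem i)) q.el q.XV q.Xc
    (q.quad1 o hq (o.mem i)) (q.UV (o.mem u)) al (k := p - 1 - k) (fun a ha hH => by
      obtain ⟨m, hm, f⟩ := q.exm hH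
      refine ⟨_, _, ?_, q.zeig o e hm f, eig a ha m hm f⟩
      rw [ZMod.natCast_zmod_val, ← pow_add, show k + (p - 1 - k) = p - 1 by omega,
        ZMod.pow_card_sub_one_eq_one (q.zne o e hm)]) deg (by omega) (by omega) hg (q.zn o e hg hg')

theorem endT (r : MM p P M) (hq : c ≤ j + 2 * d) (Ki : M ≤ nz (P i)) (hg : g ∈ X) (hg' : g ∉ H) :
    ∃ al : Γ → ZMod p, al g ≠ 0 ∧ al 1 = 0 ∧
      (∀ h ∈ X, ∀ m ∈ M, Agree E h m → ∀ g ∈ X, al (g * h) = chi t lc i m * al g) ∧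
      ∀ g₀ ∈ X, ∀ g ∈ X, Dx p 2 fun n => al (g₀ * t i ^ n * g) := by
  have xX := q.xX o (o.mem i)
  obtain ⟨v, hv, hv'⟩ : ∃ v ∈ P u, ⁅g * t i * g⁻¹, v⁆ ∉ P c := by
    by_contra k
    push Not at k
    refine hg' ((q.nU g hg).2 (nz_of_comm fun v hv => o.up (q.sr _ (inv_mem hg) (mt inv_mem_iff.1 hg') v hv _
      (q.xN o (o.mem i)) (q.tE o) ?_ g hg) q.uc.le))
    convert conj_mem_of_mem_nz' (q.Xc hg) (k v hv) using 1
    simp only [commutatorElement_def]; group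
  have cv : ∀ y ∈ X, ∀ w ∈ V, ⁅y, w⁆ ∈ V := fun y hy w hw => comm_mem_r (q.XV hy) hw
  obtain ⟨l, l1, l2, l3⟩ := exf q.el le_rfl q.el.le (cv _ (mul_mem (mul_mem hg xX) (inv_mem hg)) v (q.UV hv)) hv'
  obtain ⟨L, l0, s1, s2⟩ := q.quad o hq
  have ad : ∀ {l : Γ → ZMod p}, Ad V l → ∀ y ∈ X, Ad V fun w => l ⁅y, w⁆ := fun {l} h y hy a ha b hb => by
    dsimp only
    rw [show ⁅y, a * b⁆ = ⁅y, a⁆ * (a * ⁅y, b⁆ * a⁻¹) by simp only [commutatorElement_def]; group,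
      h _ (cv y hy a ha) _ (mul_mem (mul_mem ha (cv y hy b hb)) (inv_mem ha)), h.conj ha (cv y hy b hb)]
  refine ⟨fun g => l ⁅g * t i * g⁻¹, v⁆, l3, l2 _ (by simpa using o.kf r q.gap (q.xN o (o.mem i)).1 hv),
    fun h hh m hm k g hg => ?_, fun g₀ h₀ g hg => ?_⟩
  · have hw := conj_mem_of_mem_nz' (q.XV hg) (q.UV hv)
    have z : ∀ b ∈ P c, l (g * b * g⁻¹) = 0 := fun b hb => l2 _ (conj_mem_of_mem_nz (q.Xc hg) hb)
    have a1 : Ad (P i) fun y => l (g * ⁅y, g⁻¹ * v * g⁆ * g⁻¹) := fun a ha b hb => by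
      have hb' := cv b (q.xX o hb) _ hw
      have := l1.cj (q.XV hg) _ (conj_mem_of_mem_nz (q.XV (q.xX o ha)) hb') _ (cv a (q.xX o ha) _ hw)
      have e := (l1.cj (q.XV hg)).eq z (conj_mem_of_mem_nz (q.XV (q.xX o ha)) hb') hb'
        (s2 _ (cv a (q.xX o ha) _ hb') (s1 1 a ha _ hb' (s1 0 b hb _ hw (l0 hw))))
      dsimp only at this e ⊢
      rw [show ⁅a * b, g⁻¹ * v * g⁆ = a * ⁅b, g⁻¹ * v * g⁆ * a⁻¹ * ⁅a, g⁻¹ * v * g⁆ by
        simp only [commutatorElement_def]; group, this, e, add_comm]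
    have e1 := o.lin (by have := q.ic; have := q.cn; omega) a1 (fun y hy => z _
      ((q.ci y (o.up hy (by omega))).1 hy _ (q.Vj hw))) (conj_mem_of_mem_nz (Ki hm) (o.mem i))
    have e2 := (agree_conj k (k.symm.mem_nz (q.lc.An hh)) (q.lc.An xX)) _ (q.VE hw)
    dsimp only at e1 ⊢
    rw [show ⁅g * h * t i * (g * h)⁻¹, v⁆ = g * (h * t i * h⁻¹ * (g⁻¹ * v * g) * (h * t i * h⁻¹)⁻¹ *
      (g⁻¹ * v * g)⁻¹) * g⁻¹ by simp only [commutatorElement_def]; group, e2,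
      ← commutatorElement_def, e1]
    congr 2
    simp only [commutatorElement_def]; group
  · have hw := conj_mem_of_mem_nz' (q.XV h₀) (q.UV hv)
    have hy := mul_mem (mul_mem hg xX) (inv_mem hg)
    have z : ∀ b ∈ P c, l (g₀ * b * g₀⁻¹) = 0 := fun b hb => l2 _ (conj_mem_of_mem_nz (q.Xc h₀) hb)
    have nil : ∀ x ∈ P i, Nil 1 V (P c) {x} := fun x hx => q.quad1 o hq hx
    have qf : ∀ {l : Γ → ZMod p}, Ad V l → (∀ b ∈ P c, l b = 0) → ∀ w ∈ V, ∀ n : ℕ,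
        l (t i ^ n * w * (t i ^ n)⁻¹) = l w + n * l ⁅t i, w⁆ := fun {l} h h0 w hw n => by
      induction n with
      | zero => simp
      | succ n ih =>
        have m1 := conj_mem_of_mem_nz (q.XV (pow_mem xX n)) (cv _ xX w hw)
        rw [show t i ^ (n + 1) * w * (t i ^ (n + 1))⁻¹ = t i ^ n * ⁅t i, w⁆ * (t i ^ n)⁻¹ *
          (t i ^ n * w * (t i ^ n)⁻¹) by simp only [commutatorElement_def, pow_succ]; group,
          h _ m1 _ (conj_mem_of_mem_nz (q.XV (pow_mem xX n)) hw), ih, h.eq h0 m1 (cv _ xX w hw)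
            (s2 _ (cv _ (pow_mem xX n) _ (cv _ xX w hw)) (s1 1 _ (pow_mem (o.mem i) n) _ (cv _ xX w hw)
              (s1 0 _ (o.mem i) w hw (l0 hw))))]
        push_cast; ring
    have a1 := ad (l1.cj (q.XV h₀)) _ hy
    have a2 := ad (ad (l1.cj (q.XV h₀)) _ xX) _ hy
    have n1 := nil _ (inv_mem (o.mem i))
    refine (((pd1 n1 (q.XV (inv_mem xX)) a1 (fun b hb => z _ (comm_mem_r (q.Xc hy) hb)) hw).mono
      (by omega)).add (Dx.id.mul (pd1 n1 (q.XV (inv_mem xX)) a2 (fun b hb => z _ (comm_mem_r (q.Xc xX)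
        (comm_mem_r (q.Xc hy) hb))) hw))).congr fun n => ?_
    rw [← qf (l1.cj (q.XV h₀)) z _ (cv _ hy _ (conj_mem_of_mem_nz (q.XV (pow_mem (inv_mem xX) n)) hw))]
    simp only [commutatorElement_def, inv_pow]; group

theorem endq (r : MM p P M) (hq : c ≤ j + 2 * d) (Ki : M ≤ nz (P i)) (h : ∀ m ∈ M, chi t lc i m ^ e = 1)
    (h1 : 1 ≤ e) (h2 : e * 2 < p - 1) : False := by
  obtain ⟨g, hg, hg'⟩ := q.exg
  obtain ⟨al, a1, a2, a3, a4⟩ := q.endT o r hq Ki hg hg'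
  have := tr1 q.lc le_rfl (q.xN o (o.mem i)) (q.xX o (o.mem i)) (q.tE o) (q.xp o (o.mem i))
    (fun g => al g ^ e) (fun g hg a ha hH => by
      obtain ⟨m, hm, k⟩ := q.exm hH
      rw [a3 a ha m hm k g hg, mul_pow, h m hm, one_mul]) (fun g₀ h₀ g hg => (a4 g₀ h₀ g hg).pow e) h2 hg
  rw [a2, zero_pow (by omega)] at this
  exact pow_ne_zero _ a1 this

theorem endh (r : MM p P M) (e : u + 1 = c) (hq : c ≤ j + 2 * d) (Ki : M ≤ nz (P i)) (h5 : 5 ≤ p)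
    (hk : k < p - 1) (h : ∀ m ∈ M, chi t lc i m = chi t lc u m ^ k) : k = 1 ∨ k = 2 := by
  obtain ⟨g, hg, hg'⟩ := q.exg
  obtain ⟨al, a1, -, a3, a4⟩ := q.endT o r hq Ki hg hg'
  have := q.ptz o e hq al hk (fun a ha m hm f g hg => h m hm ▸ a3 a ha m hm f g hg) a4 hg hg' a1
  have : k ≠ 0 := fun e => q.endq o r hq Ki (e := 1) (fun m hm => by rw [h m hm, e]; simp) le_rfl (by omega)
  omega

variable (fl : M ≤ Fl P) (hB : B ≤ E) (XB : X ≤ nz B) (h1 : 1 ≤ a) (yE : y ∈ E) (hy : y ∈ P a)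
  (h2 : ∀ w ∈ E, w ∈ P (a + 1) → w ∈ B) (h3 : B ≤ K) (h4 : ∀ g ∈ X, g * y * g⁻¹ ∈ K) (nil : Nil R K B {t i})
include fl hB XB h1 yE hy h2 h3 h4 nil

theorem evW (hy' : y ∉ B) : ∃ W, El p W B ∧ X ≤ nz W ∧ y ∈ W ∧ Nil R W B {t i} ∧ ∀ h, ∀ m ∈ M, h ∈ X → Agree E h m →
    h * y * h⁻¹ * (y ^ (chi t lc a m).val)⁻¹ ∈ B := by
  obtain ⟨W, w1, w2, w3, w4⟩ := exW (p := p) hB q.lc.An XB yE (fun e he => h2 _
    (comm_mem_l he (le_nz_self E yE)) (o.act' hy (o.le 1 (q.EP he)))) (h2 _ (pow_mem yE p) (o.pw1 hy))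
    (q.lc.lt.le.trans (q.lc.NA.trans XB))
  refine ⟨W, w1, w2, w3, nil.sub (w4 K h3 h4), fun h m hm hh k => h2 _
    (mul_mem (conj_mem_of_mem_nz (q.lc.An hh) yE) (inv_mem (pow_mem yE _))) ?_⟩
  rw [k y yE]
  exact o.chi_eig (o.lt_n hy (mt (h2 y yE) hy')) (fl_nz (fl hm) h1) (fl_nz (fl hm) (by omega)) hy

/-- an eigenvector of level `a` over the invariant subgroup `B` -/
theorem ev (hy' : y ∉ B) (e : u + 1 = c) (hq : c ≤ j + 2 * d) (hk : k < p - 1)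
    (h : ∀ m ∈ M, chi t lc a m = chi t lc u m ^ k) : k ≤ R := by
  obtain ⟨W, w1, w2, w3, w4, w5⟩ := q.evW o fl hB XB h1 yE hy h2 h3 h4 nil hy'
  obtain ⟨g, hg, hg'⟩ := q.exg
  obtain ⟨l, l1, l2, l3⟩ := exf w1 le_rfl w1.le (conj_mem_of_mem_nz (w2 hg) w3)
    fun k => hy' (by simpa [mul_assoc] using conj_mem_of_mem_nz' (XB hg) k)
  exact q.ptz o e hq (fun g => l (g * y * g⁻¹)) hk (fun b hb m hm f g hg => by
    rw [l1.eig l2 (w2 hg) (XB hg) (w2 hb) w3 (w5 b m hm hb f), ZMod.natCast_zmod_val, h m hm])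
    (fun g₀ h₀ g hg => pdc w4 (q.xX o (o.mem i)) w2 XB l1 l2 w3 h₀ hg) hg hg' l3

theorem ev0 (hR : R < p - 1) (h : ∀ m ∈ M, chi t lc a m = 1) : X ≤ nz (B ⊔ zpowers y) := fun g hg => by
  by_cases hy' : y ∈ B
  · rw [sup_eq_left.2 (zpowers_le.2 hy')]; exact XB hg
  obtain ⟨W, w1, w2, w3, w4, w5⟩ := q.evW o fl hB XB h1 yE hy h2 h3 h4 nil hy'
  refine mem_nz_of_le ?_
  rw [cj_sup, cj_zpowers, mem_nz.1 (XB hg)]
  refine sup_le le_sup_left (zpowers_le.2 (lt q.lc le_rfl (q.xN o (o.mem i)) (q.xX o (o.mem i)) (q.tE o)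
    (q.xp o (o.mem i)) w1 w2 XB w4 w3 (e := 1) (fun b hb hH => ?_) le_rfl (by simpa using hR) hg))
  obtain ⟨m, hm, f⟩ := q.exm hH
  exact ⟨_, by rw [ZMod.natCast_zmod_val, h m hm, one_pow], w5 b m hm hb f⟩

end Cg

/-- nilpotency length from a shift -/
theorem CH.nil (o : CH p n P t lc) {b c D : ℕ} (h : Sh P c 1 D x) (hx : x ∈ P 0) (hb : 1 ≤ b)
    (e : P (min (b + (R + 1) * D) c) ≤ B) : Nil R (P b) B {x} :=
  ⟨fun r => P (min (b + r * D) c), o.anti (by omega), fun r y hy w hw k => by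
    obtain rfl : y = x := hy
    dsimp only at k ⊢
    rcases le_total c (b + r * D) with e | e
    · rw [min_eq_right e] at k
      exact o.up (o.act' k hx) (by omega)
    · rw [min_eq_left e] at k
      exact o.up (h _ (by omega) w k) (by rw [add_mul]; omega), fun w _ k => e k⟩

end H7.GP
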