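import Cfsg.Agent.H7.GP4

/-! The flag case. -/

set_option autoImplicit false
set_option linter.unusedSectionVars false

namespace H7.GP
open Subgroup H25 H25.FS H4 H4.P5 H4.G3 H4.Mx
open scoped commutatorElement

universe u

theorem cz0 : CZ.{u} := fun {Γ} _ _ {p n} hp {P t lc M E X H V i j u c d} o r q T hq fl => by
  have e : u + 1 = c := by
    by_contra k
    exact q.gap.no (u + 1) (by omega) (by have := q.uc; omega) fun m hm => fl_nz (fl hm) (by omega)
  have id := q.id o T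
  have i2 := q.i2
  have dc := q.dc
  have w := q.w
  have j1 := q.j1
  have cn := q.cn
  have h5 : 5 ≤ p := by
    by_contra k
    obtain rfl : p = 4 := by omega
    exact absurd hp.out (by norm_num)
  obtain ⟨m2, hm2⟩ : ∃ m2, p - 1 = 2 * m2 := (hp.out.even_sub_one (by omega)).two_dvd
  obtain ⟨D, d1, -, d2, d3⟩ := o.exD (o.shT T le_rfl (by omega) (o.mem i)) fun k => q.nmi o
    ((q.ci _ (q.xN o (o.mem i)).1).2 fun w hw => k w (o.up hw j1))
  have d4 : D ≤ d := not_lt.1 fun k => o.nm (by omega) (q.ex _ (o.mem i) (q.nmi o) j le_rfl dc _ (o.mem j)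
    (o.shv d2 j1 (o.mem j) (by omega) dc))
  have W := fun m (hm : m ∈ M) => o.wt_mu r T cn hm (fl hm)
  have m0 : ∀ m ∈ M, mu t lc m ≠ 0 := fun m hm => o.mu_ne (fl hm)
  have c1 := fun m (hm : m ∈ M) => o.wt2 cn (fl hm) (W m hm) (by omega) (o.mem i) (q.nmi o) d2 d3
  have c2 : ∀ a, 1 + a < c → ∀ m ∈ M, chi t lc (1 + a) m = mu t lc m ^ (D + 1 - i + a) := fun a ha m hm => by
    have := (W m hm).pow le_rfl (i - 1) (by omega)
    rw [show 1 + (i - 1) = i by omega, c1 m hm, show D = D + 1 - i + (i - 1) by omega, pow_add] at this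
    rw [(W m hm).pow le_rfl a ha, ← mul_right_cancel₀ (pow_ne_zero _ (m0 m hm)) this, ← pow_add]
  obtain ⟨a, rfl⟩ : ∃ a, u = 1 + (a + 1) := ⟨u - 2, by omega⟩
  have c3 := c2 (a + 1) (by omega)
  have c4 := c2 a (by omega)
  rw [← add_assoc (D + 1 - i)] at c3
  generalize D + 1 - i + a = ε at c3 c4
  have co := q.cop o e (by omega) m0 c3
  obtain ⟨k, k1, k2, k3⟩ := exh co D
  have k4 := q.endh o r e (by omega) (fun m hm => fl_nz (fl hm) (by omega)) h5 k1 fun m hm => by
    rw [c1 m hm, c3 m hm, k3 _ (m0 m hm)]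
  have aE : P (1 + a) ≤ E := (o.anti (by omega)).trans q.iE
  by_cases hy : t (1 + a) ∈ V
  · obtain ⟨h, h1, h2, h3⟩ := exh co (ε + (ε + 1))
    obtain ⟨g, hg, hg'⟩ := q.exg
    have hz := q.UV (o.mem _)
    have gz := conj_mem_of_mem_nz (q.XV hg) hz
    obtain ⟨l, l1, l2, l3⟩ := exf q.el le_sup_left (sup_le q.el.le (zpowers_le.2 gz))
      (conj_mem_of_mem_nz (q.XV hg) hy) (by
        rw [← cj_zpowers, ← mem_nz.1 (q.Xc hg), ← cj_sup, conj_mem_cj_iff, q.zsup o e]
        exact o.nm (a := 1 + a) (by omega))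
    obtain ⟨l', l1', l2', l3'⟩ := exf q.el le_rfl q.el.le gz fun k => q.zn o e hg hg' (mem_sup_left k)
    have l4 : ∀ y ∈ P c, l y = 0 := fun y hy => l2 y (mem_sup_left hy)
    have x1 := q.quad1 o (by omega) (o.mem i)
    have xX := q.xX o (o.mem i)
    have := q.ptz o e (by omega) (R := 1 + 1) (fun g => l (g * t (1 + a) * g⁻¹) * l' (g * t (1 + (a + 1)) * g⁻¹) -
      l' (g * t (1 + a) * g⁻¹) * l (g * t (1 + (a + 1)) * g⁻¹)) h1 (fun b hb m hm f g hg => by
        have u1 := o.chi_eig (by omega) (fl_nz (fl hm) (by omega)) (fl_nz (fl hm) (by omega)) (o.mem (1 + a))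
        rw [← f _ (q.VE hy)] at u1
        have key : ∀ {l : Γ → ZMod p}, Ad V l → (∀ y ∈ P c, l y = 0) → l (g * b * t (1 + a) * (g * b)⁻¹) =
            lc (1 + a + 1) (b * t (1 + a) * b⁻¹ * (t (1 + a) ^ (chi t lc (1 + a) m).val)⁻¹) *
              l (g * t (1 + (a + 1)) * g⁻¹) + chi t lc (1 + a) m * l (g * t (1 + a) * g⁻¹) := fun {l} a1 a2 => by
          have a3 := a1.cj (q.XV hg)
          have e1 := o.lin (by omega) (a3.mono q.UV) (fun y hy => a2 _ (conj_mem_of_mem_nz (q.Xc hg) (e ▸ hy))) u1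
          have e2 := a3 _ (q.UV u1) _ (pow_mem hy (chi t lc (1 + a) m).val)
          have e3 := a3.pow hy (chi t lc (1 + a) m).val
          dsimp only at e1 e2 e3
          rw [e1, e3, ZMod.natCast_zmod_val, inv_mul_cancel_right] at e2
          exact Eq.trans (by congr 1; group) e2
        rw [key l1 l4, key l1' l2', l1.eig l4 (q.XV hg) (q.Xc hg) (q.XV hb) hz (q.zeig o e hm f),
          l1'.eig l2' (q.XV hg) (q.Xc hg) (q.XV hb) hz (q.zeig o e hm f), ZMod.natCast_zmod_val, c3 m hm,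
          ← h3 _ (m0 m hm), c4 m hm]
        ring)
      (fun g₀ h₀ g hg => ((pdc x1 xX q.XV q.Xc l1 l4 hy h₀ hg).mul (pdc x1 xX q.XV q.Xc l1' l2' hz h₀ hg)).sub
        ((pdc x1 xX q.XV q.Xc l1' l2' hy h₀ hg).mul (pdc x1 xX q.XV q.Xc l1 l4 hz h₀ hg))) hg hg' (by
        rw [l2 _ (mem_sup_right (mem_zpowers _)), mul_zero, sub_zero]
        exact mul_ne_zero l3 l3')
    interval_cases h
    · have := h2.of_dvd (Dvd.intro _ hm2.symm)
      unfold Nat.ModEq at this
      omega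
    · have h4 : ε + 1 ≡ 1 [MOD p - 1] := (Nat.ModEq.add_right_cancel' (ε + 1) (by rw [zero_add]; simpa only [one_mul] using h2.symm) :
        ε ≡ 0 [MOD p - 1]).add_right 1
      have := ((h4.mul_left k).symm.trans k2).eq_of_abs_lt (abs_lt.2 ⟨by omega, by omega⟩)
      omega
    · have := (Nat.ModEq.add_right_cancel' (ε + (ε + 1)) (show 1 + (ε + (ε + 1)) ≡ 0 + (ε + (ε + 1)) [MOD p - 1] by
        convert h2 using 1 <;> ring)).eq_of_abs_lt (abs_lt.2 ⟨by omega, by omega⟩)
      omega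
  obtain ⟨h, h1, h2, h3⟩ := exh co ε
  have l1 := Nat.lt_div_mul_add (a := c - 2 - max 1 (c - p)) (show 0 < D by omega)
  have l2 := Nat.div_mul_le_self (c - 2 - max 1 (c - p)) D
  have := q.ev o fl q.VE q.XV (by omega) (aE (o.mem _)) (o.mem _) (fun w _ hw => q.UV hw)
    (K := P (max 1 (c - p))) (q.Vj.trans (o.anti (by omega))) (fun g hg => by
      have a1 := q.EP (conj_mem_of_mem_nz (q.lc.An hg) (aE (o.mem _)))
      have a2 := o.omw a1 cn (by
        rw [conj_pow]
        exact conj_mem_of_mem_nz (q.Xc hg) (o.up (o.pow _ (by omega) _ (o.mem _)) (by omega)))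
      rcases le_total 1 (c - p) with k | k
      · rwa [max_eq_right k]
      · rwa [max_eq_left k])
    (o.nil (R := (c - 2 - max 1 (c - p)) / D) d2 (o.le i (o.mem i)) (by omega)
      ((o.anti (by rw [add_mul]; omega)).trans q.UV)) hy e (by omega) h1 fun m hm => by
      rw [c4 m hm, c3 m hm, h3 _ (m0 m hm)]
  have l3 := Nat.mul_le_mul_right D this
  have h4 : h * D + k ≡ D [MOD p - 1] := Nat.ModEq.cancel_right_of_coprime co.symm (by
    convert (h2.mul_left D).add k2 using 1 <;> ring)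
  rcases h.eq_zero_or_pos with rfl | h0
  · have := h4.eq_of_abs_lt (abs_lt.2 ⟨by omega, by omega⟩)
    omega
  · have l4 := Nat.mul_le_mul_right D h0
    have := h4.eq_of_abs_lt (abs_lt.2 ⟨by omega, by omega⟩)
    omega

end H7.GP
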