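import Cfsg.Agent.H7.GP3
import Cfsg.Agent.H7.GP4

/-! Characters of `Aut_F(γ₁)` when `γ₁` is essential. -/

set_option autoImplicit false
set_option linter.unusedSectionVars false

namespace H7.GP
open Subgroup H25 H25.FS H4 H4.P5 H4.G3 H4.Mx
open scoped commutatorElement

universe u
variable {Γ : Type u} [Group Γ] [Finite Γ] {p n : ℕ} [hp : Fact p.Prime]
variable {P : ℕ → Subgroup Γ} {t : ℕ → Γ} {lc : ℕ → Γ → ZMod p}
variable {M Q : Subgroup Γ} {g m : Γ} {a c e : ℕ} {θ : Γ → ZMod p}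

theorem Chr.pow (h : Chr M Q θ) (hm : m ∈ M) (k : ℕ) : θ (m ^ k) = θ m ^ k := by
  induction k with
  | zero => simpa using h.one 1 (one_mem _)
  | succ k ih => rw [pow_succ, h.mul _ (pow_mem hm k) _ hm, ih, pow_succ]

theorem Chr.inv (h : Chr M Q θ) (hm : m ∈ M) : θ m⁻¹ * θ m = 1 := by
  rw [← h.mul _ (inv_mem hm) _ hm, inv_mul_cancel, h.one 1 (one_mem _)]

theorem Chr.pel (h : Chr M Q θ) (hm : m ∈ M) (q : PEl p (cz Q) m) : θ m = 1 := by
  obtain ⟨k, q⟩ := q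
  rw [← ZMod.pow_card_pow (n := k) (θ m), ← h.pow hm, h.one _ q]

/-- the kernel -/
def Chr.ker (h : Chr M Q θ) : Subgroup Γ where
  carrier := {g | g ∈ M ∧ θ g = 1}
  one_mem' := ⟨one_mem _, h.one 1 (one_mem _)⟩
  mul_mem' := fun {a b} ha hb => ⟨mul_mem ha.1 hb.1, by rw [h.mul a ha.1 b hb.1, ha.2, hb.2, mul_one]⟩
  inv_mem' := fun {a} ha => ⟨inv_mem ha.1, by simpa [ha.2] using h.inv ha.1⟩

namespace CH
variable (o : CH p n P t lc) (r : MM p P M)
include o r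

theorem lcM (nf : ¬ M ≤ Fl P) : Lc p (P 1) (P 0) M (M ⊓ Fl P) := by
  have := o.four
  refine ⟨o.pg, lt_of_le_of_ne (o.le 1) fun e => o.nm (a := 0) (by omega) (e ▸ o.mem 0), r.le, r.nz, r.cz,
    r.syl, fun e => nf (e.trans inf_le_right), fun a ha x hx hx' h => (o.nz_ai r).le ⟨ha, mem_nz_of_le ?_⟩⟩
  have k : ∀ Y, Y ≤ ai (P 0) (P 1) → a ∈ nz Y → cj a Y ≤ ai (P 0) (P 1) := fun Y h1 h2 => (mem_nz.1 h2).le.trans h1
  conv_lhs => rw [ai_eq_sup, inf_eq_left.2 (o.nz0 1), ← o.sup hx hx', cj_sup, cj_sup, cj_zpowers]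
  exact sup_le (sup_le (k _ ((le_ai_self _).trans (ai_mono (o.le 1) _)) (r.nz ha)) (zpowers_le.2 h))
    (k _ (cz_le_ai _ _) (mem_nz_cz (r.nz ha)))

theorem chi_pow (T : Tr P c) (hc : c = n ∨ (c + 1 = n ∧ EX p n P)) (nc : ¬ ∀ x ∈ P 1, ∀ y ∈ P 1, ⁅x, y⁆ ∈ P c)
    (hm : m ∈ M) (hf : m ∈ Fl P) (h : mu t lc m ^ e = 1) (h1 : 1 ≤ a) (h2 : a < n) : chi t lc a m ^ e = 1 := by
  have := o.four
  have cn : c ≤ n := by omega
  have W := o.wt_mu r T cn hm hf
  simp only [not_forall] at nc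
  obtain ⟨y, y1, w, w1, q⟩ := nc
  obtain ⟨b, b1, b2, b3, b4⟩ := o.level (c := c) y1 fun e => q (o.up (o.cm0 _ _ y e w w1) (by omega))
  obtain ⟨D, -, -, d1, d2⟩ := o.exD (o.sh0 (c := c) (j := 1) b3) fun e => q (e w w1)
  have k1 := o.wt2 cn hf W b1 b3 b4 d1 d2
  have k : ∀ a, 1 ≤ a → a < c → chi t lc a m ^ e = chi t lc 1 m ^ e := fun a a1 a2 => by
    obtain ⟨a, rfl⟩ := Nat.exists_eq_add_of_le a1
    rw [W.pow le_rfl a a2, mul_pow, ← pow_mul, mul_comm a, pow_mul, h, one_pow, mul_one]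
  have k2 : ∀ a, 1 ≤ a → a < c → chi t lc a m ^ e = 1 := fun a a1 a2 => by
    rw [k a a1 a2, ← k b b1 b2, k1, ← pow_mul, mul_comm, pow_mul, h, one_pow]
  rcases lt_or_ge a c with q | q
  · exact k2 a h1 q
  obtain ⟨q1, x⟩ := hc.resolve_left (by omega)
  rw [show a = n - 1 by omega, o.pairw x hf (a := 1) (b := n - 2) le_rfl (by omega) (by omega), mul_pow,
    k2 1 le_rfl (by omega), k2 _ (by omega) (by omega), mul_one]

theorem pel_ai (hg : g ∈ ai (P 0) (P 1)) : PEl p (cz (P 1)) g := o.pel_fl fun a h1 _ => by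
  obtain ⟨a, rfl⟩ := Nat.exists_eq_add_of_le' h1
  exact mem_iInf.1 ((o.ai_eq r).le hg).2 a

theorem fratt (h : Chr M (P 1) θ) (hm : m ∈ M) : ∃ k ∈ h.ker, k * m ∈ Fl P := by
  obtain ⟨k, k1, k2⟩ := (r.syl.mono_right (K := h.ker) (fun g hg => ⟨r.syl.le hg, h.pel (r.syl.le hg)
    (o.pel_ai r hg)⟩) fun g hg => hg.1).frattini (g := m) (cz_le_ai _ _) (fun _ => o.pel_ai r)
    (fun g hg => mem_nz_cz (r.nz hg.1)) (mem_nz_of_conj_mem fun x hx => ⟨conj_mem_of_mem_nz (le_nz_self M hm) hx.1, by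
      rw [h.mul _ (mul_mem hm hx.1) _ (inv_mem hm), h.mul _ hm _ hx.1, hx.2, mul_one, mul_comm, h.inv hm]⟩)
    (mem_nz_cz (r.nz hm))
  exact ⟨k, k1, ((o.nz_ai r).le ⟨mul_mem k1.1 hm, k2⟩).2⟩

end CH

theorem to0 : TO.{u} := by
  intro Γ _ _ p n hp P t lc M c o r T hc nc nf θ h
  have := o.four
  have m1 : mu t lc 1 = 1 := mul_left_cancel₀ (o.mu_ne (one_mem _)) (by
    rw [← o.mu_mul (one_mem _) (one_mem _), mul_one, mul_one])
  let J : Subgroup (ZMod p)ˣ :=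
    { carrier := {x | ∃ k ∈ h.ker, k ∈ Fl P ∧ mu t lc k = x}
      one_mem' := ⟨1, one_mem _, one_mem _, m1⟩
      mul_mem' := fun {a b} ⟨k, k1, k2, k3⟩ ⟨l, l1, l2, l3⟩ =>
        ⟨k * l, mul_mem k1 l1, mul_mem k2 l2, by rw [o.mu_mul k2 l2, k3, l3, Units.val_mul]⟩
      inv_mem' := fun {a} ⟨k, k1, k2, k3⟩ => ⟨k⁻¹, inv_mem k1, inv_mem k2, by
        rw [Units.val_inv_eq_inv_val, ← k3]
        exact eq_inv_of_mul_eq_one_left (by rw [← o.mu_mul (inv_mem k2) k2, inv_mul_cancel, m1])⟩ }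
  have eq : Nat.card J * J.index = p - 1 := by rw [card_mul_index, Nat.card_eq_fintype_card, ZMod.card_units]
  have e1 : 1 ≤ Nat.card J := Nat.card_pos
  have f1 : ∀ k ∈ h.ker, k ∈ Fl P → mu t lc k ^ Nat.card J = 1 := fun k k1 k2 => by
    simpa using congrArg Units.val (orderOf_dvd_iff_pow_eq_one.1
      (J.orderOf_dvd_natCard (x := Units.mk0 _ (o.mu_ne k2)) ⟨k, k1, k2, rfl⟩))
  have f2 : ∀ m ∈ M, m ∈ Fl P → θ m ^ J.index = 1 := fun m m1 m2 => by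
    obtain ⟨k, k1, k2, k3⟩ := J.pow_index_mem (Units.mk0 _ (o.mu_ne m2))
    have m3 := mul_mem (inv_mem k1.1) (pow_mem m1 J.index)
    have m4 := mul_mem (inv_mem k2) (pow_mem m2 J.index)
    have w : ∀ i, mu t lc (m ^ i) = mu t lc m ^ i := fun i => by
      induction i with
      | zero => simpa
      | succ i ih => rw [pow_succ, o.mu_mul (pow_mem m2 i) m2, ih, pow_succ]
    have := h.pel m3 (o.pel_fl fun a a1 a2 => o.chi_stab a2 (fl_nz m4 a1) (fl_nz m4 (by omega)) (by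
      rw [← pow_one (chi ..)]
      refine o.chi_pow r T hc nc m3 m4 (mul_left_cancel₀ (o.mu_ne k2) ?_) a1 a2
      rw [pow_one, ← o.mu_mul k2 m4, mul_inv_cancel_left, w, k3]; simp))
    rwa [h.mul _ (inv_mem k1.1) _ (pow_mem m1 _), (inv_mem k1).2, one_mul, h.pow m1] at this
  have f3 : ∀ a b, Gap n P M a b → a + 2 ≤ b → a + J.index < b := fun a b q h2 => not_le.1 fun h3 => by
    have := q.le
    have := q.one
    obtain ⟨b, rfl⟩ := Nat.exists_eq_add_of_le' (show 1 ≤ b by omega)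
    have s0 := mem_ai_of_mem (o.mem 0) (o.nz0 1 (o.mem 0))
    have k : ∀ g ∈ h.ker, g ∈ nz (P b) := fun g hg => mem_nz_of_le (by
      rw [← o.sup (o.mem b) (o.nm this), cj_sup, cj_zpowers, mem_nz.1 (q.Kb hg.1)]
      refine sup_le le_sup_left (zpowers_le.2 (lt (X := h.ker) (R := b - a) (e := Nat.card J) (o.lcM r nf)
        (fun _ h => h.1) (o.mem 0) ⟨r.syl.le s0, h.pel (r.syl.le s0) (o.pel_ai r s0)⟩ (o.nm (by omega))
        (o.pw1 (o.mem 0)) (o.elG r q) (fun _ h => q.Ka h.1) (fun _ h => q.Kb h.1)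
        (o.nil (c := n) (D := 1) (fun a _ w hw => o.up (o.act' hw (o.mem 0)) (min_le_left _ _)) (o.mem 0) q.one
          (o.anti (by omega))) (o.up (o.mem b) (by omega)) (fun k k1 k2 => ⟨_, ?_,
            o.chi_eig this (fl_nz k2.2 (by omega)) (fl_nz k2.2 (by omega)) (o.mem b)⟩) e1 ?_ hg))
      · rw [ZMod.natCast_zmod_val]
        exact o.chi_pow r T hc nc k1.1 k2.2 (f1 k k1 k2.2) (by omega) this
      · rw [← eq]; exact Nat.mul_lt_mul_of_pos_left (by omega) e1)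
    refine q.no b (by omega) (by omega) fun m hm => ?_
    obtain ⟨k, k1, k2⟩ := o.fratt r h hm
    simpa using mul_mem (inv_mem (‹∀ g ∈ h.ker, _› k k1)) (fl_nz k2 (by omega))
  refine ⟨J.index, Nat.pos_of_ne_zero J.index_ne_zero_of_finite, not_lt.1 fun q => nf fun m hm =>
    mem_fl fun a a1 => ?_, fun m hm => ?_, f3⟩
  · induction a, a1 using Nat.le_induction generalizing m with
    | base => exact r.nz hm
    | succ a a1 ih =>
      rcases le_or_gt n a with l | l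
      · rw [o.bot (by omega)]; exact le_nz_bot _ (mem_top m)
      obtain ⟨b, g⟩ := o.exgap a1 l ih
      have := g.lt
      by_cases l : a + 1 = b
      · exact l ▸ g.Kb hm
      have := f3 a b g (by omega)
      obtain ⟨rfl, rfl, -⟩ := (o.gapw r g).resolve_left (by omega)
      exact (nc fun x hx y hy => o.up ((o.elG r g).cm x hx y hy) (by omega)).elim
  · obtain ⟨k, k1, k2⟩ := o.fratt r h hm
    simpa [h.mul _ k1.1 _ hm, k1.2] using f2 _ (mul_mem k1.1 hm) k2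

end H7.GP
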