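import Cfsg.Agent.H7.GP5
import Cfsg.Agent.H7.GP6
import Cfsg.Agent.H2.GP1
import Cfsg.Agent.H2.GP2
import Cfsg.Agent.H3.GP1

/-! Assembly of the chunks. -/

set_option autoImplicit false
set_option linter.unusedSectionVars false

namespace H7.GP
open Subgroup H25 H25.FS H4 H4.P5 H4.G3 H4.Mx
open scoped commutatorElement

universe u
variable {Γ : Type u} [Group Γ] [Finite Γ] {p n : ℕ} [hp : Fact p.Prime] {F : FS Γ}
variable {P : ℕ → Subgroup Γ} {t : ℕ → Γ} {lc : ℕ → Γ → ZMod p} {M E X H : Subgroup Γ}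

theorem core (ql : QL.{u}) (co : CO.{u}) (o : CH p n P t lc) (di : Tr P n ∨ EX p n P) (r : MM p P M)
    (q : Cf p P M E X H) (h2 : ∀ m ∈ M, ¬ P 2 ≤ cj m E) : False := by
  obtain ⟨E, X, H, V, i, j, u, c, d, q⟩ := set0 o r q h2
  have := o.four
  have cn := q.cn
  obtain ⟨k, k1, k2, k3⟩ : ∃ k, c ≤ k ∧ Tr P k ∧ (k = n ∨ k + 1 = n ∧ EX p n P) := by
    rcases di with T | x
    · exact ⟨n, cn, T, .inl rfl⟩
    · exact ⟨n - 1, Nat.le_sub_one_of_lt (lt_of_le_of_ne cn fun e => H3.GP.xc to0 o r x (e ▸ q)), o.trm,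
        .inr ⟨by omega, x⟩⟩
  have T := k2.mono k1
  by_cases f : M ≤ Fl P
  · exact cz0 o r q T (ql o q T) f
  have i1 := o.up (o.mem i) (show 1 ≤ i by have := q.i2; omega)
  exact co o r q T (ql o q T) (to0 o r k2 k3 (fun h => q.nmi o ((q.ci _ i1).2 fun w hw =>
    o.up (h _ i1 w (o.up hw q.j1)) k1)) f)

theorem CH.rr_eq (o : CH p n P t lc) (T : Tr P n) : RR n P = P 1 := by
  have := o.four
  refine le_antisymm (fun g hg => by_contra fun h => o.nm (a := n - 2) (by omega)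
    (o.un_of T le_rfl hg.1 h _ (by omega) (by omega) _ (o.mem _) ?_)) (le_inf (o.le 1) fun g hg =>
      mem_cz'.2 fun y hy => commutatorElement_eq_one_iff_mul_comm.1
        (o.eq_one (by omega) (T _ _ (by omega) le_rfl (by omega) y hy g hg)))
  rw [commutatorElement_eq_one_iff_mul_comm.2 (mem_cz'.1 hg.2 _ (o.mem _))]
  exact one_mem _

theorem pc (ql : QL.{u}) (co : CO.{u}) (rs : RS.{u}) (o : FC F p n P t lc) (hE : F.Ess E) (h : E < P 1)
    (ih : ∀ Q, F.Ess Q → Nat.card E < Nat.card Q → Cl p n P Q) : False := by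
  have := o.four
  have c := o.toCH
  have S1 : P 1 ≤ F.S := o.P0 ▸ c.le 1
  have nn : ∀ k, E ≠ P k := fun k e => H2.GP.nm o (k := k) (not_lt.1 fun l =>
    h.not_ge (e ▸ c.anti (by omega))) (e ▸ hE)
  have N1 : F.N E = P 1 ⊓ nz E := le_antisymm (le_inf (fun g hg => by_contra fun l => by
    obtain ⟨k, -, -, e⟩ := c.inv_eq (c.un_of c.trm (by omega) (o.P0.ge hg.1) l) (by omega) (o.P0.ge hg.1) hg.2
      (H2.GP.zle o hE) h.le
    exact nn k e) inf_le_right) (inf_le_inf_right _ S1)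
  have r : MM p P (F.A (P 1)) := ⟨(le_inf o.P0.le (c.nz0 1)).trans (F.N_le_A _), F.A_le_nz _, F.cz_le_A _,
    o.P0 ▸ o.sat.syl (FN_of_le_nz S1 (o.P0 ▸ c.nz0 1))⟩
  have h2 : ∀ m ∈ F.A (P 1), ¬ P 2 ≤ cj m E := fun m hm l => by
    have l1 : cj m E < P 1 := lt_of_le_of_ne ((cj_mono m h.le).trans (cj_eq_of_mem_A hm).le) fun e =>
      (H25.card_lt_of_lt h).ne (by rw [← e, card_cj])
    have l2 : cj m E = P 2 := le_antisymm (fun y hy => by_contra fun q => l1.not_ge (c.le_of (l1.le hy) q hy l)) l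
    have l3 := hE.fn.2 m ((T_of_mem_A S1 hm).mono h.le)
    rw [l2, show F.N (P 2) = P 0 from o.P0 ▸ inf_eq_left.2 (o.P0 ▸ c.nz0 2), N1] at l3
    exact c.nm (a := 0) (by omega) ((eq_of_le_of_card_ge (inf_le_left.trans (c.le 1)) l3).ge (c.mem 0)).1
  have al := o.sat.alperin (M := fun R g => R ≤ P 1 → Nat.card E < Nat.card R → ∃ k ∈ F.A (P 1), Agree R g k)
    (fun R g g' _ _ m m' a b => by
      obtain ⟨k, k1, k2⟩ := m a b
      obtain ⟨l, l1, l2⟩ := m' (k2.cj_eq ▸ (cj_mono k a).trans (cj_eq_of_mem_A k1).le) (by rwa [card_cj])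
      exact ⟨l * k, mul_mem l1 k1, k2.mul l2⟩)
    (fun R g g' _ m e a b => let ⟨k, k1, k2⟩ := m a b; ⟨k, k1, e.trans k2⟩)
    (fun Q hQ a ha R hR R1 b => by
      have sm := H2.GP.sm o hE h
      have b' := card_le_of_le hR
      rcases hQ with rfl | hQ
      · exact ⟨a, mem_A_of_le le_rfl ha S1 (c.chr 1 (o.P0 ▸ ha.1)), .refl _ _⟩
      rcases ih Q hQ (by omega) with ⟨-, -, e⟩ | rfl | rfl
      · have := Nat.pow_le_pow_right hp.out.pos (show 2 ≤ 3 by omega)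
        omega
      · exact ⟨a, ha, .refl _ _⟩
      rcases o.di with T | x
      · exact ⟨a, c.rr_eq T ▸ ha, .refl _ _⟩
      obtain rfl := rs o x hQ
      have : R ≤ P 2 := fun y hy => (x.pair 1 4 le_rfl (by omega) rfl y (R1 hy) _ (c.mem 4)
        (commutatorElement_eq_one_iff_mul_comm.2 (mem_cz'.1 (hR hy).2 _ (c.mem 4)).symm)).resolve_right
          (c.nm (by omega))
      exact (b.not_ge (((card_le_of_le this).trans_eq (c.card 2 (by omega))).trans (sm.2 x))).elim)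
  have L := lc_of_ess o.sat hE
  rw [N1] at L
  obtain ⟨X, ⟨x1, x2, x3⟩, x4⟩ := exists_minimal_of_wellFoundedLT
    (fun X => ai (P 1 ⊓ nz E) E ≤ X ∧ X ≤ F.A E ∧ ¬ X ≤ F.Hx E) ⟨_, L.syl.le, le_rfl, L.nB⟩
  refine core ql co c o.di r (X := X) (H := X ⊓ F.Hx E) ⟨⟨L.pg, L.lt, L.N_ai.trans x1, x2.trans L.An,
    (cz_le_ai _ _).trans x1, L.syl.mono_right x1 x2, fun e => x3 (e.trans inf_le_right),
    fun a ha x hx hx' e => ⟨ha, L.hB a (x2 ha) x hx hx' e⟩⟩, inf_le_left, fun Y y1 y2 => ?_,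
    inf_le_right.trans ((closure_le _).2 fun a ⟨a1, R, g, a2, a3, a4⟩ => ?_), by simpa using h2 1 (one_mem _)⟩ h2
  · by_cases e : Y ≤ F.Hx E
    · exact .inl (le_inf y2 e)
    · exact .inr (x4 ⟨y1, y2.trans x2, e⟩ y2)
  · have l := lt_inf_nz_of_lt (o.sat.pg' a3.le) a2
    obtain ⟨k, k1, k2⟩ := al _ g (a3.mono inf_le_left) ((inf_le_inf_right _ a3.le).trans (N1.le.trans inf_le_left))
      (H25.card_lt_of_lt l)
    exact ⟨a1, k, k1, a4.trans (k2.mono l.le)⟩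

theorem cl (ql : QL.{u}) (co : CO.{u}) (rs : RS.{u}) (rc : RC.{u}) (o : FC F p n P t lc) (E : Subgroup Γ) :
    F.Ess E → Cl p n P E := by
  induction E using card_induction_down with
  | h E ih =>
  intro hE
  have ih' := fun Q h h' => ih Q h' h
  by_cases h1 : E ≤ P 1
  · exact .inr (.inl (h1.eq_or_lt.resolve_right fun h => pc ql co rs o hE h ih'))
  by_cases h2 : E ≤ RR n P
  · exact .inr (.inr (h2.eq_or_lt.resolve_right fun h =>
      rc o (o.di.resolve_left fun T => h1 (o.toCH.rr_eq T ▸ h2)) hE h h1 ih'))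
  exact .inl ⟨h1, h2, H2.GP.ca o hE h1 h2⟩

theorem main (ql : QL.{u}) (co : CO.{u}) (rs : RS.{u}) (rc : RC.{u}) (px : PX.{u}) (hF : F.Sat p)
    (M : MaxC p n F.S) (h4 : 4 ≤ n) (hE : F.Ess E) :
    (Nat.card E = p ^ 2 ∨ (Nat.card E = p ^ 3 ∧ ¬ Cm E) ∨ E = T1 F.S ∨ E = F.S ⊓ cz (DD F.S (n - 3))) ∧
      (T1 F.S ≠ F.S ⊓ cz (DD F.S (n - 3)) → Nat.card E ≠ p ^ 3) := by
  obtain ⟨P, t, lc, o⟩ := H2.GP.chx hF M h4
  have e : RR n P = F.S ⊓ cz (DD F.S (n - 3)) := by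
    rw [← o.PD _ (by omega), ← o.P0, show n - 3 + 1 = n - 2 by omega]
  rw [← e, ← o.P1]
  refine ⟨?_, fun h => px o (o.di.resolve_left fun T => h (o.toCH.rr_eq T).symm) (cl ql co rs rc o) hE⟩
  rcases cl ql co rs rc o E hE with ⟨-, -, h | h⟩ | h
  exacts [.inl h, .inr (.inl h), .inr (.inr h)]

end H7.GP
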