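import Cfsg.Agent.H7.GP4
import Cfsg.Agent.H22.GP1
import Cfsg.Agent.H12.GP1

/-! The case of characters of small order. -/

set_option autoImplicit false
set_option linter.unusedSectionVars false

namespace H7.GP
open Subgroup H25 H25.FS H4 H4.P5 H4.G3 H4.Mx
open scoped commutatorElement

universe u
variable {Γ : Type u} [Group Γ] [Finite Γ] {p n : ℕ} [hp : Fact p.Prime]
variable {P : ℕ → Subgroup Γ} {t : ℕ → Γ} {lc : ℕ → Γ → ZMod p} {M V W Y : Subgroup Γ} {y : Γ} {a a' b i k : ℕ}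

theorem card_inf_ge (hY : Y ≤ V) (hW : W ≤ V) :
    Nat.card W * Nat.card Y ≤ Nat.card (W ⊓ Y : Subgroup Γ) * Nat.card V := by
  rw [← card_inf_mul_relIndex W Y, ← card_inf_mul_relIndex V Y, inf_eq_right.2 hY, mul_assoc, mul_comm _ (Nat.card Y)]
  exact Nat.mul_le_mul_left _ (Nat.mul_le_mul_left _ (relIndex_le_of_le_right hW index_ne_zero_of_finite))

theorem exlo (r : MM p P M) (h : 1 ≤ k) : ∃ a, 1 ≤ a ∧ a ≤ k ∧ M ≤ nz (P a) ∧ ∀ l ≤ k, M ≤ nz (P l) → l ≤ a := by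
  classical
  exact ⟨Nat.findGreatest (fun a => M ≤ nz (P a)) k, Nat.le_findGreatest h r.nz, Nat.findGreatest_le _,
    Nat.findGreatest_spec (P := fun a => M ≤ nz (P a)) h r.nz, fun l a b => Nat.le_findGreatest a b⟩

namespace CH
variable (o : CH p n P t lc)
include o

theorem frame (α a : ℕ) (h : a + α ≤ n) :
    ∃ y : Fin α → Γ, (∀ k, y k ∈ P a) ∧ ∀ v : Fin α → ZMod p, ph y v ∈ P (a + α) → v = 0 := by
  induction α generalizing a with
  | zero => exact ⟨fun _ => 1, fun _ => one_mem _, fun v _ => Subsingleton.elim _ _⟩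
  | succ α ih =>
    obtain ⟨y, y1, y2⟩ := ih (a + 1) (by omega)
    refine ⟨Fin.cons (t a) y, Fin.cases (o.mem a) fun k => o.up (y1 k) (by omega), fun v hv => ?_⟩
    simp only [ph_succ, Fin.cons_zero, Fin.cons_succ] at hv
    have e := o.zero (by omega) ((mul_mem_cancel_right (ph_mem y1 _)).1 (o.up hv (by omega)))
    rw [(o.add a).pow (o.mem a), o.one a (by omega), mul_one, ZMod.natCast_zmod_val] at e
    rw [e, ZMod.val_zero, pow_zero, one_mul, show a + (α + 1) = a + 1 + α by omega] at hv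
    exact funext (Fin.cases e fun k => congrFun (y2 _ hv) k)

theorem lift (r : MM p P M) (g : Gap n P M b (i + 1)) (h1 : M ≤ nz (P a)) (h2 : M ≤ nz (P a')) (h : a ≤ a')
    (e : ∀ w ∈ P a, ⁅t i, w⁆ ∈ P a') : ∀ y ∈ P b, ∀ w ∈ P a, ⁅y, w⁆ ∈ P a' := by
  have k : M ≤ nz (P b ⊓ stab (P a) (P a')) := fun m hm => mem_nz_inf (g.Ka hm) (nz_stab (h1 hm) (h2 hm))
  suffices s : P b ≤ P b ⊓ stab (P a) (P a') from fun y hy => (stab_iff (o.anti h)).1 (s hy).2
  by_contra s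
  exact o.nm g.le (o.gapK r g (fun u hu => by_contra fun q => s (o.le_inv (k (r.le (o.mem 0)))
    (inf_le_left.trans (o.anti g.one)) hu q)) k
    ⟨o.up (o.mem i) (Nat.le_of_lt_succ g.lt), (stab_iff (o.anti h)).2 e⟩)

theorem it_lev (h1 : 1 ≤ a) (hy : y ∈ P a) (hy' : y ∉ P (a + 1)) (k : ℕ) (h : a + k < n) :
    it (t 0) k y ∈ P (a + k) ∧ it (t 0) k y ∉ P (a + k + 1) := by
  induction k with
  | zero => exact ⟨hy, hy'⟩
  | succ k ih =>
    obtain ⟨i1, i2⟩ := ih (by omega)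
    rw [it, Function.iterate_succ_apply']
    exact ⟨o.act _ _ i1 _ (o.mem 0), fun e => i2 (o.un_s (a + k) (by omega) h _ i1 e)⟩

end CH

theorem co0 : CO.{u} := by
  classical
  intro Γ _ _ p n hp P t lc M E X H V i j u c d o r q T hq tq
  have cn := q.cn
  have uc := q.uc
  have u1 := q.gap.one
  have := q.i2
  have := q.ic
  have := q.j1
  have := q.ju
  have := q.dc
  have := q.w
  have := q.ud o r
  have si := q.sh _ (o.mem i)
  by_cases e : u + 1 = c
  · obtain ⟨k, k1, k2, k3, -⟩ := tq _ (o.chrK u1 (by omega) q.gap.Ka (e ▸ q.gap.Kb))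
    exact q.zexp o e (by omega) k1 (by omega) k3
  obtain ⟨b, b1, b2, b3, b4⟩ := exlo r (show 1 ≤ i by omega)
  have gb : Gap n P M b (i + 1) := ⟨b1, by omega, by omega, b3, q.Ki, fun k k1 k2 k3 => by
    have := b4 k (by omega) k3; omega⟩
  obtain rfl | b2 := b2.eq_or_lt
  · obtain ⟨k, k1, -, k3, k4⟩ := tq _ (o.chrK b1 (by omega) b3 q.Ki)
    have := k4 u c q.gap (by omega)
    have : j + d ≤ u := not_lt.1 fun l => o.nm (a := j) (by omega) (q.ex _ (o.mem b) (q.nmi o) j le_rfl q.dc _ (o.mem j)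
      (o.up (o.gapK r q.gap (Y := ⁅P b, P j⁆) (commutator_le.2 fun y hy w hw => o.shv (q.sh y hy) le_rfl hw l uc)
        (fun m hm => mem_nz.2 (by rw [cj_commutator, mem_nz.1 (b3 hm), mem_nz.1 (q.Kj hm)]))
        (commutator_mem_commutator (o.mem b) (o.mem j))) q.dc))
    exact q.endq o r (by omega) b3 k3 k1 (by omega)
  obtain ⟨g, g1, g2⟩ := q.exg
  let U := P u ⊓ ⨅ a : X, cmSub a (P u) (P c) (o.nzb u c)
  have cU : P c ≤ U := le_inf (o.anti uc.le) (le_iInf fun a v hv => ⟨o.up hv uc.le, comm_mem_r (q.Xc a.2) hv⟩)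
  obtain ⟨θ, h1, h2⟩ := H22.GP.dt q.lc q.ext q.el cU inf_le_left q.UV q.VE q.XV q.Xc q.gap.Ka q.gap.Kb
    (fun h => g2 ((q.nU g g1).2 (h g1))) fun a ha v hv => (mem_iInf.1 hv.2 ⟨a, ha⟩).2
  obtain ⟨k, k1, k2, k3, k4⟩ := tq θ ⟨h1.mul, fun k hk => h1.one k (cz_anti (o.anti u1) hk)⟩
  have := k4 u c q.gap (by omega)
  have := k4 b _ gb (by omega)
  have bN : P b ≤ P 1 ⊓ nz E := le_inf (o.anti b1) fun y hy => nz_of_comm fun w hw =>
    comm_symm (q.iE (o.kf r gb (q.EP hw) hy))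
  obtain ⟨R, R1, R2, R3⟩ : ∃ R, R ≤ 2 ∧ k * R < p - 1 ∧ Nil R V (P c) (P b) := by
    obtain ⟨l, l1, l2, l3, l4⟩ := exlo r (show 1 ≤ j + d by omega)
    have ex : ∃ l, c - d ≤ l ∧ M ≤ nz (P l) := ⟨u, by omega, q.gap.Ka⟩
    obtain ⟨m1, m2⟩ := Nat.find_spec ex
    have m3 := fun l => Nat.find_min' ex (m := l)
    generalize Nat.find ex = m at *
    have := l4 j (by omega) q.Kj
    have := m3 u ⟨by omega, q.gap.Ka⟩
    have s1 := o.lift r gb q.Kj l3 (by omega) fun w hw => o.shv si le_rfl hw l2 (by omega)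
    have s2 := o.lift r gb m2 q.gap.Kb (by omega) fun w hw => o.shv si (by omega) hw (by omega) le_rfl
    rcases le_or_gt m l with s | s
    · exact ⟨1, by omega, by omega, fun | 0 => P j | 1 => P l | _ => P c, q.Vj, fun
        | 0, y, hy, w, _, h => s1 y hy w h
        | 1, y, hy, w, _, h => s2 y hy w (o.up h s)
        | _ + 2, y, hy, w, _, h => comm_mem_r (o.nzb b c hy) h, fun _ _ h => h⟩
    have f1 : l < c - d := not_le.1 fun f => by have := m3 l ⟨f, l3⟩; omega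
    have f2 : j + d < m := not_le.1 fun f => by have := l4 m f m2; omega
    have gl : Gap n P M l m := ⟨l1, s, by omega, l3, m2, fun a a1 a2 a3 => by
      rcases le_or_gt a (j + d) with f | f
      · have := l4 a f a3; omega
      · have := m3 a ⟨by omega, a3⟩; omega⟩
    have := k4 l m gl (by omega)
    exact ⟨2, le_rfl, by omega, fun | 0 => P j | 1 => P l | 2 => P m | _ => P c, q.Vj, fun
      | 0, y, hy, w, _, h => s1 y hy w h
      | 1, y, hy, w, _, h => o.kf r gl (o.up hy b1) h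
      | 2, y, hy, w, _, h => s2 y hy w h
      | _ + 3, y, hy, w, _, h => comm_mem_r (o.nzb b c hy) h, fun _ _ h => h⟩
  have key : ∀ Y ≤ V, ∀ x ∈ P i, x ∉ P (i + 1) → (∀ v ∈ Y, ⁅x, v⁆ ∈ P c) →
      Nat.card (P u) * Nat.card Y ≤ Nat.card U * Nat.card V := fun Y hY x x1 x2 h => by
    rw [← card_cj g, ← card_cj g U]
    refine (card_inf_ge hY ((cj_mono g q.UV).trans (mem_nz.1 (q.XV g1)).le)).trans
      (Nat.mul_le_mul_right _ (card_le_of_le fun v hv => ?_))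
    obtain ⟨w, w1, rfl⟩ := mem_cj'.1 hv.1
    exact conj_mem_cj g ⟨w1, mem_iInf.2 fun a => ⟨w1, q.sr g g1 g2 w w1 x (q.xN o x1) (q.xE x1 x2) (h _ hv.2) a a.2⟩⟩
  have ex : ∃ a, b ≤ a ∧ ∀ y ∈ P a, y ∈ E → y ∈ P (i + 1) := ⟨i, b2.le, q.nE⟩
  obtain ⟨a1, a2⟩ := Nat.find_spec ex
  have a3 := Nat.find_min' ex ⟨b2.le, q.nE⟩
  have a4 := fun l => Nat.find_min ex (m := l)
  generalize Nat.find ex = a at *
  obtain ⟨α, rfl⟩ := Nat.exists_eq_add_of_le a3
  obtain ⟨y, y1, y2⟩ := o.frame (α + 1) a (by omega)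
  have yb := fun k => o.up (y1 k) a1
  have h3 := fun s h => h2 k (α + 1) R s y k3 k1 h ⟨fun k => bN (yb k), fun k => q.iE ((o.elG r gb).pw _ (yb k)),
    fun k l => q.iE ((o.elG r gb).cm _ (yb k) _ (yb l)), fun v hv => y2 v (a2 _ (ph_mem y1 v) hv)⟩
    (let ⟨L, l0, l1, l2⟩ := R3; ⟨L, l0, fun r _ ⟨k, e⟩ => l1 r _ (e ▸ yb k), l2⟩)
  obtain rfl | a1 := a1.eq_or_lt
  · have s1 := (key _ q.UV _ (o.mem _) (q.nmi o) fun v => o.kf r q.gap (o.up (o.mem _) (by omega))).trans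
      (Nat.mul_le_mul_left _ (card_le_of_le q.Vj))
    rw [o.card j (by omega), show n - j = u - j + (n - u) by omega, pow_add, ← mul_assoc, ← o.card u (by omega)] at s1
    have s2 : Nat.card (P u) ≤ Nat.card U * p ^ (c - u) := by
      refine le_trans (le_of_eq ?_) (Nat.mul_le_mul_right _ (card_le_of_le cU))
      rw [o.card u (by omega), o.card c cn, ← pow_add, show n - c + (c - u) = n - u by omega]
    obtain ⟨s, s3, s4⟩ : ∃ s, Nat.card (P u) ≤ Nat.card U * p ^ s ∧ 2 * s ≤ p - 1 := by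
      obtain ⟨_, _⟩ := hp.out.odd_of_ne_two (by omega)
      rcases le_total (u - j) (c - u) with f | f
      exacts [⟨_, Nat.le_of_mul_le_mul_right s1 Nat.card_pos, by omega⟩, ⟨_, s2, by omega⟩]
    have := (h3 s s3).trans (Nat.mul_le_mul_left k ((Nat.mul_le_mul_right s R1).trans s4))
    rw [mul_comm k] at this
    have := Nat.le_of_mul_le_mul_left this (by omega)
    omega
  obtain ⟨a, rfl⟩ := Nat.exists_eq_add_of_le' (show 1 ≤ a by omega)
  have := a4 a (by omega)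
  simp only [not_and, not_forall] at this
  obtain ⟨x, x1, x2, x3⟩ := this (by omega)
  have x4 : x ∉ P (a + 1) := fun h => x3 (a2 x h x2)
  have x5 := o.up x1 (show 1 ≤ a by omega)
  have i1 := o.it_lev (by omega) x1 x4 (α + 1) (by omega)
  have i2 := (o.it_lev (by omega) x1 x4 (α + 1 + 1) (by omega)).1
  rw [show a + (α + 1) = a + 1 + α by omega] at i1
  rw [show a + (α + 1 + 1) = a + 1 + α + 1 by omega] at i2
  obtain ⟨Y, z1, z2, z3⟩ := H12.GP.zc o cn q.j1 q.w x5 q.Vj ((q.cen x x5).1 x2) (mt (q.ci x x5).2 x3)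
    ((q.ci _ (o.up i2 (by omega))).1 i2)
  have s1 := (key Y z1 _ i1.1 i1.2 z2).trans (Nat.mul_le_mul_left _ z3)
  rw [mul_comm (Nat.card Y), ← mul_assoc] at s1
  have := h3 _ (Nat.le_of_mul_le_mul_right s1 Nat.card_pos)
  rw [← mul_assoc] at this
  exact R2.not_ge (Nat.le_of_mul_le_mul_right this (by omega))

end H7.GP
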