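import Cfsg.Agent.H7.HZA
import Cfsg.Agent.H7.HZ2

/-! Generated by tools/h0/tr.py. -/

set_option maxRecDepth 100000
set_option maxHeartbeats 0

namespace H7.HZ
set_option Elab.async false
open H16 H0.TR H7.OT
open scoped commutatorElement

noncomputable def F_W : List (List ℕ) := [[nat_lit 0, nat_lit 2, nat_lit 4, nat_lit 3, nat_lit 10, nat_lit 6, nat_lit 9, nat_lit 4, nat_lit 10, nat_lit 4, nat_lit 6],
  [nat_lit 6, nat_lit 8, nat_lit 0, nat_lit 5, nat_lit 9, nat_lit 6, nat_lit 6, nat_lit 2, nat_lit 11, nat_lit 1],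
  [nat_lit 10, nat_lit 1, nat_lit 8, nat_lit 0, nat_lit 9, nat_lit 9, nat_lit 3, nat_lit 1, nat_lit 10],
  [nat_lit 3, nat_lit 0, nat_lit 3, nat_lit 6, nat_lit 5, nat_lit 6, nat_lit 3, nat_lit 4, nat_lit 9, nat_lit 3],
  [nat_lit 11, nat_lit 7, nat_lit 9, nat_lit 5, nat_lit 10, nat_lit 9, nat_lit 9, nat_lit 0, nat_lit 2],
  [nat_lit 1, nat_lit 5, nat_lit 6, nat_lit 3, nat_lit 0, nat_lit 4, nat_lit 2, nat_lit 2, nat_lit 4, nat_lit 0],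
  [nat_lit 1, nat_lit 1, nat_lit 11, nat_lit 0, nat_lit 4, nat_lit 10, nat_lit 0, nat_lit 0],
  [nat_lit 7, nat_lit 8, nat_lit 7, nat_lit 7, nat_lit 11, nat_lit 8, nat_lit 11, nat_lit 6, nat_lit 8, nat_lit 0],
  [nat_lit 4, nat_lit 10, nat_lit 4, nat_lit 2, nat_lit 9, nat_lit 5, nat_lit 9, nat_lit 2, nat_lit 1],
  [nat_lit 5, nat_lit 3, nat_lit 1, nat_lit 4, nat_lit 9, nat_lit 3, nat_lit 9, nat_lit 0],
  [nat_lit 12],
  [nat_lit 8, nat_lit 3, nat_lit 10, nat_lit 2, nat_lit 11, nat_lit 11, nat_lit 1, nat_lit 3, nat_lit 8],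
  [nat_lit 9, nat_lit 2, nat_lit 8, nat_lit 6, nat_lit 8, nat_lit 0, nat_lit 11, nat_lit 0, nat_lit 8],
  [nat_lit 4, nat_lit 1, nat_lit 1, nat_lit 4, nat_lit 11, nat_lit 8, nat_lit 8, nat_lit 4, nat_lit 0, nat_lit 0],
  [nat_lit 6, nat_lit 3, nat_lit 3, nat_lit 4, nat_lit 9, nat_lit 10, nat_lit 4, nat_lit 4, nat_lit 10, nat_lit 2],
  [nat_lit 11, nat_lit 5, nat_lit 10, nat_lit 6, nat_lit 0, nat_lit 4, nat_lit 10, nat_lit 1, nat_lit 4, nat_lit 2],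
  [nat_lit 9, nat_lit 3, nat_lit 10, nat_lit 10, nat_lit 7, nat_lit 8, nat_lit 8, nat_lit 5],
  [nat_lit 8, nat_lit 6, nat_lit 1, nat_lit 8, nat_lit 8, nat_lit 5, nat_lit 7, nat_lit 9],
  [nat_lit 2, nat_lit 2, nat_lit 4, nat_lit 9, nat_lit 7, nat_lit 0, nat_lit 2, nat_lit 8, nat_lit 7, nat_lit 1],
  [nat_lit 8, nat_lit 4, nat_lit 10, nat_lit 0, nat_lit 6, nat_lit 1, nat_lit 11, nat_lit 9, nat_lit 5, nat_lit 0],
  [nat_lit 7, nat_lit 7, nat_lit 2, nat_lit 6, nat_lit 3, nat_lit 3, nat_lit 6, nat_lit 6, nat_lit 6],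
  [nat_lit 6, nat_lit 8, nat_lit 10, nat_lit 4, nat_lit 9, nat_lit 7, nat_lit 9, nat_lit 11, nat_lit 5, nat_lit 2],
  [nat_lit 8, nat_lit 8, nat_lit 3, nat_lit 5, nat_lit 3, nat_lit 4, nat_lit 7, nat_lit 10, nat_lit 10, nat_lit 1],
  [nat_lit 10, nat_lit 10, nat_lit 7, nat_lit 5, nat_lit 5, nat_lit 6, nat_lit 9, nat_lit 6],
  [nat_lit 0, nat_lit 8, nat_lit 6, nat_lit 11, nat_lit 8, nat_lit 10, nat_lit 7, nat_lit 5, nat_lit 7, nat_lit 1],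
  [nat_lit 7, nat_lit 11, nat_lit 1, nat_lit 11, nat_lit 7, nat_lit 5, nat_lit 8, nat_lit 11, nat_lit 11, nat_lit 0],
  [nat_lit 7, nat_lit 0, nat_lit 0, nat_lit 3, nat_lit 1, nat_lit 10, nat_lit 8, nat_lit 0, nat_lit 0],
  [nat_lit 9, nat_lit 1, nat_lit 8, nat_lit 1, nat_lit 9, nat_lit 1, nat_lit 9, nat_lit 1],
  [nat_lit 5, nat_lit 8, nat_lit 1, nat_lit 8, nat_lit 3, nat_lit 9, nat_lit 1, nat_lit 10, nat_lit 6, nat_lit 0],
  [nat_lit 3, nat_lit 7, nat_lit 9, nat_lit 4, nat_lit 1, nat_lit 8, nat_lit 0, nat_lit 8, nat_lit 4],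
  [nat_lit 2, nat_lit 8, nat_lit 0, nat_lit 7, nat_lit 8, nat_lit 3, nat_lit 5, nat_lit 5, nat_lit 7, nat_lit 2],
  [nat_lit 9, nat_lit 2, nat_lit 11, nat_lit 4, nat_lit 6, nat_lit 3, nat_lit 0, nat_lit 0, nat_lit 5],
  [nat_lit 0, nat_lit 8, nat_lit 8, nat_lit 5, nat_lit 9, nat_lit 2, nat_lit 4, nat_lit 1, nat_lit 11, nat_lit 0],
  [nat_lit 1, nat_lit 3, nat_lit 8, nat_lit 11, nat_lit 9, nat_lit 5, nat_lit 3, nat_lit 0, nat_lit 3],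
  [nat_lit 0, nat_lit 9, nat_lit 4, nat_lit 8, nat_lit 7, nat_lit 9, nat_lit 4, nat_lit 11, nat_lit 7],
  [nat_lit 8, nat_lit 7, nat_lit 11, nat_lit 5, nat_lit 9, nat_lit 3, nat_lit 3, nat_lit 1, nat_lit 8, nat_lit 7, nat_lit 0],
  [nat_lit 0, nat_lit 9, nat_lit 1, nat_lit 1, nat_lit 8, nat_lit 4, nat_lit 9, nat_lit 0],
  [nat_lit 5, nat_lit 3, nat_lit 6, nat_lit 3, nat_lit 7, nat_lit 0, nat_lit 10, nat_lit 2, nat_lit 2, nat_lit 1],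
  [nat_lit 0, nat_lit 2, nat_lit 6, nat_lit 10, nat_lit 0, nat_lit 2, nat_lit 0, nat_lit 9, nat_lit 6, nat_lit 10],
  [nat_lit 0, nat_lit 10, nat_lit 8, nat_lit 11, nat_lit 0, nat_lit 3, nat_lit 0, nat_lit 7, nat_lit 5],
  [nat_lit 5, nat_lit 0, nat_lit 2, nat_lit 6, nat_lit 0, nat_lit 5, nat_lit 0, nat_lit 7, nat_lit 3, nat_lit 0],
  [nat_lit 5, nat_lit 10, nat_lit 9, nat_lit 3, nat_lit 0, nat_lit 9, nat_lit 2, nat_lit 0, nat_lit 2, nat_lit 0],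
  [nat_lit 5, nat_lit 8, nat_lit 2, nat_lit 7, nat_lit 9, nat_lit 5, nat_lit 8, nat_lit 4, nat_lit 4],
  [nat_lit 5, nat_lit 9, nat_lit 1, nat_lit 8, nat_lit 4, nat_lit 4, nat_lit 4, nat_lit 4, nat_lit 0, nat_lit 6],
  [nat_lit 11, nat_lit 11, nat_lit 8, nat_lit 1, nat_lit 10, nat_lit 0, nat_lit 5, nat_lit 10, nat_lit 9, nat_lit 2],
  [nat_lit 8, nat_lit 0, nat_lit 6, nat_lit 3, nat_lit 8, nat_lit 11, nat_lit 4, nat_lit 0, nat_lit 7],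
  [nat_lit 10, nat_lit 4, nat_lit 1, nat_lit 7, nat_lit 1, nat_lit 11, nat_lit 1, nat_lit 3, nat_lit 0, nat_lit 2],
  [nat_lit 10, nat_lit 5, nat_lit 3, nat_lit 0, nat_lit 10, nat_lit 8, nat_lit 4, nat_lit 9, nat_lit 0],
  [nat_lit 2, nat_lit 6, nat_lit 3, nat_lit 0, nat_lit 4, nat_lit 2],
  [nat_lit 2, nat_lit 2, nat_lit 6, nat_lit 10, nat_lit 3, nat_lit 6, nat_lit 11],
  [nat_lit 8, nat_lit 3, nat_lit 1, nat_lit 10, nat_lit 2, nat_lit 11, nat_lit 6, nat_lit 5, nat_lit 10, nat_lit 6],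
  [nat_lit 11, nat_lit 0, nat_lit 6, nat_lit 11, nat_lit 0, nat_lit 4, nat_lit 1, nat_lit 6, nat_lit 5, nat_lit 0],
  [nat_lit 9, nat_lit 3, nat_lit 10, nat_lit 6, nat_lit 11, nat_lit 6, nat_lit 4, nat_lit 4, nat_lit 0],
  [nat_lit 10, nat_lit 7, nat_lit 10, nat_lit 10, nat_lit 7, nat_lit 8, nat_lit 10, nat_lit 3, nat_lit 6, nat_lit 2],
  [nat_lit 0, nat_lit 0, nat_lit 0, nat_lit 5, nat_lit 2, nat_lit 1, nat_lit 7, nat_lit 9, nat_lit 6, nat_lit 2, nat_lit 7],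
  [nat_lit 10, nat_lit 2, nat_lit 11, nat_lit 8, nat_lit 7, nat_lit 1, nat_lit 3, nat_lit 9, nat_lit 6, nat_lit 1],
  [nat_lit 5, nat_lit 3, nat_lit 0, nat_lit 2, nat_lit 6, nat_lit 1, nat_lit 3, nat_lit 1, nat_lit 7],
  [nat_lit 11, nat_lit 11, nat_lit 5, nat_lit 8, nat_lit 3, nat_lit 10, nat_lit 10, nat_lit 0, nat_lit 2],
  [nat_lit 8, nat_lit 11, nat_lit 4, nat_lit 4, nat_lit 10, nat_lit 3, nat_lit 7, nat_lit 5, nat_lit 7, nat_lit 0],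
  [nat_lit 0, nat_lit 2, nat_lit 6, nat_lit 3, nat_lit 3, nat_lit 9, nat_lit 4, nat_lit 4, nat_lit 3, nat_lit 9, nat_lit 7],
  [nat_lit 3, nat_lit 6, nat_lit 4, nat_lit 2, nat_lit 7, nat_lit 10, nat_lit 6, nat_lit 8, nat_lit 4],
  [nat_lit 10, nat_lit 5, nat_lit 7, nat_lit 0, nat_lit 0, nat_lit 8, nat_lit 10, nat_lit 1, nat_lit 4],
  [nat_lit 9, nat_lit 4, nat_lit 10, nat_lit 9, nat_lit 5, nat_lit 2, nat_lit 9, nat_lit 9, nat_lit 3, nat_lit 6],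
  [nat_lit 9, nat_lit 10, nat_lit 9, nat_lit 3, nat_lit 0, nat_lit 5, nat_lit 3, nat_lit 3, nat_lit 5, nat_lit 1],
  [nat_lit 3, nat_lit 3, nat_lit 10, nat_lit 8, nat_lit 0, nat_lit 9, nat_lit 11, nat_lit 7, nat_lit 11, nat_lit 3],
  [nat_lit 9, nat_lit 6, nat_lit 5, nat_lit 10, nat_lit 0, nat_lit 4, nat_lit 10, nat_lit 9, nat_lit 0, nat_lit 5],
  [nat_lit 9, nat_lit 6, nat_lit 0, nat_lit 9, nat_lit 6, nat_lit 9, nat_lit 0, nat_lit 7, nat_lit 8, nat_lit 0],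
  [nat_lit 4, nat_lit 2, nat_lit 8, nat_lit 5, nat_lit 5, nat_lit 10, nat_lit 3, nat_lit 11, nat_lit 2, nat_lit 0],
  [nat_lit 1, nat_lit 2, nat_lit 1, nat_lit 4, nat_lit 7, nat_lit 4, nat_lit 1, nat_lit 6, nat_lit 11, nat_lit 1],
  [nat_lit 7, nat_lit 0, nat_lit 2, nat_lit 0, nat_lit 9, nat_lit 0, nat_lit 9, nat_lit 1, nat_lit 8],
  [nat_lit 0, nat_lit 0, nat_lit 5, nat_lit 0, nat_lit 4, nat_lit 8, nat_lit 8],
  [nat_lit 9, nat_lit 5, nat_lit 0, nat_lit 4, nat_lit 4, nat_lit 10, nat_lit 7, nat_lit 0, nat_lit 7],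
  [nat_lit 0, nat_lit 2, nat_lit 5, nat_lit 8, nat_lit 5, nat_lit 2, nat_lit 4, nat_lit 3, nat_lit 3, nat_lit 0],
  [nat_lit 8, nat_lit 2, nat_lit 11, nat_lit 9, nat_lit 6, nat_lit 4, nat_lit 2, nat_lit 2, nat_lit 9],
  [nat_lit 0, nat_lit 9, nat_lit 7, nat_lit 9, nat_lit 4, nat_lit 8, nat_lit 11, nat_lit 2, nat_lit 11, nat_lit 0],
  [nat_lit 8, nat_lit 6, nat_lit 0, nat_lit 5, nat_lit 8, nat_lit 6, nat_lit 9, nat_lit 0, nat_lit 2, nat_lit 0],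
  [nat_lit 9, nat_lit 5, nat_lit 5, nat_lit 11, nat_lit 1, nat_lit 1, nat_lit 4, nat_lit 8, nat_lit 4, nat_lit 1],
  [nat_lit 3, nat_lit 11, nat_lit 1, nat_lit 2, nat_lit 0, nat_lit 3, nat_lit 9, nat_lit 6, nat_lit 3, nat_lit 0],
  [nat_lit 2, nat_lit 6, nat_lit 3, nat_lit 3, nat_lit 11, nat_lit 7, nat_lit 10],
  [nat_lit 5, nat_lit 3, nat_lit 1, nat_lit 4, nat_lit 9, nat_lit 3, nat_lit 9, nat_lit 0],
  [nat_lit 2, nat_lit 2, nat_lit 4, nat_lit 9, nat_lit 7, nat_lit 0, nat_lit 2, nat_lit 8, nat_lit 7, nat_lit 1],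
  [nat_lit 11, nat_lit 11, nat_lit 8, nat_lit 11, nat_lit 8, nat_lit 5, nat_lit 6, nat_lit 0, nat_lit 7],
  [nat_lit 11, nat_lit 3, nat_lit 10, nat_lit 3, nat_lit 11, nat_lit 3, nat_lit 11, nat_lit 3],
  [nat_lit 2, nat_lit 11, nat_lit 6, nat_lit 10, nat_lit 5, nat_lit 11, nat_lit 6, nat_lit 9, nat_lit 5]]
noncomputable def F_P : ℕ → ℕ → ℕ := wdsP P F_W
noncomputable def cold : ℕ := nat_lit 0xfffffffffffffffffffffffffffffffffffffffffffffffffffffffffffffffffffffffffffffffffffffffffffffffffffffffffffffffffffffffffffffffffffffffffffffffffffffffffffffffffffffffffffffffffffffffffffffffffffffffffffffffffffffffffffffffffffffffffffffffffffffffffffffffffffffffffffffffffffffffffffffffffffffffffffffffffffffffffffffffffffffffffffffffffffffffffffffffffffffffffffffffffffffffffffffffffffffffffffffffffffffffffffffffffffffffffffffffffffffffffffffffffffffffffffffffffffffffffffff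ffffffffffffffffffffffffffffffffffffffdbf9ffdffffffefffffffffdffffffb7fbf7feffff7ffffffbfffeffff7ffffffffffffffffffefffbffbff7fffffffffffffffffffff7fffe7fffffeffeffffbfffffd7ffffffffdeffbffef7b7ffeffffffffffaffffedffffffffbffffdfdfffffffffffdfffffffbfff3fdffbffbffeffffffeffddfffffffffffdffffffffffffffffffffaffffffffffffbfbbfffffffffffffffffffcff7ffffffffffdffffffdffffffffffdefffffffffffdfdffdfffffffbffffeffff6ffffffe7fffdffffefffffffffffdffffbfffffffff9dedffffff7ffffffffffffbf77ffefefff7dffffffffbefff9ffd5ffffffbbdffefffdfff7ffff7fffbffffbfb7ff7f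
noncomputable def col (u : ℕ) : ℕ := Nat.land (Nat.shiftRight cold (Nat.mul u (nat_lit 1))) (nat_lit 1)
noncomputable def QX : List (List ℕ × List ℕ × ℕ) := [([1], [0, 0, 1, 0, 0, 1, 1, 0, 0, 0, 1, 1], 0), ([2], [1, 0, 0, 0, 1, 1, 0], 1), ([2, 1], [1, 0, 1, 0, 1, 1, 0, 1, 0, 1, 1, 0], 2), ([3], [1, 1, 1, 0, 0, 0, 1, 0, 0, 1, 1, 0, 1], 3), ([3, 1], [1, 0, 1, 1, 0, 1, 0, 0, 1, 1, 0, 1, 1], 3), ([3, 2], [1, 1, 0, 0, 0, 0, 1, 0, 0], 3), ([3, 2, 1], [1, 0, 0, 1, 0, 1, 1, 1, 0, 0, 0, 0, 0], 3), ([4], [1, 0, 0, 1, 0, 0, 0, 1, 1, 0], 0), ([4, 1], [1, 0, 0, 1, 0, 0, 1, 0, 1, 0], 1), ([4, 2], [0, 0, 0, 1, 0, 1], 0), ([4, 2, 1], [1, 1, 0, 1, 1, 1, 0, 0, 0, 1, 1, 0], 1), ([4, 3], [1, 1, 0, 1, 1, 0, 0, 0, 0, 1, 0], 0), ([4, 3, 1], [1, 0, 0, 0, 0, 1, 0, 1, 0, 1], 2), ([4, 3, 2], [1, 1, 1, 0, 1, 1, 0, 0, 1, 1, 0, 1], 2), ([4, 3, 2, 1], [1, 1, 1, 0, 1, 0, 1, 0], 0), ([5], [0, 1,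 1, 0, 0, 0, 0, 0, 0, 1, 0], 0), ([5, 1], [0, 1, 1, 0, 0, 1, 1, 1, 0, 1, 0, 0, 0], 0), ([5, 2], [1, 0, 0, 0, 0, 1, 0, 0, 1, 1, 0, 0, 1, 0], 3), ([5, 2, 1], [1, 0, 0, 1, 1, 0, 1, 1, 0, 1], 3), ([5, 3], [0, 1, 0, 0, 0, 1, 1, 1, 0, 0, 0, 1], 0), ([5, 3, 1], [0, 1, 0, 1, 0, 0, 0], 0), ([5, 3, 2], [0, 0, 1, 0, 1, 0, 1, 0, 1, 1, 0, 1, 1], 3), ([5, 3, 2, 1], [0, 1, 0, 1, 1, 0, 0, 0, 0, 1, 0, 0], 3), ([5, 4], [0, 1, 0, 1, 1, 0, 1, 1, 0, 0, 0, 1, 1], 0), ([5, 4, 1], [1, 1, 0, 1, 1, 1, 0, 0], 0), ([5, 4, 2], [1, 0, 1, 1, 0, 1, 1, 0, 1, 0, 1, 0, 0, 1], 3), ([5, 4, 2, 1], [1, 0, 1, 1, 0, 1, 0, 1, 1, 0], 3), ([5, 4, 3], [1, 1, 1, 0, 1, 0, 0, 1, 1], 3), ([5, 4, 3, 1], [1, 0, 1, 0, 0, 0, 1, 1, 0, 0, 0, 0], 3), ([5, 4, 3, 2], [0, 1, 1, 0, 0, 1, 1, 1, 0, 1, 0, 1], 0), ([5, 4, 3, 2, 1], [0, 1, 0, 1, 1, 0, 0, 0, 1, 0], 0), ([6], [0, 0, 1, 1, 0, 0, 0, 1, 0, 0, 0, 0, 0], 0), ([6, 1],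 [0, 0, 1, 0, 1, 1, 0, 0, 0, 0, 0], 3), ([6, 2], [0, 1, 1, 1, 0, 1, 1, 0, 0, 0, 0], 0), ([6, 2, 1], [0, 1, 1, 0, 0, 0, 0, 1, 0], 3), ([6, 3], [0, 0, 0, 1, 1, 0, 0, 0, 1, 0, 0, 1, 1], 3), ([6, 3, 1], [0, 1, 0, 1, 1, 0, 1, 0, 1, 0, 0, 0], 1), ([6, 3, 2], [1, 1, 1, 0, 1, 0, 1, 1], 3), ([6, 3, 2, 1], [0, 1, 0, 0, 0, 0, 1, 1, 0, 0, 1, 1, 0], 1), ([6, 4], [0, 0, 0, 0, 1, 0, 0, 1, 0, 0, 1, 1, 0, 1], 0), ([6, 4, 1], [0, 0, 0, 1, 0, 1, 0, 1, 0, 0, 0, 1], 3), ([6, 4, 2], [0, 0, 1, 1, 1, 0, 0, 1, 0, 1, 0, 0, 1], 0), ([6, 4, 2, 1], [0, 0, 0, 1, 0, 1, 0, 0, 0, 1], 3), ([6, 4, 3], [0, 1, 0, 0, 0, 1, 1, 1], 1), ([6, 4, 3, 1], [1, 0, 0, 0, 0, 0, 1, 1, 0, 0, 1], 3), ([6, 4, 3, 2], [1, 1, 1, 0, 0, 0, 0, 0, 1, 0, 0, 1], 1), ([6, 4, 3, 2, 1], [1, 0, 0, 0, 0, 1, 0, 1, 1], 3), ([6, 5], [1, 1, 0, 0, 1, 0, 0, 0, 1, 0, 1, 1], 3), ([6, 5, 1], [0, 0, 0, 0, 1, 1, 1, 0, 1, 1, 0, 0, 0], 2), ([6,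 5, 2], [1, 1, 0, 1, 0, 1, 1], 2), ([6, 5, 2, 1], [1, 0, 1, 1, 0, 1, 0, 0, 1], 3), ([6, 5, 3], [0, 1, 1, 0, 0, 0, 0, 0, 1, 0, 1, 0], 3), ([6, 5, 3, 1], [0, 1, 0, 0, 0, 1, 0, 1, 1, 0, 1], 0), ([6, 5, 3, 2], [1, 0, 0, 0, 0, 0, 0, 1, 0, 0, 1], 0), ([6, 5, 3, 2, 1], [0, 1, 0, 1, 1, 0, 0, 0, 1, 1, 0, 0], 3), ([6, 5, 4], [1, 0, 1, 1, 1, 0, 1, 0, 0, 1, 1, 1], 3), ([6, 5, 4, 1], [1, 0, 1, 0, 0, 0, 0, 0, 0, 1], 0), ([6, 5, 4, 2], [0, 0, 0, 0, 1, 1, 1, 1, 1, 1, 1], 0), ([6, 5, 4, 2, 1], [1, 1, 0, 0, 1, 1, 1, 1, 1], 3), ([6, 5, 4, 3], [1, 0, 0, 0, 0, 1, 0, 0, 1, 0, 0, 0, 1, 1], 2), ([6, 5, 4, 3, 1], [1, 1, 0, 1, 0, 1, 0, 0, 0, 1, 0, 0], 3), ([6, 5, 4, 3, 2], [0, 1, 0, 1, 1, 0, 1, 1, 1, 1, 1, 1], 3), ([6, 5, 4, 3, 2, 1], [1, 0, 0, 0, 1, 0, 0, 1, 0, 0, 0, 1, 0], 2)]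
noncomputable def Qc_L : List (List ℕ) := QX.map Prod.fst
noncomputable def Qc_X : List (List (ℕ × List ℕ)) := [[(0, [0]), (1, [0]), (2, [0]), (3, [0]), (4, [0]), (5, [0]), (6, [0]), (7, [0]), (8, [0]), (9, [0]), (10, [0]), (11, [0]), (12, [0]), (13, [0]), (14, [0]), (15, [0]), (16, [0]), (17, [0]), (18, [0]), (19, [0]), (20, [0]), (21, [0]), (22, [0]), (23, [0]), (24, [0]), (25, [0]), (26, [0]), (27, [0]), (28, [0]), (29, [0]), (30, [0]), (31, [0]), (32, [0]), (33, [0]), (34, [0]), (35, [0]), (36, [0]), (37, [0]), (38, [0]), (39, [0]), (40, [0]), (41, [0]), (42, [0]), (43, [0]), (44, [0]), (45, [0]), (46, [0]), (47, [0]), (48, [0]), (49, [0]), (50, [0]), (51, [0]), (52, [0]), (53, [0]), (54, [0]), (55, [0]), (56, [0]), (57, [0]), (58, [0]), (59, [0]), (60, [0]), (61, [0]), (62, [0]), (63, [0])], [(1, []), (0, []), (3, []), (2, []), (5, []), (4, []), (7, []), (6,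 []), (9, []), (8, []), (11, []), (10, []), (13, []), (12, []), (15, []), (14, []), (17, []), (16, []), (19, []), (18, []), (21, []), (20, []), (23, []), (22, []), (25, []), (24, []), (27, []), (26, []), (29, []), (28, []), (31, []), (30, []), (33, []), (32, []), (35, []), (34, []), (37, []), (36, []), (39, []), (38, []), (41, []), (40, []), (43, []), (42, []), (45, []), (44, []), (47, []), (46, []), (49, []), (48, []), (51, []), (50, []), (53, []), (52, []), (55, []), (54, []), (57, []), (56, []), (59, []), (58, []), (61, []), (60, []), (63, []), (62, [])], [(2, []), (3, []), (0, []), (1, []), (6, []), (7, []), (4, []), (5, []), (10, []), (11, []), (8, []), (9, []), (14, []), (15, []), (12, []), (13, []), (18, []), (19, []), (16, []), (17, []), (22, []), (23, []), (20, []), (21, []), (26, []), (27, []), (24, []), (25, []), (30, []), (31, []), (28, []), (29, []),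 (34, []), (35, []), (32, []), (33, []), (38, []), (39, []), (36, []), (37, []), (42, []), (43, []), (40, []), (41, []), (46, []), (47, []), (44, []), (45, []), (50, []), (51, []), (48, []), (49, []), (54, []), (55, []), (52, []), (53, []), (58, []), (59, []), (56, []), (57, []), (62, []), (63, []), (60, []), (61, [])], [(4, []), (5, []), (6, []), (7, []), (0, [0]), (1, [0]), (2, [0]), (3, [0]), (12, []), (13, []), (14, []), (15, []), (8, [0]), (9, [0]), (10, [0]), (11, [0]), (20, []), (21, []), (22, []), (23, []), (16, [0]), (17, [0]), (18, [0]), (19, [0]), (28, []), (29, []), (30, []), (31, []), (24, [0]), (25, [0]), (26, [0]), (27, [0]), (36, []), (37, []), (38, []), (39, []), (32, [0]), (33, [0]), (34, [0]), (35, [0]), (44, []), (45, []), (46, []), (47, []), (40, [0]), (41, [0]), (42, [0]), (43, [0]), (52, []), (53, []), (54, []), (55, []), (48, [0]), (49, [0]),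 (50, [0]), (51, [0]), (60, []), (61, []), (62, []), (63, []), (56, [0]), (57, [0]), (58, [0]), (59, [0])], [(8, []), (9, []), (10, []), (11, []), (12, [0]), (13, [0]), (14, [0]), (15, [0]), (0, []), (1, []), (2, []), (3, []), (4, [0]), (5, [0]), (6, [0]), (7, [0]), (24, []), (25, []), (26, []), (27, []), (28, [0]), (29, [0]), (30, [0]), (31, [0]), (16, []), (17, []), (18, []), (19, []), (20, [0]), (21, [0]), (22, [0]), (23, [0]), (40, []), (41, []), (42, []), (43, []), (44, [0]), (45, [0]), (46, [0]), (47, [0]), (32, []), (33, []), (34, []), (35, []), (36, [0]), (37, [0]), (38, [0]), (39, [0]), (56, []), (57, []), (58, []), (59, []), (60, [0]), (61, [0]), (62, [0]), (63, [0]), (48, []), (49, []), (50, []), (51, []), (52, [0]), (53, [0]), (54, [0]), (55, [0])], [(16, []), (17, []), (18, [0]), (19, [0]), (20, [0]), (21, [0]), (22, []), (23, []), (24, []), (25, []),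 (26, [0]), (27, [0]), (28, [0]), (29, [0]), (30, []), (31, []), (0, []), (1, []), (2, [0]), (3, [0]), (4, [0]), (5, [0]), (6, []), (7, []), (8, []), (9, []), (10, [0]), (11, [0]), (12, [0]), (13, [0]), (14, []), (15, []), (48, []), (49, []), (50, [0]), (51, [0]), (52, [0]), (53, [0]), (54, []), (55, []), (56, []), (57, []), (58, [0]), (59, [0]), (60, [0]), (61, [0]), (62, []), (63, []), (32, []), (33, []), (34, [0]), (35, [0]), (36, [0]), (37, [0]), (38, []), (39, []), (40, []), (41, []), (42, [0]), (43, [0]), (44, [0]), (45, [0]), (46, []), (47, [])], [(32, []), (33, [0]), (34, []), (35, [0]), (36, []), (37, [0]), (38, []), (39, [0]), (40, []), (41, [0]), (42, []), (43, [0]), (44, []), (45, [0]), (46, []), (47, [0]), (48, [0]), (49, []), (50, [0]), (51, []), (52, [0]), (53, []), (54, [0]), (55, []), (56, [0]), (57, []), (58, [0]), (59, []), (60, [0]), (61, []),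 (62, [0]), (63, []), (0, []), (1, [0]), (2, []), (3, [0]), (4, []), (5, [0]), (6, []), (7, [0]), (8, []), (9, [0]), (10, []), (11, [0]), (12, []), (13, [0]), (14, []), (15, [0]), (16, [0]), (17, []), (18, [0]), (19, []), (20, [0]), (21, []), (22, [0]), (23, []), (24, [0]), (25, []), (26, [0]), (27, []), (28, [0]), (29, []), (30, [0]), (31, [])]]
noncomputable def TPd : List ℕ := [nat_lit 0xabbc21fb3dad8b9af2eb4b3d824e31d7fa299a78ee977f2f29b40179358d0992d269431d00461155f2091870ce15770f,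
  nat_lit 0x8f0ef8f67b3c931a2f9a0dbed22879a65af5eb3ab7feeb720d06d874731c11120f18059e5020592452d56932977ce352,
  nat_lit 0x8fdfadc26c6192ca2f9e0e7bd22f36a65af5cfaab7feee3229e75c6da6580962d24d445000434c55f2091c60ce15704f,
  nat_lit 0xa61e3ef2c9b08278e4c6eeaddf4f73968abfe76d72aefee22cd7106194de49a7d75821c110f6c629514331120025474e,
  nat_lit 0xa61e3bf2c9fd82696ec64ced8b4c3a8e8feae76d72aeffb729e7416da58d0995544d23103c46112df2481c60ce157700,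
  nat_lit 0xe60d22bebfee86acfdd70972ef8923eb69e6a68c6db3cdfe3123ce5090c234519b21e28075c5df1d16932d5581658110,
  nat_lit 0xcee8b292aaefc35da1ffca77e3e828e7ac6c8e59bb9fdd2d7de4016da6580965524d431d3ce3512ca2091870c4157700,
  nat_lit 0xffdfadc26c61decd749f2e7bbeef36aeaa68cfa9648e2e2015e75c6da6583962404cf45049734c20354b1c67c2284054,
  nat_lit 0xbe7cec9bdb79a78deac3ff3a975da18a0ba4efecabd28c634866911d061654d3837450537c965c1145c279b3c800b30a,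
  nat_lit 0x927cf19b0b768f8cabf75f3aa6ae61d2ebe0fbb8bfde5b287c161b71119d08755231468d0044132ca24859914e0d778f,
  nat_lit 0x7de75c6da6585d65544d24503ce34c2ca2481c61440c2040ffef7cefae78df6d74cf2c70beeb6caeaa689e69648e2860]
noncomputable def TP (k u : ℕ) : ℕ := Nat.land (Nat.shiftRight (nth (nat_lit 0) TPd k) (Nat.mul u (nat_lit 6))) (nat_lit 63)
noncomputable def TEd : ℕ := nat_lit 0x807c01dd3ce6972fb971caee3e6e7b665a26ce366c3251848aa2545a8e546aa25503a6c130e92c47da34517e8b344821bd0808284029ff4d2865f32a9948c9a6342e2963ca124d9267122883429814088bc45621b0fe86982fa122078831c16a0a9043019406c01e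
noncomputable def TE (u : ℕ) : ℕ := Nat.land (Nat.shiftRight TEd (Nat.mul u (nat_lit 13))) (nat_lit 8191)
noncomputable def TId : BT := (.node (.node (.node (.node (.leaf (nat_lit 0x2c000000000000000000000000000000000000000000000000000000000000000000000000000000000000000000000000000000000000000000000000000000000a0000000000000000000000000000000000000000000000000000000000002400000000000000000000000000000000000000000000000000000000000000000000000000000000000000000000000000000000000000000000000000000000000000080000000000000000000000000000000000000000000000000000000000000000000000001c0000000000000000000000000000000000000000000000000000000000000180000000000000000000000000140000000000000000100000000000000000000000000000000000000000000000000003000000000000000000000000000000000000000000000000080000000000000000000000000000000000000000000000000000000000000000000001000000000000000000000000000000000000000000000000000000000000000000000000000000000))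 (.leaf (nat_lit 0xfc0000000000f80000000000))) (.leaf (nat_lit 0x2a000000000000000000000000000000000000000000000000000000000000a400000000000000000000000000000000000000000000000000000000000000000000000000000000000000000000000000000000000000000000000000000000000000280000000000000000000000000000000000000000000000000000000000000000000000009c00000000000000000000000000000000000000000000000000000000000009800000000000000000000000009400000000000000009000000000000000000000000000000000000000000000000000230000000000000000000000000000000000000000000000008800000000000000000000000000000000000000000000000000000000000000000000210000000000000000000000000000000000200000000000000000000000000000000000000000000000000007c0000000))) (.node (.leaf (nat_lit 0x5c00000000000000000000000000000000000000000000000000000000000000000000000000000005800000000000000000000000000000000000000000000000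00000000000000000000000000000000000000000000000000000000000000000000000000000000000000000000000000000000000000000000000000000000000000000000000000000000540000000000000000000000000000000000000000000000000000000000000000000000500000000000000013000000000000000000000000000000000000000000000000000000000000000000000000000000000000000000000000000012000000000000000000000000000000000000000000000000000000000000000000000000000000000000000000000000000000000000000000000000000000000000000000000000000000000000000000000011000000000000000000000000000000000000000)) (.leaf (nat_lit 0xdc0000000000000000000000000000000000000000000000000000000000000000000000000000000d80000000000000000000000000000000000000000000000000000000000000000000000000000000000000000000000000000000000000000000000000000000000000000000000000000000000000000000000000000000000000000000000000000000d40000000000000000000000000000000000000000000000000000000000000000000000d00000000000000033000000000000000000000000000000000000000000000000000000000000000000000000000000000000000000000000000032000000000000000000000000000000000000000000000000000000000000000000000000000000000000000000000000000000000000000000000000000000000000000000000000000000000000000000000031000000000000000000000000000000000000000000000000000000))))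 (.node (.node (.leaf (nat_lit 0x100000000000000000000000000000000003c0000000000000000000000000000000000000000000000000000000000000000000000000000000000000000000000000000000000000000000000000380000340000000000000000000000300000000000000000000000000000000000000000)) (.leaf (nat_lit 0x30000000000000000000000000000000000bc0000000000000000000000000000000000000000000000000000000000000000000000000000000000000000000000000000000000000000000000000b80000b40000000000000000000000b00000000000000000000000000000000000000000000ac0000000000))) (.node (.leaf (nat_lit 0x7800000000000000000000000000000000000000000000000000000000000000000000000000000000000000000000000000000000000000000000000000000000000000000000000000000000000000000000000000000000000000000000000000000000000000000000000000000000000000000000000000000000000000000000000000000000000000000000000000000000000000000000000000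0000000000000000000000000000000000000000000000000000000000000000000000000000000000000000000000000000000000000000000000000000000000000000000000000000000000000000000000000000000000000000000000000000000000000000000000000000000001d0000000000000000000000000000000000000000000000000000000000000000000000000000007000000000000006c001a000000640000000000000000000000000000000000018000000000000000000000000000000000000000000000000000000000000000000000000000000)) (.leaf (nat_lit 0x3d000000000000000000000000000000000000000000000000000000000000000000000000000000f00000000000000ec003a000000e40000000000000000000000000000000000038000000000000000000000000000000000000000000000000000000000000000000000000000000000000000000000)))))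
noncomputable def TI (u : ℕ) : ℕ := force (Nat.shiftRight u (nat_lit 9)) fun j => Nat.land (Nat.shiftRight (TId.get j) (Nat.mul (Nat.land u (nat_lit 511)) (nat_lit 6))) (nat_lit 63)
noncomputable def TB : List ℕ := [nat_lit 29, nat_lit 24, nat_lit 11, nat_lit 8]
noncomputable def TC : List (List (List ℕ)) := [[[],
  [],
  [],
  [],
  [],
  [],
  [],
  [],
  [],
  [],
  []], [[],
  [],
  [],
  [],
  [],
  [],
  [nat_lit 0],
  [],
  [],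
  [],
  []], [[],
  [],
  [],
  [],
  [],
  [nat_lit 0],
  [],
  [],
  [],
  [],
  [nat_lit 0, nat_lit 1]], [[],
  [],
  [],
  [nat_lit 0],
  [nat_lit 0],
  [nat_lit 0],
  [],
  [],
  [nat_lit 0, nat_lit 1],
  [nat_lit 0, nat_lit 2],
  [nat_lit 1]], [[],
  [],
  [],
  [],
  [],
  [],
  [],
  [],
  [nat_lit 2],
  [nat_lit 0, nat_lit 2],
  [nat_lit 1, nat_lit 2, nat_lit 3]], [[],
  [],
  [],
  [],
  [],
  [],
  [nat_lit 0],
  [nat_lit 0, nat_lit 1],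
  [nat_lit 0, nat_lit 1, nat_lit 3],
  [nat_lit 1, nat_lit 2, nat_lit 3, nat_lit 4],
  [nat_lit 1]], [[],
  [],
  [],
  [],
  [],
  [],
  [],
  [nat_lit 2],
  [nat_lit 0, nat_lit 4],
  [nat_lit 0, nat_lit 2],
  [nat_lit 0, nat_lit 1, nat_lit 3, nat_lit 5]], [[],
  [],
  [],
  [],
  [],
  [],
  [],
  [],
  [],
  [],
  [nat_lit 0, nat_lit 1]], [[],
  [],
  [],
  [],
  [],
  [],
  [],
  [],
  [nat_lit 0, nat_lit 2, nat_lit 7],
  [nat_lit 1, nat_lit 7],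
  [nat_lit 0, nat_lit 2, nat_lit 7]], [[],
  [],
  [],
  [],
  [],
  [],
  [],
  [],
  [],
  [],
  [nat_lit 1, nat_lit 2, nat_lit 3, nat_lit 7, nat_lit 8]], [[],
  [],
  [],
  [],
  [],
  [],
  [],
  [],
  [],
  [],
  []]]
noncomputable def Te : List (List ℕ) := [[],
  [],
  [],
  [],
  [],
  [],
  [],
  [],
  [],
  [],
  [],
  [],
  [],
  [],
  [],
  [],
  [],
  [],
  [],
  [],
  [],
  [],
  [nat_lit 4, nat_lit 6],
  [],
  [nat_lit 0, nat_lit 2, nat_lit 4],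
  [nat_lit 4, nat_lit 6],
  [nat_lit 1, nat_lit 2, nat_lit 7],
  [nat_lit 0, nat_lit 9],
  [nat_lit 3, nat_lit 9, nat_lit 10]]
noncomputable def Tl0Dd : ℕ := nat_lit 0xc6d77698d179770c21742f7aafd5dc361690c3978ad473cc9586a9a4f6979219ec39e97d042033646b8ca9b135863cad95727c484820e71ca4f49011b1fc398650c818c2b4480ac11e1bc2b0540a41541c8350700cc0e000
noncomputable def Tl0D (u : ℕ) : ℕ := Nat.land (Nat.shiftRight Tl0Dd (Nat.mul u (nat_lit 11))) (nat_lit 2047)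
noncomputable def Tl0Pd : ℕ := nat_lit 0x952d83266710de9d5751efadc4ecc56912016c67583e0d3f84a0a2130313ea81d68fb378f6e7d5caf6799fc2eb92ca80
noncomputable def Tl0P (u : ℕ) : ℕ := Nat.land (Nat.shiftRight Tl0Pd (Nat.mul u (nat_lit 6))) (nat_lit 63)
noncomputable def Tl0Qd : ℕ := nat_lit 0x8313c6497210dfdd61b4bbda28ec02101d961fafc34dc7e23729799eb264d1433363eab88ee45915eee9566b1bf1da00
noncomputable def Tl0Q (u : ℕ) : ℕ := Nat.land (Nat.shiftRight Tl0Qd (Nat.mul u (nat_lit 6))) (nat_lit 63)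
noncomputable def Tl0 : Lev := ⟨64, 29, Tl0D, Tl0P, Tl0Q⟩
noncomputable def Tl1Dd : ℕ := nat_lit 0x866f4e36341a1b00
noncomputable def Tl1D (u : ℕ) : ℕ := Nat.land (Nat.shiftRight Tl1Dd (Nat.mul u (nat_lit 8))) (nat_lit 255)
noncomputable def Tl1Pd : ℕ := nat_lit 0x8731df3761
noncomputable def Tl1P (u : ℕ) : ℕ := Nat.land (Nat.shiftRight Tl1Pd (Nat.mul u (nat_lit 5))) (nat_lit 31)
noncomputable def Tl1Qd : ℕ := nat_lit 0xe6205000007010000000000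
noncomputable def Tl1Q (u : ℕ) : ℕ := Nat.land (Nat.shiftRight Tl1Qd (Nat.mul u (nat_lit 3))) (nat_lit 7)
noncomputable def Tl1 : Lev := ⟨8, 28, Tl1D, Tl1P, Tl1Q⟩
noncomputable def Tl2Dd : ℕ := nat_lit 0x300
noncomputable def Tl2D (u : ℕ) : ℕ := Nat.land (Nat.shiftRight Tl2Dd (Nat.mul u (nat_lit 5))) (nat_lit 31)
noncomputable def Tl2Pd : ℕ := nat_lit 0x2e2
noncomputable def Tl2P (u : ℕ) : ℕ := Nat.land (Nat.shiftRight Tl2Pd (Nat.mul u (nat_lit 5))) (nat_lit 31)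
noncomputable def Tl2Qd : ℕ := nat_lit 0x800000
noncomputable def Tl2Q (u : ℕ) : ℕ := Nat.land (Nat.shiftRight Tl2Qd (Nat.mul u (nat_lit 1))) (nat_lit 1)
noncomputable def Tl2 : Lev := ⟨2, 25, Tl2D, Tl2P, Tl2Q⟩
noncomputable def Tl3Dd : ℕ := nat_lit 0x2c0
noncomputable def Tl3D (u : ℕ) : ℕ := Nat.land (Nat.shiftRight Tl3Dd (Nat.mul u (nat_lit 5))) (nat_lit 31)
noncomputable def Tl3Pd : ℕ := nat_lit 0xe4
noncomputable def Tl3P (u : ℕ) : ℕ := Nat.land (Nat.shiftRight Tl3Pd (Nat.mul u (nat_lit 4))) (nat_lit 15)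
noncomputable def Tl3Qd : ℕ := nat_lit 0x4000
noncomputable def Tl3Q (u : ℕ) : ℕ := Nat.land (Nat.shiftRight Tl3Qd (Nat.mul u (nat_lit 1))) (nat_lit 1)
noncomputable def Tl3 : Lev := ⟨2, 23, Tl3D, Tl3P, Tl3Q⟩
noncomputable def covT0 : CT := (.split (.more (.split (.more (.split (.more (.split (.more (.split (.more (.split (.more (.split (.more (.split (.more (.split (.more (.split (.more (.split (.more .one (.more (.leaf (nat_lit 0) []) .one))) (.more (.fuse [nat_lit 6] [] (.leaf (nat_lit 1) [])) .one))) (.more (.fuse [nat_lit 10] [nat_lit 0] (.fuse [nat_lit 5] [] (.leaf (nat_lit 0) [nat_lit 1, nat_lit 1, nat_lit 2, nat_lit 1, nat_lit 4, nat_lit 2, nat_lit 5, nat_lit 8, nat_lit 11]))) .one))) (.more (.fuse [nat_lit 9] [nat_lit 0] (.fuse [nat_lit 8] [nat_lit 0] (.fuse [nat_lit 4] [] (.prune (nat_lit 0) (nat_lit 1) [])))) .one))) (.more (.fuse [nat_lit 10] [nat_lit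 0, nat_lit 1, nat_lit 2] (.fuse [nat_lit 8] [] (.split (.more (.fuse [nat_lit 3] [] (.leaf (nat_lit 1) [nat_lit 0, nat_lit 10, nat_lit 10, nat_lit 2, nat_lit 8, nat_lit 1, nat_lit 5, nat_lit 8])) (.more (.fuse [nat_lit 3] [] (.leaf (nat_lit 0) [nat_lit 3, nat_lit 3, nat_lit 9, nat_lit 9, nat_lit 3, nat_lit 1, nat_lit 7, nat_lit 9, nat_lit 11])) .one))))) .one))) (.more (.fuse [nat_lit 9] [nat_lit 1, nat_lit 2, nat_lit 3] (.fuse [nat_lit 8] [nat_lit 1] (.split (.more (.fuse [nat_lit 7] [nat_lit 0] (.fuse [nat_lit 2] [] (.leaf (nat_lit 1) [nat_lit 10, nat_lit 9, nat_lit 11, nat_lit 6, nat_lit 4, nat_lit 9, nat_lit 6, nat_lit 6, nat_lit 3]))) (.more (.fuse [nat_lit 7] [nat_lit 0] (.fuse [nat_lit 2] [] (.prune (nat_lit 0) (nat_lit 1) []))) .one))))) .one))) (.more (.fuse [nat_lit 10] [nat_lit 0, nat_lit 1, nat_lit 3] (.fuse [nat_lit 8] [nat_lit 0] (.split (.more (.fuse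 [nat_lit 7] [] (.split (.more (.fuse [nat_lit 1] [] (.leaf (nat_lit 1) [nat_lit 0, nat_lit 7, nat_lit 2, nat_lit 2, nat_lit 7, nat_lit 1, nat_lit 3, nat_lit 8, nat_lit 11])) (.more (.fuse [nat_lit 1] [] (.prune (nat_lit 0) (nat_lit 1) [])) .one)))) (.more (.fuse [nat_lit 7] [] (.split (.more (.fuse [nat_lit 1] [] (.prune (nat_lit 0) (nat_lit 1) [])) (.more (.fuse [nat_lit 1] [] (.leaf (nat_lit 0) [nat_lit 7, nat_lit 8, nat_lit 6, nat_lit 5, nat_lit 7, nat_lit 2, nat_lit 5, nat_lit 1, nat_lit 1])) .one)))) .one))))) .one))) (.more (.split (.more (.split (.more (.split (.more (.split (.more (.fuse [nat_lit 6] [] (.fuse [nat_lit 5] [nat_lit 0] (.split (.more (.leaf (nat_lit 1) [nat_lit 8, nat_lit 3, nat_lit 7, nat_lit 5, nat_lit 11, nat_lit 11, nat_lit 1, nat_lit 11, nat_lit 3]) (.more (.leaf (nat_lit 0) [nat_lit 6, nat_lit 0, nat_lit 7, nat_lit 8, nat_lit 11, nat_lit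 5, nat_lit 6, nat_lit 2, nat_lit 1]) .one))))) (.more (.fuse [nat_lit 6] [] (.fuse [nat_lit 5] [] (.fuse [nat_lit 4] [] (.prune (nat_lit 0) (nat_lit 1) [])))) .one))) (.more (.fuse [nat_lit 10] [nat_lit 2] (.fuse [nat_lit 6] [] (.fuse [nat_lit 5] [nat_lit 0] (.fuse [nat_lit 3] [] (.leaf (nat_lit 0) [nat_lit 11, nat_lit 0, nat_lit 7, nat_lit 0, nat_lit 3, nat_lit 6, nat_lit 1, nat_lit 9, nat_lit 0]))))) .one))) (.more (.fuse [nat_lit 9] [nat_lit 1, nat_lit 2, nat_lit 3] (.fuse [nat_lit 8] [nat_lit 1] (.fuse [nat_lit 6] [] (.fuse [nat_lit 5] [nat_lit 0] (.prune (nat_lit 1) (nat_lit 1) [nat_lit 0]))))) .one))) (.more (.fuse [nat_lit 10] [nat_lit 0, nat_lit 3] (.fuse [nat_lit 8] [nat_lit 0] (.split (.more (.fuse [nat_lit 6] [] (.prune (nat_lit 2) (nat_lit 1) [])) (.more (.fuse [nat_lit 6] [] (.prune (nat_lit 2) (nat_lit 1) [nat_lit 0])) .one))))) .one))) .one))) (.more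 (.fuse [nat_lit 9] [nat_lit 1] (.prune (nat_lit 7) (nat_lit 1) [nat_lit 0, nat_lit 2])) .one))) (.more (.fuse [nat_lit 10] [nat_lit 0, nat_lit 3] (.fuse [nat_lit 8] [nat_lit 1] (.split (.more (.split (.more (.fuse [nat_lit 5] [nat_lit 1, nat_lit 2, nat_lit 3] (.split (.more (.fuse [nat_lit 3] [nat_lit 0] (.split (.more (.split (.more (.leaf (nat_lit 1) [nat_lit 5, nat_lit 11, nat_lit 9, nat_lit 1, nat_lit 5, nat_lit 3, nat_lit 3, nat_lit 11, nat_lit 0, nat_lit 5]) (.more (.leaf (nat_lit 0) [nat_lit 10, nat_lit 4, nat_lit 2, nat_lit 8, nat_lit 11, nat_lit 11, nat_lit 2, nat_lit 9, nat_lit 2]) .one))) (.more (.fuse [nat_lit 3, nat_lit 6] [] (.leaf (nat_lit 0) [nat_lit 7, nat_lit 7, nat_lit 7, nat_lit 0, nat_lit 2, nat_lit 8, nat_lit 4])) .one)))) (.more (.fuse [nat_lit 3] [nat_lit 0] (.prune (nat_lit 2) (nat_lit 1) [])) .one)))) (.more (.fuse [nat_lit 5] [nat_lit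 1, nat_lit 2, nat_lit 3] (.prune (nat_lit 4) (nat_lit 1) [nat_lit 1, nat_lit 2, nat_lit 3])) .one))) (.more (.split (.more (.fuse [nat_lit 5] [nat_lit 1, nat_lit 2, nat_lit 3] (.split (.more (.fuse [nat_lit 3] [nat_lit 0] (.prune (nat_lit 2) (nat_lit 1) [nat_lit 0])) (.more (.fuse [nat_lit 3] [nat_lit 0] (.split (.more (.fuse [nat_lit 1] [] (.prune (nat_lit 0) (nat_lit 1) [])) (.more (.fuse [nat_lit 1] [] (.leaf (nat_lit 0) [nat_lit 2, nat_lit 2, nat_lit 9, nat_lit 0, nat_lit 5, nat_lit 11, nat_lit 7, nat_lit 10])) .one)))) .one)))) (.more (.fuse [nat_lit 5] [nat_lit 1, nat_lit 2, nat_lit 3] (.prune (nat_lit 4) (nat_lit 1) [nat_lit 0, nat_lit 1, nat_lit 3])) .one))) .one))))) .one))) (.more (.split (.more (.fuse [nat_lit 9] [nat_lit 1, nat_lit 2, nat_lit 3, nat_lit 7] (.fuse [nat_lit 8] [nat_lit 0, nat_lit 2] (.split (.more (.fuse [nat_lit 6] [nat_lit 0, nat_lit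 1, nat_lit 3] (.split (.more (.fuse [nat_lit 4] [nat_lit 1, nat_lit 2] (.split (.more (.fuse [nat_lit 2] [nat_lit 0] (.fuse [nat_lit 2, nat_lit 3] [] (.leaf (nat_lit 2) []))) (.more (.fuse [nat_lit 2] [nat_lit 0] (.prune (nat_lit 1) (nat_lit 1) [nat_lit 0])) .one)))) (.more (.fuse [nat_lit 4] [nat_lit 0, nat_lit 1, nat_lit 2] (.prune (nat_lit 3) (nat_lit 1) [nat_lit 1, nat_lit 2])) .one)))) (.more (.fuse [nat_lit 6] [nat_lit 0, nat_lit 1, nat_lit 3] (.prune (nat_lit 5) (nat_lit 1) [nat_lit 0, nat_lit 1, nat_lit 3])) .one))))) (.more (.fuse [nat_lit 9] [nat_lit 0, nat_lit 3] (.prune (nat_lit 8) (nat_lit 1) [nat_lit 1, nat_lit 2, nat_lit 3, nat_lit 7])) .one))) .one)))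

theorem F_lt : allL (ltAll 13) F_W = true := by decide +kernel
theorem fcm_k : allL (fun p => eqL F_P 84 B [p.2, p.1] [p.1, p.2]) Lcm = true := by decide +kernel
theorem fcj_k : allL (fun p => eqL F_P 84 B [p.2.1, p.1] [p.1, p.2.2]) Lcj = true := by decide +kernel
theorem fc2_k : allL (fun p => eqL F_P 84 B [p.2.1, p.1] [p.1, p.2.2.2, p.2.2.1]) Lc2 = true := by decide +kernel
theorem fsq_k : allL (fun k => eqL F_P 84 B [k, k] []) Lsq = true := by decide +kernel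
theorem fid_k : allL (fun p => eqL F_P 84 B p.1.reverse p.2.reverse) Lid = true := by decide +kernel
theorem fne_k : allL (neEnt F_P 4116 84 B) Lne = true := by decide +kernel
theorem fin_k : allZ (fun k => ifz (Nat.xor k 10) 0 (ltAll 12 (nth [] F_W k))) 0 84 = true ∧ nth [] F_W 10 = [12] := by decide +kernel
theorem Kp_k : allZ (cmEnt (sbP F_P [24, 25]) 2 B [([1, 1, 1, 0, 0, 0, 1, 0, 0, 0, 1, 1, 0, 0, 0], [0, 1, 0, 1, 1, 0, 0, 1, 0, 1, 0, 1, 1]), ([0, 0, 0, 1, 0, 0, 0, 1, 0, 0, 1, 0], [1, 0, 0, 0, 0, 0, 1, 1, 1, 0, 0, 0])]) 0 2 = true := by decide +kernel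
theorem Lp_k : allZ (cmEnt (sbP F_P [65, 66, 67]) 2 B [([0, 0, 1, 0, 1, 0, 0, 0, 1, 1, 0, 0, 1, 0, 0], [0, 0, 1, 0, 0, 0, 1, 0, 0, 1, 1, 0, 0, 0, 1, 1, 0, 0, 0]), ([0, 0, 1, 1, 0, 1, 0, 1, 0, 1, 0, 1, 1, 1, 1, 1], [1, 0, 0, 0, 0, 0, 1, 1, 1, 0, 0, 1, 0, 1, 1])]) 0 2 = true := by decide +kernel
theorem yL_k : allZ (fun a => Nat.add (ltAll 2 (nth [] [[nat_lit 1, nat_lit 0, nat_lit 1, nat_lit 0, nat_lit 0, nat_lit 1, nat_lit 0, nat_lit 1, nat_lit 0, nat_lit 1, nat_lit 1, nat_lit 1, nat_lit 0, nat_lit 0, nat_lit 1, nat_lit 1, nat_lit 1]] a)) (sumL (fun β => Nat.xor ((sbP F_P [68]) a β) (apW (sbP F_P [65, 66, 67]) (nth [] [[nat_lit 1, nat_lit 0, nat_lit 1, nat_lit 0, nat_lit 0, nat_lit 1, nat_lit 0, nat_lit 1, nat_lit 0, nat_lit 1, nat_lit 1, nat_lit 1, nat_lit 0, nat_lit 0, nat_lit 1, nat_lit 1, nat_lit 1]] a) β)) B)) 0 1 = true := by decide +kernel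
theorem uL_k : allZ (fun a => Nat.add (ltAll 2 (nth [] [[nat_lit 0, nat_lit 0, nat_lit 0, nat_lit 0, nat_lit 0, nat_lit 0, nat_lit 0],
  [nat_lit 0, nat_lit 1, nat_lit 1, nat_lit 1, nat_lit 0, nat_lit 1, nat_lit 0, nat_lit 1, nat_lit 0, nat_lit 0, nat_lit 1, nat_lit 1, nat_lit 1, nat_lit 0, nat_lit 1, nat_lit 1],
  [nat_lit 1, nat_lit 1, nat_lit 1, nat_lit 0, nat_lit 1, nat_lit 1, nat_lit 1, nat_lit 0, nat_lit 0, nat_lit 1, nat_lit 0, nat_lit 1, nat_lit 0, nat_lit 1, nat_lit 0],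
  [nat_lit 1, nat_lit 0, nat_lit 1, nat_lit 1, nat_lit 0, nat_lit 0, nat_lit 1, nat_lit 0, nat_lit 0, nat_lit 1, nat_lit 0, nat_lit 1, nat_lit 1, nat_lit 0, nat_lit 0, nat_lit 0, nat_lit 1, nat_lit 1, nat_lit 1],
  [nat_lit 0, nat_lit 0, nat_lit 1, nat_lit 0, nat_lit 0, nat_lit 0, nat_lit 0, nat_lit 0, nat_lit 1, nat_lit 0, nat_lit 0, nat_lit 0, nat_lit 1, nat_lit 0, nat_lit 0],
  [nat_lit 1, nat_lit 1, nat_lit 1, nat_lit 0, nat_lit 0, nat_lit 0, nat_lit 1, nat_lit 1, nat_lit 1],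
  [nat_lit 0, nat_lit 0, nat_lit 0, nat_lit 1, nat_lit 0, nat_lit 1, nat_lit 0, nat_lit 1, nat_lit 0, nat_lit 0, nat_lit 0, nat_lit 1, nat_lit 0, nat_lit 0, nat_lit 1],
  [nat_lit 1, nat_lit 0, nat_lit 1, nat_lit 0, nat_lit 0, nat_lit 0, nat_lit 1, nat_lit 0, nat_lit 0, nat_lit 1, nat_lit 0, nat_lit 1, nat_lit 0, nat_lit 1, nat_lit 1]] a)) (sumL (fun β => Nat.xor ((sbP F_P [1, 0, 76, 77, 78, 79, 80, 81]) a β) (apW (sbP F_P [65, 66, 67]) (nth [] [[nat_lit 0, nat_lit 0, nat_lit 0, nat_lit 0, nat_lit 0, nat_lit 0, nat_lit 0],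
  [nat_lit 0, nat_lit 1, nat_lit 1, nat_lit 1, nat_lit 0, nat_lit 1, nat_lit 0, nat_lit 1, nat_lit 0, nat_lit 0, nat_lit 1, nat_lit 1, nat_lit 1, nat_lit 0, nat_lit 1, nat_lit 1],
  [nat_lit 1, nat_lit 1, nat_lit 1, nat_lit 0, nat_lit 1, nat_lit 1, nat_lit 1, nat_lit 0, nat_lit 0, nat_lit 1, nat_lit 0, nat_lit 1, nat_lit 0, nat_lit 1, nat_lit 0],
  [nat_lit 1, nat_lit 0, nat_lit 1, nat_lit 1, nat_lit 0, nat_lit 0, nat_lit 1, nat_lit 0, nat_lit 0, nat_lit 1, nat_lit 0, nat_lit 1, nat_lit 1, nat_lit 0, nat_lit 0, nat_lit 0, nat_lit 1, nat_lit 1, nat_lit 1],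
  [nat_lit 0, nat_lit 0, nat_lit 1, nat_lit 0, nat_lit 0, nat_lit 0, nat_lit 0, nat_lit 0, nat_lit 1, nat_lit 0, nat_lit 0, nat_lit 0, nat_lit 1, nat_lit 0, nat_lit 0],
  [nat_lit 1, nat_lit 1, nat_lit 1, nat_lit 0, nat_lit 0, nat_lit 0, nat_lit 1, nat_lit 1, nat_lit 1],
  [nat_lit 0, nat_lit 0, nat_lit 0, nat_lit 1, nat_lit 0, nat_lit 1, nat_lit 0, nat_lit 1, nat_lit 0, nat_lit 0, nat_lit 0, nat_lit 1, nat_lit 0, nat_lit 0, nat_lit 1],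
  [nat_lit 1, nat_lit 0, nat_lit 1, nat_lit 0, nat_lit 0, nat_lit 0, nat_lit 1, nat_lit 0, nat_lit 0, nat_lit 1, nat_lit 0, nat_lit 1, nat_lit 0, nat_lit 1, nat_lit 1]] a) β)) B)) 0 8 = true := by decide +kernel
theorem nL_k : allZ (fun j => cjL (sbP F_P [65, 66, 67]) F_P 2 B 67 [j] (nth [] [[nat_lit 1, nat_lit 0, nat_lit 1, nat_lit 1, nat_lit 1, nat_lit 1, nat_lit 0, nat_lit 1, nat_lit 0, nat_lit 0, nat_lit 0, nat_lit 0, nat_lit 0],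
  [nat_lit 1, nat_lit 0, nat_lit 0, nat_lit 0, nat_lit 1, nat_lit 1, nat_lit 0, nat_lit 1, nat_lit 0, nat_lit 0, nat_lit 1, nat_lit 0, nat_lit 0, nat_lit 1, nat_lit 1, nat_lit 1, nat_lit 1]] j)) 0 2 = true := by decide +kernel
theorem uc_k : allZ2 (fun i j => eqL (sbP F_P [1, 0, 76, 77, 78, 79, 80, 81]) 8 B [j, i] [i, j]) 4 8 = true := by decide +kernel
theorem sL_k_a : allZ2 (fun k i => ifz (col i) (col ((sbP F_P [65, 66, 67]) k i)) 0) (nat_lit 2) (nat_lit 4116) = true := by decide +kernel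
theorem sL_b : 7 < 4116 ∧ ltAll 84 [67] = 0 ∧ col 7 = 0 ∧ col (apW F_P [67] 7) ≠ 0 := by decide +kernel
theorem nQ0_k : allZ (fun j => cjL F_P F_P 7 B 24 [j] (nth [] [[nat_lit 0],
  [nat_lit 1, nat_lit 5],
  [nat_lit 2, nat_lit 3, nat_lit 4, nat_lit 6],
  [nat_lit 1, nat_lit 4, nat_lit 6],
  [nat_lit 2, nat_lit 3, nat_lit 5, nat_lit 6],
  [nat_lit 1, nat_lit 4, nat_lit 6, nat_lit 5],
  [nat_lit 5, nat_lit 3]] j)) 0 7 = true := by decide +kernel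
theorem nQ1_k : allZ (fun j => cjL F_P F_P 7 B 25 [j] (nth [] [[nat_lit 0],
  [nat_lit 0, nat_lit 1, nat_lit 5],
  [nat_lit 2, nat_lit 3, nat_lit 4, nat_lit 6],
  [nat_lit 2, nat_lit 5, nat_lit 3],
  [nat_lit 2, nat_lit 3, nat_lit 6, nat_lit 5],
  [nat_lit 2, nat_lit 3, nat_lit 4, nat_lit 5],
  [nat_lit 3, nat_lit 4]] j)) 0 7 = true := by decide +kernel
theorem nE024_k : allZ (fun j => cjL (sbP F_P [0, 13, 18, 20]) F_P 4 B 24 [j] (nth [] [[nat_lit 0],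
  [nat_lit 2, nat_lit 3],
  [nat_lit 1, nat_lit 2, nat_lit 3],
  [nat_lit 0, nat_lit 2]] j)) 0 4 = true := by decide +kernel
theorem nE025_k : allZ (fun j => cjL (sbP F_P [0, 13, 18, 20]) F_P 4 B 25 [j] (nth [] [[nat_lit 0],
  [nat_lit 0, nat_lit 2, nat_lit 3],
  [nat_lit 0, nat_lit 1, nat_lit 2],
  [nat_lit 0, nat_lit 2]] j)) 0 4 = true := by decide +kernel
theorem nE124_k : allZ (fun j => cjL (sbP F_P [0, 14, 19, 21]) F_P 4 B 24 [j] (nth [] [[nat_lit 0],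
  [nat_lit 1, nat_lit 2],
  [nat_lit 0, nat_lit 2, nat_lit 3],
  [nat_lit 1]] j)) 0 4 = true := by decide +kernel
theorem nE125_k : allZ (fun j => cjL (sbP F_P [0, 14, 19, 21]) F_P 4 B 25 [j] (nth [] [[nat_lit 0],
  [nat_lit 2],
  [nat_lit 0, nat_lit 1, nat_lit 2, nat_lit 3],
  [nat_lit 1]] j)) 0 4 = true := by decide +kernel
theorem Qc_k : (allL (ltAll 84) ([] :: Qc_L) && allZ2 (cosEnt F_P F_P (sbP F_P [0]) 1 B ([] :: Qc_L) Qc_X) 7 ([] :: Qc_L).length) = true := by decide +kernel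
theorem Qj_k : (allL (ltAll 84) (QX.map Prod.fst) && allL (ltAll 84) [[1], [2], [11], [3]] && allL (cjEnt F_P (sbP F_P [24, 25]) 2 B [[1], [2], [11], [3]]) QX) = true := by decide +kernel
theorem dl_k : (allL (ltAll 7) [[2, 6], [1, 4, 5], [4], [2, 3], [2], [1]] && allZ2 (dlEnt F_P 7 B [[2, 6], [1, 4, 5], [4], [2, 3], [2], [1]]) 6 7) = true := by decide +kernel
theorem mQ_k : allZ (fun a => Nat.add (ltAll 7 (nth [] [[nat_lit 3, nat_lit 4, nat_lit 6, nat_lit 5],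
  [nat_lit 1, nat_lit 2, nat_lit 3, nat_lit 6]] a)) (sumL (fun β => Nat.xor ((sbP F_P [13, 14]) a β) (apW F_P (nth [] [[nat_lit 3, nat_lit 4, nat_lit 6, nat_lit 5],
  [nat_lit 1, nat_lit 2, nat_lit 3, nat_lit 6]] a) β)) B)) 0 2 = true := by decide +kernel
theorem gQ_k : allZ (fun a => Nat.add (ltAll 5 (nth [] [[nat_lit 0, nat_lit 1, nat_lit 0, nat_lit 1],
  [nat_lit 0, nat_lit 1, nat_lit 4, nat_lit 4, nat_lit 2, nat_lit 4, nat_lit 3],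
  [nat_lit 1, nat_lit 3],
  [nat_lit 2, nat_lit 4, nat_lit 4, nat_lit 3, nat_lit 4],
  [nat_lit 1, nat_lit 0, nat_lit 4, nat_lit 3, nat_lit 4, nat_lit 2, nat_lit 4],
  [nat_lit 0, nat_lit 2, nat_lit 4, nat_lit 3, nat_lit 4, nat_lit 4, nat_lit 2],
  [nat_lit 1, nat_lit 0, nat_lit 4, nat_lit 2, nat_lit 4, nat_lit 3, nat_lit 4]] a)) (sumL (fun β => Nat.xor (F_P a β) (apW (sbP F_P [13, 14, 18, 19, 12]) (nth [] [[nat_lit 0, nat_lit 1, nat_lit 0, nat_lit 1],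
  [nat_lit 0, nat_lit 1, nat_lit 4, nat_lit 4, nat_lit 2, nat_lit 4, nat_lit 3],
  [nat_lit 1, nat_lit 3],
  [nat_lit 2, nat_lit 4, nat_lit 4, nat_lit 3, nat_lit 4],
  [nat_lit 1, nat_lit 0, nat_lit 4, nat_lit 3, nat_lit 4, nat_lit 2, nat_lit 4],
  [nat_lit 0, nat_lit 2, nat_lit 4, nat_lit 3, nat_lit 4, nat_lit 4, nat_lit 2],
  [nat_lit 1, nat_lit 0, nat_lit 4, nat_lit 2, nat_lit 4, nat_lit 3, nat_lit 4]] a) β)) B)) 0 7 = true := by decide +kernel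
theorem G1_k : allZ (fun a => Nat.add (ltAll 3 (nth [] [[nat_lit 1, nat_lit 1, nat_lit 1, nat_lit 1, nat_lit 1, nat_lit 2, nat_lit 0, nat_lit 2, nat_lit 2, nat_lit 1, nat_lit 2, nat_lit 1, nat_lit 0, nat_lit 1, nat_lit 1, nat_lit 1, nat_lit 0, nat_lit 1],
  [nat_lit 0, nat_lit 0, nat_lit 1, nat_lit 1, nat_lit 0, nat_lit 0, nat_lit 2, nat_lit 2, nat_lit 0, nat_lit 2, nat_lit 1, nat_lit 1, nat_lit 0, nat_lit 0, nat_lit 2, nat_lit 1, nat_lit 0, nat_lit 2, nat_lit 1],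
  [nat_lit 1, nat_lit 1, nat_lit 1, nat_lit 1, nat_lit 1, nat_lit 2, nat_lit 2, nat_lit 2, nat_lit 2, nat_lit 1, nat_lit 1, nat_lit 1, nat_lit 0, nat_lit 2, nat_lit 1, nat_lit 1, nat_lit 1, nat_lit 1, nat_lit 0, nat_lit 1, nat_lit 1],
  [nat_lit 0, nat_lit 0, nat_lit 0, nat_lit 1, nat_lit 0, nat_lit 1, nat_lit 2, nat_lit 2, nat_lit 1, nat_lit 0, nat_lit 1, nat_lit 0, nat_lit 1, nat_lit 2, nat_lit 2, nat_lit 2, nat_lit 0, nat_lit 2, nat_lit 0, nat_lit 0],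
  [nat_lit 0, nat_lit 0, nat_lit 1, nat_lit 0, nat_lit 1, nat_lit 2, nat_lit 1, nat_lit 0, nat_lit 0, nat_lit 2, nat_lit 0, nat_lit 1, nat_lit 2, nat_lit 2, nat_lit 1, nat_lit 2, nat_lit 0, nat_lit 0, nat_lit 1, nat_lit 2, nat_lit 1],
  [nat_lit 1, nat_lit 0, nat_lit 2, nat_lit 2, nat_lit 0, nat_lit 0, nat_lit 1, nat_lit 1, nat_lit 0, nat_lit 1, nat_lit 0, nat_lit 2, nat_lit 0, nat_lit 0, nat_lit 0, nat_lit 2, nat_lit 1, nat_lit 1, nat_lit 1, nat_lit 2],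
  [nat_lit 1, nat_lit 0, nat_lit 1, nat_lit 0, nat_lit 0, nat_lit 1, nat_lit 0, nat_lit 0, nat_lit 0, nat_lit 0, nat_lit 0, nat_lit 1, nat_lit 2, nat_lit 1, nat_lit 1, nat_lit 0, nat_lit 1, nat_lit 0, nat_lit 1, nat_lit 2, nat_lit 0],
  [nat_lit 1, nat_lit 1, nat_lit 1, nat_lit 2, nat_lit 0, nat_lit 0, nat_lit 2, nat_lit 0, nat_lit 0, nat_lit 0, nat_lit 2, nat_lit 2, nat_lit 2, nat_lit 2, nat_lit 2, nat_lit 0, nat_lit 2, nat_lit 0, nat_lit 2],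
  [nat_lit 0, nat_lit 1, nat_lit 0, nat_lit 0, nat_lit 1, nat_lit 0, nat_lit 1, nat_lit 0, nat_lit 2, nat_lit 0, nat_lit 0, nat_lit 2, nat_lit 2, nat_lit 1, nat_lit 1, nat_lit 1, nat_lit 1, nat_lit 1, nat_lit 0, nat_lit 0, nat_lit 0, nat_lit 1],
  [nat_lit 0, nat_lit 0, nat_lit 1, nat_lit 2, nat_lit 1, nat_lit 1, nat_lit 2, nat_lit 2, nat_lit 1, nat_lit 1, nat_lit 0, nat_lit 0, nat_lit 2, nat_lit 1, nat_lit 2, nat_lit 2, nat_lit 2, nat_lit 2, nat_lit 2, nat_lit 0],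
  [nat_lit 0, nat_lit 2, nat_lit 2, nat_lit 2, nat_lit 2, nat_lit 0, nat_lit 2, nat_lit 1, nat_lit 0, nat_lit 0, nat_lit 0, nat_lit 2, nat_lit 0, nat_lit 1, nat_lit 0, nat_lit 1, nat_lit 2, nat_lit 0],
  [nat_lit 0, nat_lit 1, nat_lit 1, nat_lit 2, nat_lit 2, nat_lit 1, nat_lit 1, nat_lit 0, nat_lit 1, nat_lit 2, nat_lit 2, nat_lit 2, nat_lit 0, nat_lit 1, nat_lit 0, nat_lit 1, nat_lit 0, nat_lit 0, nat_lit 1, nat_lit 1, nat_lit 2]] a)) (sumL (fun β => Nat.xor (P a β) (apW (sbP F_P [24, 25, 65]) (nth [] [[nat_lit 1, nat_lit 1, nat_lit 1, nat_lit 1, nat_lit 1, nat_lit 2, nat_lit 0, nat_lit 2, nat_lit 2, nat_lit 1, nat_lit 2, nat_lit 1, nat_lit 0, nat_lit 1, nat_lit 1, nat_lit 1, nat_lit 0, nat_lit 1],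
  [nat_lit 0, nat_lit 0, nat_lit 1, nat_lit 1, nat_lit 0, nat_lit 0, nat_lit 2, nat_lit 2, nat_lit 0, nat_lit 2, nat_lit 1, nat_lit 1, nat_lit 0, nat_lit 0, nat_lit 2, nat_lit 1, nat_lit 0, nat_lit 2, nat_lit 1],
  [nat_lit 1, nat_lit 1, nat_lit 1, nat_lit 1, nat_lit 1, nat_lit 2, nat_lit 2, nat_lit 2, nat_lit 2, nat_lit 1, nat_lit 1, nat_lit 1, nat_lit 0, nat_lit 2, nat_lit 1, nat_lit 1, nat_lit 1, nat_lit 1, nat_lit 0, nat_lit 1, nat_lit 1],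
  [nat_lit 0, nat_lit 0, nat_lit 0, nat_lit 1, nat_lit 0, nat_lit 1, nat_lit 2, nat_lit 2, nat_lit 1, nat_lit 0, nat_lit 1, nat_lit 0, nat_lit 1, nat_lit 2, nat_lit 2, nat_lit 2, nat_lit 0, nat_lit 2, nat_lit 0, nat_lit 0],
  [nat_lit 0, nat_lit 0, nat_lit 1, nat_lit 0, nat_lit 1, nat_lit 2, nat_lit 1, nat_lit 0, nat_lit 0, nat_lit 2, nat_lit 0, nat_lit 1, nat_lit 2, nat_lit 2, nat_lit 1, nat_lit 2, nat_lit 0, nat_lit 0, nat_lit 1, nat_lit 2, nat_lit 1],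
  [nat_lit 1, nat_lit 0, nat_lit 2, nat_lit 2, nat_lit 0, nat_lit 0, nat_lit 1, nat_lit 1, nat_lit 0, nat_lit 1, nat_lit 0, nat_lit 2, nat_lit 0, nat_lit 0, nat_lit 0, nat_lit 2, nat_lit 1, nat_lit 1, nat_lit 1, nat_lit 2],
  [nat_lit 1, nat_lit 0, nat_lit 1, nat_lit 0, nat_lit 0, nat_lit 1, nat_lit 0, nat_lit 0, nat_lit 0, nat_lit 0, nat_lit 0, nat_lit 1, nat_lit 2, nat_lit 1, nat_lit 1, nat_lit 0, nat_lit 1, nat_lit 0, nat_lit 1, nat_lit 2, nat_lit 0],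
  [nat_lit 1, nat_lit 1, nat_lit 1, nat_lit 2, nat_lit 0, nat_lit 0, nat_lit 2, nat_lit 0, nat_lit 0, nat_lit 0, nat_lit 2, nat_lit 2, nat_lit 2, nat_lit 2, nat_lit 2, nat_lit 0, nat_lit 2, nat_lit 0, nat_lit 2],
  [nat_lit 0, nat_lit 1, nat_lit 0, nat_lit 0, nat_lit 1, nat_lit 0, nat_lit 1, nat_lit 0, nat_lit 2, nat_lit 0, nat_lit 0, nat_lit 2, nat_lit 2, nat_lit 1, nat_lit 1, nat_lit 1, nat_lit 1, nat_lit 1, nat_lit 0, nat_lit 0, nat_lit 0, nat_lit 1],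
  [nat_lit 0, nat_lit 0, nat_lit 1, nat_lit 2, nat_lit 1, nat_lit 1, nat_lit 2, nat_lit 2, nat_lit 1, nat_lit 1, nat_lit 0, nat_lit 0, nat_lit 2, nat_lit 1, nat_lit 2, nat_lit 2, nat_lit 2, nat_lit 2, nat_lit 2, nat_lit 0],
  [nat_lit 0, nat_lit 2, nat_lit 2, nat_lit 2, nat_lit 2, nat_lit 0, nat_lit 2, nat_lit 1, nat_lit 0, nat_lit 0, nat_lit 0, nat_lit 2, nat_lit 0, nat_lit 1, nat_lit 0, nat_lit 1, nat_lit 2, nat_lit 0],
  [nat_lit 0, nat_lit 1, nat_lit 1, nat_lit 2, nat_lit 2, nat_lit 1, nat_lit 1, nat_lit 0, nat_lit 1, nat_lit 2, nat_lit 2, nat_lit 2, nat_lit 0, nat_lit 1, nat_lit 0, nat_lit 1, nat_lit 0, nat_lit 0, nat_lit 1, nat_lit 1, nat_lit 2]] a) β)) B)) 0 12 = true := by decide +kernel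
theorem G2_k : allZ (fun a => Nat.add (ltAll 3 (nth [] [[nat_lit 0, nat_lit 0, nat_lit 0, nat_lit 0, nat_lit 0, nat_lit 1, nat_lit 1, nat_lit 2, nat_lit 1, nat_lit 1, nat_lit 2, nat_lit 2, nat_lit 2, nat_lit 0, nat_lit 0, nat_lit 1, nat_lit 2, nat_lit 0, nat_lit 0, nat_lit 0, nat_lit 0],
  [nat_lit 0, nat_lit 0, nat_lit 0, nat_lit 2, nat_lit 2, nat_lit 1, nat_lit 0, nat_lit 2, nat_lit 2, nat_lit 2, nat_lit 2, nat_lit 1, nat_lit 0, nat_lit 1, nat_lit 1, nat_lit 1, nat_lit 0, nat_lit 0, nat_lit 0],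
  [nat_lit 2, nat_lit 1, nat_lit 1, nat_lit 2, nat_lit 0, nat_lit 0, nat_lit 1, nat_lit 1, nat_lit 2, nat_lit 2, nat_lit 0, nat_lit 1, nat_lit 2, nat_lit 0, nat_lit 0, nat_lit 0, nat_lit 1, nat_lit 1, nat_lit 1, nat_lit 2],
  [nat_lit 1, nat_lit 2, nat_lit 2, nat_lit 1, nat_lit 0, nat_lit 1, nat_lit 2, nat_lit 1, nat_lit 0, nat_lit 2, nat_lit 1, nat_lit 1, nat_lit 0, nat_lit 2, nat_lit 1, nat_lit 0, nat_lit 2, nat_lit 0, nat_lit 0, nat_lit 1, nat_lit 0, nat_lit 0],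
  [nat_lit 0, nat_lit 0, nat_lit 1, nat_lit 0, nat_lit 0, nat_lit 1, nat_lit 0, nat_lit 1, nat_lit 2, nat_lit 1, nat_lit 1, nat_lit 2, nat_lit 2, nat_lit 1, nat_lit 2, nat_lit 0, nat_lit 0],
  [nat_lit 0, nat_lit 1, nat_lit 1, nat_lit 0, nat_lit 1, nat_lit 0, nat_lit 2, nat_lit 2, nat_lit 2, nat_lit 0, nat_lit 1, nat_lit 2, nat_lit 1],
  [nat_lit 0, nat_lit 0, nat_lit 1, nat_lit 1, nat_lit 0, nat_lit 2, nat_lit 2, nat_lit 1, nat_lit 0, nat_lit 0, nat_lit 0, nat_lit 1, nat_lit 2, nat_lit 2, nat_lit 1, nat_lit 1, nat_lit 2, nat_lit 0, nat_lit 0, nat_lit 2],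
  [nat_lit 1, nat_lit 2, nat_lit 1, nat_lit 2, nat_lit 0, nat_lit 1, nat_lit 0, nat_lit 1, nat_lit 0, nat_lit 0, nat_lit 0, nat_lit 0, nat_lit 0, nat_lit 1, nat_lit 1, nat_lit 2, nat_lit 1, nat_lit 2, nat_lit 0, nat_lit 0],
  [nat_lit 0, nat_lit 0, nat_lit 0, nat_lit 1, nat_lit 1, nat_lit 1, nat_lit 2, nat_lit 2, nat_lit 0, nat_lit 1, nat_lit 1, nat_lit 2, nat_lit 0, nat_lit 2, nat_lit 1, nat_lit 0, nat_lit 0, nat_lit 1, nat_lit 2, nat_lit 0, nat_lit 1],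
  [nat_lit 2, nat_lit 1, nat_lit 0, nat_lit 0, nat_lit 2, nat_lit 2, nat_lit 1, nat_lit 0, nat_lit 0, nat_lit 0, nat_lit 2, nat_lit 0, nat_lit 0, nat_lit 0, nat_lit 2, nat_lit 0, nat_lit 1, nat_lit 0, nat_lit 1, nat_lit 0],
  [nat_lit 1, nat_lit 2, nat_lit 1, nat_lit 2, nat_lit 2, nat_lit 0, nat_lit 0, nat_lit 1, nat_lit 1, nat_lit 2, nat_lit 0, nat_lit 2, nat_lit 2, nat_lit 0, nat_lit 0, nat_lit 2, nat_lit 0, nat_lit 0, nat_lit 2, nat_lit 1],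
  [nat_lit 0, nat_lit 0, nat_lit 1, nat_lit 1, nat_lit 1, nat_lit 2, nat_lit 2, nat_lit 0, nat_lit 1, nat_lit 2, nat_lit 2, nat_lit 2, nat_lit 0, nat_lit 2, nat_lit 0, nat_lit 2, nat_lit 1, nat_lit 0, nat_lit 2, nat_lit 0, nat_lit 1]] a)) (sumL (fun β => Nat.xor (P a β) (apW (sbP F_P [24, 25, 34]) (nth [] [[nat_lit 0, nat_lit 0, nat_lit 0, nat_lit 0, nat_lit 0, nat_lit 1, nat_lit 1, nat_lit 2, nat_lit 1, nat_lit 1, nat_lit 2, nat_lit 2, nat_lit 2, nat_lit 0, nat_lit 0, nat_lit 1, nat_lit 2, nat_lit 0, nat_lit 0, nat_lit 0, nat_lit 0],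
  [nat_lit 0, nat_lit 0, nat_lit 0, nat_lit 2, nat_lit 2, nat_lit 1, nat_lit 0, nat_lit 2, nat_lit 2, nat_lit 2, nat_lit 2, nat_lit 1, nat_lit 0, nat_lit 1, nat_lit 1, nat_lit 1, nat_lit 0, nat_lit 0, nat_lit 0],
  [nat_lit 2, nat_lit 1, nat_lit 1, nat_lit 2, nat_lit 0, nat_lit 0, nat_lit 1, nat_lit 1, nat_lit 2, nat_lit 2, nat_lit 0, nat_lit 1, nat_lit 2, nat_lit 0, nat_lit 0, nat_lit 0, nat_lit 1, nat_lit 1, nat_lit 1, nat_lit 2],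
  [nat_lit 1, nat_lit 2, nat_lit 2, nat_lit 1, nat_lit 0, nat_lit 1, nat_lit 2, nat_lit 1, nat_lit 0, nat_lit 2, nat_lit 1, nat_lit 1, nat_lit 0, nat_lit 2, nat_lit 1, nat_lit 0, nat_lit 2, nat_lit 0, nat_lit 0, nat_lit 1, nat_lit 0, nat_lit 0],
  [nat_lit 0, nat_lit 0, nat_lit 1, nat_lit 0, nat_lit 0, nat_lit 1, nat_lit 0, nat_lit 1, nat_lit 2, nat_lit 1, nat_lit 1, nat_lit 2, nat_lit 2, nat_lit 1, nat_lit 2, nat_lit 0, nat_lit 0],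
  [nat_lit 0, nat_lit 1, nat_lit 1, nat_lit 0, nat_lit 1, nat_lit 0, nat_lit 2, nat_lit 2, nat_lit 2, nat_lit 0, nat_lit 1, nat_lit 2, nat_lit 1],
  [nat_lit 0, nat_lit 0, nat_lit 1, nat_lit 1, nat_lit 0, nat_lit 2, nat_lit 2, nat_lit 1, nat_lit 0, nat_lit 0, nat_lit 0, nat_lit 1, nat_lit 2, nat_lit 2, nat_lit 1, nat_lit 1, nat_lit 2, nat_lit 0, nat_lit 0, nat_lit 2],
  [nat_lit 1, nat_lit 2, nat_lit 1, nat_lit 2, nat_lit 0, nat_lit 1, nat_lit 0, nat_lit 1, nat_lit 0, nat_lit 0, nat_lit 0, nat_lit 0, nat_lit 0, nat_lit 1, nat_lit 1, nat_lit 2, nat_lit 1, nat_lit 2, nat_lit 0, nat_lit 0],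
  [nat_lit 0, nat_lit 0, nat_lit 0, nat_lit 1, nat_lit 1, nat_lit 1, nat_lit 2, nat_lit 2, nat_lit 0, nat_lit 1, nat_lit 1, nat_lit 2, nat_lit 0, nat_lit 2, nat_lit 1, nat_lit 0, nat_lit 0, nat_lit 1, nat_lit 2, nat_lit 0, nat_lit 1],
  [nat_lit 2, nat_lit 1, nat_lit 0, nat_lit 0, nat_lit 2, nat_lit 2, nat_lit 1, nat_lit 0, nat_lit 0, nat_lit 0, nat_lit 2, nat_lit 0, nat_lit 0, nat_lit 0, nat_lit 2, nat_lit 0, nat_lit 1, nat_lit 0, nat_lit 1, nat_lit 0],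
  [nat_lit 1, nat_lit 2, nat_lit 1, nat_lit 2, nat_lit 2, nat_lit 0, nat_lit 0, nat_lit 1, nat_lit 1, nat_lit 2, nat_lit 0, nat_lit 2, nat_lit 2, nat_lit 0, nat_lit 0, nat_lit 2, nat_lit 0, nat_lit 0, nat_lit 2, nat_lit 1],
  [nat_lit 0, nat_lit 0, nat_lit 1, nat_lit 1, nat_lit 1, nat_lit 2, nat_lit 2, nat_lit 0, nat_lit 1, nat_lit 2, nat_lit 2, nat_lit 2, nat_lit 0, nat_lit 2, nat_lit 0, nat_lit 2, nat_lit 1, nat_lit 0, nat_lit 2, nat_lit 0, nat_lit 1]] a) β)) B)) 0 12 = true := by decide +kernel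
theorem G3_k : allZ (fun a => Nat.add (ltAll 3 (nth [] [[nat_lit 1, nat_lit 2, nat_lit 2, nat_lit 2, nat_lit 1, nat_lit 2, nat_lit 0, nat_lit 0, nat_lit 1, nat_lit 1, nat_lit 2, nat_lit 1, nat_lit 0, nat_lit 0, nat_lit 2, nat_lit 1, nat_lit 0, nat_lit 0, nat_lit 2, nat_lit 0],
  [nat_lit 2, nat_lit 0, nat_lit 0, nat_lit 1, nat_lit 2, nat_lit 2, nat_lit 0, nat_lit 1, nat_lit 1, nat_lit 1, nat_lit 2, nat_lit 0, nat_lit 2, nat_lit 0, nat_lit 2, nat_lit 1, nat_lit 1, nat_lit 1, nat_lit 1],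
  [nat_lit 1, nat_lit 0, nat_lit 0, nat_lit 0, nat_lit 1, nat_lit 0, nat_lit 1, nat_lit 0, nat_lit 0, nat_lit 2, nat_lit 2, nat_lit 1, nat_lit 2, nat_lit 2, nat_lit 1, nat_lit 1, nat_lit 2, nat_lit 1, nat_lit 0, nat_lit 1, nat_lit 1],
  [nat_lit 2, nat_lit 0, nat_lit 2, nat_lit 2, nat_lit 0, nat_lit 2, nat_lit 0, nat_lit 0, nat_lit 2, nat_lit 1, nat_lit 2, nat_lit 1, nat_lit 2, nat_lit 1, nat_lit 2, nat_lit 0, nat_lit 0, nat_lit 0, nat_lit 1, nat_lit 0, nat_lit 1],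
  [nat_lit 0, nat_lit 0, nat_lit 1, nat_lit 0, nat_lit 1, nat_lit 2, nat_lit 2, nat_lit 2, nat_lit 2, nat_lit 1, nat_lit 1, nat_lit 1, nat_lit 0, nat_lit 2, nat_lit 0, nat_lit 1, nat_lit 1, nat_lit 2, nat_lit 0, nat_lit 2],
  [nat_lit 2, nat_lit 2, nat_lit 0, nat_lit 1, nat_lit 2, nat_lit 2, nat_lit 2, nat_lit 0, nat_lit 2, nat_lit 2, nat_lit 1, nat_lit 2, nat_lit 1, nat_lit 0, nat_lit 2, nat_lit 0, nat_lit 1, nat_lit 2, nat_lit 0],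
  [nat_lit 0, nat_lit 0, nat_lit 1, nat_lit 0, nat_lit 1, nat_lit 1, nat_lit 2, nat_lit 2, nat_lit 1, nat_lit 0, nat_lit 0],
  [nat_lit 2, nat_lit 2, nat_lit 2, nat_lit 0, nat_lit 0, nat_lit 1, nat_lit 2, nat_lit 1, nat_lit 0, nat_lit 1, nat_lit 0, nat_lit 1, nat_lit 1],
  [nat_lit 0, nat_lit 1, nat_lit 0, nat_lit 0, nat_lit 1, nat_lit 2, nat_lit 0, nat_lit 0, nat_lit 2, nat_lit 0, nat_lit 1, nat_lit 2, nat_lit 1, nat_lit 1, nat_lit 2, nat_lit 2, nat_lit 1, nat_lit 1, nat_lit 0, nat_lit 1, nat_lit 1, nat_lit 0],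
  [nat_lit 1, nat_lit 1, nat_lit 2, nat_lit 2, nat_lit 1, nat_lit 2, nat_lit 2, nat_lit 0, nat_lit 2, nat_lit 1, nat_lit 2, nat_lit 1, nat_lit 1, nat_lit 2, nat_lit 1, nat_lit 2, nat_lit 2, nat_lit 0, nat_lit 0, nat_lit 1],
  [nat_lit 0, nat_lit 2, nat_lit 0, nat_lit 1, nat_lit 2, nat_lit 1, nat_lit 0, nat_lit 0, nat_lit 1, nat_lit 2, nat_lit 2, nat_lit 1, nat_lit 0, nat_lit 1, nat_lit 2, nat_lit 1, nat_lit 1, nat_lit 0],
  [nat_lit 2, nat_lit 0, nat_lit 0, nat_lit 2, nat_lit 0, nat_lit 0, nat_lit 0, nat_lit 2, nat_lit 1, nat_lit 2, nat_lit 1, nat_lit 1, nat_lit 2, nat_lit 1, nat_lit 2, nat_lit 1, nat_lit 1, nat_lit 2, nat_lit 2, nat_lit 0]] a)) (sumL (fun β => Nat.xor (P a β) (apW (sbP F_P [24, 25, 83]) (nth [] [[nat_lit 1, nat_lit 2, nat_lit 2, nat_lit 2, nat_lit 1, nat_lit 2, nat_lit 0, nat_lit 0, nat_lit 1, nat_lit 1, nat_lit 2, nat_lit 1, nat_lit 0, nat_lit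 0, nat_lit 2, nat_lit 1, nat_lit 0, nat_lit 0, nat_lit 2, nat_lit 0],
  [nat_lit 2, nat_lit 0, nat_lit 0, nat_lit 1, nat_lit 2, nat_lit 2, nat_lit 0, nat_lit 1, nat_lit 1, nat_lit 1, nat_lit 2, nat_lit 0, nat_lit 2, nat_lit 0, nat_lit 2, nat_lit 1, nat_lit 1, nat_lit 1, nat_lit 1],
  [nat_lit 1, nat_lit 0, nat_lit 0, nat_lit 0, nat_lit 1, nat_lit 0, nat_lit 1, nat_lit 0, nat_lit 0, nat_lit 2, nat_lit 2, nat_lit 1, nat_lit 2, nat_lit 2, nat_lit 1, nat_lit 1, nat_lit 2, nat_lit 1, nat_lit 0, nat_lit 1, nat_lit 1],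
  [nat_lit 2, nat_lit 0, nat_lit 2, nat_lit 2, nat_lit 0, nat_lit 2, nat_lit 0, nat_lit 0, nat_lit 2, nat_lit 1, nat_lit 2, nat_lit 1, nat_lit 2, nat_lit 1, nat_lit 2, nat_lit 0, nat_lit 0, nat_lit 0, nat_lit 1, nat_lit 0, nat_lit 1],
  [nat_lit 0, nat_lit 0, nat_lit 1, nat_lit 0, nat_lit 1, nat_lit 2, nat_lit 2, nat_lit 2, nat_lit 2, nat_lit 1, nat_lit 1, nat_lit 1, nat_lit 0, nat_lit 2, nat_lit 0, nat_lit 1, nat_lit 1, nat_lit 2, nat_lit 0, nat_lit 2],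
  [nat_lit 2, nat_lit 2, nat_lit 0, nat_lit 1, nat_lit 2, nat_lit 2, nat_lit 2, nat_lit 0, nat_lit 2, nat_lit 2, nat_lit 1, nat_lit 2, nat_lit 1, nat_lit 0, nat_lit 2, nat_lit 0, nat_lit 1, nat_lit 2, nat_lit 0],
  [nat_lit 0, nat_lit 0, nat_lit 1, nat_lit 0, nat_lit 1, nat_lit 1, nat_lit 2, nat_lit 2, nat_lit 1, nat_lit 0, nat_lit 0],
  [nat_lit 2, nat_lit 2, nat_lit 2, nat_lit 0, nat_lit 0, nat_lit 1, nat_lit 2, nat_lit 1, nat_lit 0, nat_lit 1, nat_lit 0, nat_lit 1, nat_lit 1],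
  [nat_lit 0, nat_lit 1, nat_lit 0, nat_lit 0, nat_lit 1, nat_lit 2, nat_lit 0, nat_lit 0, nat_lit 2, nat_lit 0, nat_lit 1, nat_lit 2, nat_lit 1, nat_lit 1, nat_lit 2, nat_lit 2, nat_lit 1, nat_lit 1, nat_lit 0, nat_lit 1, nat_lit 1, nat_lit 0],
  [nat_lit 1, nat_lit 1, nat_lit 2, nat_lit 2, nat_lit 1, nat_lit 2, nat_lit 2, nat_lit 0, nat_lit 2, nat_lit 1, nat_lit 2, nat_lit 1, nat_lit 1, nat_lit 2, nat_lit 1, nat_lit 2, nat_lit 2, nat_lit 0, nat_lit 0, nat_lit 1],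
  [nat_lit 0, nat_lit 2, nat_lit 0, nat_lit 1, nat_lit 2, nat_lit 1, nat_lit 0, nat_lit 0, nat_lit 1, nat_lit 2, nat_lit 2, nat_lit 1, nat_lit 0, nat_lit 1, nat_lit 2, nat_lit 1, nat_lit 1, nat_lit 0],
  [nat_lit 2, nat_lit 0, nat_lit 0, nat_lit 2, nat_lit 0, nat_lit 0, nat_lit 0, nat_lit 2, nat_lit 1, nat_lit 2, nat_lit 1, nat_lit 1, nat_lit 2, nat_lit 1, nat_lit 2, nat_lit 1, nat_lit 1, nat_lit 2, nat_lit 2, nat_lit 0]] a) β)) B)) 0 12 = true := by decide +kernel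
theorem Gf_k : allZ (fun a => Nat.add (ltAll 3 (nth [] [[nat_lit 2, nat_lit 0, nat_lit 0, nat_lit 0, nat_lit 0, nat_lit 1, nat_lit 2, nat_lit 0, nat_lit 0, nat_lit 1, nat_lit 1, nat_lit 2, nat_lit 2, nat_lit 2, nat_lit 1, nat_lit 2, nat_lit 0, nat_lit 1, nat_lit 0, nat_lit 1],
  [nat_lit 2, nat_lit 2, nat_lit 2, nat_lit 1, nat_lit 2, nat_lit 0, nat_lit 2, nat_lit 2, nat_lit 1, nat_lit 2, nat_lit 1, nat_lit 0, nat_lit 1, nat_lit 1, nat_lit 2, nat_lit 2, nat_lit 0, nat_lit 2, nat_lit 2, nat_lit 0, nat_lit 0],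
  [nat_lit 0, nat_lit 1, nat_lit 2, nat_lit 2, nat_lit 0, nat_lit 1, nat_lit 1, nat_lit 2, nat_lit 1, nat_lit 2, nat_lit 2, nat_lit 0, nat_lit 1, nat_lit 0, nat_lit 1, nat_lit 2, nat_lit 0, nat_lit 2, nat_lit 1, nat_lit 0, nat_lit 0],
  [nat_lit 0, nat_lit 2, nat_lit 1, nat_lit 2, nat_lit 0, nat_lit 1, nat_lit 1, nat_lit 0, nat_lit 2, nat_lit 0, nat_lit 1, nat_lit 2, nat_lit 0, nat_lit 0, nat_lit 0, nat_lit 0, nat_lit 0, nat_lit 0, nat_lit 2, nat_lit 1],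
  [nat_lit 0, nat_lit 2, nat_lit 1, nat_lit 2, nat_lit 2, nat_lit 1, nat_lit 1, nat_lit 1, nat_lit 1, nat_lit 1, nat_lit 0, nat_lit 1, nat_lit 0, nat_lit 0, nat_lit 2, nat_lit 2, nat_lit 0, nat_lit 1, nat_lit 1, nat_lit 2],
  [nat_lit 0, nat_lit 2, nat_lit 0, nat_lit 0, nat_lit 2, nat_lit 1, nat_lit 1, nat_lit 1, nat_lit 1, nat_lit 0, nat_lit 2, nat_lit 2, nat_lit 2, nat_lit 1, nat_lit 2, nat_lit 0, nat_lit 2, nat_lit 0, nat_lit 0],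
  [nat_lit 2, nat_lit 0, nat_lit 1, nat_lit 2, nat_lit 1, nat_lit 0, nat_lit 1, nat_lit 0, nat_lit 2, nat_lit 2, nat_lit 0, nat_lit 2, nat_lit 2, nat_lit 2, nat_lit 2, nat_lit 2, nat_lit 1, nat_lit 2, nat_lit 2],
  [nat_lit 1, nat_lit 2, nat_lit 1, nat_lit 0, nat_lit 0, nat_lit 2, nat_lit 2, nat_lit 2, nat_lit 2, nat_lit 2, nat_lit 2, nat_lit 1, nat_lit 0, nat_lit 2, nat_lit 2, nat_lit 1, nat_lit 2, nat_lit 2],
  [nat_lit 0, nat_lit 0, nat_lit 1, nat_lit 1, nat_lit 2, nat_lit 2, nat_lit 1, nat_lit 0, nat_lit 0, nat_lit 1, nat_lit 1, nat_lit 0, nat_lit 2, nat_lit 2, nat_lit 1, nat_lit 0, nat_lit 0, nat_lit 0, nat_lit 1, nat_lit 2, nat_lit 2, nat_lit 2],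
  [nat_lit 1, nat_lit 2, nat_lit 0, nat_lit 1, nat_lit 1, nat_lit 1, nat_lit 1, nat_lit 1, nat_lit 0, nat_lit 0, nat_lit 2, nat_lit 0, nat_lit 2, nat_lit 0, nat_lit 1, nat_lit 0, nat_lit 1, nat_lit 1, nat_lit 1, nat_lit 0],
  [nat_lit 1, nat_lit 0, nat_lit 0, nat_lit 0, nat_lit 0, nat_lit 2, nat_lit 0, nat_lit 0, nat_lit 0, nat_lit 1, nat_lit 0, nat_lit 2, nat_lit 2, nat_lit 1, nat_lit 1, nat_lit 1, nat_lit 1, nat_lit 0, nat_lit 1, nat_lit 1],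
  [nat_lit 0, nat_lit 1, nat_lit 0, nat_lit 2, nat_lit 2, nat_lit 1, nat_lit 1, nat_lit 2, nat_lit 1, nat_lit 0, nat_lit 2, nat_lit 1, nat_lit 2, nat_lit 0, nat_lit 1, nat_lit 1, nat_lit 1, nat_lit 2]] a)) (sumL (fun β => Nat.xor (P a β) (apW (sbP F_P [60, 61, 62]) (nth [] [[nat_lit 2, nat_lit 0, nat_lit 0, nat_lit 0, nat_lit 0, nat_lit 1, nat_lit 2, nat_lit 0, nat_lit 0, nat_lit 1, nat_lit 1, nat_lit 2, nat_lit 2, nat_lit 2, nat_lit 1, nat_lit 2, nat_lit 0, nat_lit 1, nat_lit 0, nat_lit 1],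
  [nat_lit 2, nat_lit 2, nat_lit 2, nat_lit 1, nat_lit 2, nat_lit 0, nat_lit 2, nat_lit 2, nat_lit 1, nat_lit 2, nat_lit 1, nat_lit 0, nat_lit 1, nat_lit 1, nat_lit 2, nat_lit 2, nat_lit 0, nat_lit 2, nat_lit 2, nat_lit 0, nat_lit 0],
  [nat_lit 0, nat_lit 1, nat_lit 2, nat_lit 2, nat_lit 0, nat_lit 1, nat_lit 1, nat_lit 2, nat_lit 1, nat_lit 2, nat_lit 2, nat_lit 0, nat_lit 1, nat_lit 0, nat_lit 1, nat_lit 2, nat_lit 0, nat_lit 2, nat_lit 1, nat_lit 0, nat_lit 0],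
  [nat_lit 0, nat_lit 2, nat_lit 1, nat_lit 2, nat_lit 0, nat_lit 1, nat_lit 1, nat_lit 0, nat_lit 2, nat_lit 0, nat_lit 1, nat_lit 2, nat_lit 0, nat_lit 0, nat_lit 0, nat_lit 0, nat_lit 0, nat_lit 0, nat_lit 2, nat_lit 1],
  [nat_lit 0, nat_lit 2, nat_lit 1, nat_lit 2, nat_lit 2, nat_lit 1, nat_lit 1, nat_lit 1, nat_lit 1, nat_lit 1, nat_lit 0, nat_lit 1, nat_lit 0, nat_lit 0, nat_lit 2, nat_lit 2, nat_lit 0, nat_lit 1, nat_lit 1, nat_lit 2],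
  [nat_lit 0, nat_lit 2, nat_lit 0, nat_lit 0, nat_lit 2, nat_lit 1, nat_lit 1, nat_lit 1, nat_lit 1, nat_lit 0, nat_lit 2, nat_lit 2, nat_lit 2, nat_lit 1, nat_lit 2, nat_lit 0, nat_lit 2, nat_lit 0, nat_lit 0],
  [nat_lit 2, nat_lit 0, nat_lit 1, nat_lit 2, nat_lit 1, nat_lit 0, nat_lit 1, nat_lit 0, nat_lit 2, nat_lit 2, nat_lit 0, nat_lit 2, nat_lit 2, nat_lit 2, nat_lit 2, nat_lit 2, nat_lit 1, nat_lit 2, nat_lit 2],
  [nat_lit 1, nat_lit 2, nat_lit 1, nat_lit 0, nat_lit 0, nat_lit 2, nat_lit 2, nat_lit 2, nat_lit 2, nat_lit 2, nat_lit 2, nat_lit 1, nat_lit 0, nat_lit 2, nat_lit 2, nat_lit 1, nat_lit 2, nat_lit 2],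
  [nat_lit 0, nat_lit 0, nat_lit 1, nat_lit 1, nat_lit 2, nat_lit 2, nat_lit 1, nat_lit 0, nat_lit 0, nat_lit 1, nat_lit 1, nat_lit 0, nat_lit 2, nat_lit 2, nat_lit 1, nat_lit 0, nat_lit 0, nat_lit 0, nat_lit 1, nat_lit 2, nat_lit 2, nat_lit 2],
  [nat_lit 1, nat_lit 2, nat_lit 0, nat_lit 1, nat_lit 1, nat_lit 1, nat_lit 1, nat_lit 1, nat_lit 0, nat_lit 0, nat_lit 2, nat_lit 0, nat_lit 2, nat_lit 0, nat_lit 1, nat_lit 0, nat_lit 1, nat_lit 1, nat_lit 1, nat_lit 0],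
  [nat_lit 1, nat_lit 0, nat_lit 0, nat_lit 0, nat_lit 0, nat_lit 2, nat_lit 0, nat_lit 0, nat_lit 0, nat_lit 1, nat_lit 0, nat_lit 2, nat_lit 2, nat_lit 1, nat_lit 1, nat_lit 1, nat_lit 1, nat_lit 0, nat_lit 1, nat_lit 1],
  [nat_lit 0, nat_lit 1, nat_lit 0, nat_lit 2, nat_lit 2, nat_lit 1, nat_lit 1, nat_lit 2, nat_lit 1, nat_lit 0, nat_lit 2, nat_lit 1, nat_lit 2, nat_lit 0, nat_lit 1, nat_lit 1, nat_lit 1, nat_lit 2]] a) β)) B)) 0 12 = true := by decide +kernel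
theorem GS_k : allZ (fun a => Nat.add (ltAll 3 (nth [] [[nat_lit 0, nat_lit 1, nat_lit 2, nat_lit 0, nat_lit 2, nat_lit 1, nat_lit 0, nat_lit 2, nat_lit 0, nat_lit 1, nat_lit 0, nat_lit 2, nat_lit 0, nat_lit 1, nat_lit 2, nat_lit 0, nat_lit 1, nat_lit 2, nat_lit 0, nat_lit 1, nat_lit 2, nat_lit 1, nat_lit 2, nat_lit 0, nat_lit 2, nat_lit 1, nat_lit 0, nat_lit 2, nat_lit 1, nat_lit 2, nat_lit 0, nat_lit 2, nat_lit 1, nat_lit 0, nat_lit 2, nat_lit 0, nat_lit 1, nat_lit 2, nat_lit 1, nat_lit 0, nat_lit 2, nat_lit 0, nat_lit 1, nat_lit 2, nat_lit 0, nat_lit 1, nat_lit 2, nat_lit 0],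
  [nat_lit 0, nat_lit 2, nat_lit 1, nat_lit 0, nat_lit 2, nat_lit 1, nat_lit 0, nat_lit 2, nat_lit 0, nat_lit 1, nat_lit 2, nat_lit 1, nat_lit 0, nat_lit 2, nat_lit 0, nat_lit 1, nat_lit 2, nat_lit 0, nat_lit 2, nat_lit 1, nat_lit 2, nat_lit 0, nat_lit 1, nat_lit 2, nat_lit 0, nat_lit 1, nat_lit 2, nat_lit 1, nat_lit 2, nat_lit 0, nat_lit 2, nat_lit 1, nat_lit 0, nat_lit 2, nat_lit 1, nat_lit 0, nat_lit 2, nat_lit 0, nat_lit 1, nat_lit 0, nat_lit 2, nat_lit 0, nat_lit 1, nat_lit 2, nat_lit 0, nat_lit 2, nat_lit 1, nat_lit 0],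
  [nat_lit 1, nat_lit 2, nat_lit 0, nat_lit 2, nat_lit 1, nat_lit 2, nat_lit 0, nat_lit 1, nat_lit 2, nat_lit 1, nat_lit 0, nat_lit 2, nat_lit 0, nat_lit 1, nat_lit 2, nat_lit 0, nat_lit 1, nat_lit 0, nat_lit 2, nat_lit 0, nat_lit 1, nat_lit 0, nat_lit 2, nat_lit 0, nat_lit 2, nat_lit 1, nat_lit 0, nat_lit 2, nat_lit 1, nat_lit 0, nat_lit 2, nat_lit 1, nat_lit 0, nat_lit 2, nat_lit 0, nat_lit 1, nat_lit 2, nat_lit 0, nat_lit 1, nat_lit 2, nat_lit 0, nat_lit 1, nat_lit 0, nat_lit 2, nat_lit 1, nat_lit 0],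
  [nat_lit 0, nat_lit 1, nat_lit 2, nat_lit 0, nat_lit 1, nat_lit 0, nat_lit 2, nat_lit 1, nat_lit 0, nat_lit 2, nat_lit 1, nat_lit 0, nat_lit 2, nat_lit 0, nat_lit 1, nat_lit 2, nat_lit 0, nat_lit 1, nat_lit 2, nat_lit 0, nat_lit 1, nat_lit 0, nat_lit 2, nat_lit 0, nat_lit 2, nat_lit 1, nat_lit 0, nat_lit 2, nat_lit 0, nat_lit 1, nat_lit 0, nat_lit 2, nat_lit 1, nat_lit 0, nat_lit 2, nat_lit 0, nat_lit 1, nat_lit 2, nat_lit 1, nat_lit 0, nat_lit 2, nat_lit 1, nat_lit 2, nat_lit 0, nat_lit 2, nat_lit 1],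
  [nat_lit 0, nat_lit 1, nat_lit 0, nat_lit 2, nat_lit 1, nat_lit 0, nat_lit 2, nat_lit 0, nat_lit 1, nat_lit 2, nat_lit 1, nat_lit 2, nat_lit 0, nat_lit 1, nat_lit 2, nat_lit 0, nat_lit 1, nat_lit 2, nat_lit 1, nat_lit 0, nat_lit 2, nat_lit 0, nat_lit 1, nat_lit 2, nat_lit 0, nat_lit 2, nat_lit 1, nat_lit 2, nat_lit 0, nat_lit 2, nat_lit 1, nat_lit 2, nat_lit 0, nat_lit 2, nat_lit 1, nat_lit 0, nat_lit 2, nat_lit 1, nat_lit 0, nat_lit 2],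
  [nat_lit 2, nat_lit 0, nat_lit 1, nat_lit 2, nat_lit 0, nat_lit 1, nat_lit 2, nat_lit 0, nat_lit 2, nat_lit 1, nat_lit 2, nat_lit 0, nat_lit 2, nat_lit 1, nat_lit 2, nat_lit 0, nat_lit 2, nat_lit 1, nat_lit 0, nat_lit 2, nat_lit 0, nat_lit 1, nat_lit 2, nat_lit 1, nat_lit 0, nat_lit 2, nat_lit 1, nat_lit 0, nat_lit 2, nat_lit 1, nat_lit 2, nat_lit 1, nat_lit 0, nat_lit 2, nat_lit 0, nat_lit 1, nat_lit 2, nat_lit 0, nat_lit 1, nat_lit 0],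
  [nat_lit 1, nat_lit 2, nat_lit 0, nat_lit 1, nat_lit 2, nat_lit 0, nat_lit 1, nat_lit 0, nat_lit 2, nat_lit 0, nat_lit 2, nat_lit 1, nat_lit 0, nat_lit 2, nat_lit 1, nat_lit 2, nat_lit 0, nat_lit 1, nat_lit 2, nat_lit 1, nat_lit 2, nat_lit 0, nat_lit 1, nat_lit 2, nat_lit 0, nat_lit 2, nat_lit 1, nat_lit 2, nat_lit 0, nat_lit 1, nat_lit 2, nat_lit 0, nat_lit 2, nat_lit 1, nat_lit 2, nat_lit 0, nat_lit 1, nat_lit 0, nat_lit 2, nat_lit 1],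
  [nat_lit 1, nat_lit 2, nat_lit 0, nat_lit 1, nat_lit 0, nat_lit 2, nat_lit 1, nat_lit 2, nat_lit 0, nat_lit 2, nat_lit 1, nat_lit 0, nat_lit 2, nat_lit 1, nat_lit 0, nat_lit 2, nat_lit 0, nat_lit 2, nat_lit 1, nat_lit 0, nat_lit 2, nat_lit 1, nat_lit 2, nat_lit 0, nat_lit 2, nat_lit 1, nat_lit 2, nat_lit 0, nat_lit 1, nat_lit 2, nat_lit 0, nat_lit 2, nat_lit 0, nat_lit 1, nat_lit 0, nat_lit 2, nat_lit 1, nat_lit 0, nat_lit 2, nat_lit 1],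
  [nat_lit 0, nat_lit 2, nat_lit 0, nat_lit 2, nat_lit 1, nat_lit 2, nat_lit 0, nat_lit 2, nat_lit 1, nat_lit 2, nat_lit 0, nat_lit 2, nat_lit 1, nat_lit 2, nat_lit 0, nat_lit 1, nat_lit 2, nat_lit 0, nat_lit 1, nat_lit 2, nat_lit 1, nat_lit 2, nat_lit 0, nat_lit 2, nat_lit 1, nat_lit 2, nat_lit 0, nat_lit 1, nat_lit 2, nat_lit 1, nat_lit 2, nat_lit 0, nat_lit 2, nat_lit 1, nat_lit 2, nat_lit 0, nat_lit 2, nat_lit 0, nat_lit 1, nat_lit 0, nat_lit 2, nat_lit 1, nat_lit 0, nat_lit 2, nat_lit 1, nat_lit 0, nat_lit 2],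
  [nat_lit 2, nat_lit 0, nat_lit 1, nat_lit 2, nat_lit 0, nat_lit 1, nat_lit 2, nat_lit 0, nat_lit 1, nat_lit 0, nat_lit 2, nat_lit 0, nat_lit 2, nat_lit 1, nat_lit 2, nat_lit 0, nat_lit 1, nat_lit 2, nat_lit 1, nat_lit 2, nat_lit 0, nat_lit 2, nat_lit 1, nat_lit 2, nat_lit 0, nat_lit 1, nat_lit 2, nat_lit 1, nat_lit 2, nat_lit 0, nat_lit 2, nat_lit 1, nat_lit 0, nat_lit 2, nat_lit 1, nat_lit 2, nat_lit 0, nat_lit 2, nat_lit 1, nat_lit 2, nat_lit 0, nat_lit 2, nat_lit 1, nat_lit 2, nat_lit 0, nat_lit 2, nat_lit 0],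
  [nat_lit 1, nat_lit 2, nat_lit 1, nat_lit 2, nat_lit 0, nat_lit 1, nat_lit 2, nat_lit 1, nat_lit 2, nat_lit 0, nat_lit 2, nat_lit 1, nat_lit 2, nat_lit 0, nat_lit 2, nat_lit 1, nat_lit 0, nat_lit 2, nat_lit 1, nat_lit 2, nat_lit 0, nat_lit 1, nat_lit 2, nat_lit 1, nat_lit 0, nat_lit 2, nat_lit 1, nat_lit 0, nat_lit 2, nat_lit 0, nat_lit 1, nat_lit 0, nat_lit 2, nat_lit 0, nat_lit 1, nat_lit 0, nat_lit 2, nat_lit 0, nat_lit 1, nat_lit 2, nat_lit 1],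
  [nat_lit 1, nat_lit 2, nat_lit 1, nat_lit 0, nat_lit 2, nat_lit 0, nat_lit 1, nat_lit 0, nat_lit 2, nat_lit 0, nat_lit 1, nat_lit 0, nat_lit 2, nat_lit 0, nat_lit 1, nat_lit 2, nat_lit 0, nat_lit 1, nat_lit 2, nat_lit 1, nat_lit 0, nat_lit 2, nat_lit 1, nat_lit 2, nat_lit 0, nat_lit 1, nat_lit 2, nat_lit 0, nat_lit 2, nat_lit 1, nat_lit 2, nat_lit 0, nat_lit 2, nat_lit 1, nat_lit 2, nat_lit 1, nat_lit 0, nat_lit 2, nat_lit 1, nat_lit 2, nat_lit 1]] a)) (sumL (fun β => Nat.xor (P a β) (apW (sbP F_P [0, 53, 54]) (nth [] [[nat_lit 0, nat_lit 1, nat_lit 2, nat_lit 0, nat_lit 2, nat_lit 1, nat_lit 0, nat_lit 2, nat_lit 0, nat_lit 1, nat_lit 0, nat_lit 2, nat_lit 0, nat_lit 1, nat_lit 2, nat_lit 0, nat_lit 1, nat_lit 2, nat_lit 0, nat_lit 1, nat_lit 2, nat_lit 1, nat_lit 2, nat_lit 0, nat_lit 2, nat_lit 1, nat_lit 0, nat_lit 2, nat_lit 1, nat_lit 2, nat_lit 0, nat_lit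 2, nat_lit 1, nat_lit 0, nat_lit 2, nat_lit 0, nat_lit 1, nat_lit 2, nat_lit 1, nat_lit 0, nat_lit 2, nat_lit 0, nat_lit 1, nat_lit 2, nat_lit 0, nat_lit 1, nat_lit 2, nat_lit 0],
  [nat_lit 0, nat_lit 2, nat_lit 1, nat_lit 0, nat_lit 2, nat_lit 1, nat_lit 0, nat_lit 2, nat_lit 0, nat_lit 1, nat_lit 2, nat_lit 1, nat_lit 0, nat_lit 2, nat_lit 0, nat_lit 1, nat_lit 2, nat_lit 0, nat_lit 2, nat_lit 1, nat_lit 2, nat_lit 0, nat_lit 1, nat_lit 2, nat_lit 0, nat_lit 1, nat_lit 2, nat_lit 1, nat_lit 2, nat_lit 0, nat_lit 2, nat_lit 1, nat_lit 0, nat_lit 2, nat_lit 1, nat_lit 0, nat_lit 2, nat_lit 0, nat_lit 1, nat_lit 0, nat_lit 2, nat_lit 0, nat_lit 1, nat_lit 2, nat_lit 0, nat_lit 2, nat_lit 1, nat_lit 0],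
  [nat_lit 1, nat_lit 2, nat_lit 0, nat_lit 2, nat_lit 1, nat_lit 2, nat_lit 0, nat_lit 1, nat_lit 2, nat_lit 1, nat_lit 0, nat_lit 2, nat_lit 0, nat_lit 1, nat_lit 2, nat_lit 0, nat_lit 1, nat_lit 0, nat_lit 2, nat_lit 0, nat_lit 1, nat_lit 0, nat_lit 2, nat_lit 0, nat_lit 2, nat_lit 1, nat_lit 0, nat_lit 2, nat_lit 1, nat_lit 0, nat_lit 2, nat_lit 1, nat_lit 0, nat_lit 2, nat_lit 0, nat_lit 1, nat_lit 2, nat_lit 0, nat_lit 1, nat_lit 2, nat_lit 0, nat_lit 1, nat_lit 0, nat_lit 2, nat_lit 1, nat_lit 0],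
  [nat_lit 0, nat_lit 1, nat_lit 2, nat_lit 0, nat_lit 1, nat_lit 0, nat_lit 2, nat_lit 1, nat_lit 0, nat_lit 2, nat_lit 1, nat_lit 0, nat_lit 2, nat_lit 0, nat_lit 1, nat_lit 2, nat_lit 0, nat_lit 1, nat_lit 2, nat_lit 0, nat_lit 1, nat_lit 0, nat_lit 2, nat_lit 0, nat_lit 2, nat_lit 1, nat_lit 0, nat_lit 2, nat_lit 0, nat_lit 1, nat_lit 0, nat_lit 2, nat_lit 1, nat_lit 0, nat_lit 2, nat_lit 0, nat_lit 1, nat_lit 2, nat_lit 1, nat_lit 0, nat_lit 2, nat_lit 1, nat_lit 2, nat_lit 0, nat_lit 2, nat_lit 1],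
  [nat_lit 0, nat_lit 1, nat_lit 0, nat_lit 2, nat_lit 1, nat_lit 0, nat_lit 2, nat_lit 0, nat_lit 1, nat_lit 2, nat_lit 1, nat_lit 2, nat_lit 0, nat_lit 1, nat_lit 2, nat_lit 0, nat_lit 1, nat_lit 2, nat_lit 1, nat_lit 0, nat_lit 2, nat_lit 0, nat_lit 1, nat_lit 2, nat_lit 0, nat_lit 2, nat_lit 1, nat_lit 2, nat_lit 0, nat_lit 2, nat_lit 1, nat_lit 2, nat_lit 0, nat_lit 2, nat_lit 1, nat_lit 0, nat_lit 2, nat_lit 1, nat_lit 0, nat_lit 2],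
  [nat_lit 2, nat_lit 0, nat_lit 1, nat_lit 2, nat_lit 0, nat_lit 1, nat_lit 2, nat_lit 0, nat_lit 2, nat_lit 1, nat_lit 2, nat_lit 0, nat_lit 2, nat_lit 1, nat_lit 2, nat_lit 0, nat_lit 2, nat_lit 1, nat_lit 0, nat_lit 2, nat_lit 0, nat_lit 1, nat_lit 2, nat_lit 1, nat_lit 0, nat_lit 2, nat_lit 1, nat_lit 0, nat_lit 2, nat_lit 1, nat_lit 2, nat_lit 1, nat_lit 0, nat_lit 2, nat_lit 0, nat_lit 1, nat_lit 2, nat_lit 0, nat_lit 1, nat_lit 0],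
  [nat_lit 1, nat_lit 2, nat_lit 0, nat_lit 1, nat_lit 2, nat_lit 0, nat_lit 1, nat_lit 0, nat_lit 2, nat_lit 0, nat_lit 2, nat_lit 1, nat_lit 0, nat_lit 2, nat_lit 1, nat_lit 2, nat_lit 0, nat_lit 1, nat_lit 2, nat_lit 1, nat_lit 2, nat_lit 0, nat_lit 1, nat_lit 2, nat_lit 0, nat_lit 2, nat_lit 1, nat_lit 2, nat_lit 0, nat_lit 1, nat_lit 2, nat_lit 0, nat_lit 2, nat_lit 1, nat_lit 2, nat_lit 0, nat_lit 1, nat_lit 0, nat_lit 2, nat_lit 1],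
  [nat_lit 1, nat_lit 2, nat_lit 0, nat_lit 1, nat_lit 0, nat_lit 2, nat_lit 1, nat_lit 2, nat_lit 0, nat_lit 2, nat_lit 1, nat_lit 0, nat_lit 2, nat_lit 1, nat_lit 0, nat_lit 2, nat_lit 0, nat_lit 2, nat_lit 1, nat_lit 0, nat_lit 2, nat_lit 1, nat_lit 2, nat_lit 0, nat_lit 2, nat_lit 1, nat_lit 2, nat_lit 0, nat_lit 1, nat_lit 2, nat_lit 0, nat_lit 2, nat_lit 0, nat_lit 1, nat_lit 0, nat_lit 2, nat_lit 1, nat_lit 0, nat_lit 2, nat_lit 1],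
  [nat_lit 0, nat_lit 2, nat_lit 0, nat_lit 2, nat_lit 1, nat_lit 2, nat_lit 0, nat_lit 2, nat_lit 1, nat_lit 2, nat_lit 0, nat_lit 2, nat_lit 1, nat_lit 2, nat_lit 0, nat_lit 1, nat_lit 2, nat_lit 0, nat_lit 1, nat_lit 2, nat_lit 1, nat_lit 2, nat_lit 0, nat_lit 2, nat_lit 1, nat_lit 2, nat_lit 0, nat_lit 1, nat_lit 2, nat_lit 1, nat_lit 2, nat_lit 0, nat_lit 2, nat_lit 1, nat_lit 2, nat_lit 0, nat_lit 2, nat_lit 0, nat_lit 1, nat_lit 0, nat_lit 2, nat_lit 1, nat_lit 0, nat_lit 2, nat_lit 1, nat_lit 0, nat_lit 2],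
  [nat_lit 2, nat_lit 0, nat_lit 1, nat_lit 2, nat_lit 0, nat_lit 1, nat_lit 2, nat_lit 0, nat_lit 1, nat_lit 0, nat_lit 2, nat_lit 0, nat_lit 2, nat_lit 1, nat_lit 2, nat_lit 0, nat_lit 1, nat_lit 2, nat_lit 1, nat_lit 2, nat_lit 0, nat_lit 2, nat_lit 1, nat_lit 2, nat_lit 0, nat_lit 1, nat_lit 2, nat_lit 1, nat_lit 2, nat_lit 0, nat_lit 2, nat_lit 1, nat_lit 0, nat_lit 2, nat_lit 1, nat_lit 2, nat_lit 0, nat_lit 2, nat_lit 1, nat_lit 2, nat_lit 0, nat_lit 2, nat_lit 1, nat_lit 2, nat_lit 0, nat_lit 2, nat_lit 0],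
  [nat_lit 1, nat_lit 2, nat_lit 1, nat_lit 2, nat_lit 0, nat_lit 1, nat_lit 2, nat_lit 1, nat_lit 2, nat_lit 0, nat_lit 2, nat_lit 1, nat_lit 2, nat_lit 0, nat_lit 2, nat_lit 1, nat_lit 0, nat_lit 2, nat_lit 1, nat_lit 2, nat_lit 0, nat_lit 1, nat_lit 2, nat_lit 1, nat_lit 0, nat_lit 2, nat_lit 1, nat_lit 0, nat_lit 2, nat_lit 0, nat_lit 1, nat_lit 0, nat_lit 2, nat_lit 0, nat_lit 1, nat_lit 0, nat_lit 2, nat_lit 0, nat_lit 1, nat_lit 2, nat_lit 1],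
  [nat_lit 1, nat_lit 2, nat_lit 1, nat_lit 0, nat_lit 2, nat_lit 0, nat_lit 1, nat_lit 0, nat_lit 2, nat_lit 0, nat_lit 1, nat_lit 0, nat_lit 2, nat_lit 0, nat_lit 1, nat_lit 2, nat_lit 0, nat_lit 1, nat_lit 2, nat_lit 1, nat_lit 0, nat_lit 2, nat_lit 1, nat_lit 2, nat_lit 0, nat_lit 1, nat_lit 2, nat_lit 0, nat_lit 2, nat_lit 1, nat_lit 2, nat_lit 0, nat_lit 2, nat_lit 1, nat_lit 2, nat_lit 1, nat_lit 0, nat_lit 2, nat_lit 1, nat_lit 2, nat_lit 1]] a) β)) B)) 0 12 = true := by decide +kernel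
theorem T_r_a : allZ2 (resEnt F_P TP TE TI (nat_lit 4116) (nat_lit 64)) (nat_lit 11) (nat_lit 64) = true := by decide +kernel
theorem T_b : neL B (TB.map TE) = 0 ∧ ltAll 64 TB = 0 := by decide +kernel
theorem T_p : allZ2 (pcEnt TP (nat_lit 2) TB TC) 11 11 = true := by decide +kernel
theorem T_e : allL (ltAll 11) Te = true := by decide +kernel
theorem Tl0_e_0 : allZ (dent Tl0 (wdsP TP Te) (nat_lit 64)) (nat_lit 0) (nat_lit 63) = true := by decide +kernel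
theorem Tl0_h : 0 < Tl0.n ∧ 0 < Tl0.K ∧ Tl0.Pt 0 < 64 ∧ Tl0.Q (Tl0.Pt 0) = 0 := by decide +kernel
theorem Tl1_e_0 : allZ (dent Tl1 (wdsP TP Te) (nat_lit 64)) (nat_lit 0) (nat_lit 7) = true := by decide +kernel
theorem Tl1_h : 0 < Tl1.n ∧ 0 < Tl1.K ∧ Tl1.Pt 0 < 64 ∧ Tl1.Q (Tl1.Pt 0) = 0 := by decide +kernel
theorem Tl2_e_0 : allZ (dent Tl2 (wdsP TP Te) (nat_lit 64)) (nat_lit 0) (nat_lit 1) = true := by decide +kernel
theorem Tl2_h : 0 < Tl2.n ∧ 0 < Tl2.K ∧ Tl2.Pt 0 < 64 ∧ Tl2.Q (Tl2.Pt 0) = 0 := by decide +kernel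
theorem Tl3_e_0 : allZ (dent Tl3 (wdsP TP Te) (nat_lit 64)) (nat_lit 0) (nat_lit 1) = true := by decide +kernel
theorem Tl3_h : 0 < Tl3.n ∧ 0 < Tl3.K ∧ Tl3.Pt 0 < 64 ∧ Tl3.Q (Tl3.Pt 0) = 0 := by decide +kernel
theorem T_f3 : (Nat.ble Tl3.K 29 && Nat.ble (topK []) Tl3.K && fixLetters (wdsP TP Te) (topK []) (Tl3.Pt 0)) = true := by decide +kernel
theorem T_f2 : (Nat.ble Tl2.K 29 && Nat.ble (topK [Tl3]) Tl2.K && fixLetters (wdsP TP Te) (topK [Tl3]) (Tl2.Pt 0)) = true := by decide +kernel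
theorem T_f1 : (Nat.ble Tl1.K 29 && Nat.ble (topK [Tl2, Tl3]) Tl1.K && fixLetters (wdsP TP Te) (topK [Tl2, Tl3]) (Tl1.Pt 0)) = true := by decide +kernel
theorem T_f0 : (Nat.ble Tl0.K 29 && Nat.ble (topK [Tl1, Tl2, Tl3]) Tl0.K && fixLetters (wdsP TP Te) (topK [Tl1, Tl2, Tl3]) (Tl0.Pt 0)) = true := by decide +kernel
theorem T_c : chainCard [Tl0, Tl1, Tl2, Tl3] = 2 ^ 11 ∧ ¬ 2 ^ (11 + 1) ∣ 8060774400 := by decide +kernel
theorem cov_c0 : (Nat.ble 11 11 && Nat.beq (ltAll 11 []) 0 && Nat.beq (covT0.chk P TP (sbP F_P [0, 1, 10]) TE 13 11 2 2 3 TB 11 [] 0) 0) = true := by decide +kernel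

theorem F_act {G Ω : Type*} [Group G] [MulAction G Ω] {g : ℕ → G} {pt : ℕ → Ω}
    (M : Md g pt P 4116 13 B 8060774400) : Act (wds g F_W) pt F_P 4116 84 :=
  M.wact F_lt
theorem fcm {G Ω : Type*} [Group G] [MulAction G Ω] {g : ℕ → G} {pt : ℕ → Ω}
    (M : Md g pt P 4116 13 B 8060774400) : ∀ p ∈ Lcm, (wds g F_W) p.1 * (wds g F_W) p.2 = (wds g F_W) p.2 * (wds g F_W) p.1 :=
  fun p hp => by simpa only [evA_cons, evA_nil, one_mul] using M.eq_of (F_act M) (allL_sound fcm_k p hp)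
theorem fcj {G Ω : Type*} [Group G] [MulAction G Ω] {g : ℕ → G} {pt : ℕ → Ω}
    (M : Md g pt P 4116 13 B 8060774400) : ∀ p ∈ Lcj, (wds g F_W) p.1 * (wds g F_W) p.2.1 = (wds g F_W) p.2.2 * (wds g F_W) p.1 :=
  fun p hp => by simpa only [evA_cons, evA_nil, one_mul] using M.eq_of (F_act M) (allL_sound fcj_k p hp)
theorem fc2 {G Ω : Type*} [Group G] [MulAction G Ω] {g : ℕ → G} {pt : ℕ → Ω}
    (M : Md g pt P 4116 13 B 8060774400) : ∀ p ∈ Lc2, (wds g F_W) p.1 * (wds g F_W) p.2.1 = (wds g F_W) p.2.2.1 * (wds g F_W) p.2.2.2 * (wds g F_W) p.1 :=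
  fun p hp => by simpa only [evA_cons, evA_nil, one_mul] using M.eq_of (F_act M) (allL_sound fc2_k p hp)
theorem fsq {G Ω : Type*} [Group G] [MulAction G Ω] {g : ℕ → G} {pt : ℕ → Ω}
    (M : Md g pt P 4116 13 B 8060774400) : ∀ k ∈ Lsq, (wds g F_W) k * (wds g F_W) k = 1 :=
  fun p hp => by simpa only [evA_cons, evA_nil, one_mul] using M.eq_of (F_act M) (allL_sound fsq_k p hp)
theorem fid {G Ω : Type*} [Group G] [MulAction G Ω] {g : ℕ → G} {pt : ℕ → Ω}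
    (M : Md g pt P 4116 13 B 8060774400) : ∀ p ∈ Lid, wv (wds g F_W) p.1 = wv (wds g F_W) p.2 :=
  id_sound M (F_act M) fid_k
theorem fne {G Ω : Type*} [Group G] [MulAction G Ω] {g : ℕ → G} {pt : ℕ → Ω}
    (M : Md g pt P 4116 13 B 8060774400) : ∀ p ∈ Lne, wv (wds g F_W) p.1 ≠ wv (wds g F_W) p.2 :=
  ne_sound M (F_act M) fne_k
theorem Kp {G Ω : Type*} [Group G] [MulAction G Ω] {g : ℕ → G} {pt : ℕ → Ω}
    (M : Md g pt P 4116 13 B 8060774400) : ∀ i < 2, ∃ u ∈ gen (sb (wds g F_W) [24, 25]) 2, ∃ v ∈ gen (sb (wds g F_W) [24, 25]) 2, (sb (wds g F_W) [24, 25]) i * (v * u) = u * v :=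
  cm_sound M.base M.ltB (act_sb (F_act M) (by decide +kernel) 2) Kp_k
theorem Lp {G Ω : Type*} [Group G] [MulAction G Ω] {g : ℕ → G} {pt : ℕ → Ω}
    (M : Md g pt P 4116 13 B 8060774400) : ∀ i < 2, ∃ u ∈ gen (sb (wds g F_W) [65, 66, 67]) 2, ∃ v ∈ gen (sb (wds g F_W) [65, 66, 67]) 2, (sb (wds g F_W) [65, 66, 67]) i * (v * u) = u * v :=
  cm_sound M.base M.ltB (act_sb (F_act M) (by decide +kernel) 2) Lp_k
theorem yL {G Ω : Type*} [Group G] [MulAction G Ω] {g : ℕ → G} {pt : ℕ → Ω}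
    (M : Md g pt P 4116 13 B 8060774400) : gen (sb (wds g F_W) [68]) 1 ≤ gen (sb (wds g F_W) [65, 66, 67]) 2 :=
  M.gen_le (act_sb (F_act M) (by decide +kernel) 2) (act_sb (F_act M) (by decide +kernel) 1) yL_k
theorem uL {G Ω : Type*} [Group G] [MulAction G Ω] {g : ℕ → G} {pt : ℕ → Ω}
    (M : Md g pt P 4116 13 B 8060774400) : gen (sb (wds g F_W) [1, 0, 76, 77, 78, 79, 80, 81]) 8 ≤ gen (sb (wds g F_W) [65, 66, 67]) 2 :=
  M.gen_le (act_sb (F_act M) (by decide +kernel) 2) (act_sb (F_act M) (by decide +kernel) 8) uL_k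
theorem nL {G Ω : Type*} [Group G] [MulAction G Ω] {g : ℕ → G} {pt : ℕ → Ω}
    (M : Md g pt P 4116 13 B 8060774400) : (wds g F_W) 67 ∈ Subgroup.normalizer (gen (sb (wds g F_W) [65, 66, 67]) 2 : Set G) :=
  M.norm (act_sb (F_act M) (by decide +kernel) 2) (F_act M) (by decide) nL_k
theorem uc {G Ω : Type*} [Group G] [MulAction G Ω] {g : ℕ → G} {pt : ℕ → Ω}
    (M : Md g pt P 4116 13 B 8060774400) : ∀ i < 4, ∀ j < 8, (sb (wds g F_W) [1, 0, 76, 77, 78, 79, 80, 81]) i * (sb (wds g F_W) [1, 0, 76, 77, 78, 79, 80, 81]) j = (sb (wds g F_W) [1, 0, 76, 77, 78, 79, 80, 81]) j * (sb (wds g F_W) [1, 0, 76, 77, 78, 79, 80, 81]) i :=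
  fun i hi j hj => by simpa only [evA_cons, evA_nil, one_mul] using M.eq_of (act_sb (F_act M) (by decide +kernel) 8) (allZ2_sound uc_k i hi j hj)
theorem sL_k : ∀ k < 2, ∀ i < 4116, (fun k i => ifz (col i) (col ((sbP F_P [65, 66, 67]) k i)) 0) k i = 0 := allZ2_sound sL_k_a
theorem sL {G Ω : Type*} [Group G] [MulAction G Ω] {g : ℕ → G} {pt : ℕ → Ω}
    (M : Md g pt P 4116 13 B 8060774400) : evA (wds g F_W) [67] ∉ gen (sb (wds g F_W) [65, 66, 67]) 2 :=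
  not_mem_col M (act_sb (F_act M) (by decide +kernel) 2) (F_act M) sL_k sL_b
theorem nQ0 {G Ω : Type*} [Group G] [MulAction G Ω] {g : ℕ → G} {pt : ℕ → Ω}
    (M : Md g pt P 4116 13 B 8060774400) : (wds g F_W) 24 ∈ Subgroup.normalizer (gen (wds g F_W) 7 : Set G) :=
  M.norm (((F_act M)).mono (by decide : 7 ≤ 84)) (F_act M) (by decide) nQ0_k
theorem nQ1 {G Ω : Type*} [Group G] [MulAction G Ω] {g : ℕ → G} {pt : ℕ → Ω}
    (M : Md g pt P 4116 13 B 8060774400) : (wds g F_W) 25 ∈ Subgroup.normalizer (gen (wds g F_W) 7 : Set G) :=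
  M.norm (((F_act M)).mono (by decide : 7 ≤ 84)) (F_act M) (by decide) nQ1_k
theorem nE024 {G Ω : Type*} [Group G] [MulAction G Ω] {g : ℕ → G} {pt : ℕ → Ω}
    (M : Md g pt P 4116 13 B 8060774400) : (wds g F_W) 24 ∈ Subgroup.normalizer (gen (sb (wds g F_W) [0, 13, 18, 20]) 4 : Set G) :=
  M.norm (act_sb (F_act M) (by decide +kernel) 4) (F_act M) (by decide) nE024_k
theorem nE025 {G Ω : Type*} [Group G] [MulAction G Ω] {g : ℕ → G} {pt : ℕ → Ω}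
    (M : Md g pt P 4116 13 B 8060774400) : (wds g F_W) 25 ∈ Subgroup.normalizer (gen (sb (wds g F_W) [0, 13, 18, 20]) 4 : Set G) :=
  M.norm (act_sb (F_act M) (by decide +kernel) 4) (F_act M) (by decide) nE025_k
theorem nE124 {G Ω : Type*} [Group G] [MulAction G Ω] {g : ℕ → G} {pt : ℕ → Ω}
    (M : Md g pt P 4116 13 B 8060774400) : (wds g F_W) 24 ∈ Subgroup.normalizer (gen (sb (wds g F_W) [0, 14, 19, 21]) 4 : Set G) :=
  M.norm (act_sb (F_act M) (by decide +kernel) 4) (F_act M) (by decide) nE124_k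
theorem nE125 {G Ω : Type*} [Group G] [MulAction G Ω] {g : ℕ → G} {pt : ℕ → Ω}
    (M : Md g pt P 4116 13 B 8060774400) : (wds g F_W) 25 ∈ Subgroup.normalizer (gen (sb (wds g F_W) [0, 14, 19, 21]) 4 : Set G) :=
  M.norm (act_sb (F_act M) (by decide +kernel) 4) (F_act M) (by decide) nE125_k
theorem Qc {G Ω : Type*} [Group G] [MulAction G Ω] {g : ℕ → G} {pt : ℕ → Ω}
    (M : Md g pt P 4116 13 B 8060774400) {x : G} (hx : x ∈ gen (wds g F_W) 7) : ∃ W ∈ [] :: Qc_L, ∃ u ∈ gen (sb (wds g F_W) [0]) 1, x = evA (wds g F_W) W * u :=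
  cos_sound M (((F_act M)).mono (by decide : 7 ≤ 84)) (F_act M) (act_sb (F_act M) (by decide +kernel) 1) Qc_k hx
theorem Qj {G Ω : Type*} [Group G] [MulAction G Ω] {g : ℕ → G} {pt : ℕ → Ω}
    (M : Md g pt P 4116 13 B 8060774400) {W : List ℕ} (hW : W ∈ QX.map Prod.fst) : ∃ u ∈ gen (sb (wds g F_W) [24, 25]) 2, ∃ V ∈ [[1], [2], [11], [3]], u * evA (wds g F_W) W = evA (wds g F_W) V * u :=
  cj_sound M (F_act M) (act_sb (F_act M) (by decide +kernel) 2) Qj_k hW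
theorem dl {G Ω : Type*} [Group G] [MulAction G Ω] {g : ℕ → G} {pt : ℕ → Ω}
    (M : Md g pt P 4116 13 B 8060774400) : ∀ i < 6, ∃ d ∈ gen (wds g F_W) 7, d * (wds g F_W) (i + 1) = (wds g F_W) (i + 1) * (wds g F_W) 0 * d ∧ ∀ j < 7, j ≠ i + 1 → d * (wds g F_W) j = (wds g F_W) j * d :=
  dl_sound (n := 6) M (((F_act M)).mono (by decide : 7 ≤ 84)) dl_k
theorem mQ {G Ω : Type*} [Group G] [MulAction G Ω] {g : ℕ → G} {pt : ℕ → Ω}
    (M : Md g pt P 4116 13 B 8060774400) : gen (sb (wds g F_W) [13, 14]) 2 ≤ gen (wds g F_W) 7 :=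
  M.gen_le (((F_act M)).mono (by decide : 7 ≤ 84)) (act_sb (F_act M) (by decide +kernel) 2) mQ_k
theorem gQ {G Ω : Type*} [Group G] [MulAction G Ω] {g : ℕ → G} {pt : ℕ → Ω}
    (M : Md g pt P 4116 13 B 8060774400) : gen (wds g F_W) 7 ≤ gen (sb (wds g F_W) [13, 14, 18, 19, 12]) 5 :=
  M.gen_le (act_sb (F_act M) (by decide +kernel) 5) (((F_act M)).mono (by decide : 7 ≤ 84)) gQ_k
theorem G1 {G Ω : Type*} [Group G] [MulAction G Ω] {g : ℕ → G} {pt : ℕ → Ω}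
    (M : Md g pt P 4116 13 B 8060774400) : gen g 12 ≤ gen (sb (wds g F_W) [24, 25, 65]) 3 :=
  M.gen_le (act_sb (F_act M) (by decide +kernel) 3) (M.act.mono (by decide : 12 ≤ 13)) G1_k
theorem G2 {G Ω : Type*} [Group G] [MulAction G Ω] {g : ℕ → G} {pt : ℕ → Ω}
    (M : Md g pt P 4116 13 B 8060774400) : gen g 12 ≤ gen (sb (wds g F_W) [24, 25, 34]) 3 :=
  M.gen_le (act_sb (F_act M) (by decide +kernel) 3) (M.act.mono (by decide : 12 ≤ 13)) G2_k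
theorem G3 {G Ω : Type*} [Group G] [MulAction G Ω] {g : ℕ → G} {pt : ℕ → Ω}
    (M : Md g pt P 4116 13 B 8060774400) : gen g 12 ≤ gen (sb (wds g F_W) [24, 25, 83]) 3 :=
  M.gen_le (act_sb (F_act M) (by decide +kernel) 3) (M.act.mono (by decide : 12 ≤ 13)) G3_k
theorem Gf {G Ω : Type*} [Group G] [MulAction G Ω] {g : ℕ → G} {pt : ℕ → Ω}
    (M : Md g pt P 4116 13 B 8060774400) : gen g 12 ≤ gen (sb (wds g F_W) [60, 61, 62]) 3 :=
  M.gen_le (act_sb (F_act M) (by decide +kernel) 3) (M.act.mono (by decide : 12 ≤ 13)) Gf_k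
theorem GS {G Ω : Type*} [Group G] [MulAction G Ω] {g : ℕ → G} {pt : ℕ → Ω}
    (M : Md g pt P 4116 13 B 8060774400) : gen g 12 ≤ gen (sb (wds g F_W) [0, 53, 54]) 3 :=
  M.gen_le (act_sb (F_act M) (by decide +kernel) 3) (M.act.mono (by decide : 12 ≤ 13)) GS_k
theorem T_r : ∀ k < 11, ∀ i < 64, (resEnt F_P TP TE TI (nat_lit 4116) (nat_lit 64)) k i = 0 := allZ2_sound T_r_a
theorem T_sm {G Ω : Type*} [Group G] [MulAction G Ω] {g : ℕ → G} {pt : ℕ → Ω}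
    (M : Md g pt P 4116 13 B 8060774400) : Sm (wds g F_W) (fun i => pt (TE i)) TP 64 11 TB ∧ ∀ i < 64, TE i < 4116 :=
  M.res (((F_act M)).mono (by decide : 11 ≤ 84)) (by decide) T_r T_b
theorem Tl0_e : ∀ i < 63, (dent Tl0 (wdsP TP Te) (nat_lit 64)) i = 0 := allZ_sound0 Tl0_e_0
theorem Tl0_ok : DOK Tl0 (wdsP TP Te) 64 := ⟨Tl0_h, Tl0_e⟩
theorem Tl1_e : ∀ i < 7, (dent Tl1 (wdsP TP Te) (nat_lit 64)) i = 0 := allZ_sound0 Tl1_e_0
theorem Tl1_ok : DOK Tl1 (wdsP TP Te) 64 := ⟨Tl1_h, Tl1_e⟩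
theorem Tl2_e : ∀ i < 1, (dent Tl2 (wdsP TP Te) (nat_lit 64)) i = 0 := allZ_sound0 Tl2_e_0
theorem Tl2_ok : DOK Tl2 (wdsP TP Te) 64 := ⟨Tl2_h, Tl2_e⟩
theorem Tl3_e : ∀ i < 1, (dent Tl3 (wdsP TP Te) (nat_lit 64)) i = 0 := allZ_sound0 Tl3_e_0
theorem Tl3_ok : DOK Tl3 (wdsP TP Te) 64 := ⟨Tl3_h, Tl3_e⟩
theorem T_low {G Ω : Type*} [Group G] [MulAction G Ω] {g : ℕ → G} {pt : ℕ → Ω}
    (M : Md g pt P 4116 13 B 8060774400) : SLow (gi (wds (wds g F_W) Te)) (fun i => pt (TE i)) 64 [Tl0, Tl1, Tl2, Tl3] :=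
  ((((SLow.nil).cons Tl3_ok ((T_sm M).1.act.wds T_e 29) T_f3).cons Tl2_ok ((T_sm M).1.act.wds T_e 29) T_f2).cons Tl1_ok ((T_sm M).1.act.wds T_e 29) T_f1).cons Tl0_ok ((T_sm M).1.act.wds T_e 29) T_f0
theorem T_pc {G Ω : Type*} [Group G] [MulAction G Ω] {g : ℕ → G} {pt : ℕ → Ω}
    (M : Md g pt P 4116 13 B 8060774400) : PC (wds g F_W) 11 2 :=
  have := M.fin
  ((T_sm M).1.pc0 (by decide) T_p).pc (T_low M) (T_sm M).1.inj
    (fun k => evA_mem_gen _ (nth_lt T_e k)) M.card ⟨by decide, T_c⟩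
theorem cov_0 {G Ω : Type*} [Group G] [MulAction G Ω] {g : ℕ → G} {pt : ℕ → Ω}
    (M : Md g pt P 4116 13 B 8060774400) : Cov (wds g F_W) (sb (wds g F_W) [0, 1, 10]) 2 3 11 (evA (wds g F_W) []) :=
  have := M.fin
  covT0.cov M (T_sm M).1 (T_sm M).2 (act_sb (F_act M) (by decide +kernel) 3) (T_pc M) _ _ cov_c0
theorem cov {G Ω : Type*} [Group G] [MulAction G Ω] {g : ℕ → G} {pt : ℕ → Ω}
    (M : Md g pt P 4116 13 B 8060774400) {y : G} {e : ℕ} (hy : y ^ 2 ^ e = 1) (hq : y ^ 2 = 1) : Good (sb (wds g F_W) [0, 1, 10]) 3 y :=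
  have := M.fin
  Cov.all (T_pc M) (cov_0 M) hy hq

end H7.HZ
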