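import Mathlib
import Cfsg.Prelude.Def_RootSubgroups

/-! Interface for S5720 (fixed spaces of dimension at least one sixth); paper proofs in notes/h7_LS.md. -/

set_option autoImplicit false
set_option linter.unusedVariables false
set_option linter.unusedSectionVars false

namespace H7.LS
open Module Matrix
open scoped MatrixGroups TensorProduct

universe u v w

section defs
variable {G : Type u} [Group G] {K : Type v} [Field K] {V : Type w} [AddCommGroup V] [Module K V]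

/-- dimension of the fixed space -/
noncomputable abbrev fx (ρ : Representation K G V) (g : G) : ℕ := finrank K (LinearMap.ker (ρ g - 1))
/-- rank of an element of the group algebra -/
noncomputable abbrev rk (ρ : Representation K G V) (α : MonoidAlgebra K G) : ℕ :=
  finrank K (LinearMap.range (ρ.asAlgebraHom α))
/-- all fixed spaces are small -/
def Bad (ρ : Representation K G V) : Prop := ∀ g, g ≠ 1 → 6 * fx ρ g < finrank K V
/-- simple module -/
def Sim (ρ : Representation K G V) : Prop :=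
  Nontrivial V ∧ ∀ S : Submodule K V, (∀ g, ∀ x ∈ S, ρ g x ∈ S) → S = ⊥ ∨ S = ⊤

theorem Bad.comp {ρ : Representation K G V} (h : Bad ρ) {L : Type*} [Group L] (f : L →* G)
    (hf : Function.Injective f) : Bad (ρ.comp f : Representation K L V) :=
  fun g hg => h (f g) fun e => hg (hf (e.trans f.map_one.symm))
end defs

abbrev S2 (p : ℕ) : Type := SL(2, ZMod p)

section sl
variable {p : ℕ} [Fact p.Prime]
def uc (c : ZMod p) : S2 p := ⟨!![1, c; 0, 1], by simp [det_fin_two]⟩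
def tb (b : (ZMod p)ˣ) : S2 p := ⟨!![(b : ZMod p), 0; 0, ((b⁻¹ : (ZMod p)ˣ) : ZMod p)], by
  rw [det_fin_two_of, Units.mul_inv, mul_zero, sub_zero]⟩
def w0 : S2 p := ⟨!![0, -1; 1, 0], by simp [det_fin_two]⟩
/-- an element of order three, `w0 * h0 = uc 1` -/
def h0 : S2 p := ⟨!![0, 1; -1, -1], by simp [det_fin_two]⟩

variable (K : Type v) [Field K] [CharP K p]
abbrev ι : ZMod p →+* K := ZMod.castHom (dvd_refl p) K
abbrev GA (p : ℕ) (K : Type v) [Field K] : Type v := MonoidAlgebra K (S2 p)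
/-- raising operator -/
noncomputable def eA : GA p K := ∑ c : (ZMod p)ˣ, ι K (c⁻¹ : (ZMod p)ˣ) • MonoidAlgebra.of K (S2 p) (uc c)
/-- projection to the weight space of weight `a` -/
noncomputable def εA (a : ℤ) : GA p K :=
  -∑ b : (ZMod p)ˣ, ι K (b ^ (-a) : (ZMod p)ˣ) • MonoidAlgebra.of K (S2 p) (tb b)
noncomputable def RA : GA p K := 1 + MonoidAlgebra.of K (S2 p) h0 + MonoidAlgebra.of K (S2 p) (h0 * h0)
/-- the list of ranks other than `RA` -/
noncomputable def L1 : List (GA p K) :=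
  [eA K * εA K (-1), eA K * εA K (-1), eA K ^ (p - 4) * εA K 3, eA K ^ (p - 4) * εA K 3, εA K (-4),
    eA K ^ (p - 7) * εA K 6, 1 - εA K 3, 1 - εA K 3, 1 - εA K 6]

/-- nonzero vectors and the function module -/
abbrev Nz (p : ℕ) : Type := {x : Fin 2 → ZMod p // x ≠ 0}
def act (g : S2 p) (x : Nz p) : Nz p := ⟨g.1 *ᵥ x.1, fun h => x.2 (by
  have e : (g⁻¹).1 * g.1 = 1 := congrArg Subtype.val (inv_mul_cancel g)
  rw [← one_mulVec x.1, ← e, ← mulVec_mulVec, h, mulVec_zero])⟩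
theorem act_one (x : Nz p) : act 1 x = x := Subtype.ext (one_mulVec x.1)
theorem act_mul (g h : S2 p) (x : Nz p) : act (g * h) x = act g (act h x) :=
  Subtype.ext (mulVec_mulVec x.1 g.1 h.1).symm
def σ : Representation K (S2 p) (Nz p → K) where
  toFun g := LinearMap.funLeft K K (act g⁻¹)
  map_one' := by ext φ x; simp [act_one]
  map_mul' g h := by ext φ x; simp [act_mul]
variable {K}
theorem σ_apply (g : S2 p) (φ : Nz p → K) (x : Nz p) : σ K g φ x = φ (act g⁻¹ x) := rfl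
variable (K)
/-- the monomial `X ^ (j - i) * Y ^ i` -/
def mo (j i : ℕ) : Nz p → K := fun x => ι K (x.1 0) ^ (j - i) * ι K (x.1 1) ^ i
def Pj (j : ℕ) : Submodule K (Nz p → K) := Submodule.span K (Set.range fun i : Fin (j + 1) => mo K j i)
variable {K}
/-- homogeneous of degree `k` -/
def Hg (k : ℕ) (φ : Nz p → K) : Prop :=
  ∀ (a : ZMod p) (x y : Nz p), y.1 = a • x.1 → φ y = ι K a ^ k * φ x

/-- a standard basis -/
structure Std {V : Type w} [AddCommGroup V] [Module K V] (ρ : Representation K (S2 p) V) (j : ℕ) (b : ℕ → V) : Prop where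
  lt : j < p
  li : LinearIndependent K fun i : Fin (j + 1) => b i
  dim : finrank K V ≤ j + 1
  wt : ∀ (a : (ZMod p)ˣ) (i : ℕ), i ≤ j → ρ (tb a) (b i) = ι K (a ^ (2 * (i : ℤ) - j) : (ZMod p)ˣ) • b i
  up : ∀ i, i < j → ρ.asAlgebraHom (eA K) (b i) = ((j - i : ℕ) : K) • b (i + 1)
  r3 : j + 1 ≤ 3 * rk ρ (RA K) + 2
  r0 : j = 0 → 1 ≤ rk ρ (RA K)
end sl

/-! ### linear algebra -/
def PW : Prop := ∀ {G : Type u} [Group G] {K : Type v} [Field K] {V : Type w} [AddCommGroup V] [Module K V]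
  [FiniteDimensional K V] {ρ : Representation K G V} {g : G} {s : ℕ}, Bad ρ → g ≠ 1 → g ^ s = 1 → s.Prime → s ≤ 5 →
  (s : K) ≠ 0
def EA : Prop := ∀ {G : Type u} [Group G] {K : Type v} [Field K] {V : Type w} [AddCommGroup V] [Module K V]
  [FiniteDimensional K V] {ρ : Representation K G V} {a b : G} {s : ℕ}, Bad ρ → s.Prime → s ≤ 5 → orderOf a = s →
  orderOf b = s → Commute a b → b ∈ Subgroup.zpowers a
def UI : Prop := ∀ {G : Type u} [Group G] {K : Type v} [Field K] {V : Type w} [AddCommGroup V] [Module K V]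
  [FiniteDimensional K V] {ρ : Representation K G V} {a b : G}, Bad ρ → orderOf a = 2 → orderOf b = 2 → a = b
/-- a Frobenius configuration -/
def Fc {G : Type u} [Group G] (h y : G) : Prop :=
  h ^ 3 = 1 ∧ h ≠ 1 ∧ y ≠ 1 ∧ Commute y (h * y * h⁻¹) ∧ (y * h) ^ 3 = 1 ∧ y * h ≠ 1 ∧ y⁻¹ * h ≠ 1
def FR : Prop := ∀ {G : Type u} [Group G] {K : Type v} [Field K] {V : Type w} [AddCommGroup V] [Module K V]
  [FiniteDimensional K V] {ρ : Representation K G V} {h y : G}, Bad ρ → ¬ Fc h y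
def BC : Prop := ∀ {G : Type u} [Group G] {K : Type v} [Field K] {V : Type w} [AddCommGroup V] [Module K V]
  [FiniteDimensional K V] {ρ : Representation K G V}, Bad ρ →
  ∃ ρ' : Representation (AlgebraicClosure K) G (AlgebraicClosure K ⊗[K] V), Bad ρ'
def IND : Prop := ∀ {G : Type u} [Group G] {K : Type v} [Field K] (c : ℕ) (l : List (MonoidAlgebra K G)),
  (∀ (V : Type w) [AddCommGroup V] [Module K V] [FiniteDimensional K V] (ρ : Representation K G V), Sim ρ →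
    c * finrank K V ≤ (l.map (rk ρ)).sum) →
  ∀ (V : Type w) [AddCommGroup V] [Module K V] [FiniteDimensional K V] (ρ : Representation K G V),
    c * finrank K V ≤ (l.map (rk ρ)).sum

/-! ### `SL₂(p)` -/
def XC : Prop := ∀ {p : ℕ} [Fact p.Prime] {K : Type v} [Field K] {V : Type w} [AddCommGroup V] [Module K V]
  [FiniteDimensional K V] (ρ : Representation K (S2 p) V), 7 ≤ p → (p : K) ≠ 0 → (2 : K) ≠ 0 →
  finrank K V ≤ 6 * fx ρ h0
def EK : Prop := ∀ {p : ℕ} [Fact p.Prime] (K : Type v) [Field K] [CharP K p], 3 ≤ p →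
  (eA K : GA p K) ^ p = 0 ∧ (∃ g : GA p K, g * eA K = MonoidAlgebra.of K (S2 p) (uc 1) - 1) ∧
  (∀ a, (eA K : GA p K) * εA K a = εA K (a + 2) * eA K) ∧ (∀ a, (εA K (a + (p - 1)) : GA p K) = εA K a) ∧
  (∀ a, (εA K a : GA p K) * εA K a = εA K a) ∧
  (∀ a b : ℤ, ¬ ((p : ℤ) - 1) ∣ a - b → (εA K a : GA p K) * εA K b = 0) ∧
  ∀ (V : Type w) [AddCommGroup V] [Module K V] (ρ : Representation K (S2 p) V) (x : V) (a b : ℤ),
    (∀ t : (ZMod p)ˣ, ρ (tb t) x = ι K (t ^ b : (ZMod p)ˣ) • x) →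
    ρ.asAlgebraHom (εA K a) x = if ((p : ℤ) - 1) ∣ a - b then x else 0
def GI : Prop := ∀ {p : ℕ} [Fact p.Prime] {K : Type v} [Field K] [CharP K p] {V : Type w} [AddCommGroup V]
  [Module K V] [FiniteDimensional K V] (ρ : Representation K (S2 p) V), 11 ≤ p →
  ((L1 K).map (rk ρ)).sum ≤ 3 * finrank K V + 2 * fx ρ (uc 1)
def SM : Prop := ∀ {p : ℕ} [Fact p.Prime] {K : Type v} [Field K] [CharP K p] {V : Type w} [AddCommGroup V]
  [Module K V] [FiniteDimensional K V] {ρ : Representation K (S2 p) V} {j : ℕ} {b : ℕ → V}, 11 ≤ p → Std ρ j b →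
  4 * finrank K V ≤ 4 * rk ρ (RA K) + ((L1 K).map (rk ρ)).sum
def CL1 : Prop := ∀ {p : ℕ} [Fact p.Prime] {K : Type v} [Field K] [CharP K p] {V : Type w} [AddCommGroup V]
  [Module K V] [FiniteDimensional K V] (ρ : Representation K (S2 p) V), Sim ρ →
  ∃ (k : ℕ) (Φ : V →ₗ[K] (Nz p → K)), k < p - 1 ∧ Function.Injective Φ ∧ (∀ g x, Φ (ρ g x) = σ K g (Φ x)) ∧
    ∀ x, Hg k (Φ x)
def CL2 : Prop := ∀ {p : ℕ} [Fact p.Prime] {K : Type v} [Field K] [CharP K p] (I : Submodule K (Nz p → K)) (k : ℕ),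
  k < p - 1 → I ≠ ⊥ → (∀ g, ∀ φ ∈ I, σ K g φ ∈ I) → (∀ φ ∈ I, Hg k φ) → ∃ j, j < p ∧ mo K j j ∈ I
def PB1 : Prop := ∀ {p : ℕ} [Fact p.Prime] (K : Type v) [Field K] [CharP K p] (j : ℕ) (g : S2 p),
  ∀ φ ∈ Pj (p := p) K j, σ K g φ ∈ Pj (p := p) K j
def PB2 : Prop := ∀ {p : ℕ} [Fact p.Prime] (K : Type v) [Field K] [CharP K p] (j : ℕ), 3 ≤ p → j < p →
  (LinearIndependent K fun i : Fin (j + 1) => mo (p := p) K j i) ∧
  (∀ (a : (ZMod p)ˣ) (i : ℕ), i ≤ j → σ K (tb a) (mo K j i) = ι K (a ^ (2 * (i : ℤ) - j) : (ZMod p)ˣ) • mo K j i) ∧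
  (∀ i, i < j → (σ K).asAlgebraHom (eA K) (mo (p := p) K j i) = ((j - i : ℕ) : K) • mo K j (i + 1)) ∧
  ∃ c : K, c ≠ 0 ∧ σ K w0 (mo (p := p) K j j) = c • mo K j 0
def PB3 : Prop := ∀ {p : ℕ} [Fact p.Prime] (K : Type v) [Field K] [CharP K p] [IsAlgClosed K] (j : ℕ), 5 ≤ p → j < p →
  ∃ (m : ℕ) (f : Fin m → Nz p → K), j + 1 ≤ 3 * m + 2 ∧ (j = 0 → 1 ≤ m) ∧ LinearIndependent K f ∧
    ∀ i, f i ∈ Pj (p := p) K j ∧ σ K h0 (f i) = f i
def SB : Prop := ∀ {p : ℕ} [Fact p.Prime] {K : Type v} [Field K] [CharP K p] [IsAlgClosed K] {V : Type w}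
  [AddCommGroup V] [Module K V] [FiniteDimensional K V] (ρ : Representation K (S2 p) V), 5 ≤ p → Sim ρ →
  ∃ j b, Std ρ j b
def SLp : Prop := ∀ {p : ℕ} [Fact p.Prime] {K : Type v} [Field K] {V : Type w} [AddCommGroup V] [Module K V]
  [FiniteDimensional K V] (ρ : Representation K (S2 p) V), 7 ≤ p → ¬ Bad ρ

/-! ### groups -/
def NC : Prop := ∀ {X : Type u} [Group X] [Finite X] {Y : Type} [Group Y] (π : X →* Y) {s : ℕ} {a b : Y},
  Function.Surjective π → s.Prime → s ≠ 2 → orderOf a = s → orderOf b = s → Commute a b → b ∉ Subgroup.zpowers a →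
  ∃ a' b' : X, orderOf a' = s ∧ orderOf b' = s ∧ Commute a' b' ∧ b' ∉ Subgroup.zpowers a'
def IX : Prop := ∀ {H : Type u} [Group H] [Finite H] (L : Subgroup H) [L.Normal] (F : Type) [Field F] [Fintype F],
  Group.IsSolvable (H ⧸ L) → Fintype.card F = 5 → Nonempty (L ⧸ Cfsg.oddCore L ≃* SL(2, F)) →
  (Cfsg.solvableRadical H).index ≤ 120
/-- no proper subgroup maps onto the image -/
def Mn {X : Type u} [Group X] {Y : Type} [Group Y] (π : X →* Y) : Prop :=
  Function.Surjective π ∧ ∀ Z : Subgroup X, Z.map π = ⊤ → Z = ⊤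
def M3 : Prop := ∀ {X : Type u} [Group X] [Finite X] {p : ℕ} [Fact p.Prime] (π : X →* S2 p), 5 ≤ p → Mn π →
  (∀ a b : X, orderOf a = 3 → orderOf b = 3 → Commute a b → b ∈ Subgroup.zpowers a) → ¬ 3 ∣ Nat.card π.ker
def MC : Prop := ∀ {X : Type u} [Group X] [Finite X] {p : ℕ} [Fact p.Prime] (π : X →* S2 p) {i : X}, 5 ≤ p → Mn π →
  π i = w0 → (∀ m ∈ π.ker, Commute i m) → π.ker = ⊥
def MF : Prop := ∀ {X : Type u} [Group X] [Finite X] {p : ℕ} [Fact p.Prime] (π : X →* S2 p), 5 ≤ p →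
  Function.Surjective π → Odd (Nat.card π.ker) → ¬ 3 ∣ Nat.card π.ker →
  (∀ a b : X, orderOf a = 2 → orderOf b = 2 → a = b) →
  (∃ i : X, π i = w0 ∧ ∀ m ∈ π.ker, Commute i m) ∨ ∃ h y : X, Fc h y
def EM : Prop := ∀ {L : Type u} [Group L] [Finite L] {K : Type v} [Field K] {V : Type w} [AddCommGroup V] [Module K V]
  [FiniteDimensional K V] {ρ : Representation K L V} {F : Type} [Field F] [Fintype F] {p : ℕ} [Fact p.Prime] [CharP F p]
  (π : L →* SL(2, F)), Bad ρ → 5 ≤ p → Function.Surjective π → Odd (Nat.card π.ker) →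
  ∃ f : S2 p →* L, Function.Injective f

end H7.LS
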