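import Cfsg.Agent.H7.ME0

/-! Packed matrices over the field with two elements (64-bit columns) and words in root involutions. -/

set_option autoImplicit false
set_option maxRecDepth 100000
set_option exponentiation.threshold 5000

namespace H7.ME

open H18.E7 (G M xr)
open Matrix

/-- the field -/
abbrev F := ZMod 2
/-- strict evaluation -/
noncomputable def frc {α : Type} (x : ℕ) (f : ℕ → α) : α :=
  Nat.rec (motive := fun _ => α) (f 0) (fun m _ => f m.succ) x
theorem frc_eq {α : Type} (x : ℕ) (f : ℕ → α) : frc x f = f x := by cases x <;> rfl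

/-- one bit in every column -/
def O : ℕ := 0x1000000000000000100000000000000010000000000000001000000000000000100000000000000010000000000000001000000000000000100000000000000010000000000000001000000000000000100000000000000010000000000000001000000000000000100000000000000010000000000000001000000000000000100000000000000010000000000000001000000000000000100000000000000010000000000000001000000000000000100000000000000010000000000000001000000000000000100000000000000010000000000000001000000000000000100000000000000010000000000000001000000000000000100000000000000010000000000000001000000000000000100000000000000010000000000000001000000000000000100000000000000010000000000000001000000000000000100000000000000010000000000000001000000000000000100000000000000010000000000000001000000000000000100000000000000010000000000000001000000000000000100000000000000010000000000000001000000000000000100000000000000010000000000000001000000000000000100000000000000010000000000000001000000000000000100000000000000010000000000000001000000000000000100000000000000010000000000000001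
/-- the identity matrix -/
def Id : ℕ := 0x8000000000000000400000000000000020000000000000001000000000000000080000000000000004000000000000000200000000000000010000000000000000800000000000000040000000000000002000000000000000100000000000000008000000000000000400000000000000020000000000000001000000000000000080000000000000004000000000000000200000000000000010000000000000000800000000000000040000000000000002000000000000000100000000000000008000000000000000400000000000000020000000000000001000000000000000080000000000000004000000000000000200000000000000010000000000000000800000000000000040000000000000002000000000000000100000000000000008000000000000000400000000000000020000000000000001000000000000000080000000000000004000000000000000200000000000000010000000000000000800000000000000040000000000000002000000000000000100000000000000008000000000000000400000000000000020000000000000001000000000000000080000000000000004000000000000000200000000000000010000000000000000800000000000000040000000000000002000000000000000100000000000000008000000000000000400000000000000020000000000000001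
/-- a bit as a field element -/
def bt (X k : ℕ) : F := if X.testBit k then 1 else 0
/-- the matrix with entry `(i, j)` the bit `64 j + i` -/
def toM (n m X : ℕ) : Matrix (Fin n) (Fin m) F := Matrix.of fun i j => bt X (64 * j + i)
/-- the vector of bits -/
def bv (n w : ℕ) : Fin n → F := fun i => bt w i
/-- a row -/
def row (Y a : ℕ) : ℕ := Nat.land (Nat.shiftRight Y a) O
/-- a column -/
def col (X a : ℕ) : ℕ := Nat.land (Nat.shiftRight X (Nat.mul 64 a)) 18446744073709551615
/-- the product with inner dimension `k` -/
noncomputable def mul (k X Y : ℕ) : ℕ := frc X fun X => frc Y fun Y =>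
  Nat.rec (motive := fun _ => ℕ) 0 (fun a acc => Nat.xor acc (Nat.mul (row Y a) (col X a))) k
/-- the mask of an `n × m` matrix -/
def msk (n m : ℕ) : ℕ := Nat.mul (Nat.mod O (Nat.pow 2 (Nat.mul 64 m))) (Nat.sub (Nat.pow 2 n) 1)
/-- equality test -/
def eqm (n m X Y : ℕ) : Bool := Nat.beq (Nat.land (Nat.xor X Y) (msk n m)) 0
/-- six-bit digits -/
def d6 (t i : ℕ) : ℕ := Nat.land (Nat.shiftRight t (Nat.mul 6 i)) 63
/-- `n` row operations: digits `2p`, `2p+1` of `t` are source and target -/
noncomputable def apl (n t Y : ℕ) : ℕ := frc t fun t => frc Y fun Y =>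
  Nat.rec (motive := fun _ => ℕ) Y
    (fun p acc => Nat.xor acc (Nat.shiftLeft (row Y (d6 t (Nat.mul 2 p))) (d6 t (Nat.succ (Nat.mul 2 p))))) n
/-- powers -/
noncomputable def pwF (n X : ℕ) (f : ℕ) : ℕ → ℕ :=
  Nat.rec (motive := fun _ => ℕ → ℕ) (fun _ => Id) (fun _ ih e => cond (Nat.beq e 0) Id
    (frc (ih (Nat.div e 2)) fun h => cond (Nat.beq (Nat.mod e 2) 0) (mul n h h) (mul n X (mul n h h)))) f
/-- powers with exponent below `2 ^ 16` -/
noncomputable def pw (n X e : ℕ) : ℕ := frc X fun X => pwF n X 16 e

theorem bt_xor (X Y k : ℕ) : bt (Nat.xor X Y) k = bt X k + bt Y k := by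
  have := Nat.testBit_xor X Y k
  unfold bt; rw [show Nat.xor X Y = X ^^^ Y from rfl, this]
  cases X.testBit k <;> cases Y.testBit k <;> decide

theorem bt_zero (k : ℕ) : bt 0 k = 0 := by simp [bt]

/-- equally spaced bits -/
def ones (s : ℕ) : ℕ → ℕ
  | 0 => 0
  | n + 1 => 2 ^ s * ones s n + 1

theorem ones_bit {s : ℕ} (hs : 0 < s) (n : ℕ) : ∀ k, (ones s n).testBit k = (decide (k % s = 0) && decide (k < s * n)) := by
  induction n with
  | zero => simp [ones]
  | succ n ih =>
    intro k
    rw [ones, Nat.testBit_two_pow_mul_add _ (Nat.one_lt_two_pow hs.ne'), Nat.mul_succ]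
    split_ifs with h
    · rw [Nat.mod_eq_of_lt h, decide_eq_true (show k < s * n + s by omega)]
      rcases k with _ | k <;> simp [Nat.testBit_succ]
    · rw [ih, ← Nat.mod_eq_sub_mod (by omega)]
      congr 1; simp; omega

theorem O_bit (k : ℕ) : O.testBit k = (decide (k % 64 = 0) && decide (k < 4096)) := by
  rw [show O = ones 64 64 by decide +kernel, ones_bit (by decide)]

theorem mul_bit {c : ℕ} (hc : c < 2 ^ 64) (j : ℕ) : ∀ {T : ℕ}, (∀ k, T.testBit k → k % 64 = 0) → ∀ i < 64,
    (T * c).testBit (64 * j + i) = (T.testBit (64 * j) && c.testBit i) := by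
  have key : ∀ T : ℕ, (∀ k, T.testBit k → k % 64 = 0) → T % 2 ^ 64 = (T.testBit 0).toNat := fun T h => by
    refine Nat.eq_of_testBit_eq fun k => ?_
    rw [Nat.testBit_mod_two_pow]
    rcases k with _ | k
    · cases T.testBit 0 <;> simp
    · have : ((T.testBit 0).toNat).testBit (k + 1) = false := by
        cases T.testBit 0 <;> simp [Nat.testBit_succ]
      rw [this]
      by_cases h1 : k + 1 < 64
      · cases e : T.testBit (k + 1)
        · simp
        · have := h _ e; omega
      · simp [h1]
  have dec : ∀ T : ℕ, (∀ k, T.testBit k → k % 64 = 0) →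
      T * c = 2 ^ 64 * (T / 2 ^ 64 * c) + (T.testBit 0).toNat * c := fun T h => by
    rw [← key T h, ← mul_assoc, ← add_mul, Nat.div_add_mod]
  have lt : ∀ b : Bool, b.toNat * c < 2 ^ 64 := fun b => by
    cases b
    · simp
    · simpa using hc
  induction j with
  | zero =>
    intro T h i hi
    rw [dec T h, Nat.testBit_two_pow_mul_add _ (lt _), if_pos (by omega)]
    cases T.testBit 0 <;> simp
  | succ j ih =>
    intro T h i hi
    rw [dec T h, Nat.testBit_two_pow_mul_add _ (lt _), if_neg (by omega),
      show 64 * (j + 1) + i - 64 = 64 * j + i by omega, ih (fun k e => ?_) i hi, Nat.testBit_div_two_pow]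
    · congr 2
    · rw [Nat.testBit_div_two_pow] at e; have := h _ e; omega

theorem row_bit (Y a k : ℕ) : (row Y a).testBit k = (Y.testBit (a + k) && O.testBit k) := by
  rw [← Nat.testBit_shiftRight, ← Nat.testBit_and]; rfl

theorem col_bit (X a k : ℕ) : (col X a).testBit k = (X.testBit (64 * a + k) && decide (k < 64)) := by
  rw [← Nat.testBit_shiftRight, ← Nat.testBit_two_pow_sub_one, ← Nat.testBit_and]; rfl

theorem col_lt (X a : ℕ) : col X a < 2 ^ 64 :=
  Nat.lt_pow_two_of_testBit _ fun i h => by rw [col_bit]; simp; omega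

theorem bt_rc (X Y a : ℕ) {i j : ℕ} (hi : i < 64) (hj : j < 64) :
    bt (Nat.mul (row Y a) (col X a)) (64 * j + i) = bt X (64 * a + i) * bt Y (64 * j + a) := by
  have := mul_bit (col_lt X a) j (T := row Y a) (fun k e => by rw [row_bit, O_bit] at e; simp at e; omega) i hi
  rw [row_bit, col_bit, O_bit, decide_eq_true hi, decide_eq_true (show 64 * j % 64 = 0 by omega),
    decide_eq_true (show 64 * j < 4096 by omega), add_comm a] at this
  unfold bt; rw [show Nat.mul (row Y a) (col X a) = row Y a * col X a from rfl, this]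
  cases X.testBit (64 * a + i) <;> cases Y.testBit (64 * j + a) <;> decide

theorem toM_xor (n m X Y : ℕ) : toM n m (Nat.xor X Y) = toM n m X + toM n m Y := by
  ext i j; exact bt_xor _ _ _

theorem toM_zero (n m : ℕ) : toM n m 0 = 0 := by ext i j; exact bt_zero _

theorem toM_mul {n m : ℕ} (k X Y : ℕ) (hn : n ≤ 64 := by decide) (hm : m ≤ 64 := by decide) :
    toM n m (mul k X Y) = toM n k X * toM k m Y := by
  ext i j
  rw [mul, frc_eq, frc_eq, Matrix.mul_apply]
  simp only [toM, of_apply]
  rw [Fin.sum_univ_eq_sum_range (fun a => bt X (64 * a + i) * bt Y (64 * j + a))]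
  induction k with
  | zero => exact bt_zero _
  | succ k ih => rw [Finset.sum_range_succ, ← ih, ← bt_rc X Y k (by omega) (by omega)]; exact bt_xor _ _ _

theorem Id_bit : ∀ j < 64, ∀ i < 64, Id.testBit (64 * j + i) = decide (i = j) := fun j hj i hi => by
  rw [show Id = ones 65 64 by decide +kernel, ones_bit (by decide), ← Bool.decide_and, decide_eq_decide]; omega

theorem toM_Id {n : ℕ} (hn : n ≤ 64 := by decide) : toM n n Id = 1 := by
  ext i j
  simp only [toM, of_apply, bt, Id_bit j (by omega) i (by omega), one_apply, Fin.ext_iff, decide_eq_true_eq]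

theorem msk_bit {n m : ℕ} (hn : n ≤ 64) (hm : m ≤ 64) (k : ℕ) :
    (msk n m).testBit k = (decide (k / 64 < m) && decide (k % 64 < n)) := by
  have := mul_bit (c := 2 ^ n - 1) (lt_of_lt_of_le (Nat.sub_lt (by positivity) one_pos)
    (Nat.pow_le_pow_right (by decide) hn)) (k / 64) (T := O % 2 ^ (64 * m))
    (fun k e => by rw [Nat.testBit_mod_two_pow, O_bit] at e; simp at e; omega) (k % 64) (by omega)
  rw [Nat.div_add_mod, Nat.testBit_mod_two_pow, O_bit, Nat.testBit_two_pow_sub_one] at this
  refine this.trans ?_
  congr 1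
  by_cases h : k / 64 < m
  · simp [h]; omega
  · simp [h]

theorem eqm_iff {n m X Y : ℕ} (hn : n ≤ 64 := by decide) (hm : m ≤ 64 := by decide) :
    eqm n m X Y = true ↔ toM n m X = toM n m Y := by
  rw [eqm, Nat.beq_eq, show Nat.land (Nat.xor X Y) (msk n m) = (X ^^^ Y) &&& msk n m from rfl]
  constructor
  · intro h; ext i j
    have := congrArg (·.testBit (64 * j + i)) h
    simp only [Nat.testBit_and, Nat.testBit_xor, msk_bit hn hm, Nat.zero_testBit,
      decide_eq_true (show (64 * (j : ℕ) + (i : ℕ)) / 64 < m by omega),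
      decide_eq_true (show (64 * (j : ℕ) + (i : ℕ)) % 64 < n by omega)] at this
    simp only [toM, of_apply, bt]
    revert this; cases X.testBit (64 * j + i) <;> cases Y.testBit (64 * j + i) <;> simp
  · intro h
    refine Nat.eq_of_testBit_eq fun k => ?_
    rw [Nat.testBit_and, Nat.testBit_xor, msk_bit hn hm, Nat.zero_testBit]
    by_cases h1 : k / 64 < m
    · by_cases h2 : k % 64 < n
      · have := congrFun (congrFun h ⟨_, h2⟩) ⟨_, h1⟩
        simp only [toM, of_apply, bt, Nat.div_add_mod] at this
        revert this; cases X.testBit k <;> cases Y.testBit k <;> simp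
      · simp [h2]
    · simp [h1]

theorem eqm_eq {n m X Y : ℕ} (h : eqm n m X Y = true) (hn : n ≤ 64 := by decide) (hm : m ≤ 64 := by decide) :
    toM n m X = toM n m Y := (eqm_iff hn hm).1 h

theorem eqm_ne {n m X Y : ℕ} (h : eqm n m X Y = false) (hn : n ≤ 64 := by decide) (hm : m ≤ 64 := by decide) :
    toM n m X ≠ toM n m Y := fun e => by simp [(eqm_iff hn hm).2 e] at h

theorem d6_lt (t i : ℕ) : d6 t i < 64 := Nat.lt_succ_of_le Nat.and_le_right

theorem bt_sh (Y a : ℕ) {b i j : ℕ} (hb : b < 64) (hi : i < 64) (hj : j < 64) :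
    bt (Nat.shiftLeft (row Y a) b) (64 * j + i) = if b = i then bt Y (64 * j + a) else 0 := by
  unfold bt
  rw [show Nat.shiftLeft (row Y a) b = row Y a <<< b from rfl, Nat.testBit_shiftLeft, row_bit, O_bit]
  by_cases e : b = i
  · subst e
    simp [show 64 * j < 4096 by omega, add_comm a]
  · rw [if_neg e, if_neg]; simp; omega

theorem toM_apl {k m : ℕ} (n t Y : ℕ) (h : ∀ p < n, d6 t (2 * p) < k) (hk : k ≤ 64 := by decide)
    (hm : m ≤ 64 := by decide) : toM k m (apl n t Y) = toM k k (apl n t Id) * toM k m Y := by
  simp only [apl, frc_eq]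
  induction n with
  | zero => exact (by rw [toM_Id hk, Matrix.one_mul] : toM k m Y = toM k k Id * toM k m Y)
  | succ n ih =>
    refine (toM_xor _ _ _ _).trans (((congrArg (· * toM k m Y) (toM_xor _ _ _ _)).trans ?_).symm)
    rw [Matrix.add_mul, ← ih fun p hp => h p (by omega)]
    congr 1; ext i j
    simp only [toM, of_apply, Matrix.mul_apply]
    rw [bt_sh _ _ (d6_lt _ _) (by omega) (by omega), Finset.sum_eq_single ⟨_, h n (by omega)⟩]
    · rw [bt_sh _ _ (d6_lt _ _) (by omega) (d6_lt _ _)]
      split_ifs
      · rw [bt, show Nat.mul 2 n = 2 * n from rfl, Id_bit _ (d6_lt _ _) _ (d6_lt _ _)]; simp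
      · simp
    · intro b _ hb
      rw [bt_sh _ _ (d6_lt _ _) (by omega) (by omega)]
      split_ifs
      · rw [bt, Id_bit _ (by omega) _ (d6_lt _ _), decide_eq_false fun e => hb (Fin.ext e.symm)]; simp
      · simp
    · simp

theorem toM_pwF {n : ℕ} (hn : n ≤ 64) (X f : ℕ) : ∀ e < 2 ^ f, toM n n (pwF n X f e) = toM n n X ^ e := by
  induction f with
  | zero => intro e h; rw [show e = 0 by omega, pow_zero]; exact toM_Id hn
  | succ f ih =>
    intro e h
    have ih := ih (e / 2) (by omega)
    show toM n n (cond (Nat.beq e 0) Id (frc (pwF n X f (e / 2)) fun h =>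
      cond (Nat.beq (e % 2) 0) (mul n h h) (mul n X (mul n h h)))) = _
    rw [frc_eq]
    cases h0 : Nat.beq e 0
    · cases h1 : Nat.beq (e % 2) 0
      · have := Nat.ne_of_beq_eq_false h1
        rw [cond_false, cond_false, toM_mul _ _ _ hn hn, toM_mul _ _ _ hn hn, ih, ← pow_add, ← pow_succ']
        congr 1; omega
      · have := Nat.eq_of_beq_eq_true h1
        rw [cond_false, cond_true, toM_mul _ _ _ hn hn, ih, ← pow_add]
        congr 1; omega
    · rw [Nat.eq_of_beq_eq_true h0, pow_zero]; exact toM_Id hn

theorem toM_pw {n : ℕ} (X e : ℕ) (he : e < 65536 := by decide) (hn : n ≤ 64 := by decide) :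
    toM n n (pw n X e) = toM n n X ^ e := by rw [pw, frc_eq]; exact toM_pwF hn X 16 e he

/-- a rank certificate -/
theorem rk_ge {n m r P Y R : ℕ} (h : eqm r r (mul n P (mul m Y R)) Id = true) (hn : n ≤ 64 := by decide)
    (hr : r ≤ 64 := by decide) : r ≤ (toM n m Y).rank := by
  rw [eqm_iff hr hr, toM_mul _ _ _ hr hr, toM_mul _ _ _ hn hr, toM_Id hr] at h
  have := (rank_mul_le_right (toM r n P) (toM n m Y * toM m r R)).trans (rank_mul_le_left _ _)
  rwa [h, rank_one, Fintype.card_fin] at this

/-- the row operations of the root involutions -/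
def PTT : ℕ := 0x4b73f63352b41f31b217112f0ed0ab0680255774763b52f427323217012e0ec0a90660226375364353742711f022f1ae0ea0a706301f6f75f64f53732f12b022d1ac12a0a406001c7b76b64f44333b133022b1a91270e405d0198776b55f45334713f02281a61230e009d0168767b56f46335714b02251a211f0dc0990567776765b53722ef2ae26d1ec16a0a105e01a8377365b44323af32e26b1e91670e105b01793773567453246f3ee2681e61630de09b01393683577463256f4ae2651e215f0da0970538f77f65b34f23ad32c2eb2a91641210580149f77f56735f246d3ec2e82a616011e0980109f68f57736f256d4ac2e52a215c11a094050ab77f47336b246b3e93a832615d11b0d800dab68f48337b256b4a93a53221591170d404dab59f49338725684a64653e21561130d008d9b78b65b14ef42d36b32a2a71e41a1055011a778b56715ef52d3ea3682a31e019e09500ea769b57716ef62d4aa36529f1dc19a09104eb378b47316af52b4283e73231dd19b0d500bb369b48317af62b4a742531f1d91970d104bb35a7493186f6285254a33df1d61930ce08bbb78b37f16ad5eb4e83e432029d198115009bb69b38f17ad6eb4e54a431c299194111049bb5a739f186d6e85e54a03dc29619010e089bb4b33ab186b7a86a549d3d931618d10b0c9c378b27ef72d66b5a83e131e29b1d8155008c369b28ef82d76b5a54a131a2971d4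151048c35a729ef92d76866549e3da2931d014e088c34b32aaf92b82872549b3d73131cd14b0c8c33bb2aad9eb8e87e54983d431028d149108c31bafb2da6b9a88a54953d130e28b1c9188a379765b04ee42c3aa3692e726422105200faf79756705ee52c46a3662e326021e09200caf6a357706ee62c56a3622df25c21a08f04cb779747306ae5294674263a325d21b0d200ab76a348307ae62956742239f2592170cf04ab75af493086e62656352245f2562130cc08abf79737f06ac5e94e64643a02dd218112007bf6a338f07ac6e95644e239c2d921410f047bf5af39f086c6e65e256045c2d621010c087bf4b73ab08697a66a255d45939620d10a0c7cb79718b06aa5e75244e342035d215192005cb6a319b07aa6e76244df41c35921118f045cb5af1a7086a6e36205df51c35620e18c085cb4b71b308677a369f61d51941620b18a0c5cb3bf1bb08647a06dd69c5d94d6209187105c779727ee72c6695a646139e2db258152006c76a328ee82c7695a256139a2d725414f046c75af29ee92c76666255e45a2d325014c086c74b72aae92982672255b45739324d14a0c6c73bf2aac9e98e67e25584543902cd147106cf796f8ae72a6675a352141e35b2551d2004cf6a2f9ae82a76762159f41a3572511cf044cf5aefa6e92a76365f61e51a35324e1cc084cf4b6fb2e92782371f61b51741324b1ca0c4d3796d8ac7ea6645e15a04de3582d5292003d36a2d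9ac8ea7646e159c4da3542d128f043d35aeda6c9ea7606de65c5da3502ce28c083d7796b8a97e77246a159d4db418395312002d76a2b9a98e78247a15994d741439130f042db79688a67e372069e65d5db5184553d2001df6a259a28df81c79a7596d761455148f040db5ae8a669e392085e6565d351044e3cc081df5ae5a629df91c85a7566d361054e48c080d74b6bb29aa781d79b71969740d38b30a0c2db4b68b26aa391d85b71669350d44b3ca0c1df4b65b22a9f91985781679360d54b48a0c0d33bedbac9e48e07dc6d85d44d02c9287103d73bebba9aa48dd7d97986944cd389307102db3be8ba6aa09dd8587d66905cd4493c7101df3be5ba2a9c9d98d68547906cd549487100cf1cafb2aa679a389f61551140e34b1c5184d31cadbaaa649a089c6d55d14ce349285183d71cabba7b2499d8997956914cb409305182db1ca8ba3b20a5d89685568e5cb5093c5181df1ca5b9fb1ca5999685178e6cb609485180cf2c6fc2e92181e75b71a6575932481c6144d32c6dc2c9e18de7da7586545902c8286143d72c6bc29aa18db8187d771458d388306142db2c68c26a9e9db9187d371064d4483c6141df2c65c22a9a9d79148d381074d548486140d2fcedc2aa6199e89a75565158e3482841c3d6fcebc27b2199b89781571158b4083041c2dafce8c23b1ea5b91589370e64b5083c41c1defce5c1fb1aa5799391180e74b6084841c0d6dd2bc24ba19988d5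8947d15894c8303282dadd28c20b9ea589d58907ce6495c83c3281dedd25c1cb9aa549d19908ce7496c8483280dabd68c1db9bb18a9588d7cb7096883c2301debd65c19b97b14a9198d8cb809788482300de8da5c16b93b10a8ea4d9cb9098484813c0c70beeb6cae9a2696255244f38c2ca247206cf0caeb6aae7a2395f61250f40c34a245204d30cacbeaae4a2095c6d25cf4cc3472c5203d70ca9be7b64a1d95979268f4ca407385202db0ca6be3b60add95685268c5ca507445201df0ca2bdfb5cad9a1684f78c6ca607545200d2ececc6aae1a1e95a75264f58c3462c4243d6ece9c67b61a1b95781270f58a406384242daece6c63b5eadb95391270c64a506444241deece2c5fb5aad7a1390f80c74a606544240d6cd29c64be1a189548d27cf5874c63832c2dacd26c60bdead89d29507cc6475c64432c1decd22c5cbdaad4a109cf8cc7476c65432c0da9d66c5dbdbb58a9294d7ca707686442381de9d62c59bd7b54a8fa0d8ca807786542380de6da2c56bd3b50acda8c9ca907846541440d6ad27ce4ca1a1599295188f5854c4403342daad23ce0c9ead5a5294e88c6455c4503341dead1fcdcc9aad1a4fa0e98c7456c4603340da7d63cddc9bb55b1294b88a705684502401de7d5fcd9c97b51b0fa0b98a805784602400de3d9fcd6c93b4eb0cacba4a905844601500da4d60d1dc98bd5b929498877c56835c24c1de4d5cd19c94bd1b8fa099878c57836c24c0de0d9cd16c90bceb8cac9a479c58436c15c0dddd99d56c8dbcbb8ab49b07a85842781680da1d5ed1bcd8c55c129488867c4703642581de1d5ad17cd4c51c0fa089868c4803742580dded9ad13cd0c4ec0cac8a469c4903741640ddbd97d53ccdc4bc0ab48b06a84902801700dd8d94d50d0dc49bc8c07b86a839c28c17c0dd5d91d4ed0bcc9c88c05b84b03a42981880dd2d8fd4cd0acc7c86c45bc4b43ac2a01940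
/-- codes of the weights -/
def GC : List ℕ := [1116964193296, 1048244716560, 1047170974736, 1047154197520, 1047153935376, 1047153935312, 1047153931280, 1047153931216, 1047153931279, 1047153931215, 1047153669072, 1047153669071, 1047136891856, 1047153664975, 1047136891855, 1046063150032, 1047136887759, 1046063150031, 977343673296, 1047136625615, 1046063145935, 977343673295, 1047136625551, 1046062883791, 977343669199, 1046062883727, 1046046106575, 977343407055, 1046046106511, 977343406991, 977326629839, 1046045844367, 977326629775, 976252888015, 1046045840271, 977326367631, 976252887951, 1046045840270, 977326363535, 976252625807, 977326363534, 976252621711, 976235848591, 976252621710, 976235844495, 976235844494, 976235582351, 976235582350, 976235582287, 976235582286, 976235578254, 976235578190, 976235316046, 976218538830, 975144797006, 906425320270]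
/-- codes of the roots -/
def RC : List ℕ := [1046045840270, 1046045840271, 1046045844367, 1046046106511, 1046062883727, 1047136625551, 1115856102287, 1046046106575, 1046062883791, 1047136625615, 1115856102351, 1046063145935, 1047136887759, 1115856364495, 1047153664975, 1115873141711, 1116946883535, 1046063150031, 1047136891855, 1115856368591, 1047153669071, 1115873145807, 1116946887631, 1047153931215, 1115873407951, 1116947149775, 1116963926991, 1047153931279, 1115873408015, 1116947149839, 1116963927055, 1116964189199, 1116964193295, 1046063150032, 1047136891856, 1115856368592, 1047153669072, 1115873145808, 1116946887632, 1047153931216, 1115873407952, 1116947149776, 1116963926992, 1047153935312, 1115873412048, 1116947153872, 1116963931088, 1116964193232, 1047153931280, 1115873408016, 1116947149840, 1116963927056, 1116964189200, 1047153935376, 1115873412112, 1116947153936, 1116963931152, 1047154197520, 1115873674256, 1116947416080, 1047170974736, 1115890451472, 1048244716560, 1185683670032, 1118037935120, 1186757411856, 1116980970512, 1118054712336,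 1186774189072, 1116964455440, 1116981232656, 1118054974480, 1186774451216, 1116964197392, 1116964459536, 1116981236752, 1118054978576, 1186774455312, 1116964193360, 1116964455504, 1116981232720, 1118054974544, 1186774451280, 1116964459600, 1116981236816, 1118054978640, 1186774455376, 1116981498960, 1118055240784, 1186774717520, 1118072018000, 1186791494736, 1187865236560, 1116964193297, 1116964197393, 1116964459537, 1116981236753, 1118054978577, 1186774455313, 1116964459601, 1116981236817, 1118054978641, 1186774455377, 1116981498961, 1118055240785, 1186774717521, 1118072018001, 1186791494737, 1187865236561, 1116981503057, 1118055244881, 1186774721617, 1118072022097, 1186791498833, 1187865240657, 1118072284241, 1186791760977, 1187865502801, 1187882280017, 1118072284305, 1186791761041, 1187865502865, 1187882280081, 1187882542225, 1187882546321, 1187882546322]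
/-- multiplication by a root involution -/
noncomputable def ap (r Y : ℕ) : ℕ := cond (Nat.blt r 126) (apl 12 (Nat.shiftRight PTT (Nat.mul 144 r)) Y) Y
/-- multiplication by a word -/
noncomputable def wma (l : List ℕ) (Y : ℕ) : ℕ := List.rec (motive := fun _ => ℕ) Y (fun r _ ih => ap r ih) l
/-- the matrix of a word -/
noncomputable def wm (l : List ℕ) : ℕ := wma l Id
/-- the value of a word -/
noncomputable def wd (l : List ℕ) : G := (l.map X).prod

/-- code of a vector -/
def cd (v : Fin 7 → ℤ) : ℤ := v 0 + 64 * (v 1 + 64 * (v 2 + 64 * (v 3 + 64 * (v 4 + 64 * (v 5 + 64 * v 6)))))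

theorem cd_inj {u v w : Fin 7 → ℤ} (hu : ∀ i, -8 ≤ u i ∧ u i ≤ 7) (hv : ∀ i, -8 ≤ v i ∧ v i ≤ 7)
    (hw : ∀ i, -8 ≤ w i ∧ w i ≤ 7) : u = v + w ↔ cd u = cd v + cd w := by
  refine ⟨fun h => by subst h; simp only [cd, Pi.add_apply]; ring, fun h => ?_⟩
  have := hu 0; have := hu 1; have := hu 2; have := hu 3; have := hu 4; have := hu 5; have := hu 6
  have := hv 0; have := hv 1; have := hv 2; have := hv 3; have := hv 4; have := hv 5; have := hv 6
  have := hw 0; have := hw 1; have := hw 2; have := hw 3; have := hw 4; have := hw 5; have := hw 6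
  simp only [cd] at h
  have h0 : u 0 = v 0 + w 0 := by omega
  have h1 : u 1 = v 1 + w 1 := by omega
  have h2 : u 2 = v 2 + w 2 := by omega
  have h3 : u 3 = v 3 + w 3 := by omega
  have h4 : u 4 = v 4 + w 4 := by omega
  have h5 : u 5 = v 5 + w 5 := by omega
  have h6 : u 6 = v 6 + w 6 := by omega
  funext i; fin_cases i <;> assumption

theorem cdG : ∀ a : Fin 56, cd (H14.minE7.γ a) + 1116964193296 = GC.getD a 0 := by decide +kernel
theorem cdR : ∀ r : Fin 126, cd (H14.goodE7.R.cf r) + 1116964193296 = RC.getD r 0 := by decide +kernel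
theorem bdR : ∀ (r : Fin 126) (i : Fin 7), -8 ≤ H14.goodE7.R.cf r i ∧ H14.goodE7.R.cf r i ≤ 7 :=
  fun _ _ => H14.sd4_bound _ _

theorem cdE (r : Fin 126) (a b : Fin 56) : (H14.minE7.γ b = H14.minE7.γ a + H14.goodE7.R.cf r) ↔
    Nat.beq (Nat.add (GC.getD b 0) 1116964193296) (Nat.add (GC.getD a 0) (RC.getD r 0)) = true := by
  have c := cd_inj (u := H14.minE7.γ b) (v := H14.minE7.γ a) (w := H14.goodE7.R.cf r)
    (fun i => H14.sd4_bound _ _) (fun i => H14.sd4_bound _ _) (bdR r)
  have c1 := cdG a; have c2 := cdG b; have c3 := cdR r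
  rw [Nat.beq_eq, Nat.add_eq, Nat.add_eq]; refine c.trans ?_
  omega

/-- positions of an entry -/
noncomputable def pos (t : ℕ) (l : List ℕ) : ℕ := List.rec (motive := fun _ => ℕ) 0
  (fun g _ ih => Nat.add (Nat.mul 2 ih) (cond (Nat.beq g t) 1 0)) l

theorem pos_bit (t : ℕ) (l : List ℕ) : ∀ b < l.length, (pos t l).testBit b = Nat.beq (l.getD b 0) t := by
  induction l with
  | nil => simp
  | cons g l ih =>
    intro b hb
    have : pos t (g :: l) = 2 ^ 1 * pos t l + cond (Nat.beq g t) 1 0 := rfl
    rw [this, Nat.testBit_two_pow_mul_add _ (by cases Nat.beq g t <;> decide)]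
    rcases b with _ | b
    · rw [if_pos (by decide), List.getD_cons_zero]; cases Nat.beq g t <;> decide
    · rw [if_neg (by omega), List.getD_cons_succ]; exact ih b (by simpa using hb)

theorem apT : (List.range 126).all (fun r => frc (ap r Id) fun Y => frc (RC.getD r 0) fun c =>
    (List.range 56).all fun a => frc (Nat.sub (Nat.add (GC.getD a 0) c) 1116964193296) fun t =>
    Nat.beq (col Y a) (Nat.xor (Nat.pow 2 a) (pos t GC)) && Nat.ble 1116964193296 (Nat.add (GC.getD a 0) c)) = true := by
  decide +kernel

theorem apS : ∀ r < 126, ∀ p < 12, d6 (Nat.shiftRight PTT (Nat.mul 144 r)) (2 * p) < 56 := by decide +kernel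

theorem M_X (r : ℕ) : M (X r) = toM 56 56 (ap r Id) := by
  by_cases h : r < 126
  · ext b a
    have e := H18.E7.M_x ⟨r, h⟩ b a
    have t := apT
    simp only [List.all_eq_true, List.mem_range, frc_eq, Bool.and_eq_true, Nat.beq_eq, Nat.ble_eq] at t
    obtain ⟨t, t'⟩ := t r h a a.2
    have t := congrArg (·.testBit b) t
    simp only [col_bit, decide_eq_true (show (b : ℕ) < 64 by omega), Bool.and_true] at t
    rw [show ∀ x y, Nat.xor x y = x ^^^ y from fun _ _ => rfl, Nat.testBit_xor, pos_bit _ _ _ b.2,
      Nat.pow_eq, Nat.testBit_two_pow] at t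
    have c4 := cdE ⟨r, h⟩ a b
    rw [Matrix.sub_apply, sub_eq_iff_eq_add] at e
    rw [X, dif_pos h, toM, of_apply, bt, t]
    refine e.trans ((congrArg (· + _) (if_congr c4 rfl rfl)).trans ?_)
    have : Nat.beq (Nat.add (GC.getD b 0) 1116964193296) (Nat.add (GC.getD a 0) (RC.getD r 0)) =
        Nat.beq (GC.getD b 0) (Nat.sub (Nat.add (GC.getD a 0) (RC.getD r 0)) 1116964193296) := by
      rw [Bool.eq_iff_iff, Nat.beq_eq, Nat.beq_eq]; simp only [Nat.add_eq, Nat.sub_eq] at t' ⊢; omega
    rw [← this, one_apply]
    simp only [Fin.ext_iff, eq_comm (a := (b : ℕ))]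
    by_cases h1 : (a : ℕ) = b <;> cases Nat.beq _ _ <;> simp [h1] <;> decide
  · rw [X, dif_neg h, map_one, ap, show Nat.blt r 126 = false by simpa [← Bool.not_eq_true, Nat.blt_eq] using h]
    exact (toM_Id (by decide)).symm

theorem toM_ap {m : ℕ} (r Y : ℕ) (hm : m ≤ 64 := by decide) : toM 56 m (ap r Y) = M (X r) * toM 56 m Y := by
  rw [M_X, ap, ap]
  cases h : Nat.blt r 126
  · rw [cond_false, cond_false, toM_Id, Matrix.one_mul]
  · exact toM_apl _ _ _ (apS r (Nat.blt_eq ▸ h)) (by decide) hm

@[simp] theorem wd_nil : wd [] = 1 := rfl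
theorem wd_cons (r : ℕ) (l : List ℕ) : wd (r :: l) = X r * wd l := by simp [wd]
theorem wd_append (l l' : List ℕ) : wd (l ++ l') = wd l * wd l' := by simp [wd]
theorem wd_one (r : ℕ) : wd [r] = X r := by simp [wd]

theorem toM_wma {m : ℕ} (l : List ℕ) (Y : ℕ) (hm : m ≤ 64 := by decide) :
    toM 56 m (wma l Y) = M (wd l) * toM 56 m Y := by
  induction l with
  | nil => simp [wma]
  | cons r l ih => rw [wd_cons, map_mul, Matrix.mul_assoc, ← ih]; exact toM_ap _ _ hm

theorem M_wd (l : List ℕ) : M (wd l) = toM 56 56 (wm l) := by rw [wm, toM_wma, toM_Id, Matrix.mul_one]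

theorem M_inj : Function.Injective M := (injective_iff_map_eq_one M).2 fun g h =>
  H18.E7.ρ_one (LinearMap.ext fun v => by rw [H18.E7.ρ_app, h]; simp)

/-- equality test for words -/
noncomputable def weq (l l' : List ℕ) : Bool := eqm 56 56 (wm l) (wm l')

theorem weq_iff {l l' : List ℕ} : weq l l' = true ↔ wd l = wd l' := by
  rw [weq, eqm_iff, ← M_wd, ← M_wd, M_inj.eq_iff]

theorem X_sq (r : ℕ) : X r * X r = 1 := by
  by_cases h : r < 126
  · have : ∀ r < 126, weq [r, r] [] = true := by decide +kernel
    simpa [wd] using weq_iff.1 (this r h)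
  · simp [X, h]

theorem X_inv (r : ℕ) : (X r)⁻¹ = X r := inv_eq_of_mul_eq_one_right (X_sq r)

theorem wd_reverse (l : List ℕ) : wd l.reverse = (wd l)⁻¹ := by
  induction l with
  | nil => simp
  | cons r l ih => rw [List.reverse_cons, wd_append, ih, wd_one, wd_cons, _root_.mul_inv_rev, X_inv]

theorem wd_conj (l l' : List ℕ) : wd (l ++ (l' ++ l.reverse)) = wd l * wd l' * (wd l)⁻¹ := by
  rw [wd_append, wd_append, wd_reverse, mul_assoc]

/-- commutation test for words -/
noncomputable def wcm (l l' : List ℕ) : Bool := weq (l ++ l') (l' ++ l)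

theorem wcm_iff {l l' : List ℕ} : wcm l l' = true ↔ Commute (wd l) (wd l') := by
  rw [wcm, weq_iff, wd_append, wd_append]; rfl

theorem wd_pow {l : List ℕ} (e : ℕ) (he : e < 65536 := by decide) : M (wd l ^ e) = toM 56 56 (pw 56 (wm l) e) := by
  rw [map_pow, M_wd, toM_pw _ _ he]

theorem wd_order {l : List ℕ} {p : ℕ} (hp : p.Prime) (h : eqm 56 56 (pw 56 (wm l) p) Id = true)
    (h1 : weq l [] = false) (he : p < 65536 := by decide) : orderOf (wd l) = p := by
  have := Fact.mk hp
  refine orderOf_eq_prime (M_inj ?_) fun e => by simp [weq_iff.2 (e.trans wd_nil.symm)] at h1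
  rw [wd_pow _ he, eqm_eq h, toM_Id, map_one]

end H7.ME
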