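import Cfsg.Agent.H7.ONL
import Cfsg.Agent.H16.O.ON

/-! Generated by tools/h0/tr.py. -/

set_option maxRecDepth 100000
set_option maxHeartbeats 0

namespace H7.ONG
set_option Elab.async false
open H16 H0.TR H7.OT
open scoped commutatorElement

noncomputable def Wf : List (List ℕ) := [[nat_lit 2, nat_lit 4, nat_lit 0, nat_lit 6, nat_lit 4, nat_lit 0, nat_lit 7],
  [nat_lit 2, nat_lit 6, nat_lit 4, nat_lit 0, nat_lit 1, nat_lit 0, nat_lit 1, nat_lit 4, nat_lit 6, nat_lit 1],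
  [nat_lit 0, nat_lit 7, nat_lit 4, nat_lit 0, nat_lit 6, nat_lit 4, nat_lit 2],
  [nat_lit 3],
  [nat_lit 3, nat_lit 4, nat_lit 6, nat_lit 0, nat_lit 6, nat_lit 4],
  [nat_lit 3, nat_lit 5, nat_lit 6, nat_lit 5, nat_lit 7],
  [nat_lit 0, nat_lit 1, nat_lit 6, nat_lit 1, nat_lit 4, nat_lit 0, nat_lit 6, nat_lit 4, nat_lit 7],
  [nat_lit 1, nat_lit 6, nat_lit 1, nat_lit 0, nat_lit 6, nat_lit 4, nat_lit 0, nat_lit 6, nat_lit 4],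
  [nat_lit 2, nat_lit 3, nat_lit 9, nat_lit 0, nat_lit 6, nat_lit 9, nat_lit 5, nat_lit 9, nat_lit 3, nat_lit 5, nat_lit 2, nat_lit 1, nat_lit 0, nat_lit 4, nat_lit 2, nat_lit 0, nat_lit 1, nat_lit 0],
  [nat_lit 9, nat_lit 7, nat_lit 8, nat_lit 1, nat_lit 8, nat_lit 5, nat_lit 3, nat_lit 8, nat_lit 2, nat_lit 4, nat_lit 6, nat_lit 0, nat_lit 4, nat_lit 6, nat_lit 4, nat_lit 2, nat_lit 1]]
noncomputable def Uw : List ℕ := [nat_lit 0, nat_lit 3, nat_lit 9, nat_lit 3, nat_lit 4, nat_lit 9, nat_lit 9, nat_lit 8, nat_lit 4, nat_lit 6, nat_lit 5, nat_lit 0, nat_lit 6, nat_lit 4, nat_lit 1]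
noncomputable def W : List (List ℕ) := [[nat_lit 3],
  [nat_lit 1, nat_lit 7, nat_lit 4, nat_lit 0, nat_lit 1, nat_lit 6, nat_lit 0, nat_lit 6, nat_lit 4, nat_lit 6],
  [nat_lit 1, nat_lit 7, nat_lit 4, nat_lit 6, nat_lit 0, nat_lit 6, nat_lit 1, nat_lit 0, nat_lit 4, nat_lit 6],
  [nat_lit 6, nat_lit 1, nat_lit 4, nat_lit 7, nat_lit 1],
  [nat_lit 1, nat_lit 2, nat_lit 6, nat_lit 4, nat_lit 0, nat_lit 7, nat_lit 4, nat_lit 6],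
  [nat_lit 1, nat_lit 0, nat_lit 4, nat_lit 0, nat_lit 1, nat_lit 0, nat_lit 6, nat_lit 4, nat_lit 6, nat_lit 1, nat_lit 0, nat_lit 1, nat_lit 0],
  [nat_lit 4, nat_lit 0, nat_lit 1, nat_lit 0, nat_lit 4, nat_lit 6, nat_lit 1, nat_lit 6, nat_lit 0, nat_lit 4, nat_lit 1, nat_lit 0],
  [nat_lit 6, nat_lit 1, nat_lit 0, nat_lit 1, nat_lit 4, nat_lit 0, nat_lit 2, nat_lit 4, nat_lit 6, nat_lit 4, nat_lit 1, nat_lit 0, nat_lit 1],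
  [nat_lit 1, nat_lit 0, nat_lit 1, nat_lit 3, nat_lit 4, nat_lit 7, nat_lit 0, nat_lit 4, nat_lit 6, nat_lit 1, nat_lit 0, nat_lit 1, nat_lit 0],
  [nat_lit 10],
  [nat_lit 6, nat_lit 4, nat_lit 0, nat_lit 1, nat_lit 6, nat_lit 4, nat_lit 7, nat_lit 0, nat_lit 4, nat_lit 1, nat_lit 0, nat_lit 1],
  [nat_lit 1, nat_lit 0, nat_lit 1, nat_lit 4, nat_lit 0, nat_lit 1, nat_lit 6, nat_lit 4, nat_lit 7, nat_lit 0, nat_lit 4, nat_lit 7],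
  [nat_lit 3, nat_lit 4, nat_lit 6, nat_lit 0, nat_lit 6, nat_lit 4],
  [nat_lit 4, nat_lit 0, nat_lit 1, nat_lit 0, nat_lit 6, nat_lit 4, nat_lit 7, nat_lit 0, nat_lit 1, nat_lit 0, nat_lit 4, nat_lit 3],
  [nat_lit 4, nat_lit 0, nat_lit 1, nat_lit 0, nat_lit 1, nat_lit 4, nat_lit 0, nat_lit 7, nat_lit 1, nat_lit 7, nat_lit 4, nat_lit 0],
  [nat_lit 4, nat_lit 0, nat_lit 1, nat_lit 0, nat_lit 1, nat_lit 4, nat_lit 0, nat_lit 2, nat_lit 4, nat_lit 1, nat_lit 0],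
  [nat_lit 6, nat_lit 1, nat_lit 7, nat_lit 1],
  [nat_lit 6, nat_lit 4, nat_lit 0, nat_lit 6, nat_lit 1, nat_lit 4, nat_lit 7, nat_lit 0, nat_lit 4, nat_lit 6, nat_lit 1, nat_lit 0, nat_lit 7, nat_lit 1],
  [nat_lit 0, nat_lit 1, nat_lit 2, nat_lit 4, nat_lit 0, nat_lit 1, nat_lit 2, nat_lit 4],
  [nat_lit 2, nat_lit 6, nat_lit 4, nat_lit 6, nat_lit 0, nat_lit 4, nat_lit 6, nat_lit 1],
  [nat_lit 6, nat_lit 0, nat_lit 1, nat_lit 0, nat_lit 4, nat_lit 0, nat_lit 1, nat_lit 0, nat_lit 4, nat_lit 7, nat_lit 4, nat_lit 0],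
  [nat_lit 6, nat_lit 1, nat_lit 0, nat_lit 1, nat_lit 4, nat_lit 0, nat_lit 2, nat_lit 4, nat_lit 6, nat_lit 4, nat_lit 1, nat_lit 0, nat_lit 1],
  [nat_lit 7, nat_lit 4, nat_lit 7, nat_lit 0, nat_lit 1, nat_lit 4, nat_lit 7, nat_lit 0, nat_lit 7, nat_lit 4, nat_lit 2],
  [nat_lit 6, nat_lit 4, nat_lit 0, nat_lit 1, nat_lit 2, nat_lit 4, nat_lit 7, nat_lit 0, nat_lit 4, nat_lit 3, nat_lit 2, nat_lit 1, nat_lit 0],
  [nat_lit 7, nat_lit 4, nat_lit 6, nat_lit 0, nat_lit 6, nat_lit 1, nat_lit 4, nat_lit 6, nat_lit 1],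
  [nat_lit 0, nat_lit 4, nat_lit 6, nat_lit 4, nat_lit 0, nat_lit 1, nat_lit 0, nat_lit 4, nat_lit 7, nat_lit 2, nat_lit 0, nat_lit 1],
  [nat_lit 6, nat_lit 4, nat_lit 7],
  [nat_lit 0, nat_lit 1, nat_lit 4, nat_lit 0, nat_lit 7, nat_lit 4, nat_lit 0, nat_lit 1, nat_lit 7, nat_lit 2],
  [nat_lit 1, nat_lit 7, nat_lit 4, nat_lit 0, nat_lit 1, nat_lit 6, nat_lit 0, nat_lit 6, nat_lit 4, nat_lit 6],
  [nat_lit 1, nat_lit 2, nat_lit 6, nat_lit 4, nat_lit 0, nat_lit 7, nat_lit 4, nat_lit 6],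
  [nat_lit 0, nat_lit 1, nat_lit 7, nat_lit 0, nat_lit 4, nat_lit 6, nat_lit 0, nat_lit 1, nat_lit 6, nat_lit 0, nat_lit 4, nat_lit 7],
  [nat_lit 1, nat_lit 0, nat_lit 7, nat_lit 4, nat_lit 0, nat_lit 1, nat_lit 0, nat_lit 2, nat_lit 4, nat_lit 0, nat_lit 7, nat_lit 0],
  [nat_lit 1, nat_lit 0, nat_lit 2, nat_lit 4, nat_lit 0, nat_lit 1, nat_lit 0, nat_lit 7, nat_lit 4, nat_lit 7, nat_lit 4],
  [nat_lit 4, nat_lit 7, nat_lit 9, nat_lit 8, nat_lit 8, nat_lit 9, nat_lit 6, nat_lit 4, nat_lit 9, nat_lit 1, nat_lit 5, nat_lit 4, nat_lit 0, nat_lit 6, nat_lit 4, nat_lit 6, nat_lit 2],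
  [nat_lit 9, nat_lit 1, nat_lit 0, nat_lit 6, nat_lit 5, nat_lit 8, nat_lit 9, nat_lit 9, nat_lit 5, nat_lit 6],
  [nat_lit 0, nat_lit 9, nat_lit 1, nat_lit 8, nat_lit 5, nat_lit 8, nat_lit 0, nat_lit 5, nat_lit 1, nat_lit 6, nat_lit 0, nat_lit 4, nat_lit 1, nat_lit 6, nat_lit 5, nat_lit 1],
  [nat_lit 1, nat_lit 0, nat_lit 9, nat_lit 3, nat_lit 8, nat_lit 4, nat_lit 9, nat_lit 1, nat_lit 9, nat_lit 0, nat_lit 1, nat_lit 5, nat_lit 7, nat_lit 4, nat_lit 1, nat_lit 7],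
  [nat_lit 8, nat_lit 1, nat_lit 9, nat_lit 9, nat_lit 1, nat_lit 6, nat_lit 8, nat_lit 9, nat_lit 5, nat_lit 7, nat_lit 5, nat_lit 2, nat_lit 4, nat_lit 2, nat_lit 1],
  [nat_lit 1, nat_lit 7, nat_lit 4, nat_lit 0, nat_lit 1, nat_lit 6, nat_lit 0, nat_lit 6, nat_lit 4, nat_lit 6],
  [nat_lit 0, nat_lit 8, nat_lit 8, nat_lit 0, nat_lit 1, nat_lit 9, nat_lit 5, nat_lit 8, nat_lit 0, nat_lit 1, nat_lit 7, nat_lit 5, nat_lit 4, nat_lit 6, nat_lit 1, nat_lit 5, nat_lit 6, nat_lit 0],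
  [nat_lit 0, nat_lit 2, nat_lit 3, nat_lit 8, nat_lit 8, nat_lit 1, nat_lit 0, nat_lit 3, nat_lit 9, nat_lit 7, nat_lit 5, nat_lit 1, nat_lit 6, nat_lit 4, nat_lit 1, nat_lit 0, nat_lit 7, nat_lit 0],
  [nat_lit 6, nat_lit 8, nat_lit 0, nat_lit 2, nat_lit 4, nat_lit 7, nat_lit 8, nat_lit 5, nat_lit 9, nat_lit 6, nat_lit 5, nat_lit 0, nat_lit 7, nat_lit 0, nat_lit 4, nat_lit 1],
  [nat_lit 2, nat_lit 4, nat_lit 0, nat_lit 9, nat_lit 2, nat_lit 9, nat_lit 3, nat_lit 4, nat_lit 9, nat_lit 4, nat_lit 1, nat_lit 7, nat_lit 1, nat_lit 7, nat_lit 0, nat_lit 4],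
  [nat_lit 2, nat_lit 6, nat_lit 4, nat_lit 9, nat_lit 6, nat_lit 5, nat_lit 6, nat_lit 8, nat_lit 7, nat_lit 5, nat_lit 0, nat_lit 6, nat_lit 1, nat_lit 5],
  [nat_lit 1, nat_lit 4, nat_lit 0, nat_lit 1, nat_lit 0, nat_lit 2, nat_lit 4],
  [nat_lit 1, nat_lit 3, nat_lit 4, nat_lit 0, nat_lit 1, nat_lit 0, nat_lit 4],
  [nat_lit 10, nat_lit 4, nat_lit 6, nat_lit 0, nat_lit 4, nat_lit 0, nat_lit 1, nat_lit 0, nat_lit 2, nat_lit 4, nat_lit 6, nat_lit 2, nat_lit 1, nat_lit 0],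
  [nat_lit 1, nat_lit 3, nat_lit 4, nat_lit 0, nat_lit 1, nat_lit 0, nat_lit 7, nat_lit 4]]
noncomputable def PA : ℕ → ℕ → ℕ := dbP TON.P Wf (nat_lit 122760) (nat_lit 10)
noncomputable def FP : ℕ → ℕ → ℕ := wdsP PA W
noncomputable def G1 : List (List ℕ) := [[nat_lit 2, nat_lit 3, nat_lit 2, nat_lit 0, nat_lit 0, nat_lit 2, nat_lit 0, nat_lit 2, nat_lit 3, nat_lit 2, nat_lit 0, nat_lit 0, nat_lit 2, nat_lit 0],
  [nat_lit 0, nat_lit 2, nat_lit 5, nat_lit 2, nat_lit 0, nat_lit 2, nat_lit 1, nat_lit 2, nat_lit 5, nat_lit 1, nat_lit 2, nat_lit 0, nat_lit 0, nat_lit 2, nat_lit 1, nat_lit 2, nat_lit 3, nat_lit 1, nat_lit 2],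
  [nat_lit 0, nat_lit 3, nat_lit 2, nat_lit 5, nat_lit 1, nat_lit 2, nat_lit 1, nat_lit 4, nat_lit 2, nat_lit 3, nat_lit 2, nat_lit 5, nat_lit 0, nat_lit 2, nat_lit 0, nat_lit 4, nat_lit 3],
  [nat_lit 5, nat_lit 2, nat_lit 3, nat_lit 2, nat_lit 0, nat_lit 2, nat_lit 0, nat_lit 0, nat_lit 2, nat_lit 0, nat_lit 2, nat_lit 3, nat_lit 0, nat_lit 2, nat_lit 4],
  [nat_lit 2, nat_lit 3, nat_lit 2, nat_lit 0, nat_lit 2, nat_lit 0, nat_lit 0, nat_lit 2, nat_lit 3, nat_lit 2, nat_lit 0, nat_lit 0, nat_lit 2, nat_lit 1, nat_lit 2, nat_lit 3, nat_lit 2],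
  [nat_lit 3, nat_lit 5, nat_lit 2, nat_lit 0, nat_lit 0, nat_lit 2, nat_lit 3, nat_lit 2, nat_lit 0, nat_lit 0, nat_lit 2, nat_lit 4, nat_lit 3],
  [nat_lit 0, nat_lit 0, nat_lit 4, nat_lit 2, nat_lit 0, nat_lit 2, nat_lit 1, nat_lit 2, nat_lit 4, nat_lit 1],
  [nat_lit 0, nat_lit 5, nat_lit 2, nat_lit 0, nat_lit 2, nat_lit 1, nat_lit 2, nat_lit 5, nat_lit 0, nat_lit 0],
  [nat_lit 4, nat_lit 2, nat_lit 4, nat_lit 0, nat_lit 4, nat_lit 0, nat_lit 0, nat_lit 5, nat_lit 0, nat_lit 4, nat_lit 1, nat_lit 4, nat_lit 2, nat_lit 5, nat_lit 3, nat_lit 1, nat_lit 1, nat_lit 2, nat_lit 4, nat_lit 1],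
  [nat_lit 4, nat_lit 1, nat_lit 5, nat_lit 0, nat_lit 5, nat_lit 3, nat_lit 2, nat_lit 4, nat_lit 2, nat_lit 3, nat_lit 5, nat_lit 1, nat_lit 5, nat_lit 0, nat_lit 2, nat_lit 5, nat_lit 1, nat_lit 4, nat_lit 0]]
noncomputable def G2 : List (List ℕ) := [[nat_lit 2, nat_lit 0, nat_lit 1, nat_lit 2, nat_lit 1, nat_lit 2, nat_lit 0, nat_lit 2, nat_lit 1, nat_lit 0, nat_lit 2, nat_lit 1, nat_lit 2, nat_lit 0, nat_lit 1, nat_lit 2, nat_lit 0, nat_lit 1, nat_lit 2, nat_lit 1, nat_lit 0, nat_lit 1, nat_lit 2, nat_lit 1, nat_lit 2, nat_lit 0, nat_lit 1, nat_lit 0, nat_lit 2, nat_lit 1, nat_lit 0, nat_lit 2, nat_lit 1, nat_lit 2, nat_lit 0, nat_lit 2, nat_lit 0, nat_lit 1, nat_lit 2, nat_lit 1, nat_lit 0, nat_lit 2, nat_lit 1],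
  [nat_lit 2, nat_lit 0, nat_lit 1, nat_lit 0, nat_lit 2, nat_lit 0, nat_lit 1, nat_lit 0, nat_lit 2, nat_lit 0, nat_lit 1, nat_lit 0, nat_lit 1, nat_lit 2, nat_lit 0, nat_lit 1, nat_lit 2, nat_lit 0, nat_lit 1, nat_lit 0, nat_lit 2, nat_lit 0, nat_lit 2, nat_lit 1, nat_lit 0, nat_lit 1, nat_lit 2, nat_lit 0, nat_lit 2, nat_lit 1, nat_lit 0, nat_lit 2, nat_lit 1, nat_lit 0, nat_lit 2, nat_lit 1, nat_lit 0, nat_lit 1, nat_lit 0, nat_lit 2, nat_lit 0, nat_lit 1, nat_lit 0, nat_lit 2, nat_lit 0, nat_lit 1, nat_lit 0, nat_lit 2],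
  [nat_lit 2, nat_lit 1, nat_lit 0, nat_lit 2, nat_lit 1, nat_lit 0, nat_lit 1, nat_lit 2, nat_lit 1, nat_lit 0, nat_lit 2, nat_lit 1, nat_lit 0, nat_lit 2, nat_lit 0, nat_lit 1, nat_lit 0, nat_lit 2, nat_lit 0, nat_lit 1, nat_lit 2, nat_lit 1, nat_lit 2, nat_lit 0, nat_lit 1, nat_lit 0, nat_lit 2, nat_lit 1, nat_lit 2, nat_lit 0, nat_lit 2, nat_lit 0, nat_lit 1, nat_lit 0, nat_lit 2, nat_lit 1, nat_lit 2, nat_lit 0, nat_lit 1, nat_lit 0, nat_lit 2, nat_lit 1, nat_lit 2, nat_lit 0, nat_lit 1, nat_lit 0, nat_lit 2],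
  [nat_lit 2, nat_lit 1, nat_lit 0, nat_lit 2, nat_lit 1, nat_lit 0, nat_lit 2, nat_lit 1, nat_lit 0, nat_lit 2, nat_lit 1, nat_lit 0, nat_lit 1, nat_lit 2, nat_lit 0, nat_lit 1, nat_lit 0, nat_lit 1, nat_lit 2, nat_lit 0, nat_lit 1, nat_lit 2, nat_lit 0, nat_lit 1, nat_lit 0, nat_lit 2, nat_lit 0, nat_lit 1, nat_lit 0, nat_lit 2, nat_lit 1, nat_lit 2, nat_lit 1, nat_lit 0, nat_lit 2, nat_lit 1, nat_lit 2, nat_lit 0, nat_lit 1, nat_lit 2, nat_lit 0, nat_lit 1, nat_lit 0, nat_lit 2, nat_lit 1, nat_lit 2, nat_lit 1]]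

theorem lts : allL (ltAll 10) Wf = true ∧ ltAll 10 Uw = 0 ∧ allL (ltAll 11) W = true ∧ nth [] W 0 = [3] := by decide +kernel
theorem cu : allZ (fun k => eqL TON.P 10 TON.B (nth [] OON.Wb k ++ Uw) (Uw ++ nth [] Wf k)) 0 10 = true := by decide +kernel
theorem ff : allZ (wEnt TON.P (wdsP TON.P Wf) 10 TON.B Wf) 0 10 = true := by decide +kernel
theorem rl : allL (fixL (sbP FP [44, 45, 46, 47]) 4 TON.B) ONM.Rl = true := by decide +kernel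
theorem lk_0 : allZ (wEnt FP (sbP FP [44, 45, 46, 47]) 4 TON.B ONL.F_W) (nat_lit 0) (nat_lit 11) = true := by decide +kernel
theorem lk_1 : allZ (wEnt FP (sbP FP [44, 45, 46, 47]) 4 TON.B ONL.F_W) (nat_lit 11) (nat_lit 11) = true := by decide +kernel
theorem lk_2 : allZ (wEnt FP (sbP FP [44, 45, 46, 47]) 4 TON.B ONL.F_W) (nat_lit 22) (nat_lit 11) = true := by decide +kernel
theorem inn : allL (fun k => ltAll 10 (nth [] W k)) [10, 11, 12, 13, 14, 33, 35, 36, 37, 39, 40, 42, 43] = true := by decide +kernel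
theorem g1 : allZ (wEnt PA (sbP FP [10, 11, 12, 13, 33, 34]) 6 TON.B G1) 0 10 = true := by decide +kernel
theorem g2 : allZ (wEnt (sbP FP [10, 12, 13, 33]) (sbP FP [14, 15, 41]) 3 TON.B G2) 0 4 = true := by decide +kernel
theorem dr : allZ (cmEnt (sbP FP [6, 7, 8, 33, 30]) 5 TON.B [([0, 3, 4, 3, 3], [3, 4, 3, 3]), ([3, 2, 0, 3, 4], [2]), ([4, 3, 2, 0, 3, 4], [1])]) 0 3 = true := by decide +kernel
theorem e_r0a : eqL FP 48 TON.B [1, 33] [33, 0] = 0 := by decide +kernel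
theorem e_r0z : eqL FP 48 TON.B [0, 33] [33, 0, 1] = 0 := by decide +kernel
theorem e_r0s : eqL FP 48 TON.B [2, 33] [33, 1, 2] = 0 := by decide +kernel
theorem e_r0f : eqL FP 48 TON.B [9, 33] [33, 9] = 0 := by decide +kernel
theorem e_r0i : eqL FP 48 TON.B [34] [33, 33] = 0 := by decide +kernel
theorem e_r1p : eqL FP 48 TON.B [17, 35] [35, 17] = 0 := by decide +kernel
theorem e_r1q : eqL FP 48 TON.B [18, 35] [35, 18] = 0 := by decide +kernel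
theorem e_r1z : eqL FP 48 TON.B [0, 35] [35, 14] = 0 := by decide +kernel
theorem e_r1w : eqL FP 48 TON.B [14, 35] [35, 14, 0] = 0 := by decide +kernel
theorem e_r2p : eqL FP 48 TON.B [17, 36] [36, 17] = 0 := by decide +kernel
theorem e_r2q : eqL FP 48 TON.B [18, 36] [36, 18] = 0 := by decide +kernel
theorem e_r2z : eqL FP 48 TON.B [0, 36] [36, 15] = 0 := by decide +kernel
theorem e_r2w : eqL FP 48 TON.B [15, 36] [36, 15, 0] = 0 := by decide +kernel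
theorem e_g0z : eqL FP 48 TON.B [0, 37] [37, 1] = 0 := by decide +kernel
theorem e_g0w : eqL FP 48 TON.B [14, 37] [37, 21] = 0 := by decide +kernel
theorem e_c1a : eqL FP 48 TON.B [1, 39] [39, 38] = 0 := by decide +kernel
theorem e_c1z : eqL FP 48 TON.B [0, 39] [39, 14] = 0 := by decide +kernel
theorem e_c2a : eqL FP 48 TON.B [1, 40] [40, 38] = 0 := by decide +kernel
theorem e_c2z : eqL FP 48 TON.B [0, 40] [40, 15] = 0 := by decide +kernel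
theorem e_m1z : eqL FP 48 TON.B [14, 42] [42, 14] = 0 := by decide +kernel
theorem e_m1e : eqL FP 48 TON.B [15, 38, 42] [42, 41] = 0 := by decide +kernel
theorem e_m2z : eqL FP 48 TON.B [14, 43] [43, 15] = 0 := by decide +kernel
theorem e_m2e : eqL FP 48 TON.B [15, 38, 43] [43, 41] = 0 := by decide +kernel

theorem lk : ∀ i < 33, (wEnt FP (sbP FP [44, 45, 46, 47]) 4 TON.B ONL.F_W) i = 0 := range_glue (range_glue (allZ_sound0 lk_0) lk_1) lk_2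

end H7.ONG
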