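import Cfsg.Agent.H7.One1
import Cfsg.Agent.H15.M.M22

/-! Generated by tools/h0/tr.py. -/

set_option maxRecDepth 100000
set_option maxHeartbeats 0

namespace H7.OneA
open H16 H0.TR

noncomputable def x5_W : List (List ℕ) := [[nat_lit 2, nat_lit 5, nat_lit 7, nat_lit 6, nat_lit 1, nat_lit 5, nat_lit 8, nat_lit 7, nat_lit 6, nat_lit 1, nat_lit 5]]
noncomputable def x5_P : ℕ → ℕ → ℕ := wdsP H15.MM22.P x5_W
noncomputable def a5h_W : List (List ℕ) := [[nat_lit 4, nat_lit 6, nat_lit 3, nat_lit 4],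
  [nat_lit 0, nat_lit 6, nat_lit 0],
  [nat_lit 2, nat_lit 5, nat_lit 6, nat_lit 2],
  [nat_lit 1, nat_lit 3, nat_lit 6, nat_lit 4],
  [nat_lit 7],
  [nat_lit 0],
  [nat_lit 1],
  [nat_lit 2],
  [nat_lit 3],
  [nat_lit 4],
  [nat_lit 5],
  [nat_lit 6],
  [nat_lit 8]]
noncomputable def a5h_P : ℕ → ℕ → ℕ := wdsP H15.MM22.P a5h_W
noncomputable def a5l0Dd : ℕ := nat_lit 0x83795654473b41362e42453a2d34251d1c1a1b110c00
noncomputable def a5l0D (u : ℕ) : ℕ := Nat.land (Nat.shiftRight a5l0Dd (Nat.mul u (nat_lit 8))) (nat_lit 255)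
noncomputable def a5l0Pd : ℕ := nat_lit 0x2249d9104b8c562a5569e8b78c41
noncomputable def a5l0P (u : ℕ) : ℕ := Nat.land (Nat.shiftRight a5l0Pd (Nat.mul u (nat_lit 5))) (nat_lit 31)
noncomputable def a5l0Qd : ℕ := nat_lit 0x49059a6b01b8eb229f13359410400
noncomputable def a5l0Q (u : ℕ) : ℕ := Nat.land (Nat.shiftRight a5l0Qd (Nat.mul u (nat_lit 5))) (nat_lit 31)
noncomputable def a5l0 : Lev := ⟨22, 13, a5l0D, a5l0P, a5l0Q⟩
noncomputable def a5l1Dd : ℕ := nat_lit 0x88212720261b303425181c0c100b0a090807060500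
noncomputable def a5l1D (u : ℕ) : ℕ := Nat.land (Nat.shiftRight a5l1Dd (Nat.mul u (nat_lit 8))) (nat_lit 255)
noncomputable def a5l1Pd : ℕ := nat_lit 0x2b3cce8b6471a92c2cd045d690
noncomputable def a5l1P (u : ℕ) : ℕ := Nat.land (Nat.shiftRight a5l1Pd (Nat.mul u (nat_lit 5))) (nat_lit 31)
noncomputable def a5l1Qd : ℕ := nat_lit 0x4c41335e0941c81a925644e45d000
noncomputable def a5l1Q (u : ℕ) : ℕ := Nat.land (Nat.shiftRight a5l1Qd (Nat.mul u (nat_lit 5))) (nat_lit 31)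
noncomputable def a5l1 : Lev := ⟨21, 12, a5l1D, a5l1P, a5l1Q⟩
noncomputable def a5l2Dd : ℕ := nat_lit 0xa0d583646b11173a50895303c4070a18200
noncomputable def a5l2D (u : ℕ) : ℕ := Nat.land (Nat.shiftRight a5l2Dd (Nat.mul u (nat_lit 7))) (nat_lit 127)
noncomputable def a5l2Pd : ℕ := nat_lit 0x248d69c5486a5c5654f45bc62
noncomputable def a5l2P (u : ℕ) : ℕ := Nat.land (Nat.shiftRight a5l2Pd (Nat.mul u (nat_lit 5))) (nat_lit 31)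
noncomputable def a5l2Qd : ℕ := nat_lit 0x40c47c9c0125671b54c2c51308000
noncomputable def a5l2Q (u : ℕ) : ℕ := Nat.land (Nat.shiftRight a5l2Qd (Nat.mul u (nat_lit 5))) (nat_lit 31)
noncomputable def a5l2 : Lev := ⟨20, 5, a5l2D, a5l2P, a5l2Q⟩
noncomputable def a5l3Dd : ℕ := nat_lit 0x8a06a14d864e2cc1c90c2040
noncomputable def a5l3D (u : ℕ) : ℕ := Nat.land (Nat.shiftRight a5l3Dd (Nat.mul u (nat_lit 6))) (nat_lit 63)
noncomputable def a5l3Pd : ℕ := nat_lit 0xa2cef715034cea664a2a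
noncomputable def a5l3P (u : ℕ) : ℕ := Nat.land (Nat.shiftRight a5l3Pd (Nat.mul u (nat_lit 5))) (nat_lit 31)
noncomputable def a5l3Qd : ℕ := nat_lit 0x5f6210cb03e079d4a08000
noncomputable def a5l3Q (u : ℕ) : ℕ := Nat.land (Nat.shiftRight a5l3Qd (Nat.mul u (nat_lit 4))) (nat_lit 15)
noncomputable def a5l3 : Lev := ⟨16, 4, a5l3D, a5l3P, a5l3Q⟩
noncomputable def a5l4Dd : ℕ := nat_lit 4
noncomputable def a5l4D (u : ℕ) : ℕ := Nat.land (Nat.shiftRight a5l4Dd (Nat.mul u (nat_lit 1))) (nat_lit 1)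
noncomputable def a5l4Pd : ℕ := nat_lit 0x5563
noncomputable def a5l4P (u : ℕ) : ℕ := Nat.land (Nat.shiftRight a5l4Pd (Nat.mul u (nat_lit 5))) (nat_lit 31)
noncomputable def a5l4Qd : ℕ := nat_lit 0x80000400000
noncomputable def a5l4Q (u : ℕ) : ℕ := Nat.land (Nat.shiftRight a5l4Qd (Nat.mul u (nat_lit 2))) (nat_lit 3)
noncomputable def a5l4 : Lev := ⟨3, 1, a5l4D, a5l4P, a5l4Q⟩
noncomputable def c5e_W : List (List ℕ) := [[nat_lit 0, nat_lit 3, nat_lit 6, nat_lit 1, nat_lit 7, nat_lit 8]]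
noncomputable def c5e_P : ℕ → ℕ → ℕ := wdsP H15.MM22.P c5e_W
noncomputable def c5c0Dd : ℕ := nat_lit 0x390
noncomputable def c5c0D (u : ℕ) : ℕ := Nat.land (Nat.shiftRight c5c0Dd (Nat.mul u (nat_lit 2))) (nat_lit 3)
noncomputable def c5c0Pd : ℕ := nat_lit 0x21c141
noncomputable def c5c0P (u : ℕ) : ℕ := Nat.land (Nat.shiftRight c5c0Pd (Nat.mul u (nat_lit 5))) (nat_lit 31)
noncomputable def c5c0Qd : ℕ := nat_lit 0x2000040000700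
noncomputable def c5c0Q (u : ℕ) : ℕ := Nat.land (Nat.shiftRight c5c0Qd (Nat.mul u (nat_lit 3))) (nat_lit 7)
noncomputable def c5c0 : Lev := ⟨5, 1, c5c0D, c5c0P, c5c0Q⟩
noncomputable def a5n0Fd : ℕ := nat_lit 0x4864804218202161611000
noncomputable def a5n0F (u : ℕ) : ℕ := Nat.land (Nat.shiftRight a5n0Fd (Nat.mul u (nat_lit 4))) (nat_lit 15)
noncomputable def a5n0 : Nd := ⟨a5n0F, (nat_lit 2), (nat_lit 1), [[nat_lit 0]], [((nat_lit 0), []), ((nat_lit 0), [nat_lit 0]), ((nat_lit 0), [nat_lit 0, nat_lit 0]), ((nat_lit 0), [nat_lit 0, nat_lit 0, nat_lit 0]), ((nat_lit 0), [nat_lit 0, nat_lit 0, nat_lit 0, nat_lit 0])], []⟩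
noncomputable def x7_W : List (List ℕ) := [[nat_lit 0, nat_lit 2, nat_lit 5, nat_lit 6, nat_lit 2, nat_lit 7, nat_lit 6, nat_lit 1, nat_lit 5, nat_lit 8, nat_lit 7]]
noncomputable def x7_P : ℕ → ℕ → ℕ := wdsP H15.MM22.P x7_W
noncomputable def a7h_W : List (List ℕ) := [[nat_lit 4, nat_lit 0, nat_lit 1],
  [nat_lit 3, nat_lit 4, nat_lit 7, nat_lit 6, nat_lit 2, nat_lit 7],
  [nat_lit 3, nat_lit 4, nat_lit 7, nat_lit 6, nat_lit 2, nat_lit 7],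
  [nat_lit 0, nat_lit 6, nat_lit 4, nat_lit 7, nat_lit 6, nat_lit 0],
  [nat_lit 0],
  [nat_lit 1],
  [nat_lit 2],
  [nat_lit 3],
  [nat_lit 4],
  [nat_lit 5],
  [nat_lit 6],
  [nat_lit 7],
  [nat_lit 8]]
noncomputable def a7h_P : ℕ → ℕ → ℕ := wdsP H15.MM22.P a7h_W
noncomputable def a7l0Dd : ℕ := nat_lit 0x65c35b28254524231b2d222c2b20271e1a18100e0c00
noncomputable def a7l0D (u : ℕ) : ℕ := Nat.land (Nat.shiftRight a7l0Dd (Nat.mul u (nat_lit 8))) (nat_lit 255)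
noncomputable def a7l0Pd : ℕ := nat_lit 0xae9912b8d686649a8828e37d841
noncomputable def a7l0P (u : ℕ) : ℕ := Nat.land (Nat.shiftRight a7l0Pd (Nat.mul u (nat_lit 5))) (nat_lit 31)
noncomputable def a7l0Qd : ℕ := nat_lit 0x9cd9a9e71d12b81a282b2b220400
noncomputable def a7l0Q (u : ℕ) : ℕ := Nat.land (Nat.shiftRight a7l0Qd (Nat.mul u (nat_lit 5))) (nat_lit 31)
noncomputable def a7l0 : Lev := ⟨22, 13, a7l0D, a7l0P, a7l0Q⟩
noncomputable def a7l1Dd : ℕ := nat_lit 0x6196f67ec84adaa96090a942648890182c500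
noncomputable def a7l1D (u : ℕ) : ℕ := Nat.land (Nat.shiftRight a7l1Dd (Nat.mul u (nat_lit 7))) (nat_lit 127)
noncomputable def a7l1Pd : ℕ := nat_lit 0xe2c5144d644828ebb326f309a3
noncomputable def a7l1P (u : ℕ) : ℕ := Nat.land (Nat.shiftRight a7l1Pd (Nat.mul u (nat_lit 5))) (nat_lit 31)
noncomputable def a7l1Qd : ℕ := nat_lit 0x1dd02b64b25026429f148e6c00800
noncomputable def a7l1Q (u : ℕ) : ℕ := Nat.land (Nat.shiftRight a7l1Qd (Nat.mul u (nat_lit 5))) (nat_lit 31)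
noncomputable def a7l1 : Lev := ⟨21, 12, a7l1D, a7l1P, a7l1Q⟩
noncomputable def a7l2Dd : ℕ := nat_lit 0x56846958c945b222a081e14244070c14200
noncomputable def a7l2D (u : ℕ) : ℕ := Nat.land (Nat.shiftRight a7l2Dd (Nat.mul u (nat_lit 7))) (nat_lit 127)
noncomputable def a7l2Pd : ℕ := nat_lit 0x2c5c22356f349474c26cb52a8
noncomputable def a7l2P (u : ℕ) : ℕ := Nat.land (Nat.shiftRight a7l2Pd (Nat.mul u (nat_lit 5))) (nat_lit 31)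
noncomputable def a7l2Qd : ℕ := nat_lit 0xc222aa46645c46a4e042e6f04000
noncomputable def a7l2Q (u : ℕ) : ℕ := Nat.land (Nat.shiftRight a7l2Qd (Nat.mul u (nat_lit 5))) (nat_lit 31)
noncomputable def a7l2 : Lev := ⟨20, 10, a7l2D, a7l2P, a7l2Q⟩
noncomputable def a7l3Dd : ℕ := nat_lit 0xee6fcc45f049ca820c20
noncomputable def a7l3D (u : ℕ) : ℕ := Nat.land (Nat.shiftRight a7l3Dd (Nat.mul u (nat_lit 5))) (nat_lit 31)
noncomputable def a7l3Pd : ℕ := nat_lit 0x2b13574973246903bec2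
noncomputable def a7l3P (u : ℕ) : ℕ := Nat.land (Nat.shiftRight a7l3Pd (Nat.mul u (nat_lit 5))) (nat_lit 31)
noncomputable def a7l3Qd : ℕ := nat_lit 0x1c58a642b0e90d030f70000
noncomputable def a7l3Q (u : ℕ) : ℕ := Nat.land (Nat.shiftRight a7l3Qd (Nat.mul u (nat_lit 4))) (nat_lit 15)
noncomputable def a7l3 : Lev := ⟨16, 4, a7l3D, a7l3P, a7l3Q⟩
noncomputable def a7l4Dd : ℕ := nat_lit 4
noncomputable def a7l4D (u : ℕ) : ℕ := Nat.land (Nat.shiftRight a7l4Dd (Nat.mul u (nat_lit 1))) (nat_lit 1)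
noncomputable def a7l4Pd : ℕ := nat_lit 0x41f3
noncomputable def a7l4P (u : ℕ) : ℕ := Nat.land (Nat.shiftRight a7l4Pd (Nat.mul u (nat_lit 5))) (nat_lit 31)
noncomputable def a7l4Qd : ℕ := nat_lit 0x240000000
noncomputable def a7l4Q (u : ℕ) : ℕ := Nat.land (Nat.shiftRight a7l4Qd (Nat.mul u (nat_lit 2))) (nat_lit 3)
noncomputable def a7l4 : Lev := ⟨3, 1, a7l4D, a7l4P, a7l4Q⟩
noncomputable def c7e_W : List (List ℕ) := [[nat_lit 2, nat_lit 4, nat_lit 6, nat_lit 4, nat_lit 2, nat_lit 8, nat_lit 7, nat_lit 6, nat_lit 1]]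
noncomputable def c7e_P : ℕ → ℕ → ℕ := wdsP H15.MM22.P c7e_W
noncomputable def c7c0Dd : ℕ := nat_lit 0x163440
noncomputable def c7c0D (u : ℕ) : ℕ := Nat.land (Nat.shiftRight c7c0Dd (Nat.mul u (nat_lit 3))) (nat_lit 7)
noncomputable def c7c0Pd : ℕ := nat_lit 0x4c6f44041
noncomputable def c7c0P (u : ℕ) : ℕ := Nat.land (Nat.shiftRight c7c0Pd (Nat.mul u (nat_lit 5))) (nat_lit 31)
noncomputable def c7c0Qd : ℕ := nat_lit 0xc02800003000a40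
noncomputable def c7c0Q (u : ℕ) : ℕ := Nat.land (Nat.shiftRight c7c0Qd (Nat.mul u (nat_lit 3))) (nat_lit 7)
noncomputable def c7c0 : Lev := ⟨7, 1, c7c0D, c7c0P, c7c0Q⟩
noncomputable def a7n0Fd : ℕ := nat_lit 0x840c6a1c8a462002100100
noncomputable def a7n0F (u : ℕ) : ℕ := Nat.land (Nat.shiftRight a7n0Fd (Nat.mul u (nat_lit 4))) (nat_lit 15)
noncomputable def a7n0 : Nd := ⟨a7n0F, (nat_lit 2), (nat_lit 1), [[nat_lit 0]], [((nat_lit 0), []), ((nat_lit 0), [nat_lit 0]), ((nat_lit 0), [nat_lit 0, nat_lit 0]), ((nat_lit 0), [nat_lit 0, nat_lit 0, nat_lit 0]), ((nat_lit 0), [nat_lit 0, nat_lit 0, nat_lit 0, nat_lit 0])], []⟩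
noncomputable def x11_W : List (List ℕ) := [[nat_lit 0, nat_lit 1, nat_lit 6, nat_lit 4, nat_lit 2, nat_lit 7, nat_lit 6, nat_lit 1, nat_lit 8, nat_lit 7, nat_lit 6, nat_lit 1, nat_lit 2]]
noncomputable def x11_P : ℕ → ℕ → ℕ := wdsP H15.MM22.P x11_W
noncomputable def a11h_W : List (List ℕ) := [[nat_lit 6, nat_lit 1, nat_lit 7, nat_lit 6, nat_lit 3, nat_lit 6],
  [nat_lit 2, nat_lit 3, nat_lit 4, nat_lit 6, nat_lit 2, nat_lit 5],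
  [nat_lit 0, nat_lit 1, nat_lit 6, nat_lit 1, nat_lit 7, nat_lit 6, nat_lit 2],
  [nat_lit 6],
  [nat_lit 0],
  [nat_lit 1],
  [nat_lit 2],
  [nat_lit 3],
  [nat_lit 4],
  [nat_lit 5],
  [nat_lit 7],
  [nat_lit 8]]
noncomputable def a11h_P : ℕ → ℕ → ℕ := wdsP H15.MM22.P a11h_W
noncomputable def a11l0Dd : ℕ := nat_lit 0x3d9f3c4e43643824361920181f331e1d1c0e160c0b00
noncomputable def a11l0D (u : ℕ) : ℕ := Nat.land (Nat.shiftRight a11l0Dd (Nat.mul u (nat_lit 8))) (nat_lit 255)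
noncomputable def a11l0Pd : ℕ := nat_lit 0x28e2a548340875c6d564df21b441
noncomputable def a11l0P (u : ℕ) : ℕ := Nat.land (Nat.shiftRight a11l0Pd (Nat.mul u (nat_lit 5))) (nat_lit 31)
noncomputable def a11l0Qd : ℕ := nat_lit 0x25153114e2d0475c65063e6d18400
noncomputable def a11l0Q (u : ℕ) : ℕ := Nat.land (Nat.shiftRight a11l0Qd (Nat.mul u (nat_lit 5))) (nat_lit 31)
noncomputable def a11l0 : Lev := ⟨22, 12, a11l0D, a11l0P, a11l0Q⟩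
noncomputable def a11l1Dd : ℕ := nat_lit 0x7ce2622bc5030e8b38488901c284070c14200
noncomputable def a11l1D (u : ℕ) : ℕ := Nat.land (Nat.shiftRight a11l1Dd (Nat.mul u (nat_lit 7))) (nat_lit 127)
noncomputable def a11l1Pd : ℕ := nat_lit 0x328a2b3d50f6c246759549b089
noncomputable def a11l1P (u : ℕ) : ℕ := Nat.land (Nat.shiftRight a11l1Pd (Nat.mul u (nat_lit 5))) (nat_lit 31)
noncomputable def a11l1Qd : ℕ := nat_lit 0x19c41a62a61d628140d7a261a4800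
noncomputable def a11l1Q (u : ℕ) : ℕ := Nat.land (Nat.shiftRight a11l1Qd (Nat.mul u (nat_lit 5))) (nat_lit 31)
noncomputable def a11l1 : Lev := ⟨21, 11, a11l1D, a11l1P, a11l1Q⟩
noncomputable def a11l2Dd : ℕ := nat_lit 0xf2ea6c85c6277d038a30920f1440c0
noncomputable def a11l2D (u : ℕ) : ℕ := Nat.land (Nat.shiftRight a11l2Dd (Nat.mul u (nat_lit 6))) (nat_lit 63)
noncomputable def a11l2Pd : ℕ := nat_lit 0x14d968bea3749a7229702d0c8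
noncomputable def a11l2P (u : ℕ) : ℕ := Nat.land (Nat.shiftRight a11l2Pd (Nat.mul u (nat_lit 5))) (nat_lit 31)
noncomputable def a11l2Qd : ℕ := nat_lit 0x41a2929e472d31298004046764c00
noncomputable def a11l2Q (u : ℕ) : ℕ := Nat.land (Nat.shiftRight a11l2Qd (Nat.mul u (nat_lit 5))) (nat_lit 31)
noncomputable def a11l2 : Lev := ⟨20, 4, a11l2D, a11l2P, a11l2Q⟩
noncomputable def a11l3Dd : ℕ := nat_lit 0xe52ceac16f394c418820
noncomputable def a11l3D (u : ℕ) : ℕ := Nat.land (Nat.shiftRight a11l3Dd (Nat.mul u (nat_lit 5))) (nat_lit 31)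
noncomputable def a11l3Pd : ℕ := nat_lit 0x60e1522a4b2be8d11a27
noncomputable def a11l3P (u : ℕ) : ℕ := Nat.land (Nat.shiftRight a11l3Pd (Nat.mul u (nat_lit 5))) (nat_lit 31)
noncomputable def a11l3Qd : ℕ := nat_lit 0xc5091d604f8a00027be300
noncomputable def a11l3Q (u : ℕ) : ℕ := Nat.land (Nat.shiftRight a11l3Qd (Nat.mul u (nat_lit 4))) (nat_lit 15)
noncomputable def a11l3 : Lev := ⟨16, 3, a11l3D, a11l3P, a11l3Q⟩
noncomputable def a11l4Dd : ℕ := nat_lit 4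
noncomputable def a11l4D (u : ℕ) : ℕ := Nat.land (Nat.shiftRight a11l4Dd (Nat.mul u (nat_lit 1))) (nat_lit 1)
noncomputable def a11l4Pd : ℕ := nat_lit 0x4ece
noncomputable def a11l4P (u : ℕ) : ℕ := Nat.land (Nat.shiftRight a11l4Pd (Nat.mul u (nat_lit 5))) (nat_lit 31)
noncomputable def a11l4Qd : ℕ := nat_lit 0x108000000000
noncomputable def a11l4Q (u : ℕ) : ℕ := Nat.land (Nat.shiftRight a11l4Qd (Nat.mul u (nat_lit 2))) (nat_lit 3)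
noncomputable def a11l4 : Lev := ⟨3, 1, a11l4D, a11l4P, a11l4Q⟩
noncomputable def c11e_W : List (List ℕ) := [[nat_lit 0, nat_lit 3, nat_lit 4, nat_lit 6, nat_lit 1, nat_lit 5, nat_lit 8, nat_lit 7, nat_lit 6, nat_lit 1, nat_lit 4]]
noncomputable def c11e_P : ℕ → ℕ → ℕ := wdsP H15.MM22.P c11e_W
noncomputable def c11c0Dd : ℕ := nat_lit 0x98765432100
noncomputable def c11c0D (u : ℕ) : ℕ := Nat.land (Nat.shiftRight c11c0Dd (Nat.mul u (nat_lit 4))) (nat_lit 15)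
noncomputable def c11c0Pd : ℕ := nat_lit 0x21d0349275cc41
noncomputable def c11c0P (u : ℕ) : ℕ := Nat.land (Nat.shiftRight c11c0Pd (Nat.mul u (nat_lit 5))) (nat_lit 31)
noncomputable def c11c0Qd : ℕ := nat_lit 0x26080900305a47000100
noncomputable def c11c0Q (u : ℕ) : ℕ := Nat.land (Nat.shiftRight c11c0Qd (Nat.mul u (nat_lit 4))) (nat_lit 15)
noncomputable def c11c0 : Lev := ⟨11, 1, c11c0D, c11c0P, c11c0Q⟩
noncomputable def a11n0Fd : ℕ := nat_lit 0x240800c0000400390c50080a0400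
noncomputable def a11n0F (u : ℕ) : ℕ := Nat.land (Nat.shiftRight a11n0Fd (Nat.mul u (nat_lit 5))) (nat_lit 31)
noncomputable def a11n0 : Nd := ⟨a11n0F, (nat_lit 2), (nat_lit 1), [], [((nat_lit 0), []), ((nat_lit 0), [nat_lit 0]), ((nat_lit 0), [nat_lit 0, nat_lit 0]), ((nat_lit 0), [nat_lit 0, nat_lit 0, nat_lit 0]), ((nat_lit 0), [nat_lit 0, nat_lit 0, nat_lit 0, nat_lit 0])], []⟩
noncomputable def p2t_W : List (List ℕ) := [[nat_lit 1, nat_lit 3, nat_lit 6, nat_lit 1, nat_lit 5, nat_lit 6, nat_lit 7, nat_lit 6, nat_lit 2, nat_lit 8, nat_lit 7, nat_lit 6, nat_lit 8, nat_lit 7],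
  [nat_lit 2, nat_lit 3, nat_lit 4, nat_lit 6, nat_lit 0, nat_lit 1, nat_lit 8],
  [nat_lit 7, nat_lit 0, nat_lit 8, nat_lit 1, nat_lit 2, nat_lit 3, nat_lit 6, nat_lit 7, nat_lit 6, nat_lit 8, nat_lit 7, nat_lit 6, nat_lit 3, nat_lit 6],
  [nat_lit 2, nat_lit 5, nat_lit 6, nat_lit 3, nat_lit 6, nat_lit 7, nat_lit 6, nat_lit 0, nat_lit 1, nat_lit 2, nat_lit 8, nat_lit 7, nat_lit 6, nat_lit 3],
  [nat_lit 5, nat_lit 6, nat_lit 3, nat_lit 6, nat_lit 5, nat_lit 7, nat_lit 6, nat_lit 1, nat_lit 5, nat_lit 6, nat_lit 8, nat_lit 7, nat_lit 6],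
  [nat_lit 2, nat_lit 5, nat_lit 7, nat_lit 6, nat_lit 2, nat_lit 8, nat_lit 7, nat_lit 6, nat_lit 2, nat_lit 4, nat_lit 8],
  [nat_lit 7, nat_lit 1, nat_lit 6, nat_lit 3, nat_lit 6, nat_lit 5, nat_lit 7, nat_lit 8, nat_lit 7, nat_lit 6, nat_lit 3, nat_lit 6, nat_lit 1, nat_lit 7]]
noncomputable def p2t_P : ℕ → ℕ → ℕ := wdsP H15.MM22.P p2t_W
noncomputable def p2Pd : List ℕ := [nat_lit 0x47052389e1cfab6d,
  nat_lit 0x9c6eabf45d782301,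
  nat_lit 0x9e1c23f47058abd6,
  nat_lit 0xda4b57613820ec9f,
  nat_lit 0xd79c3b16e4502af8,
  nat_lit 0x34e960b2f58ad1c7,
  nat_lit 0xdef5b31678c0a294]
noncomputable def p2P (k u : ℕ) : ℕ := Nat.land (Nat.shiftRight (nth (nat_lit 0) p2Pd k) (Nat.mul u (nat_lit 4))) (nat_lit 15)
noncomputable def p2Ed : ℕ := nat_lit 0xb56938c1cd5a50520c41
noncomputable def p2E (u : ℕ) : ℕ := Nat.land (Nat.shiftRight p2Ed (Nat.mul u (nat_lit 5))) (nat_lit 31)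
noncomputable def p2Id : ℕ := nat_lit 0xfedc0ba0980706500432100
noncomputable def p2I (u : ℕ) : ℕ := Nat.land (Nat.shiftRight p2Id (Nat.mul u (nat_lit 4))) (nat_lit 15)
noncomputable def p2B : List ℕ := [nat_lit 0, nat_lit 1, nat_lit 2, nat_lit 4, nat_lit 3]
noncomputable def p2C : List (List (List ℕ)) := [[[],
  [],
  [],
  [],
  [],
  [],
  []], [[],
  [],
  [],
  [],
  [nat_lit 0],
  [nat_lit 0],
  [nat_lit 0]], [[],
  [],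
  [],
  [nat_lit 0],
  [],
  [nat_lit 1],
  []], [[],
  [],
  [],
  [nat_lit 0],
  [nat_lit 0, nat_lit 1],
  [],
  [nat_lit 0]], [[],
  [],
  [],
  [],
  [nat_lit 2],
  [nat_lit 0, nat_lit 1, nat_lit 2, nat_lit 3],
  [nat_lit 2]], [[],
  [],
  [],
  [],
  [],
  [nat_lit 3],
  [nat_lit 3]], [[],
  [],
  [],
  [],
  [],
  [],
  []]]
noncomputable def p2e : List (List ℕ) := [[nat_lit 0, nat_lit 1, nat_lit 2],
  [],
  [nat_lit 0, nat_lit 1, nat_lit 2],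
  [nat_lit 0, nat_lit 1, nat_lit 2],
  [],
  [],
  [nat_lit 0, nat_lit 3, nat_lit 6],
  [],
  [nat_lit 0, nat_lit 3, nat_lit 4],
  [nat_lit 3, nat_lit 5]]
noncomputable def p2l0Dd : ℕ := nat_lit 0xdb8e23860992313850910144c480
noncomputable def p2l0D (u : ℕ) : ℕ := Nat.land (Nat.shiftRight p2l0Dd (Nat.mul u (nat_lit 7))) (nat_lit 127)
noncomputable def p2l0Pd : ℕ := nat_lit 0x6187c2bd943a5fe0
noncomputable def p2l0P (u : ℕ) : ℕ := Nat.land (Nat.shiftRight p2l0Pd (Nat.mul u (nat_lit 4))) (nat_lit 15)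
noncomputable def p2l0Qd : ℕ := nat_lit 0x218b947dcf365ae0
noncomputable def p2l0Q (u : ℕ) : ℕ := Nat.land (Nat.shiftRight p2l0Qd (Nat.mul u (nat_lit 4))) (nat_lit 15)
noncomputable def p2l0 : Lev := ⟨16, 10, p2l0D, p2l0P, p2l0Q⟩
noncomputable def p2l1Dd : ℕ := nat_lit 0x85a44f206000
noncomputable def p2l1D (u : ℕ) : ℕ := Nat.land (Nat.shiftRight p2l1Dd (Nat.mul u (nat_lit 6))) (nat_lit 63)
noncomputable def p2l1Pd : ℕ := nat_lit 0xab57ec32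
noncomputable def p2l1P (u : ℕ) : ℕ := Nat.land (Nat.shiftRight p2l1Pd (Nat.mul u (nat_lit 4))) (nat_lit 15)
noncomputable def p2l1Qd : ℕ := nat_lit 0xc2dc0828200
noncomputable def p2l1Q (u : ℕ) : ℕ := Nat.land (Nat.shiftRight p2l1Qd (Nat.mul u (nat_lit 3))) (nat_lit 7)
noncomputable def p2l1 : Lev := ⟨8, 9, p2l1D, p2l1P, p2l1Q⟩
noncomputable def cov2r_W : List (List ℕ) := [[nat_lit 0, nat_lit 2, nat_lit 4, nat_lit 6, nat_lit 2, nat_lit 5, nat_lit 7, nat_lit 6, nat_lit 0, nat_lit 2, nat_lit 8, nat_lit 7, nat_lit 6, nat_lit 2, nat_lit 7]]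
noncomputable def cov2r_P : ℕ → ℕ → ℕ := wdsP H15.MM22.P cov2r_W
noncomputable def cov2T0 : CT := (.split (.more (.split (.more (.split (.more (.split (.more (.split (.more (.split (.more (.split (.more .one (.more (.leaf (nat_lit 0) []) .one))) (.more (.fuse [nat_lit 4] [] (.leaf (nat_lit 0) [nat_lit 6, nat_lit 2, nat_lit 4, nat_lit 6, nat_lit 1, nat_lit 5, nat_lit 7, nat_lit 6, nat_lit 2, nat_lit 7])) .one))) (.more (.fuse [nat_lit 5] [] (.fuse [nat_lit 3] [] (.leaf (nat_lit 0) [nat_lit 3]))) .one))) (.more (.split (.more (.fuse [nat_lit 4] [nat_lit 0] (.fuse [nat_lit 2] [] (.prune (nat_lit 0) (nat_lit 1) []))) (.more (.fuse [nat_lit 4] [nat_lit 0] (.fuse [nat_lit 2] [] (.leaf (nat_lit 0) [nat_lit 2, nat_lit 5, nat_lit 6, nat_lit 5, nat_lit 7, nat_lit 6, nat_lit 1]))) .one))) .one))) (.more (.fuse [nat_lit 5] [nat_lit 2] (.fuse [nat_lit 6]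 [] (.prune (nat_lit 2) (nat_lit 1) []))) .one))) (.more (.split (.more (.fuse [nat_lit 4] [nat_lit 0, nat_lit 2] (.prune (nat_lit 3) (nat_lit 1) [])) (.more (.fuse [nat_lit 4] [nat_lit 0, nat_lit 1, nat_lit 2] (.split (.more (.fuse [nat_lit 2] [] (.fuse [nat_lit 4, nat_lit 6] [] (.leaf (nat_lit 0) [nat_lit 8, nat_lit 5, nat_lit 6, nat_lit 4, nat_lit 8, nat_lit 7, nat_lit 6, nat_lit 5]))) (.more (.fuse [nat_lit 2] [] (.prune (nat_lit 1) (nat_lit 1) [])) .one)))) .one))) .one))) (.more (.split (.more (.split (.more (.fuse [nat_lit 5] [] (.fuse [nat_lit 4] [] (.split (.more (.fuse [nat_lit 1] [] (.leaf (nat_lit 0) [nat_lit 0, nat_lit 6, nat_lit 0])) (.more (.fuse [nat_lit 1] [] (.prune (nat_lit 0) (nat_lit 1) [])) .one))))) (.more (.split (.more (.fuse [nat_lit 4] [] (.fuse [nat_lit 3] [nat_lit 0] (.fuse [nat_lit 4, nat_lit 5] [] (.leaf (nat_lit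 0) [nat_lit 2, nat_lit 6, nat_lit 1, nat_lit 4])))) (.more (.fuse [nat_lit 4] [nat_lit 1] (.fuse [nat_lit 3] [nat_lit 0] (.prune (nat_lit 1) (nat_lit 1) []))) .one))) .one))) (.more (.split (.more (.fuse [nat_lit 4] [nat_lit 0, nat_lit 1] (.split (.more (.fuse [nat_lit 2] [nat_lit 0] (.fuse [nat_lit 3] [] (.prune (nat_lit 0) (nat_lit 1) []))) (.more (.fuse [nat_lit 2] [nat_lit 0] (.prune (nat_lit 1) (nat_lit 1) [])) .one)))) (.more (.fuse [nat_lit 4] [] (.prune (nat_lit 3) (nat_lit 1) [nat_lit 1, nat_lit 2])) .one))) .one))) .one)))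
noncomputable def t0_W : List (List ℕ) := [[nat_lit 0, nat_lit 2, nat_lit 4, nat_lit 6, nat_lit 2, nat_lit 5, nat_lit 7, nat_lit 6, nat_lit 0, nat_lit 2, nat_lit 8, nat_lit 7, nat_lit 6, nat_lit 2, nat_lit 7]]
noncomputable def t0_P : ℕ → ℕ → ℕ := wdsP H15.MM22.P t0_W
noncomputable def b0h_W : List (List ℕ) := [[nat_lit 6],
  [nat_lit 4, nat_lit 6, nat_lit 5],
  [nat_lit 2, nat_lit 3, nat_lit 6, nat_lit 1, nat_lit 4],
  [nat_lit 6],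
  [nat_lit 4, nat_lit 6, nat_lit 5],
  [nat_lit 5, nat_lit 6, nat_lit 4],
  [nat_lit 4, nat_lit 6, nat_lit 5],
  [nat_lit 5, nat_lit 6, nat_lit 4],
  [nat_lit 8, nat_lit 5, nat_lit 6, nat_lit 4, nat_lit 8],
  [nat_lit 5, nat_lit 3],
  [nat_lit 2, nat_lit 3, nat_lit 6, nat_lit 4, nat_lit 7, nat_lit 6, nat_lit 3],
  [nat_lit 0],
  [nat_lit 1],
  [nat_lit 2],
  [nat_lit 3],
  [nat_lit 4],
  [nat_lit 5],
  [nat_lit 7],
  [nat_lit 8]]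
noncomputable def b0h_P : ℕ → ℕ → ℕ := wdsP H15.MM22.P b0h_W
noncomputable def b0l0Dd : ℕ := nat_lit 0xda8e677e4941be5958455744604d3a2739261d241200
noncomputable def b0l0D (u : ℕ) : ℕ := Nat.land (Nat.shiftRight b0l0Dd (Nat.mul u (nat_lit 8))) (nat_lit 255)
noncomputable def b0l0Pd : ℕ := nat_lit 0x12572a04932747d6c78accd40c41
noncomputable def b0l0P (u : ℕ) : ℕ := Nat.land (Nat.shiftRight b0l0Pd (Nat.mul u (nat_lit 5))) (nat_lit 31)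
noncomputable def b0l0Qd : ℕ := nat_lit 0x254c6bcf15cc8e34aa34169010400
noncomputable def b0l0Q (u : ℕ) : ℕ := Nat.land (Nat.shiftRight b0l0Qd (Nat.mul u (nat_lit 5))) (nat_lit 31)
noncomputable def b0l0 : Lev := ⟨22, 19, b0l0D, b0l0P, b0l0Q⟩
noncomputable def b0l1Dd : ℕ := nat_lit 0x13143b6546263696c6ea21284c223608090240e068301600
noncomputable def b0l1D (u : ℕ) : ℕ := Nat.land (Nat.shiftRight b0l1Dd (Nat.mul u (nat_lit 9))) (nat_lit 511)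
noncomputable def b0l1Pd : ℕ := nat_lit 0x2791c3b49b38d58b518a93a214
noncomputable def b0l1P (u : ℕ) : ℕ := Nat.land (Nat.shiftRight b0l1Pd (Nat.mul u (nat_lit 5))) (nat_lit 31)
noncomputable def b0l1Qd : ℕ := nat_lit 0x3d40639619c5a941c82198b285000
noncomputable def b0l1Q (u : ℕ) : ℕ := Nat.land (Nat.shiftRight b0l1Qd (Nat.mul u (nat_lit 5))) (nat_lit 31)
noncomputable def b0l1 : Lev := ⟨21, 18, b0l1D, b0l1P, b0l1Q⟩
noncomputable def b0l2Dd : ℕ := nat_lit 0x8eae854b20842e2a1e4d23131f180d170c0b0a00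
noncomputable def b0l2D (u : ℕ) : ℕ := Nat.land (Nat.shiftRight b0l2Dd (Nat.mul u (nat_lit 8))) (nat_lit 255)
noncomputable def b0l2Pd : ℕ := nat_lit 0x526557c0e574d646347689902
noncomputable def b0l2P (u : ℕ) : ℕ := Nat.land (Nat.shiftRight b0l2Pd (Nat.mul u (nat_lit 5))) (nat_lit 31)
noncomputable def b0l2Qd : ℕ := nat_lit 0x12005446e7acc74ce416898828000
noncomputable def b0l2Q (u : ℕ) : ℕ := Nat.land (Nat.shiftRight b0l2Qd (Nat.mul u (nat_lit 5))) (nat_lit 31)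
noncomputable def b0l2 : Lev := ⟨20, 11, b0l2D, b0l2P, b0l2Q⟩
noncomputable def b0l3Dd : ℕ := nat_lit 0x4d20
noncomputable def b0l3D (u : ℕ) : ℕ := Nat.land (Nat.shiftRight b0l3Dd (Nat.mul u (nat_lit 5))) (nat_lit 31)
noncomputable def b0l3Pd : ℕ := nat_lit 0xfa9
noncomputable def b0l3P (u : ℕ) : ℕ := Nat.land (Nat.shiftRight b0l3Pd (Nat.mul u (nat_lit 4))) (nat_lit 15)
noncomputable def b0l3Qd : ℕ := nat_lit 0x80100000
noncomputable def b0l3Q (u : ℕ) : ℕ := Nat.land (Nat.shiftRight b0l3Qd (Nat.mul u (nat_lit 2))) (nat_lit 3)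
noncomputable def b0l3 : Lev := ⟨3, 10, b0l3D, b0l3P, b0l3Q⟩
noncomputable def b0l4Dd : ℕ := nat_lit 0xb31daac4668e9128205821404000
noncomputable def b0l4D (u : ℕ) : ℕ := Nat.land (Nat.shiftRight b0l4Dd (Nat.mul u (nat_lit 7))) (nat_lit 127)
noncomputable def b0l4Pd : ℕ := nat_lit 0x64dc42c2d28d4c83ada3
noncomputable def b0l4P (u : ℕ) : ℕ := Nat.land (Nat.shiftRight b0l4Pd (Nat.mul u (nat_lit 5))) (nat_lit 31)
noncomputable def b0l4Qd : ℕ := nat_lit 0x960e87a0d1f200435bc0000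
noncomputable def b0l4Q (u : ℕ) : ℕ := Nat.land (Nat.shiftRight b0l4Qd (Nat.mul u (nat_lit 4))) (nat_lit 15)
noncomputable def b0l4 : Lev := ⟨16, 9, b0l4D, b0l4P, b0l4Q⟩
noncomputable def d0e_W : List (List ℕ) := [[nat_lit 3, nat_lit 6, nat_lit 3, nat_lit 6],
  [nat_lit 3, nat_lit 6, nat_lit 3, nat_lit 6],
  [nat_lit 3, nat_lit 6, nat_lit 3, nat_lit 6],
  [nat_lit 3, nat_lit 6, nat_lit 3, nat_lit 6],
  [nat_lit 3, nat_lit 6, nat_lit 3, nat_lit 6],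
  [nat_lit 3, nat_lit 6, nat_lit 3, nat_lit 6],
  [nat_lit 3, nat_lit 6, nat_lit 3, nat_lit 6],
  [nat_lit 3, nat_lit 6, nat_lit 3, nat_lit 6],
  [nat_lit 3, nat_lit 6, nat_lit 3, nat_lit 6],
  [nat_lit 3, nat_lit 6, nat_lit 3, nat_lit 6],
  [nat_lit 3, nat_lit 6, nat_lit 3, nat_lit 6],
  [nat_lit 3, nat_lit 6, nat_lit 3, nat_lit 6],
  [nat_lit 0, nat_lit 2, nat_lit 5, nat_lit 6, nat_lit 1, nat_lit 5],
  [nat_lit 3, nat_lit 6, nat_lit 1, nat_lit 4, nat_lit 7, nat_lit 6, nat_lit 3],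
  [nat_lit 1, nat_lit 4, nat_lit 3, nat_lit 6, nat_lit 3, nat_lit 7, nat_lit 6, nat_lit 8, nat_lit 7, nat_lit 6],
  [nat_lit 0, nat_lit 7, nat_lit 6, nat_lit 0, nat_lit 1, nat_lit 8, nat_lit 7, nat_lit 0]]
noncomputable def d0e_P : ℕ → ℕ → ℕ := wdsP H15.MM22.P d0e_W
noncomputable def d0c4Dd : ℕ := nat_lit 0xcb000
noncomputable def d0c4D (u : ℕ) : ℕ := Nat.land (Nat.shiftRight d0c4Dd (Nat.mul u (nat_lit 5))) (nat_lit 31)
noncomputable def d0c4Pd : ℕ := nat_lit 0x24223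
noncomputable def d0c4P (u : ℕ) : ℕ := Nat.land (Nat.shiftRight d0c4Pd (Nat.mul u (nat_lit 5))) (nat_lit 31)
noncomputable def d0c4Qd : ℕ := nat_lit 0x600000300
noncomputable def d0c4Q (u : ℕ) : ℕ := Nat.land (Nat.shiftRight d0c4Qd (Nat.mul u (nat_lit 2))) (nat_lit 3)
noncomputable def d0c4 : Lev := ⟨4, 13, d0c4D, d0c4P, d0c4Q⟩
noncomputable def b0n0Fd : ℕ := nat_lit 0x9a698064035901934d041040
noncomputable def b0n0F (u : ℕ) : ℕ := Nat.land (Nat.shiftRight b0n0Fd (Nat.mul u (nat_lit 6))) (nat_lit 63)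
noncomputable def b0n0 : Nd := ⟨b0n0F, (nat_lit 13), (nat_lit 13), [[nat_lit 0]], [((nat_lit 0), []), ((nat_lit 1), [nat_lit 0])], []⟩
noncomputable def d0c2Dd : ℕ := nat_lit 0x22a83438680
noncomputable def d0c2D (u : ℕ) : ℕ := Nat.land (Nat.shiftRight d0c2Dd (Nat.mul u (nat_lit 7))) (nat_lit 127)
noncomputable def d0c2Pd : ℕ := nat_lit 0x125736c2
noncomputable def d0c2P (u : ℕ) : ℕ := Nat.land (Nat.shiftRight d0c2Pd (Nat.mul u (nat_lit 5))) (nat_lit 31)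
noncomputable def d0c2Qd : ℕ := nat_lit 0x400000d0028020000
noncomputable def d0c2Q (u : ℕ) : ℕ := Nat.land (Nat.shiftRight d0c2Qd (Nat.mul u (nat_lit 3))) (nat_lit 7)
noncomputable def d0c2 : Lev := ⟨6, 14, d0c2D, d0c2P, d0c2Q⟩
noncomputable def b0n1Fd : ℕ := nat_lit 0x6c0a28de838001a3b66806c0701040
noncomputable def b0n1F (u : ℕ) : ℕ := Nat.land (Nat.shiftRight b0n1Fd (Nat.mul u (nat_lit 6))) (nat_lit 63)
noncomputable def b0n1 : Nd := ⟨b0n1F, (nat_lit 14), (nat_lit 14), [[nat_lit 0]], [((nat_lit 0), []), ((nat_lit 0), [nat_lit 0])], []⟩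
noncomputable def d0c0Dd : ℕ := nat_lit 0xaf4f6c3f503d2e2f3c2d1d1c100e0f00
noncomputable def d0c0D (u : ℕ) : ℕ := Nat.land (Nat.shiftRight d0c0Dd (Nat.mul u (nat_lit 8))) (nat_lit 255)
noncomputable def d0c0Pd : ℕ := nat_lit 0x159b45cdd5215108a461
noncomputable def d0c0P (u : ℕ) : ℕ := Nat.land (Nat.shiftRight d0c0Pd (Nat.mul u (nat_lit 5))) (nat_lit 31)
noncomputable def d0c0Qd : ℕ := nat_lit 0xe8ca03409d0b02500671f00
noncomputable def d0c0Q (u : ℕ) : ℕ := Nat.land (Nat.shiftRight d0c0Qd (Nat.mul u (nat_lit 4))) (nat_lit 15)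
noncomputable def d0c0 : Lev := ⟨16, 16, d0c0D, d0c0P, d0c0Q⟩
noncomputable def b0n2Fd : ℕ := nat_lit 0x1d000b1c000bc0010000040000000
noncomputable def b0n2F (u : ℕ) : ℕ := Nat.land (Nat.shiftRight b0n2Fd (Nat.mul u (nat_lit 6))) (nat_lit 63)
noncomputable def b0n2 : Nd := ⟨b0n2F, (nat_lit 16), (nat_lit 16), [[nat_lit 0]], [((nat_lit 0), [])], []⟩
noncomputable def q0_W : List (List ℕ) := [[nat_lit 0, nat_lit 2, nat_lit 4, nat_lit 6, nat_lit 2, nat_lit 5, nat_lit 7, nat_lit 6, nat_lit 0, nat_lit 2, nat_lit 8, nat_lit 7, nat_lit 6, nat_lit 2, nat_lit 7],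
  [nat_lit 4, nat_lit 2, nat_lit 6, nat_lit 0, nat_lit 1, nat_lit 7, nat_lit 6, nat_lit 1, nat_lit 8, nat_lit 7, nat_lit 6, nat_lit 0, nat_lit 3, nat_lit 7],
  [nat_lit 1, nat_lit 6, nat_lit 3, nat_lit 7, nat_lit 6, nat_lit 3, nat_lit 6, nat_lit 8, nat_lit 7, nat_lit 6, nat_lit 2, nat_lit 6],
  [nat_lit 7, nat_lit 3, nat_lit 4, nat_lit 6, nat_lit 0, nat_lit 1, nat_lit 2, nat_lit 8, nat_lit 7]]
noncomputable def q0_P : ℕ → ℕ → ℕ := wdsP H15.MM22.P q0_W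
noncomputable def u0h_W : List (List ℕ) := [[nat_lit 7, nat_lit 0, nat_lit 4, nat_lit 6, nat_lit 4, nat_lit 7],
  [nat_lit 7, nat_lit 6, nat_lit 0, nat_lit 6, nat_lit 4, nat_lit 7],
  [nat_lit 7, nat_lit 0, nat_lit 4, nat_lit 6, nat_lit 4, nat_lit 7],
  [nat_lit 7, nat_lit 4, nat_lit 6, nat_lit 3, nat_lit 6, nat_lit 5, nat_lit 7],
  [nat_lit 0, nat_lit 4, nat_lit 7, nat_lit 6, nat_lit 0, nat_lit 7],
  [nat_lit 7, nat_lit 0, nat_lit 6, nat_lit 4, nat_lit 7, nat_lit 0],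
  [nat_lit 7, nat_lit 0, nat_lit 1, nat_lit 4, nat_lit 6, nat_lit 3, nat_lit 7],
  [nat_lit 0, nat_lit 4, nat_lit 6, nat_lit 4, nat_lit 7, nat_lit 6, nat_lit 4],
  [nat_lit 1, nat_lit 2, nat_lit 7, nat_lit 6, nat_lit 1, nat_lit 7],
  [nat_lit 0, nat_lit 8, nat_lit 1, nat_lit 8, nat_lit 7, nat_lit 6, nat_lit 7],
  [nat_lit 0],
  [nat_lit 1],
  [nat_lit 2],
  [nat_lit 3],
  [nat_lit 4],
  [nat_lit 5],
  [nat_lit 6],
  [nat_lit 7],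
  [nat_lit 8]]
noncomputable def u0h_P : ℕ → ℕ → ℕ := wdsP H15.MM22.P u0h_W
noncomputable def u0l0Dd : ℕ := nat_lit 0x2dfdd3057348acd4c464c4e24346cc96284c900
noncomputable def u0l0D (u : ℕ) : ℕ := Nat.land (Nat.shiftRight u0l0Dd (Nat.mul u (nat_lit 7))) (nat_lit 127)
noncomputable def u0l0Pd : ℕ := nat_lit 0x234240ab3595264ea33a12e7b441
noncomputable def u0l0P (u : ℕ) : ℕ := Nat.land (Nat.shiftRight u0l0Pd (Nat.mul u (nat_lit 5))) (nat_lit 31)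
noncomputable def u0l0Qd : ℕ := nat_lit 0x3934532b21904b834a63be3340400
noncomputable def u0l0Q (u : ℕ) : ℕ := Nat.land (Nat.shiftRight u0l0Qd (Nat.mul u (nat_lit 5))) (nat_lit 31)
noncomputable def u0l0 : Lev := ⟨22, 19, u0l0D, u0l0P, u0l0Q⟩
noncomputable def u0l1Dd : ℕ := nat_lit 0x86e2549053422d2c2a1a20271f151e1d1c13111000
noncomputable def u0l1D (u : ℕ) : ℕ := Nat.land (Nat.shiftRight u0l1Dd (Nat.mul u (nat_lit 8))) (nat_lit 255)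
noncomputable def u0l1Pd : ℕ := nat_lit 0x1121a12a55092add65326f389a3
noncomputable def u0l1P (u : ℕ) : ℕ := Nat.land (Nat.shiftRight u0l1Pd (Nat.mul u (nat_lit 5))) (nat_lit 31)
noncomputable def u0l1Qd : ℕ := nat_lit 0x21cf2c2912242651d8d1c97300800
noncomputable def u0l1Q (u : ℕ) : ℕ := Nat.land (Nat.shiftRight u0l1Qd (Nat.mul u (nat_lit 5))) (nat_lit 31)
noncomputable def u0l1 : Lev := ⟨21, 18, u0l1D, u0l1P, u0l1Q⟩
noncomputable def u0l2Dd : ℕ := nat_lit 0x325ed603b40e3136c1011203c70d182c500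
noncomputable def u0l2D (u : ℕ) : ℕ := Nat.land (Nat.shiftRight u0l2Dd (Nat.mul u (nat_lit 7))) (nat_lit 127)
noncomputable def u0l2Pd : ℕ := nat_lit 0x746855d88a7b046aa2074b653
noncomputable def u0l2P (u : ℕ) : ℕ := Nat.land (Nat.shiftRight u0l2Pd (Nat.mul u (nat_lit 5))) (nat_lit 31)
noncomputable def u0l2Qd : ℕ := nat_lit 0x38f1006455cc4a7b0662220d02400
noncomputable def u0l2Q (u : ℕ) : ℕ := Nat.land (Nat.shiftRight u0l2Qd (Nat.mul u (nat_lit 5))) (nat_lit 31)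
noncomputable def u0l2 : Lev := ⟨20, 16, u0l2D, u0l2P, u0l2Q⟩
noncomputable def u0l3Dd : ℕ := nat_lit 0x4d20
noncomputable def u0l3D (u : ℕ) : ℕ := Nat.land (Nat.shiftRight u0l3Dd (Nat.mul u (nat_lit 5))) (nat_lit 31)
noncomputable def u0l3Pd : ℕ := nat_lit 0x1174
noncomputable def u0l3P (u : ℕ) : ℕ := Nat.land (Nat.shiftRight u0l3Pd (Nat.mul u (nat_lit 5))) (nat_lit 31)
noncomputable def u0l3Qd : ℕ := nat_lit 0x400200
noncomputable def u0l3Q (u : ℕ) : ℕ := Nat.land (Nat.shiftRight u0l3Qd (Nat.mul u (nat_lit 2))) (nat_lit 3)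
noncomputable def u0l3 : Lev := ⟨3, 10, u0l3D, u0l3P, u0l3Q⟩
noncomputable def u0l4Dd : ℕ := nat_lit 0xa11da2c4668895181c4060604000
noncomputable def u0l4D (u : ℕ) : ℕ := Nat.land (Nat.shiftRight u0l4Dd (Nat.mul u (nat_lit 7))) (nat_lit 127)
noncomputable def u0l4Pd : ℕ := nat_lit 0x6bdc23a98581928b4655
noncomputable def u0l4P (u : ℕ) : ℕ := Nat.land (Nat.shiftRight u0l4Pd (Nat.mul u (nat_lit 5))) (nat_lit 31)
noncomputable def u0l4Qd : ℕ := nat_lit 0x3000127edf90a54b6800c00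
noncomputable def u0l4Q (u : ℕ) : ℕ := Nat.land (Nat.shiftRight u0l4Qd (Nat.mul u (nat_lit 4))) (nat_lit 15)
noncomputable def u0l4 : Lev := ⟨16, 9, u0l4D, u0l4P, u0l4Q⟩
noncomputable def f0e_W : List (List ℕ) := [[nat_lit 2, nat_lit 3, nat_lit 4, nat_lit 6, nat_lit 0, nat_lit 1, nat_lit 8],
  [nat_lit 8, nat_lit 5, nat_lit 6, nat_lit 3, nat_lit 6, nat_lit 7, nat_lit 6, nat_lit 1, nat_lit 4, nat_lit 8, nat_lit 7, nat_lit 6],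
  [nat_lit 2, nat_lit 3, nat_lit 4, nat_lit 6, nat_lit 0, nat_lit 1, nat_lit 8],
  [nat_lit 2, nat_lit 3, nat_lit 5, nat_lit 7, nat_lit 6, nat_lit 0, nat_lit 1, nat_lit 2, nat_lit 8, nat_lit 7],
  [nat_lit 6, nat_lit 0, nat_lit 2, nat_lit 7, nat_lit 6, nat_lit 8, nat_lit 7, nat_lit 6, nat_lit 1, nat_lit 5, nat_lit 6, nat_lit 8],
  [nat_lit 2, nat_lit 3, nat_lit 5, nat_lit 7, nat_lit 6, nat_lit 0, nat_lit 1, nat_lit 2, nat_lit 8, nat_lit 7],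
  [nat_lit 2, nat_lit 3, nat_lit 4, nat_lit 6, nat_lit 0, nat_lit 1, nat_lit 8],
  [nat_lit 2, nat_lit 3, nat_lit 4, nat_lit 6, nat_lit 0, nat_lit 1, nat_lit 8],
  [nat_lit 2, nat_lit 3, nat_lit 4, nat_lit 6, nat_lit 0, nat_lit 1, nat_lit 8],
  [nat_lit 2, nat_lit 3, nat_lit 4, nat_lit 6, nat_lit 0, nat_lit 1, nat_lit 8],
  [nat_lit 2, nat_lit 3, nat_lit 4, nat_lit 6, nat_lit 0, nat_lit 1, nat_lit 8],
  [nat_lit 2, nat_lit 3, nat_lit 5, nat_lit 7, nat_lit 6, nat_lit 0, nat_lit 1, nat_lit 2, nat_lit 8, nat_lit 7],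
  [nat_lit 6, nat_lit 2, nat_lit 5, nat_lit 7, nat_lit 6, nat_lit 3, nat_lit 8, nat_lit 7, nat_lit 2, nat_lit 6],
  [nat_lit 0, nat_lit 5, nat_lit 6, nat_lit 1, nat_lit 4, nat_lit 7, nat_lit 6, nat_lit 3, nat_lit 6, nat_lit 5, nat_lit 8, nat_lit 7, nat_lit 6, nat_lit 5],
  [nat_lit 1, nat_lit 3, nat_lit 5, nat_lit 6, nat_lit 1, nat_lit 7, nat_lit 6, nat_lit 1, nat_lit 4, nat_lit 8, nat_lit 7, nat_lit 6],
  [nat_lit 5, nat_lit 6, nat_lit 4, nat_lit 8, nat_lit 6, nat_lit 4],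
  [nat_lit 0, nat_lit 2, nat_lit 3, nat_lit 7, nat_lit 6, nat_lit 5, nat_lit 8, nat_lit 7, nat_lit 0],
  [nat_lit 7, nat_lit 6, nat_lit 4, nat_lit 8, nat_lit 6, nat_lit 7],
  [nat_lit 2, nat_lit 3, nat_lit 4, nat_lit 6, nat_lit 0, nat_lit 1, nat_lit 8],
  [nat_lit 1, nat_lit 3, nat_lit 5, nat_lit 6, nat_lit 1, nat_lit 7, nat_lit 6, nat_lit 1, nat_lit 4, nat_lit 8, nat_lit 7, nat_lit 6],
  [nat_lit 2, nat_lit 3, nat_lit 4, nat_lit 6, nat_lit 0, nat_lit 1, nat_lit 8],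
  [nat_lit 2, nat_lit 3, nat_lit 4, nat_lit 6, nat_lit 0, nat_lit 1, nat_lit 8],
  [nat_lit 1, nat_lit 6, nat_lit 3, nat_lit 6, nat_lit 7, nat_lit 6, nat_lit 5, nat_lit 8, nat_lit 7, nat_lit 6, nat_lit 3, nat_lit 6, nat_lit 0]]
noncomputable def f0e_P : ℕ → ℕ → ℕ := wdsP H15.MM22.P f0e_W
noncomputable def f0c0Dd : ℕ := nat_lit 0xcea089725b442d24160d1a0c01030000
noncomputable def f0c0D (u : ℕ) : ℕ := Nat.land (Nat.shiftRight f0c0Dd (Nat.mul u (nat_lit 8))) (nat_lit 255)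
noncomputable def f0c0Pd : ℕ := nat_lit 0x75933ad2088ac8d28c41
noncomputable def f0c0P (u : ℕ) : ℕ := Nat.land (Nat.shiftRight f0c0Pd (Nat.mul u (nat_lit 5))) (nat_lit 31)
noncomputable def f0c0Qd : ℕ := nat_lit 0xebac0790f4060d800352100
noncomputable def f0c0Q (u : ℕ) : ℕ := Nat.land (Nat.shiftRight f0c0Qd (Nat.mul u (nat_lit 4))) (nat_lit 15)
noncomputable def f0c0 : Lev := ⟨16, 23, f0c0D, f0c0P, f0c0Q⟩
noncomputable def u0n0Fd : ℕ := nat_lit 0xb888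
noncomputable def u0n0F (u : ℕ) : ℕ := Nat.land (Nat.shiftRight u0n0Fd (Nat.mul u (nat_lit 1))) (nat_lit 1)
noncomputable def u0n0 : Nd := ⟨u0n0F, (nat_lit 23), (nat_lit 23), [[nat_lit 3]], [((nat_lit 0), [])], []⟩
noncomputable def n0T : List (List (List ℕ)) := [[[nat_lit 0],
  [nat_lit 2],
  [nat_lit 1],
  [nat_lit 0, nat_lit 3]], [[nat_lit 0],
  [nat_lit 2],
  [nat_lit 1],
  [nat_lit 0, nat_lit 3]], [[nat_lit 0],
  [nat_lit 2],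
  [nat_lit 1],
  [nat_lit 0, nat_lit 3]], [[nat_lit 0],
  [nat_lit 2],
  [nat_lit 1],
  [nat_lit 0, nat_lit 3]], [[nat_lit 0],
  [nat_lit 2],
  [nat_lit 1],
  [nat_lit 0, nat_lit 3]], [[nat_lit 0],
  [nat_lit 2],
  [nat_lit 1],
  [nat_lit 0, nat_lit 3]], [[nat_lit 0],
  [nat_lit 2],
  [nat_lit 1],
  [nat_lit 0, nat_lit 3]], [[nat_lit 0],
  [nat_lit 2],
  [nat_lit 1],
  [nat_lit 0, nat_lit 3]], [[nat_lit 0],
  [nat_lit 2],
  [nat_lit 1],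
  [nat_lit 0, nat_lit 3]], [[nat_lit 0],
  [nat_lit 2],
  [nat_lit 1],
  [nat_lit 0, nat_lit 3]], [[nat_lit 0],
  [nat_lit 2],
  [nat_lit 1],
  [nat_lit 0, nat_lit 3]], [[nat_lit 0],
  [nat_lit 2],
  [nat_lit 1],
  [nat_lit 0, nat_lit 3]], [[nat_lit 0],
  [nat_lit 0, nat_lit 1],
  [nat_lit 0, nat_lit 2],
  [nat_lit 0, nat_lit 1, nat_lit 2, nat_lit 3]], [[nat_lit 0],
  [nat_lit 0, nat_lit 1],
  [nat_lit 0, nat_lit 3],
  [nat_lit 0, nat_lit 2]], [[nat_lit 0],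
  [nat_lit 1],
  [nat_lit 1, nat_lit 2, nat_lit 3],
  [nat_lit 2]], [[nat_lit 0],
  [nat_lit 0, nat_lit 1, nat_lit 2, nat_lit 3],
  [nat_lit 0, nat_lit 1],
  [nat_lit 3]]]

theorem md_b : ltAll 24 H15.MM22.B = 0 ∧ 443520 ≠ 0 := by decide +kernel
theorem x5_lt : allL (ltAll 9) x5_W = true := by decide +kernel
theorem a5h_lt : allL (ltAll 9) a5h_W = true := by decide +kernel
theorem a5l0_e_0 : allZ (dent a5l0 a5h_P (nat_lit 24)) (nat_lit 0) (nat_lit 21) = true := by decide +kernel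
theorem a5l0_h : 0 < a5l0.n ∧ 0 < a5l0.K ∧ a5l0.Pt 0 < 24 ∧ a5l0.Q (a5l0.Pt 0) = 0 := by decide +kernel
theorem a5l1_e_0 : allZ (dent a5l1 a5h_P (nat_lit 24)) (nat_lit 0) (nat_lit 20) = true := by decide +kernel
theorem a5l1_h : 0 < a5l1.n ∧ 0 < a5l1.K ∧ a5l1.Pt 0 < 24 ∧ a5l1.Q (a5l1.Pt 0) = 0 := by decide +kernel
theorem a5l2_e_0 : allZ (dent a5l2 a5h_P (nat_lit 24)) (nat_lit 0) (nat_lit 19) = true := by decide +kernel
theorem a5l2_h : 0 < a5l2.n ∧ 0 < a5l2.K ∧ a5l2.Pt 0 < 24 ∧ a5l2.Q (a5l2.Pt 0) = 0 := by decide +kernel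
theorem a5l3_e_0 : allZ (dent a5l3 a5h_P (nat_lit 24)) (nat_lit 0) (nat_lit 15) = true := by decide +kernel
theorem a5l3_h : 0 < a5l3.n ∧ 0 < a5l3.K ∧ a5l3.Pt 0 < 24 ∧ a5l3.Q (a5l3.Pt 0) = 0 := by decide +kernel
theorem a5l4_e_0 : allZ (dent a5l4 a5h_P (nat_lit 24)) (nat_lit 0) (nat_lit 2) = true := by decide +kernel
theorem a5l4_h : 0 < a5l4.n ∧ 0 < a5l4.K ∧ a5l4.Pt 0 < 24 ∧ a5l4.Q (a5l4.Pt 0) = 0 := by decide +kernel
theorem a5_f4 : (Nat.ble a5l4.K 13 && Nat.ble (topK []) a5l4.K && fixLetters a5h_P (topK []) (a5l4.Pt 0)) = true := by decide +kernel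
theorem a5_f3 : (Nat.ble a5l3.K 13 && Nat.ble (topK [a5l4]) a5l3.K && fixLetters a5h_P (topK [a5l4]) (a5l3.Pt 0)) = true := by decide +kernel
theorem a5_f2 : (Nat.ble a5l2.K 13 && Nat.ble (topK [a5l3, a5l4]) a5l2.K && fixLetters a5h_P (topK [a5l3, a5l4]) (a5l2.Pt 0)) = true := by decide +kernel
theorem a5_f1 : (Nat.ble a5l1.K 13 && Nat.ble (topK [a5l2, a5l3, a5l4]) a5l1.K && fixLetters a5h_P (topK [a5l2, a5l3, a5l4]) (a5l1.Pt 0)) = true := by decide +kernel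
theorem a5_f0 : (Nat.ble a5l0.K 13 && Nat.ble (topK [a5l1, a5l2, a5l3, a5l4]) a5l0.K && fixLetters a5h_P (topK [a5l1, a5l2, a5l3, a5l4]) (a5l0.Pt 0)) = true := by decide +kernel
theorem a5_c : chainCard [a5l0, a5l1, a5l2, a5l3, a5l4] = 443520 := by decide +kernel
theorem c5e_lt : allL (ltAll 9) c5e_W = true := by decide +kernel
theorem c5_f4 : (Nat.ble a5l4.K 13 && Nat.blt (nat_lit 1) 24 && fixLetters a5h_P a5l4.K (nat_lit 1) && Nat.beq (ltAll 1 [nat_lit 0, nat_lit 0, nat_lit 0, nat_lit 0]) 0 && Nat.beq (apW x5_P [nat_lit 0, nat_lit 0, nat_lit 0, nat_lit 0] (nat_lit 1)) (a5l4.Pt 0)) = true := by decide +kernel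
theorem c5_f3 : (Nat.ble a5l3.K 13 && Nat.blt (nat_lit 1) 24 && fixLetters a5h_P a5l3.K (nat_lit 1) && Nat.beq (ltAll 1 [nat_lit 0, nat_lit 0, nat_lit 0]) 0 && Nat.beq (apW x5_P [nat_lit 0, nat_lit 0, nat_lit 0] (nat_lit 1)) (a5l3.Pt 0)) = true := by decide +kernel
theorem c5_f2 : (Nat.ble a5l2.K 13 && Nat.blt (nat_lit 1) 24 && fixLetters a5h_P a5l2.K (nat_lit 1) && Nat.beq (ltAll 1 [nat_lit 0, nat_lit 0]) 0 && Nat.beq (apW x5_P [nat_lit 0, nat_lit 0] (nat_lit 1)) (a5l2.Pt 0)) = true := by decide +kernel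
theorem c5_f1 : (Nat.ble a5l1.K 13 && Nat.blt (nat_lit 1) 24 && fixLetters a5h_P a5l1.K (nat_lit 1) && Nat.beq (ltAll 1 [nat_lit 0]) 0 && Nat.beq (apW x5_P [nat_lit 0] (nat_lit 1)) (a5l1.Pt 0)) = true := by decide +kernel
theorem c5c0_e_0 : allZ (dent c5c0 c5e_P (nat_lit 24)) (nat_lit 0) (nat_lit 4) = true := by decide +kernel
theorem c5c0_h : 0 < c5c0.n ∧ 0 < c5c0.K ∧ c5c0.Pt 0 < 24 ∧ c5c0.Q (c5c0.Pt 0) = 0 := by decide +kernel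
theorem a5n0_0 : (Nat.ble a5l0.K 13 && Nat.beq (ltAll 24 []) 0 && kChk c5e_P x5_P a5n0.Kn 1 H15.MM22.B [] && allL (ltAll 1) a5n0.pre && planOK a5h_P x5_P 1 (a5l0.Pt 0) a5n0.plan [a5l0, a5l1, a5l2, a5l3, a5l4]) = true := by decide +kernel
theorem a5n0_1_0 : allZ (a5n0.ent H15.MM22.P a5h_P x5_P x5_P c5e_P (nat_lit 9) (nat_lit 1) H15.MM22.B a5l0 [a5l1, a5l2, a5l3, a5l4] (memO c5c0)) (nat_lit 0) (nat_lit 22) = true := by decide +kernel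
theorem c5_f0 : (Nat.ble c5c0.K 1 && Nat.ble (topK []) c5c0.K && Nat.beq (c5c0.Pt 0) (a5l0.Pt 0) && Nat.beq (ltAll 24 []) 0 && kChk c5e_P x5_P c5c0.K 1 H15.MM22.B []) = true := by decide +kernel
theorem c5_c : chainCard [c5c0] = 5 ∧ topK [c5c0] = 1 := by decide +kernel
theorem x5_o : sumL (fun β => Nat.xor (itW x5_P [0] 5 β) β) H15.MM22.B = 0 ∧ ltAll 1 [0] = 0 ∧ 1 < 24 ∧ apW x5_P [0] 1 ≠ 1 := by decide +kernel
theorem x7_lt : allL (ltAll 9) x7_W = true := by decide +kernel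
theorem a7h_lt : allL (ltAll 9) a7h_W = true := by decide +kernel
theorem a7l0_e_0 : allZ (dent a7l0 a7h_P (nat_lit 24)) (nat_lit 0) (nat_lit 21) = true := by decide +kernel
theorem a7l0_h : 0 < a7l0.n ∧ 0 < a7l0.K ∧ a7l0.Pt 0 < 24 ∧ a7l0.Q (a7l0.Pt 0) = 0 := by decide +kernel
theorem a7l1_e_0 : allZ (dent a7l1 a7h_P (nat_lit 24)) (nat_lit 0) (nat_lit 20) = true := by decide +kernel
theorem a7l1_h : 0 < a7l1.n ∧ 0 < a7l1.K ∧ a7l1.Pt 0 < 24 ∧ a7l1.Q (a7l1.Pt 0) = 0 := by decide +kernel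
theorem a7l2_e_0 : allZ (dent a7l2 a7h_P (nat_lit 24)) (nat_lit 0) (nat_lit 19) = true := by decide +kernel
theorem a7l2_h : 0 < a7l2.n ∧ 0 < a7l2.K ∧ a7l2.Pt 0 < 24 ∧ a7l2.Q (a7l2.Pt 0) = 0 := by decide +kernel
theorem a7l3_e_0 : allZ (dent a7l3 a7h_P (nat_lit 24)) (nat_lit 0) (nat_lit 15) = true := by decide +kernel
theorem a7l3_h : 0 < a7l3.n ∧ 0 < a7l3.K ∧ a7l3.Pt 0 < 24 ∧ a7l3.Q (a7l3.Pt 0) = 0 := by decide +kernel
theorem a7l4_e_0 : allZ (dent a7l4 a7h_P (nat_lit 24)) (nat_lit 0) (nat_lit 2) = true := by decide +kernel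
theorem a7l4_h : 0 < a7l4.n ∧ 0 < a7l4.K ∧ a7l4.Pt 0 < 24 ∧ a7l4.Q (a7l4.Pt 0) = 0 := by decide +kernel
theorem a7_f4 : (Nat.ble a7l4.K 13 && Nat.ble (topK []) a7l4.K && fixLetters a7h_P (topK []) (a7l4.Pt 0)) = true := by decide +kernel
theorem a7_f3 : (Nat.ble a7l3.K 13 && Nat.ble (topK [a7l4]) a7l3.K && fixLetters a7h_P (topK [a7l4]) (a7l3.Pt 0)) = true := by decide +kernel
theorem a7_f2 : (Nat.ble a7l2.K 13 && Nat.ble (topK [a7l3, a7l4]) a7l2.K && fixLetters a7h_P (topK [a7l3, a7l4]) (a7l2.Pt 0)) = true := by decide +kernel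
theorem a7_f1 : (Nat.ble a7l1.K 13 && Nat.ble (topK [a7l2, a7l3, a7l4]) a7l1.K && fixLetters a7h_P (topK [a7l2, a7l3, a7l4]) (a7l1.Pt 0)) = true := by decide +kernel
theorem a7_f0 : (Nat.ble a7l0.K 13 && Nat.ble (topK [a7l1, a7l2, a7l3, a7l4]) a7l0.K && fixLetters a7h_P (topK [a7l1, a7l2, a7l3, a7l4]) (a7l0.Pt 0)) = true := by decide +kernel
theorem a7_c : chainCard [a7l0, a7l1, a7l2, a7l3, a7l4] = 443520 := by decide +kernel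
theorem c7e_lt : allL (ltAll 9) c7e_W = true := by decide +kernel
theorem c7_f4 : (Nat.ble a7l4.K 13 && Nat.blt (nat_lit 1) 24 && fixLetters a7h_P a7l4.K (nat_lit 1) && Nat.beq (ltAll 1 [nat_lit 0, nat_lit 0, nat_lit 0, nat_lit 0]) 0 && Nat.beq (apW x7_P [nat_lit 0, nat_lit 0, nat_lit 0, nat_lit 0] (nat_lit 1)) (a7l4.Pt 0)) = true := by decide +kernel
theorem c7_f3 : (Nat.ble a7l3.K 13 && Nat.blt (nat_lit 1) 24 && fixLetters a7h_P a7l3.K (nat_lit 1) && Nat.beq (ltAll 1 [nat_lit 0, nat_lit 0, nat_lit 0]) 0 && Nat.beq (apW x7_P [nat_lit 0, nat_lit 0, nat_lit 0] (nat_lit 1)) (a7l3.Pt 0)) = true := by decide +kernel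
theorem c7_f2 : (Nat.ble a7l2.K 13 && Nat.blt (nat_lit 1) 24 && fixLetters a7h_P a7l2.K (nat_lit 1) && Nat.beq (ltAll 1 [nat_lit 0, nat_lit 0]) 0 && Nat.beq (apW x7_P [nat_lit 0, nat_lit 0] (nat_lit 1)) (a7l2.Pt 0)) = true := by decide +kernel
theorem c7_f1 : (Nat.ble a7l1.K 13 && Nat.blt (nat_lit 1) 24 && fixLetters a7h_P a7l1.K (nat_lit 1) && Nat.beq (ltAll 1 [nat_lit 0]) 0 && Nat.beq (apW x7_P [nat_lit 0] (nat_lit 1)) (a7l1.Pt 0)) = true := by decide +kernel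
theorem c7c0_e_0 : allZ (dent c7c0 c7e_P (nat_lit 24)) (nat_lit 0) (nat_lit 6) = true := by decide +kernel
theorem c7c0_h : 0 < c7c0.n ∧ 0 < c7c0.K ∧ c7c0.Pt 0 < 24 ∧ c7c0.Q (c7c0.Pt 0) = 0 := by decide +kernel
theorem a7n0_0 : (Nat.ble a7l0.K 13 && Nat.beq (ltAll 24 []) 0 && kChk c7e_P x7_P a7n0.Kn 1 H15.MM22.B [] && allL (ltAll 1) a7n0.pre && planOK a7h_P x7_P 1 (a7l0.Pt 0) a7n0.plan [a7l0, a7l1, a7l2, a7l3, a7l4]) = true := by decide +kernel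
theorem a7n0_1_0 : allZ (a7n0.ent H15.MM22.P a7h_P x7_P x7_P c7e_P (nat_lit 9) (nat_lit 1) H15.MM22.B a7l0 [a7l1, a7l2, a7l3, a7l4] (memO c7c0)) (nat_lit 0) (nat_lit 22) = true := by decide +kernel
theorem c7_f0 : (Nat.ble c7c0.K 1 && Nat.ble (topK []) c7c0.K && Nat.beq (c7c0.Pt 0) (a7l0.Pt 0) && Nat.beq (ltAll 24 []) 0 && kChk c7e_P x7_P c7c0.K 1 H15.MM22.B []) = true := by decide +kernel
theorem c7_c : chainCard [c7c0] = 7 ∧ topK [c7c0] = 1 := by decide +kernel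
theorem x7_o : sumL (fun β => Nat.xor (itW x7_P [0] 7 β) β) H15.MM22.B = 0 ∧ ltAll 1 [0] = 0 ∧ 1 < 24 ∧ apW x7_P [0] 1 ≠ 1 := by decide +kernel
theorem x11_lt : allL (ltAll 9) x11_W = true := by decide +kernel
theorem a11h_lt : allL (ltAll 9) a11h_W = true := by decide +kernel
theorem a11l0_e_0 : allZ (dent a11l0 a11h_P (nat_lit 24)) (nat_lit 0) (nat_lit 21) = true := by decide +kernel
theorem a11l0_h : 0 < a11l0.n ∧ 0 < a11l0.K ∧ a11l0.Pt 0 < 24 ∧ a11l0.Q (a11l0.Pt 0) = 0 := by decide +kernel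
theorem a11l1_e_0 : allZ (dent a11l1 a11h_P (nat_lit 24)) (nat_lit 0) (nat_lit 20) = true := by decide +kernel
theorem a11l1_h : 0 < a11l1.n ∧ 0 < a11l1.K ∧ a11l1.Pt 0 < 24 ∧ a11l1.Q (a11l1.Pt 0) = 0 := by decide +kernel
theorem a11l2_e_0 : allZ (dent a11l2 a11h_P (nat_lit 24)) (nat_lit 0) (nat_lit 19) = true := by decide +kernel
theorem a11l2_h : 0 < a11l2.n ∧ 0 < a11l2.K ∧ a11l2.Pt 0 < 24 ∧ a11l2.Q (a11l2.Pt 0) = 0 := by decide +kernel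
theorem a11l3_e_0 : allZ (dent a11l3 a11h_P (nat_lit 24)) (nat_lit 0) (nat_lit 15) = true := by decide +kernel
theorem a11l3_h : 0 < a11l3.n ∧ 0 < a11l3.K ∧ a11l3.Pt 0 < 24 ∧ a11l3.Q (a11l3.Pt 0) = 0 := by decide +kernel
theorem a11l4_e_0 : allZ (dent a11l4 a11h_P (nat_lit 24)) (nat_lit 0) (nat_lit 2) = true := by decide +kernel
theorem a11l4_h : 0 < a11l4.n ∧ 0 < a11l4.K ∧ a11l4.Pt 0 < 24 ∧ a11l4.Q (a11l4.Pt 0) = 0 := by decide +kernel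
theorem a11_f4 : (Nat.ble a11l4.K 12 && Nat.ble (topK []) a11l4.K && fixLetters a11h_P (topK []) (a11l4.Pt 0)) = true := by decide +kernel
theorem a11_f3 : (Nat.ble a11l3.K 12 && Nat.ble (topK [a11l4]) a11l3.K && fixLetters a11h_P (topK [a11l4]) (a11l3.Pt 0)) = true := by decide +kernel
theorem a11_f2 : (Nat.ble a11l2.K 12 && Nat.ble (topK [a11l3, a11l4]) a11l2.K && fixLetters a11h_P (topK [a11l3, a11l4]) (a11l2.Pt 0)) = true := by decide +kernel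
theorem a11_f1 : (Nat.ble a11l1.K 12 && Nat.ble (topK [a11l2, a11l3, a11l4]) a11l1.K && fixLetters a11h_P (topK [a11l2, a11l3, a11l4]) (a11l1.Pt 0)) = true := by decide +kernel
theorem a11_f0 : (Nat.ble a11l0.K 12 && Nat.ble (topK [a11l1, a11l2, a11l3, a11l4]) a11l0.K && fixLetters a11h_P (topK [a11l1, a11l2, a11l3, a11l4]) (a11l0.Pt 0)) = true := by decide +kernel
theorem a11_c : chainCard [a11l0, a11l1, a11l2, a11l3, a11l4] = 443520 := by decide +kernel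
theorem c11e_lt : allL (ltAll 9) c11e_W = true := by decide +kernel
theorem c11_f4 : (Nat.ble a11l4.K 12 && Nat.blt (nat_lit 1) 24 && fixLetters a11h_P a11l4.K (nat_lit 1) && Nat.beq (ltAll 1 [nat_lit 0, nat_lit 0, nat_lit 0, nat_lit 0]) 0 && Nat.beq (apW x11_P [nat_lit 0, nat_lit 0, nat_lit 0, nat_lit 0] (nat_lit 1)) (a11l4.Pt 0)) = true := by decide +kernel
theorem c11_f3 : (Nat.ble a11l3.K 12 && Nat.blt (nat_lit 1) 24 && fixLetters a11h_P a11l3.K (nat_lit 1) && Nat.beq (ltAll 1 [nat_lit 0, nat_lit 0, nat_lit 0]) 0 && Nat.beq (apW x11_P [nat_lit 0, nat_lit 0, nat_lit 0] (nat_lit 1)) (a11l3.Pt 0)) = true := by decide +kernel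
theorem c11_f2 : (Nat.ble a11l2.K 12 && Nat.blt (nat_lit 1) 24 && fixLetters a11h_P a11l2.K (nat_lit 1) && Nat.beq (ltAll 1 [nat_lit 0, nat_lit 0]) 0 && Nat.beq (apW x11_P [nat_lit 0, nat_lit 0] (nat_lit 1)) (a11l2.Pt 0)) = true := by decide +kernel
theorem c11_f1 : (Nat.ble a11l1.K 12 && Nat.blt (nat_lit 1) 24 && fixLetters a11h_P a11l1.K (nat_lit 1) && Nat.beq (ltAll 1 [nat_lit 0]) 0 && Nat.beq (apW x11_P [nat_lit 0] (nat_lit 1)) (a11l1.Pt 0)) = true := by decide +kernel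
theorem c11c0_e_0 : allZ (dent c11c0 c11e_P (nat_lit 24)) (nat_lit 0) (nat_lit 10) = true := by decide +kernel
theorem c11c0_h : 0 < c11c0.n ∧ 0 < c11c0.K ∧ c11c0.Pt 0 < 24 ∧ c11c0.Q (c11c0.Pt 0) = 0 := by decide +kernel
theorem a11n0_0 : (Nat.ble a11l0.K 12 && Nat.beq (ltAll 24 []) 0 && kChk c11e_P x11_P a11n0.Kn 1 H15.MM22.B [] && allL (ltAll 1) a11n0.pre && planOK a11h_P x11_P 1 (a11l0.Pt 0) a11n0.plan [a11l0, a11l1, a11l2, a11l3, a11l4]) = true := by decide +kernel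
theorem a11n0_1_0 : allZ (a11n0.ent H15.MM22.P a11h_P x11_P x11_P c11e_P (nat_lit 9) (nat_lit 1) H15.MM22.B a11l0 [a11l1, a11l2, a11l3, a11l4] (memO c11c0)) (nat_lit 0) (nat_lit 22) = true := by decide +kernel
theorem c11_f0 : (Nat.ble c11c0.K 1 && Nat.ble (topK []) c11c0.K && Nat.beq (c11c0.Pt 0) (a11l0.Pt 0) && Nat.beq (ltAll 24 []) 0 && kChk c11e_P x11_P c11c0.K 1 H15.MM22.B []) = true := by decide +kernel
theorem c11_c : chainCard [c11c0] = 11 ∧ topK [c11c0] = 1 := by decide +kernel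
theorem x11_o : sumL (fun β => Nat.xor (itW x11_P [0] 11 β) β) H15.MM22.B = 0 ∧ ltAll 1 [0] = 0 ∧ 1 < 24 ∧ apW x11_P [0] 1 ≠ 1 := by decide +kernel
theorem p2t_lt : allL (ltAll 9) p2t_W = true := by decide +kernel
theorem p2_r_a : allZ2 (resEnt p2t_P p2P p2E p2I (nat_lit 24) (nat_lit 16)) (nat_lit 7) (nat_lit 16) = true := by decide +kernel
theorem p2_b : neL H15.MM22.B (p2B.map p2E) = 0 ∧ ltAll 16 p2B = 0 := by decide +kernel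
theorem p2_p : allZ2 (pcEnt p2P (nat_lit 2) p2B p2C) 7 7 = true := by decide +kernel
theorem p2_e : allL (ltAll 7) p2e = true := by decide +kernel
theorem p2l0_e_0 : allZ (dent p2l0 (wdsP p2P p2e) (nat_lit 16)) (nat_lit 0) (nat_lit 15) = true := by decide +kernel
theorem p2l0_h : 0 < p2l0.n ∧ 0 < p2l0.K ∧ p2l0.Pt 0 < 16 ∧ p2l0.Q (p2l0.Pt 0) = 0 := by decide +kernel
theorem p2l1_e_0 : allZ (dent p2l1 (wdsP p2P p2e) (nat_lit 16)) (nat_lit 0) (nat_lit 7) = true := by decide +kernel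
theorem p2l1_h : 0 < p2l1.n ∧ 0 < p2l1.K ∧ p2l1.Pt 0 < 16 ∧ p2l1.Q (p2l1.Pt 0) = 0 := by decide +kernel
theorem p2_f1 : (Nat.ble p2l1.K 10 && Nat.ble (topK []) p2l1.K && fixLetters (wdsP p2P p2e) (topK []) (p2l1.Pt 0)) = true := by decide +kernel
theorem p2_f0 : (Nat.ble p2l0.K 10 && Nat.ble (topK [p2l1]) p2l0.K && fixLetters (wdsP p2P p2e) (topK [p2l1]) (p2l0.Pt 0)) = true := by decide +kernel
theorem p2_c : chainCard [p2l0, p2l1] = 2 ^ 7 ∧ ¬ 2 ^ (7 + 1) ∣ 443520 := by decide +kernel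
theorem cov2r_lt : allL (ltAll 9) cov2r_W = true := by decide +kernel
theorem cov2_c0 : (Nat.ble 7 7 && Nat.beq (ltAll 7 []) 0 && Nat.beq (cov2T0.chk H15.MM22.P p2P cov2r_P p2E 9 7 2 2 1 p2B 7 [] 0) 0) = true := by decide +kernel
theorem t0_lt : allL (ltAll 9) t0_W = true := by decide +kernel
theorem b0h_lt : allL (ltAll 9) b0h_W = true := by decide +kernel
theorem b0l0_e_0 : allZ (dent b0l0 b0h_P (nat_lit 24)) (nat_lit 0) (nat_lit 21) = true := by decide +kernel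
theorem b0l0_h : 0 < b0l0.n ∧ 0 < b0l0.K ∧ b0l0.Pt 0 < 24 ∧ b0l0.Q (b0l0.Pt 0) = 0 := by decide +kernel
theorem b0l1_e_0 : allZ (dent b0l1 b0h_P (nat_lit 24)) (nat_lit 0) (nat_lit 20) = true := by decide +kernel
theorem b0l1_h : 0 < b0l1.n ∧ 0 < b0l1.K ∧ b0l1.Pt 0 < 24 ∧ b0l1.Q (b0l1.Pt 0) = 0 := by decide +kernel
theorem b0l2_e_0 : allZ (dent b0l2 b0h_P (nat_lit 24)) (nat_lit 0) (nat_lit 19) = true := by decide +kernel
theorem b0l2_h : 0 < b0l2.n ∧ 0 < b0l2.K ∧ b0l2.Pt 0 < 24 ∧ b0l2.Q (b0l2.Pt 0) = 0 := by decide +kernel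
theorem b0l3_e_0 : allZ (dent b0l3 b0h_P (nat_lit 24)) (nat_lit 0) (nat_lit 2) = true := by decide +kernel
theorem b0l3_h : 0 < b0l3.n ∧ 0 < b0l3.K ∧ b0l3.Pt 0 < 24 ∧ b0l3.Q (b0l3.Pt 0) = 0 := by decide +kernel
theorem b0l4_e_0 : allZ (dent b0l4 b0h_P (nat_lit 24)) (nat_lit 0) (nat_lit 15) = true := by decide +kernel
theorem b0l4_h : 0 < b0l4.n ∧ 0 < b0l4.K ∧ b0l4.Pt 0 < 24 ∧ b0l4.Q (b0l4.Pt 0) = 0 := by decide +kernel
theorem b0_f4 : (Nat.ble b0l4.K 19 && Nat.ble (topK []) b0l4.K && fixLetters b0h_P (topK []) (b0l4.Pt 0)) = true := by decide +kernel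
theorem b0_f3 : (Nat.ble b0l3.K 19 && Nat.ble (topK [b0l4]) b0l3.K && fixLetters b0h_P (topK [b0l4]) (b0l3.Pt 0)) = true := by decide +kernel
theorem b0_f2 : (Nat.ble b0l2.K 19 && Nat.ble (topK [b0l3, b0l4]) b0l2.K && fixLetters b0h_P (topK [b0l3, b0l4]) (b0l2.Pt 0)) = true := by decide +kernel
theorem b0_f1 : (Nat.ble b0l1.K 19 && Nat.ble (topK [b0l2, b0l3, b0l4]) b0l1.K && fixLetters b0h_P (topK [b0l2, b0l3, b0l4]) (b0l1.Pt 0)) = true := by decide +kernel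
theorem b0_f0 : (Nat.ble b0l0.K 19 && Nat.ble (topK [b0l1, b0l2, b0l3, b0l4]) b0l0.K && fixLetters b0h_P (topK [b0l1, b0l2, b0l3, b0l4]) (b0l0.Pt 0)) = true := by decide +kernel
theorem b0_c : chainCard [b0l0, b0l1, b0l2, b0l3, b0l4] = 443520 := by decide +kernel
theorem d0e_lt : allL (ltAll 9) d0e_W = true := by decide +kernel
theorem d0c4_e_0 : allZ (dent d0c4 d0e_P (nat_lit 24)) (nat_lit 0) (nat_lit 3) = true := by decide +kernel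
theorem d0c4_h : 0 < d0c4.n ∧ 0 < d0c4.K ∧ d0c4.Pt 0 < 24 ∧ d0c4.Q (d0c4.Pt 0) = 0 := by decide +kernel
theorem b0n0_0 : (Nat.ble b0l4.K 19 && Nat.beq (ltAll 24 [b0l3.Pt 0, b0l2.Pt 0, b0l1.Pt 0, b0l0.Pt 0]) 0 && kChk d0e_P t0_P b0n0.Kn 1 H15.MM22.B [b0l3.Pt 0, b0l2.Pt 0, b0l1.Pt 0, b0l0.Pt 0] && allL (ltAll 1) b0n0.pre && planOK b0h_P t0_P 1 (b0l4.Pt 0) b0n0.plan [b0l4]) = true := by decide +kernel
theorem b0n0_1_0 : allZ (b0n0.ent H15.MM22.P b0h_P t0_P t0_P d0e_P (nat_lit 9) (nat_lit 1) H15.MM22.B b0l4 [] (memO d0c4)) (nat_lit 0) (nat_lit 16) = true := by decide +kernel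
theorem d0_f4 : (Nat.ble d0c4.K 16 && Nat.ble (topK []) d0c4.K && Nat.beq (d0c4.Pt 0) (b0l4.Pt 0) && Nat.beq (ltAll 24 [b0l3.Pt 0, b0l2.Pt 0, b0l1.Pt 0, b0l0.Pt 0]) 0 && kChk d0e_P t0_P d0c4.K 1 H15.MM22.B [b0l3.Pt 0, b0l2.Pt 0, b0l1.Pt 0, b0l0.Pt 0]) = true := by decide +kernel
theorem d0_f3 : (Nat.ble b0l3.K 19 && Nat.blt (nat_lit 2) 24 && fixLetters b0h_P b0l3.K (nat_lit 2) && Nat.beq (ltAll 1 [nat_lit 0]) 0 && Nat.beq (apW t0_P [nat_lit 0] (nat_lit 2)) (b0l3.Pt 0)) = true := by decide +kernel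
theorem d0c2_e_0 : allZ (dent d0c2 d0e_P (nat_lit 24)) (nat_lit 0) (nat_lit 5) = true := by decide +kernel
theorem d0c2_h : 0 < d0c2.n ∧ 0 < d0c2.K ∧ d0c2.Pt 0 < 24 ∧ d0c2.Q (d0c2.Pt 0) = 0 := by decide +kernel
theorem b0n1_0 : (Nat.ble b0l2.K 19 && Nat.beq (ltAll 24 [b0l1.Pt 0, b0l0.Pt 0]) 0 && kChk d0e_P t0_P b0n1.Kn 1 H15.MM22.B [b0l1.Pt 0, b0l0.Pt 0] && allL (ltAll 1) b0n1.pre && planOK b0h_P t0_P 1 (b0l2.Pt 0) b0n1.plan [b0l2, b0l3, b0l4]) = true := by decide +kernel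
theorem b0n1_1_0 : allZ (b0n1.ent H15.MM22.P b0h_P t0_P t0_P d0e_P (nat_lit 9) (nat_lit 1) H15.MM22.B b0l2 [b0l3, b0l4] (memO d0c2)) (nat_lit 0) (nat_lit 20) = true := by decide +kernel
theorem d0_f2 : (Nat.ble d0c2.K 16 && Nat.ble (topK [d0c4]) d0c2.K && Nat.beq (d0c2.Pt 0) (b0l2.Pt 0) && Nat.beq (ltAll 24 [b0l1.Pt 0, b0l0.Pt 0]) 0 && kChk d0e_P t0_P d0c2.K 1 H15.MM22.B [b0l1.Pt 0, b0l0.Pt 0]) = true := by decide +kernel
theorem d0_f1 : (Nat.ble b0l1.K 19 && Nat.blt (nat_lit 1) 24 && fixLetters b0h_P b0l1.K (nat_lit 1) && Nat.beq (ltAll 1 [nat_lit 0]) 0 && Nat.beq (apW t0_P [nat_lit 0] (nat_lit 1)) (b0l1.Pt 0)) = true := by decide +kernel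
theorem d0c0_e_0 : allZ (dent d0c0 d0e_P (nat_lit 24)) (nat_lit 0) (nat_lit 15) = true := by decide +kernel
theorem d0c0_h : 0 < d0c0.n ∧ 0 < d0c0.K ∧ d0c0.Pt 0 < 24 ∧ d0c0.Q (d0c0.Pt 0) = 0 := by decide +kernel
theorem b0n2_0 : (Nat.ble b0l0.K 19 && Nat.beq (ltAll 24 []) 0 && kChk d0e_P t0_P b0n2.Kn 1 H15.MM22.B [] && allL (ltAll 1) b0n2.pre && planOK b0h_P t0_P 1 (b0l0.Pt 0) b0n2.plan [b0l0, b0l1, b0l2, b0l3, b0l4]) = true := by decide +kernel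
theorem b0n2_1_0 : allZ (b0n2.ent H15.MM22.P b0h_P t0_P t0_P d0e_P (nat_lit 9) (nat_lit 1) H15.MM22.B b0l0 [b0l1, b0l2, b0l3, b0l4] (memO d0c0)) (nat_lit 0) (nat_lit 22) = true := by decide +kernel
theorem d0_f0 : (Nat.ble d0c0.K 16 && Nat.ble (topK [d0c2, d0c4]) d0c0.K && Nat.beq (d0c0.Pt 0) (b0l0.Pt 0) && Nat.beq (ltAll 24 []) 0 && kChk d0e_P t0_P d0c0.K 1 H15.MM22.B []) = true := by decide +kernel
theorem d0_c : chainCard [d0c0, d0c2, d0c4] = 384 ∧ topK [d0c0, d0c2, d0c4] = 16 := by decide +kernel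
theorem q0_lt : allL (ltAll 9) q0_W = true := by decide +kernel
theorem u0h_lt : allL (ltAll 9) u0h_W = true := by decide +kernel
theorem u0l0_e_0 : allZ (dent u0l0 u0h_P (nat_lit 24)) (nat_lit 0) (nat_lit 21) = true := by decide +kernel
theorem u0l0_h : 0 < u0l0.n ∧ 0 < u0l0.K ∧ u0l0.Pt 0 < 24 ∧ u0l0.Q (u0l0.Pt 0) = 0 := by decide +kernel
theorem u0l1_e_0 : allZ (dent u0l1 u0h_P (nat_lit 24)) (nat_lit 0) (nat_lit 20) = true := by decide +kernel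
theorem u0l1_h : 0 < u0l1.n ∧ 0 < u0l1.K ∧ u0l1.Pt 0 < 24 ∧ u0l1.Q (u0l1.Pt 0) = 0 := by decide +kernel
theorem u0l2_e_0 : allZ (dent u0l2 u0h_P (nat_lit 24)) (nat_lit 0) (nat_lit 19) = true := by decide +kernel
theorem u0l2_h : 0 < u0l2.n ∧ 0 < u0l2.K ∧ u0l2.Pt 0 < 24 ∧ u0l2.Q (u0l2.Pt 0) = 0 := by decide +kernel
theorem u0l3_e_0 : allZ (dent u0l3 u0h_P (nat_lit 24)) (nat_lit 0) (nat_lit 2) = true := by decide +kernel
theorem u0l3_h : 0 < u0l3.n ∧ 0 < u0l3.K ∧ u0l3.Pt 0 < 24 ∧ u0l3.Q (u0l3.Pt 0) = 0 := by decide +kernel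
theorem u0l4_e_0 : allZ (dent u0l4 u0h_P (nat_lit 24)) (nat_lit 0) (nat_lit 15) = true := by decide +kernel
theorem u0l4_h : 0 < u0l4.n ∧ 0 < u0l4.K ∧ u0l4.Pt 0 < 24 ∧ u0l4.Q (u0l4.Pt 0) = 0 := by decide +kernel
theorem u0_f4 : (Nat.ble u0l4.K 19 && Nat.ble (topK []) u0l4.K && fixLetters u0h_P (topK []) (u0l4.Pt 0)) = true := by decide +kernel
theorem u0_f3 : (Nat.ble u0l3.K 19 && Nat.ble (topK [u0l4]) u0l3.K && fixLetters u0h_P (topK [u0l4]) (u0l3.Pt 0)) = true := by decide +kernel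
theorem u0_f2 : (Nat.ble u0l2.K 19 && Nat.ble (topK [u0l3, u0l4]) u0l2.K && fixLetters u0h_P (topK [u0l3, u0l4]) (u0l2.Pt 0)) = true := by decide +kernel
theorem u0_f1 : (Nat.ble u0l1.K 19 && Nat.ble (topK [u0l2, u0l3, u0l4]) u0l1.K && fixLetters u0h_P (topK [u0l2, u0l3, u0l4]) (u0l1.Pt 0)) = true := by decide +kernel
theorem u0_f0 : (Nat.ble u0l0.K 19 && Nat.ble (topK [u0l1, u0l2, u0l3, u0l4]) u0l0.K && fixLetters u0h_P (topK [u0l1, u0l2, u0l3, u0l4]) (u0l0.Pt 0)) = true := by decide +kernel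
theorem u0_c : chainCard [u0l0, u0l1, u0l2, u0l3, u0l4] = 443520 := by decide +kernel
theorem f0e_lt : allL (ltAll 9) f0e_W = true := by decide +kernel
theorem f0_f4 : (Nat.ble u0l4.K 19 && Nat.blt (nat_lit 1) 24 && fixLetters u0h_P u0l4.K (nat_lit 1) && Nat.beq (ltAll 4 [nat_lit 1]) 0 && Nat.beq (apW q0_P [nat_lit 1] (nat_lit 1)) (u0l4.Pt 0)) = true := by decide +kernel
theorem f0_f3 : (Nat.ble u0l3.K 19 && Nat.blt (nat_lit 1) 24 && fixLetters u0h_P u0l3.K (nat_lit 1) && Nat.beq (ltAll 4 [nat_lit 0]) 0 && Nat.beq (apW q0_P [nat_lit 0] (nat_lit 1)) (u0l3.Pt 0)) = true := by decide +kernel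
theorem f0_f2 : (Nat.ble u0l2.K 19 && Nat.blt (nat_lit 1) 24 && fixLetters u0h_P u0l2.K (nat_lit 1) && Nat.beq (ltAll 4 [nat_lit 2]) 0 && Nat.beq (apW q0_P [nat_lit 2] (nat_lit 1)) (u0l2.Pt 0)) = true := by decide +kernel
theorem f0_f1 : (Nat.ble u0l1.K 19 && Nat.blt (nat_lit 1) 24 && fixLetters u0h_P u0l1.K (nat_lit 1) && Nat.beq (ltAll 4 [nat_lit 3]) 0 && Nat.beq (apW q0_P [nat_lit 3] (nat_lit 1)) (u0l1.Pt 0)) = true := by decide +kernel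
theorem f0c0_e_0 : allZ (dent f0c0 f0e_P (nat_lit 24)) (nat_lit 0) (nat_lit 15) = true := by decide +kernel
theorem f0c0_h : 0 < f0c0.n ∧ 0 < f0c0.K ∧ f0c0.Pt 0 < 24 ∧ f0c0.Q (f0c0.Pt 0) = 0 := by decide +kernel
theorem u0n0_0 : (Nat.ble u0l0.K 19 && Nat.beq (ltAll 24 []) 0 && kChk f0e_P q0_P u0n0.Kn 4 H15.MM22.B [] && allL (ltAll 4) u0n0.pre && planOK u0h_P q0_P 4 (u0l0.Pt 0) u0n0.plan [u0l0, u0l1, u0l2, u0l3, u0l4]) = true := by decide +kernel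
theorem u0n0_1_0 : allZ (u0n0.ent H15.MM22.P u0h_P q0_P q0_P f0e_P (nat_lit 9) (nat_lit 4) H15.MM22.B u0l0 [u0l1, u0l2, u0l3, u0l4] (memO f0c0)) (nat_lit 0) (nat_lit 22) = true := by decide +kernel
theorem f0_f0 : (Nat.ble f0c0.K 23 && Nat.ble (topK []) f0c0.K && Nat.beq (f0c0.Pt 0) (u0l0.Pt 0) && Nat.beq (ltAll 24 []) 0 && kChk f0e_P q0_P f0c0.K 4 H15.MM22.B []) = true := by decide +kernel
theorem f0_c : chainCard [f0c0] = 16 ∧ topK [f0c0] = 23 := by decide +kernel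
theorem n0_c : allZ2 (H7.One.nrmEnt d0e_P q0_P 4 H15.MM22.B n0T) 16 4 = true := by decide +kernel
theorem n0_k : kChk q0_P q0_P 4 4 H15.MM22.B [] = true := by decide +kernel
theorem n0_e : nth [] q0_W 0 = nth [] t0_W 0 ∧ nth [] t0_W 0 = nth [] cov2r_W 0 := by decide +kernel

theorem md {G : Type*} [Group G] (e : gen H15.MM22.g 9 ≃* G) :
    ∃ (_ : MulAction G (Cfsg.GolayPt)) (g : ℕ → G), Md g H15.pt H15.MM22.P 24 9 H15.MM22.B 443520 ∧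
      ∀ k < 9, (e.symm (g k)).1 = H15.MM22.g k :=
  exists_md H15.MM22.act H15.MM22.inj H15.MM22.card H15.MM22.isBase md_b e
theorem x5_act {G Ω : Type*} [Group G] [MulAction G Ω] {g : ℕ → G} {pt : ℕ → Ω}
    (M : Md g pt H15.MM22.P 24 9 H15.MM22.B 443520) : Act (wds g x5_W) pt x5_P 24 1 :=
  M.wact x5_lt
theorem a5h_act {G Ω : Type*} [Group G] [MulAction G Ω] {g : ℕ → G} {pt : ℕ → Ω}
    (M : Md g pt H15.MM22.P 24 9 H15.MM22.B 443520) : Act (wds g a5h_W) pt a5h_P 24 13 :=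
  M.wact a5h_lt
theorem a5l0_e : ∀ i < 21, (dent a5l0 a5h_P (nat_lit 24)) i = 0 := allZ_sound0 a5l0_e_0
theorem a5l0_ok : DOK a5l0 a5h_P 24 := ⟨a5l0_h, a5l0_e⟩
theorem a5l1_e : ∀ i < 20, (dent a5l1 a5h_P (nat_lit 24)) i = 0 := allZ_sound0 a5l1_e_0
theorem a5l1_ok : DOK a5l1 a5h_P 24 := ⟨a5l1_h, a5l1_e⟩
theorem a5l2_e : ∀ i < 19, (dent a5l2 a5h_P (nat_lit 24)) i = 0 := allZ_sound0 a5l2_e_0
theorem a5l2_ok : DOK a5l2 a5h_P 24 := ⟨a5l2_h, a5l2_e⟩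
theorem a5l3_e : ∀ i < 15, (dent a5l3 a5h_P (nat_lit 24)) i = 0 := allZ_sound0 a5l3_e_0
theorem a5l3_ok : DOK a5l3 a5h_P 24 := ⟨a5l3_h, a5l3_e⟩
theorem a5l4_e : ∀ i < 2, (dent a5l4 a5h_P (nat_lit 24)) i = 0 := allZ_sound0 a5l4_e_0
theorem a5l4_ok : DOK a5l4 a5h_P 24 := ⟨a5l4_h, a5l4_e⟩
theorem a5_low {G Ω : Type*} [Group G] [MulAction G Ω] {g : ℕ → G} {pt : ℕ → Ω}
    (M : Md g pt H15.MM22.P 24 9 H15.MM22.B 443520) : SLow (gi (wds g a5h_W)) pt 24 [a5l0, a5l1, a5l2, a5l3, a5l4] :=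
  (((((SLow.nil).cons a5l4_ok (a5h_act M) a5_f4).cons a5l3_ok (a5h_act M) a5_f3).cons a5l2_ok (a5h_act M) a5_f2).cons a5l1_ok (a5h_act M) a5_f1).cons a5l0_ok (a5h_act M) a5_f0
theorem a5_S0 {G Ω : Type*} [Group G] [MulAction G Ω] {g : ℕ → G} {pt : ℕ → Ω}
    (M : Md g pt H15.MM22.P 24 9 H15.MM22.B 443520) : Stage ⊤ (wds g a5h_W) pt 24 [a5l0, a5l1, a5l2, a5l3, a5l4] [] :=
  M.stage (a5_low M) a5_c
theorem a5_S1 {G Ω : Type*} [Group G] [MulAction G Ω] {g : ℕ → G} {pt : ℕ → Ω}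
    (M : Md g pt H15.MM22.P 24 9 H15.MM22.B 443520) : Stage ⊤ (wds g a5h_W) pt 24 [a5l1, a5l2, a5l3, a5l4] [a5l0.Pt 0] :=
  (a5_S0 M).next
theorem a5_S2 {G Ω : Type*} [Group G] [MulAction G Ω] {g : ℕ → G} {pt : ℕ → Ω}
    (M : Md g pt H15.MM22.P 24 9 H15.MM22.B 443520) : Stage ⊤ (wds g a5h_W) pt 24 [a5l2, a5l3, a5l4] [a5l1.Pt 0, a5l0.Pt 0] :=
  (a5_S1 M).next
theorem a5_S3 {G Ω : Type*} [Group G] [MulAction G Ω] {g : ℕ → G} {pt : ℕ → Ω}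
    (M : Md g pt H15.MM22.P 24 9 H15.MM22.B 443520) : Stage ⊤ (wds g a5h_W) pt 24 [a5l3, a5l4] [a5l2.Pt 0, a5l1.Pt 0, a5l0.Pt 0] :=
  (a5_S2 M).next
theorem a5_S4 {G Ω : Type*} [Group G] [MulAction G Ω] {g : ℕ → G} {pt : ℕ → Ω}
    (M : Md g pt H15.MM22.P 24 9 H15.MM22.B 443520) : Stage ⊤ (wds g a5h_W) pt 24 [a5l4] [a5l3.Pt 0, a5l2.Pt 0, a5l1.Pt 0, a5l0.Pt 0] :=
  (a5_S3 M).next
theorem a5_S5 {G Ω : Type*} [Group G] [MulAction G Ω] {g : ℕ → G} {pt : ℕ → Ω}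
    (M : Md g pt H15.MM22.P 24 9 H15.MM22.B 443520) : Stage ⊤ (wds g a5h_W) pt 24 [] [a5l4.Pt 0, a5l3.Pt 0, a5l2.Pt 0, a5l1.Pt 0, a5l0.Pt 0] :=
  (a5_S4 M).next
theorem c5e_act {G Ω : Type*} [Group G] [MulAction G Ω] {g : ℕ → G} {pt : ℕ → Ω}
    (M : Md g pt H15.MM22.P 24 9 H15.MM22.B 443520) : Act (wds g c5e_W) pt c5e_P 24 1 :=
  M.wact c5e_lt
theorem c5c0_e : ∀ i < 4, (dent c5c0 c5e_P (nat_lit 24)) i = 0 := allZ_sound0 c5c0_e_0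
theorem c5c0_ok : DOK c5c0 c5e_P 24 := ⟨c5c0_h, c5c0_e⟩
theorem a5n0_1 : ∀ i < 22, (a5n0.ent H15.MM22.P a5h_P x5_P x5_P c5e_P (nat_lit 9) (nat_lit 1) H15.MM22.B a5l0 [a5l1, a5l2, a5l3, a5l4] (memO c5c0)) i = 0 := allZ_sound0 a5n0_1_0
theorem a5n0_t {G Ω : Type*} [Group G] [MulAction G Ω] {g : ℕ → G} {pt : ℕ → Ω}
    (M : Md g pt H15.MM22.P 24 9 H15.MM22.B 443520) : TrO (gen (wds g a5h_W) a5l0.K) (wds g x5_W) (wds g x5_W) 1 pt 24 (a5l0.Pt 0) (memO c5c0) :=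
  node M (a5_S0 M) (a5h_act M) (x5_act M) (x5_act M) a5n0 ((c5e_act M).mono (by decide)) (fun _ _ => trivial) a5n0_0 a5n0_1 (List.forall_mem_nil _)
theorem c5 {G Ω : Type*} [Group G] [MulAction G Ω] {g : ℕ → G} {pt : ℕ → Ω}
    (M : Md g pt H15.MM22.P 24 9 H15.MM22.B 443520) : Cen ⊤ (wds g x5_W) 1 (wds g c5e_W) pt 24 [c5c0] :=
  (a5_S0 M).top ▸ Cen.lev M (a5_S0 M) (Cen.triv (a5_S1 M) (Cen.triv (a5_S2 M) (Cen.triv (a5_S3 M) (Cen.triv (a5_S4 M) (Cen.bot) (forced (a5_S4 M) (a5h_act M) (x5_act M) _ _ c5_f4)) (forced (a5_S3 M) (a5h_act M) (x5_act M) _ _ c5_f3)) (forced (a5_S2 M) (a5h_act M) (x5_act M) _ _ c5_f2)) (forced (a5_S1 M) (a5h_act M) (x5_act M) _ _ c5_f1)) (a5n0_t M) (x5_act M) (c5e_act M) (fun _ _ => trivial) c5c0_ok c5_f0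
theorem c5_card {G Ω : Type*} [Group G] [MulAction G Ω] {g : ℕ → G} {pt : ℕ → Ω}
    (M : Md g pt H15.MM22.P 24 9 H15.MM22.B 443520) : Nat.card (Subgroup.centralizer {(wds g x5_W) 0}) = 5 :=
  (c5 M).card_cent1 M.inj c5_c.1
theorem c5_eq {G Ω : Type*} [Group G] [MulAction G Ω] {g : ℕ → G} {pt : ℕ → Ω}
    (M : Md g pt H15.MM22.P 24 9 H15.MM22.B 443520) : Subgroup.centralizer (gen (wds g x5_W) 1) = gen (wds g c5e_W) 1 ∧ Nat.card (gen (wds g c5e_W) 1) = 5 :=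
  c5_c.1 ▸ c5_c.2 ▸ ⟨(c5 M).cent, (c5 M).card M.inj⟩
theorem x5_ord {G Ω : Type*} [Group G] [MulAction G Ω] {g : ℕ → G} {pt : ℕ → Ω}
    (M : Md g pt H15.MM22.P 24 9 H15.MM22.B 443520) : orderOf ((wds g x5_W) 0) = 5 :=
  H7.One.ord M (x5_act M) (by decide) x5_o
theorem x7_act {G Ω : Type*} [Group G] [MulAction G Ω] {g : ℕ → G} {pt : ℕ → Ω}
    (M : Md g pt H15.MM22.P 24 9 H15.MM22.B 443520) : Act (wds g x7_W) pt x7_P 24 1 :=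
  M.wact x7_lt
theorem a7h_act {G Ω : Type*} [Group G] [MulAction G Ω] {g : ℕ → G} {pt : ℕ → Ω}
    (M : Md g pt H15.MM22.P 24 9 H15.MM22.B 443520) : Act (wds g a7h_W) pt a7h_P 24 13 :=
  M.wact a7h_lt
theorem a7l0_e : ∀ i < 21, (dent a7l0 a7h_P (nat_lit 24)) i = 0 := allZ_sound0 a7l0_e_0
theorem a7l0_ok : DOK a7l0 a7h_P 24 := ⟨a7l0_h, a7l0_e⟩
theorem a7l1_e : ∀ i < 20, (dent a7l1 a7h_P (nat_lit 24)) i = 0 := allZ_sound0 a7l1_e_0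
theorem a7l1_ok : DOK a7l1 a7h_P 24 := ⟨a7l1_h, a7l1_e⟩
theorem a7l2_e : ∀ i < 19, (dent a7l2 a7h_P (nat_lit 24)) i = 0 := allZ_sound0 a7l2_e_0
theorem a7l2_ok : DOK a7l2 a7h_P 24 := ⟨a7l2_h, a7l2_e⟩
theorem a7l3_e : ∀ i < 15, (dent a7l3 a7h_P (nat_lit 24)) i = 0 := allZ_sound0 a7l3_e_0
theorem a7l3_ok : DOK a7l3 a7h_P 24 := ⟨a7l3_h, a7l3_e⟩
theorem a7l4_e : ∀ i < 2, (dent a7l4 a7h_P (nat_lit 24)) i = 0 := allZ_sound0 a7l4_e_0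
theorem a7l4_ok : DOK a7l4 a7h_P 24 := ⟨a7l4_h, a7l4_e⟩
theorem a7_low {G Ω : Type*} [Group G] [MulAction G Ω] {g : ℕ → G} {pt : ℕ → Ω}
    (M : Md g pt H15.MM22.P 24 9 H15.MM22.B 443520) : SLow (gi (wds g a7h_W)) pt 24 [a7l0, a7l1, a7l2, a7l3, a7l4] :=
  (((((SLow.nil).cons a7l4_ok (a7h_act M) a7_f4).cons a7l3_ok (a7h_act M) a7_f3).cons a7l2_ok (a7h_act M) a7_f2).cons a7l1_ok (a7h_act M) a7_f1).cons a7l0_ok (a7h_act M) a7_f0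
theorem a7_S0 {G Ω : Type*} [Group G] [MulAction G Ω] {g : ℕ → G} {pt : ℕ → Ω}
    (M : Md g pt H15.MM22.P 24 9 H15.MM22.B 443520) : Stage ⊤ (wds g a7h_W) pt 24 [a7l0, a7l1, a7l2, a7l3, a7l4] [] :=
  M.stage (a7_low M) a7_c
theorem a7_S1 {G Ω : Type*} [Group G] [MulAction G Ω] {g : ℕ → G} {pt : ℕ → Ω}
    (M : Md g pt H15.MM22.P 24 9 H15.MM22.B 443520) : Stage ⊤ (wds g a7h_W) pt 24 [a7l1, a7l2, a7l3, a7l4] [a7l0.Pt 0] :=
  (a7_S0 M).next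
theorem a7_S2 {G Ω : Type*} [Group G] [MulAction G Ω] {g : ℕ → G} {pt : ℕ → Ω}
    (M : Md g pt H15.MM22.P 24 9 H15.MM22.B 443520) : Stage ⊤ (wds g a7h_W) pt 24 [a7l2, a7l3, a7l4] [a7l1.Pt 0, a7l0.Pt 0] :=
  (a7_S1 M).next
theorem a7_S3 {G Ω : Type*} [Group G] [MulAction G Ω] {g : ℕ → G} {pt : ℕ → Ω}
    (M : Md g pt H15.MM22.P 24 9 H15.MM22.B 443520) : Stage ⊤ (wds g a7h_W) pt 24 [a7l3, a7l4] [a7l2.Pt 0, a7l1.Pt 0, a7l0.Pt 0] :=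
  (a7_S2 M).next
theorem a7_S4 {G Ω : Type*} [Group G] [MulAction G Ω] {g : ℕ → G} {pt : ℕ → Ω}
    (M : Md g pt H15.MM22.P 24 9 H15.MM22.B 443520) : Stage ⊤ (wds g a7h_W) pt 24 [a7l4] [a7l3.Pt 0, a7l2.Pt 0, a7l1.Pt 0, a7l0.Pt 0] :=
  (a7_S3 M).next
theorem a7_S5 {G Ω : Type*} [Group G] [MulAction G Ω] {g : ℕ → G} {pt : ℕ → Ω}
    (M : Md g pt H15.MM22.P 24 9 H15.MM22.B 443520) : Stage ⊤ (wds g a7h_W) pt 24 [] [a7l4.Pt 0, a7l3.Pt 0, a7l2.Pt 0, a7l1.Pt 0, a7l0.Pt 0] :=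
  (a7_S4 M).next
theorem c7e_act {G Ω : Type*} [Group G] [MulAction G Ω] {g : ℕ → G} {pt : ℕ → Ω}
    (M : Md g pt H15.MM22.P 24 9 H15.MM22.B 443520) : Act (wds g c7e_W) pt c7e_P 24 1 :=
  M.wact c7e_lt
theorem c7c0_e : ∀ i < 6, (dent c7c0 c7e_P (nat_lit 24)) i = 0 := allZ_sound0 c7c0_e_0
theorem c7c0_ok : DOK c7c0 c7e_P 24 := ⟨c7c0_h, c7c0_e⟩
theorem a7n0_1 : ∀ i < 22, (a7n0.ent H15.MM22.P a7h_P x7_P x7_P c7e_P (nat_lit 9) (nat_lit 1) H15.MM22.B a7l0 [a7l1, a7l2, a7l3, a7l4] (memO c7c0)) i = 0 := allZ_sound0 a7n0_1_0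
theorem a7n0_t {G Ω : Type*} [Group G] [MulAction G Ω] {g : ℕ → G} {pt : ℕ → Ω}
    (M : Md g pt H15.MM22.P 24 9 H15.MM22.B 443520) : TrO (gen (wds g a7h_W) a7l0.K) (wds g x7_W) (wds g x7_W) 1 pt 24 (a7l0.Pt 0) (memO c7c0) :=
  node M (a7_S0 M) (a7h_act M) (x7_act M) (x7_act M) a7n0 ((c7e_act M).mono (by decide)) (fun _ _ => trivial) a7n0_0 a7n0_1 (List.forall_mem_nil _)
theorem c7 {G Ω : Type*} [Group G] [MulAction G Ω] {g : ℕ → G} {pt : ℕ → Ω}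
    (M : Md g pt H15.MM22.P 24 9 H15.MM22.B 443520) : Cen ⊤ (wds g x7_W) 1 (wds g c7e_W) pt 24 [c7c0] :=
  (a7_S0 M).top ▸ Cen.lev M (a7_S0 M) (Cen.triv (a7_S1 M) (Cen.triv (a7_S2 M) (Cen.triv (a7_S3 M) (Cen.triv (a7_S4 M) (Cen.bot) (forced (a7_S4 M) (a7h_act M) (x7_act M) _ _ c7_f4)) (forced (a7_S3 M) (a7h_act M) (x7_act M) _ _ c7_f3)) (forced (a7_S2 M) (a7h_act M) (x7_act M) _ _ c7_f2)) (forced (a7_S1 M) (a7h_act M) (x7_act M) _ _ c7_f1)) (a7n0_t M) (x7_act M) (c7e_act M) (fun _ _ => trivial) c7c0_ok c7_f0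
theorem c7_card {G Ω : Type*} [Group G] [MulAction G Ω] {g : ℕ → G} {pt : ℕ → Ω}
    (M : Md g pt H15.MM22.P 24 9 H15.MM22.B 443520) : Nat.card (Subgroup.centralizer {(wds g x7_W) 0}) = 7 :=
  (c7 M).card_cent1 M.inj c7_c.1
theorem c7_eq {G Ω : Type*} [Group G] [MulAction G Ω] {g : ℕ → G} {pt : ℕ → Ω}
    (M : Md g pt H15.MM22.P 24 9 H15.MM22.B 443520) : Subgroup.centralizer (gen (wds g x7_W) 1) = gen (wds g c7e_W) 1 ∧ Nat.card (gen (wds g c7e_W) 1) = 7 :=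
  c7_c.1 ▸ c7_c.2 ▸ ⟨(c7 M).cent, (c7 M).card M.inj⟩
theorem x7_ord {G Ω : Type*} [Group G] [MulAction G Ω] {g : ℕ → G} {pt : ℕ → Ω}
    (M : Md g pt H15.MM22.P 24 9 H15.MM22.B 443520) : orderOf ((wds g x7_W) 0) = 7 :=
  H7.One.ord M (x7_act M) (by decide) x7_o
theorem x11_act {G Ω : Type*} [Group G] [MulAction G Ω] {g : ℕ → G} {pt : ℕ → Ω}
    (M : Md g pt H15.MM22.P 24 9 H15.MM22.B 443520) : Act (wds g x11_W) pt x11_P 24 1 :=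
  M.wact x11_lt
theorem a11h_act {G Ω : Type*} [Group G] [MulAction G Ω] {g : ℕ → G} {pt : ℕ → Ω}
    (M : Md g pt H15.MM22.P 24 9 H15.MM22.B 443520) : Act (wds g a11h_W) pt a11h_P 24 12 :=
  M.wact a11h_lt
theorem a11l0_e : ∀ i < 21, (dent a11l0 a11h_P (nat_lit 24)) i = 0 := allZ_sound0 a11l0_e_0
theorem a11l0_ok : DOK a11l0 a11h_P 24 := ⟨a11l0_h, a11l0_e⟩
theorem a11l1_e : ∀ i < 20, (dent a11l1 a11h_P (nat_lit 24)) i = 0 := allZ_sound0 a11l1_e_0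
theorem a11l1_ok : DOK a11l1 a11h_P 24 := ⟨a11l1_h, a11l1_e⟩
theorem a11l2_e : ∀ i < 19, (dent a11l2 a11h_P (nat_lit 24)) i = 0 := allZ_sound0 a11l2_e_0
theorem a11l2_ok : DOK a11l2 a11h_P 24 := ⟨a11l2_h, a11l2_e⟩
theorem a11l3_e : ∀ i < 15, (dent a11l3 a11h_P (nat_lit 24)) i = 0 := allZ_sound0 a11l3_e_0
theorem a11l3_ok : DOK a11l3 a11h_P 24 := ⟨a11l3_h, a11l3_e⟩
theorem a11l4_e : ∀ i < 2, (dent a11l4 a11h_P (nat_lit 24)) i = 0 := allZ_sound0 a11l4_e_0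
theorem a11l4_ok : DOK a11l4 a11h_P 24 := ⟨a11l4_h, a11l4_e⟩
theorem a11_low {G Ω : Type*} [Group G] [MulAction G Ω] {g : ℕ → G} {pt : ℕ → Ω}
    (M : Md g pt H15.MM22.P 24 9 H15.MM22.B 443520) : SLow (gi (wds g a11h_W)) pt 24 [a11l0, a11l1, a11l2, a11l3, a11l4] :=
  (((((SLow.nil).cons a11l4_ok (a11h_act M) a11_f4).cons a11l3_ok (a11h_act M) a11_f3).cons a11l2_ok (a11h_act M) a11_f2).cons a11l1_ok (a11h_act M) a11_f1).cons a11l0_ok (a11h_act M) a11_f0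
theorem a11_S0 {G Ω : Type*} [Group G] [MulAction G Ω] {g : ℕ → G} {pt : ℕ → Ω}
    (M : Md g pt H15.MM22.P 24 9 H15.MM22.B 443520) : Stage ⊤ (wds g a11h_W) pt 24 [a11l0, a11l1, a11l2, a11l3, a11l4] [] :=
  M.stage (a11_low M) a11_c
theorem a11_S1 {G Ω : Type*} [Group G] [MulAction G Ω] {g : ℕ → G} {pt : ℕ → Ω}
    (M : Md g pt H15.MM22.P 24 9 H15.MM22.B 443520) : Stage ⊤ (wds g a11h_W) pt 24 [a11l1, a11l2, a11l3, a11l4] [a11l0.Pt 0] :=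
  (a11_S0 M).next
theorem a11_S2 {G Ω : Type*} [Group G] [MulAction G Ω] {g : ℕ → G} {pt : ℕ → Ω}
    (M : Md g pt H15.MM22.P 24 9 H15.MM22.B 443520) : Stage ⊤ (wds g a11h_W) pt 24 [a11l2, a11l3, a11l4] [a11l1.Pt 0, a11l0.Pt 0] :=
  (a11_S1 M).next
theorem a11_S3 {G Ω : Type*} [Group G] [MulAction G Ω] {g : ℕ → G} {pt : ℕ → Ω}
    (M : Md g pt H15.MM22.P 24 9 H15.MM22.B 443520) : Stage ⊤ (wds g a11h_W) pt 24 [a11l3, a11l4] [a11l2.Pt 0, a11l1.Pt 0, a11l0.Pt 0] :=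
  (a11_S2 M).next
theorem a11_S4 {G Ω : Type*} [Group G] [MulAction G Ω] {g : ℕ → G} {pt : ℕ → Ω}
    (M : Md g pt H15.MM22.P 24 9 H15.MM22.B 443520) : Stage ⊤ (wds g a11h_W) pt 24 [a11l4] [a11l3.Pt 0, a11l2.Pt 0, a11l1.Pt 0, a11l0.Pt 0] :=
  (a11_S3 M).next
theorem a11_S5 {G Ω : Type*} [Group G] [MulAction G Ω] {g : ℕ → G} {pt : ℕ → Ω}
    (M : Md g pt H15.MM22.P 24 9 H15.MM22.B 443520) : Stage ⊤ (wds g a11h_W) pt 24 [] [a11l4.Pt 0, a11l3.Pt 0, a11l2.Pt 0, a11l1.Pt 0, a11l0.Pt 0] :=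
  (a11_S4 M).next
theorem c11e_act {G Ω : Type*} [Group G] [MulAction G Ω] {g : ℕ → G} {pt : ℕ → Ω}
    (M : Md g pt H15.MM22.P 24 9 H15.MM22.B 443520) : Act (wds g c11e_W) pt c11e_P 24 1 :=
  M.wact c11e_lt
theorem c11c0_e : ∀ i < 10, (dent c11c0 c11e_P (nat_lit 24)) i = 0 := allZ_sound0 c11c0_e_0
theorem c11c0_ok : DOK c11c0 c11e_P 24 := ⟨c11c0_h, c11c0_e⟩
theorem a11n0_1 : ∀ i < 22, (a11n0.ent H15.MM22.P a11h_P x11_P x11_P c11e_P (nat_lit 9) (nat_lit 1) H15.MM22.B a11l0 [a11l1, a11l2, a11l3, a11l4] (memO c11c0)) i = 0 := allZ_sound0 a11n0_1_0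
theorem a11n0_t {G Ω : Type*} [Group G] [MulAction G Ω] {g : ℕ → G} {pt : ℕ → Ω}
    (M : Md g pt H15.MM22.P 24 9 H15.MM22.B 443520) : TrO (gen (wds g a11h_W) a11l0.K) (wds g x11_W) (wds g x11_W) 1 pt 24 (a11l0.Pt 0) (memO c11c0) :=
  node M (a11_S0 M) (a11h_act M) (x11_act M) (x11_act M) a11n0 ((c11e_act M).mono (by decide)) (fun _ _ => trivial) a11n0_0 a11n0_1 (List.forall_mem_nil _)
theorem c11 {G Ω : Type*} [Group G] [MulAction G Ω] {g : ℕ → G} {pt : ℕ → Ω}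
    (M : Md g pt H15.MM22.P 24 9 H15.MM22.B 443520) : Cen ⊤ (wds g x11_W) 1 (wds g c11e_W) pt 24 [c11c0] :=
  (a11_S0 M).top ▸ Cen.lev M (a11_S0 M) (Cen.triv (a11_S1 M) (Cen.triv (a11_S2 M) (Cen.triv (a11_S3 M) (Cen.triv (a11_S4 M) (Cen.bot) (forced (a11_S4 M) (a11h_act M) (x11_act M) _ _ c11_f4)) (forced (a11_S3 M) (a11h_act M) (x11_act M) _ _ c11_f3)) (forced (a11_S2 M) (a11h_act M) (x11_act M) _ _ c11_f2)) (forced (a11_S1 M) (a11h_act M) (x11_act M) _ _ c11_f1)) (a11n0_t M) (x11_act M) (c11e_act M) (fun _ _ => trivial) c11c0_ok c11_f0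
theorem c11_card {G Ω : Type*} [Group G] [MulAction G Ω] {g : ℕ → G} {pt : ℕ → Ω}
    (M : Md g pt H15.MM22.P 24 9 H15.MM22.B 443520) : Nat.card (Subgroup.centralizer {(wds g x11_W) 0}) = 11 :=
  (c11 M).card_cent1 M.inj c11_c.1
theorem c11_eq {G Ω : Type*} [Group G] [MulAction G Ω] {g : ℕ → G} {pt : ℕ → Ω}
    (M : Md g pt H15.MM22.P 24 9 H15.MM22.B 443520) : Subgroup.centralizer (gen (wds g x11_W) 1) = gen (wds g c11e_W) 1 ∧ Nat.card (gen (wds g c11e_W) 1) = 11 :=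
  c11_c.1 ▸ c11_c.2 ▸ ⟨(c11 M).cent, (c11 M).card M.inj⟩
theorem x11_ord {G Ω : Type*} [Group G] [MulAction G Ω] {g : ℕ → G} {pt : ℕ → Ω}
    (M : Md g pt H15.MM22.P 24 9 H15.MM22.B 443520) : orderOf ((wds g x11_W) 0) = 11 :=
  H7.One.ord M (x11_act M) (by decide) x11_o
theorem p2t_act {G Ω : Type*} [Group G] [MulAction G Ω] {g : ℕ → G} {pt : ℕ → Ω}
    (M : Md g pt H15.MM22.P 24 9 H15.MM22.B 443520) : Act (wds g p2t_W) pt p2t_P 24 7 :=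
  M.wact p2t_lt
theorem p2_r : ∀ k < 7, ∀ i < 16, (resEnt p2t_P p2P p2E p2I (nat_lit 24) (nat_lit 16)) k i = 0 := allZ2_sound p2_r_a
theorem p2_sm {G Ω : Type*} [Group G] [MulAction G Ω] {g : ℕ → G} {pt : ℕ → Ω}
    (M : Md g pt H15.MM22.P 24 9 H15.MM22.B 443520) : Sm (wds g p2t_W) (fun i => pt (p2E i)) p2P 16 7 p2B ∧ ∀ i < 16, p2E i < 24 :=
  M.res (p2t_act M) (by decide) p2_r p2_b
theorem p2l0_e : ∀ i < 15, (dent p2l0 (wdsP p2P p2e) (nat_lit 16)) i = 0 := allZ_sound0 p2l0_e_0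
theorem p2l0_ok : DOK p2l0 (wdsP p2P p2e) 16 := ⟨p2l0_h, p2l0_e⟩
theorem p2l1_e : ∀ i < 7, (dent p2l1 (wdsP p2P p2e) (nat_lit 16)) i = 0 := allZ_sound0 p2l1_e_0
theorem p2l1_ok : DOK p2l1 (wdsP p2P p2e) 16 := ⟨p2l1_h, p2l1_e⟩
theorem p2_low {G Ω : Type*} [Group G] [MulAction G Ω] {g : ℕ → G} {pt : ℕ → Ω}
    (M : Md g pt H15.MM22.P 24 9 H15.MM22.B 443520) : SLow (gi (wds (wds g p2t_W) p2e)) (fun i => pt (p2E i)) 16 [p2l0, p2l1] :=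
  ((SLow.nil).cons p2l1_ok ((p2_sm M).1.act.wds p2_e 10) p2_f1).cons p2l0_ok ((p2_sm M).1.act.wds p2_e 10) p2_f0
theorem p2_pc {G Ω : Type*} [Group G] [MulAction G Ω] {g : ℕ → G} {pt : ℕ → Ω}
    (M : Md g pt H15.MM22.P 24 9 H15.MM22.B 443520) : PC (wds g p2t_W) 7 2 :=
  have := M.fin
  ((p2_sm M).1.pc0 (by decide) p2_p).pc (p2_low M) (p2_sm M).1.inj
    (fun k => evA_mem_gen _ (nth_lt p2_e k)) M.card ⟨by decide, p2_c⟩
theorem cov2r_act {G Ω : Type*} [Group G] [MulAction G Ω] {g : ℕ → G} {pt : ℕ → Ω}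
    (M : Md g pt H15.MM22.P 24 9 H15.MM22.B 443520) : Act (wds g cov2r_W) pt cov2r_P 24 1 :=
  M.wact cov2r_lt
theorem cov2_0 {G Ω : Type*} [Group G] [MulAction G Ω] {g : ℕ → G} {pt : ℕ → Ω}
    (M : Md g pt H15.MM22.P 24 9 H15.MM22.B 443520) : Cov (wds g p2t_W) (wds g cov2r_W) 2 1 7 (evA (wds g p2t_W) []) :=
  have := M.fin
  cov2T0.cov M (p2_sm M).1 (p2_sm M).2 (cov2r_act M) (p2_pc M) _ _ cov2_c0
theorem cov2 {G Ω : Type*} [Group G] [MulAction G Ω] {g : ℕ → G} {pt : ℕ → Ω}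
    (M : Md g pt H15.MM22.P 24 9 H15.MM22.B 443520) {y : G} {e : ℕ} (hy : y ^ 2 ^ e = 1) (hq : y ^ 2 = 1) : Good (wds g cov2r_W) 1 y :=
  have := M.fin
  Cov.all (p2_pc M) (cov2_0 M) hy hq
theorem t0_act {G Ω : Type*} [Group G] [MulAction G Ω] {g : ℕ → G} {pt : ℕ → Ω}
    (M : Md g pt H15.MM22.P 24 9 H15.MM22.B 443520) : Act (wds g t0_W) pt t0_P 24 1 :=
  M.wact t0_lt
theorem b0h_act {G Ω : Type*} [Group G] [MulAction G Ω] {g : ℕ → G} {pt : ℕ → Ω}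
    (M : Md g pt H15.MM22.P 24 9 H15.MM22.B 443520) : Act (wds g b0h_W) pt b0h_P 24 19 :=
  M.wact b0h_lt
theorem b0l0_e : ∀ i < 21, (dent b0l0 b0h_P (nat_lit 24)) i = 0 := allZ_sound0 b0l0_e_0
theorem b0l0_ok : DOK b0l0 b0h_P 24 := ⟨b0l0_h, b0l0_e⟩
theorem b0l1_e : ∀ i < 20, (dent b0l1 b0h_P (nat_lit 24)) i = 0 := allZ_sound0 b0l1_e_0
theorem b0l1_ok : DOK b0l1 b0h_P 24 := ⟨b0l1_h, b0l1_e⟩
theorem b0l2_e : ∀ i < 19, (dent b0l2 b0h_P (nat_lit 24)) i = 0 := allZ_sound0 b0l2_e_0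
theorem b0l2_ok : DOK b0l2 b0h_P 24 := ⟨b0l2_h, b0l2_e⟩
theorem b0l3_e : ∀ i < 2, (dent b0l3 b0h_P (nat_lit 24)) i = 0 := allZ_sound0 b0l3_e_0
theorem b0l3_ok : DOK b0l3 b0h_P 24 := ⟨b0l3_h, b0l3_e⟩
theorem b0l4_e : ∀ i < 15, (dent b0l4 b0h_P (nat_lit 24)) i = 0 := allZ_sound0 b0l4_e_0
theorem b0l4_ok : DOK b0l4 b0h_P 24 := ⟨b0l4_h, b0l4_e⟩
theorem b0_low {G Ω : Type*} [Group G] [MulAction G Ω] {g : ℕ → G} {pt : ℕ → Ω}
    (M : Md g pt H15.MM22.P 24 9 H15.MM22.B 443520) : SLow (gi (wds g b0h_W)) pt 24 [b0l0, b0l1, b0l2, b0l3, b0l4] :=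
  (((((SLow.nil).cons b0l4_ok (b0h_act M) b0_f4).cons b0l3_ok (b0h_act M) b0_f3).cons b0l2_ok (b0h_act M) b0_f2).cons b0l1_ok (b0h_act M) b0_f1).cons b0l0_ok (b0h_act M) b0_f0
theorem b0_S0 {G Ω : Type*} [Group G] [MulAction G Ω] {g : ℕ → G} {pt : ℕ → Ω}
    (M : Md g pt H15.MM22.P 24 9 H15.MM22.B 443520) : Stage ⊤ (wds g b0h_W) pt 24 [b0l0, b0l1, b0l2, b0l3, b0l4] [] :=
  M.stage (b0_low M) b0_c
theorem b0_S1 {G Ω : Type*} [Group G] [MulAction G Ω] {g : ℕ → G} {pt : ℕ → Ω}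
    (M : Md g pt H15.MM22.P 24 9 H15.MM22.B 443520) : Stage ⊤ (wds g b0h_W) pt 24 [b0l1, b0l2, b0l3, b0l4] [b0l0.Pt 0] :=
  (b0_S0 M).next
theorem b0_S2 {G Ω : Type*} [Group G] [MulAction G Ω] {g : ℕ → G} {pt : ℕ → Ω}
    (M : Md g pt H15.MM22.P 24 9 H15.MM22.B 443520) : Stage ⊤ (wds g b0h_W) pt 24 [b0l2, b0l3, b0l4] [b0l1.Pt 0, b0l0.Pt 0] :=
  (b0_S1 M).next
theorem b0_S3 {G Ω : Type*} [Group G] [MulAction G Ω] {g : ℕ → G} {pt : ℕ → Ω}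
    (M : Md g pt H15.MM22.P 24 9 H15.MM22.B 443520) : Stage ⊤ (wds g b0h_W) pt 24 [b0l3, b0l4] [b0l2.Pt 0, b0l1.Pt 0, b0l0.Pt 0] :=
  (b0_S2 M).next
theorem b0_S4 {G Ω : Type*} [Group G] [MulAction G Ω] {g : ℕ → G} {pt : ℕ → Ω}
    (M : Md g pt H15.MM22.P 24 9 H15.MM22.B 443520) : Stage ⊤ (wds g b0h_W) pt 24 [b0l4] [b0l3.Pt 0, b0l2.Pt 0, b0l1.Pt 0, b0l0.Pt 0] :=
  (b0_S3 M).next
theorem b0_S5 {G Ω : Type*} [Group G] [MulAction G Ω] {g : ℕ → G} {pt : ℕ → Ω}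
    (M : Md g pt H15.MM22.P 24 9 H15.MM22.B 443520) : Stage ⊤ (wds g b0h_W) pt 24 [] [b0l4.Pt 0, b0l3.Pt 0, b0l2.Pt 0, b0l1.Pt 0, b0l0.Pt 0] :=
  (b0_S4 M).next
theorem d0e_act {G Ω : Type*} [Group G] [MulAction G Ω] {g : ℕ → G} {pt : ℕ → Ω}
    (M : Md g pt H15.MM22.P 24 9 H15.MM22.B 443520) : Act (wds g d0e_W) pt d0e_P 24 16 :=
  M.wact d0e_lt
theorem d0c4_e : ∀ i < 3, (dent d0c4 d0e_P (nat_lit 24)) i = 0 := allZ_sound0 d0c4_e_0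
theorem d0c4_ok : DOK d0c4 d0e_P 24 := ⟨d0c4_h, d0c4_e⟩
theorem b0n0_1 : ∀ i < 16, (b0n0.ent H15.MM22.P b0h_P t0_P t0_P d0e_P (nat_lit 9) (nat_lit 1) H15.MM22.B b0l4 [] (memO d0c4)) i = 0 := allZ_sound0 b0n0_1_0
theorem b0n0_t {G Ω : Type*} [Group G] [MulAction G Ω] {g : ℕ → G} {pt : ℕ → Ω}
    (M : Md g pt H15.MM22.P 24 9 H15.MM22.B 443520) : TrO (gen (wds g b0h_W) b0l4.K) (wds g t0_W) (wds g t0_W) 1 pt 24 (b0l4.Pt 0) (memO d0c4) :=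
  node M (b0_S4 M) (b0h_act M) (t0_act M) (t0_act M) b0n0 ((d0e_act M).mono (by decide)) (fun _ _ => trivial) b0n0_0 b0n0_1 (List.forall_mem_nil _)
theorem d0c2_e : ∀ i < 5, (dent d0c2 d0e_P (nat_lit 24)) i = 0 := allZ_sound0 d0c2_e_0
theorem d0c2_ok : DOK d0c2 d0e_P 24 := ⟨d0c2_h, d0c2_e⟩
theorem b0n1_1 : ∀ i < 20, (b0n1.ent H15.MM22.P b0h_P t0_P t0_P d0e_P (nat_lit 9) (nat_lit 1) H15.MM22.B b0l2 [b0l3, b0l4] (memO d0c2)) i = 0 := allZ_sound0 b0n1_1_0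
theorem b0n1_t {G Ω : Type*} [Group G] [MulAction G Ω] {g : ℕ → G} {pt : ℕ → Ω}
    (M : Md g pt H15.MM22.P 24 9 H15.MM22.B 443520) : TrO (gen (wds g b0h_W) b0l2.K) (wds g t0_W) (wds g t0_W) 1 pt 24 (b0l2.Pt 0) (memO d0c2) :=
  node M (b0_S2 M) (b0h_act M) (t0_act M) (t0_act M) b0n1 ((d0e_act M).mono (by decide)) (fun _ _ => trivial) b0n1_0 b0n1_1 (List.forall_mem_nil _)
theorem d0c0_e : ∀ i < 15, (dent d0c0 d0e_P (nat_lit 24)) i = 0 := allZ_sound0 d0c0_e_0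
theorem d0c0_ok : DOK d0c0 d0e_P 24 := ⟨d0c0_h, d0c0_e⟩
theorem b0n2_1 : ∀ i < 22, (b0n2.ent H15.MM22.P b0h_P t0_P t0_P d0e_P (nat_lit 9) (nat_lit 1) H15.MM22.B b0l0 [b0l1, b0l2, b0l3, b0l4] (memO d0c0)) i = 0 := allZ_sound0 b0n2_1_0
theorem b0n2_t {G Ω : Type*} [Group G] [MulAction G Ω] {g : ℕ → G} {pt : ℕ → Ω}
    (M : Md g pt H15.MM22.P 24 9 H15.MM22.B 443520) : TrO (gen (wds g b0h_W) b0l0.K) (wds g t0_W) (wds g t0_W) 1 pt 24 (b0l0.Pt 0) (memO d0c0) :=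
  node M (b0_S0 M) (b0h_act M) (t0_act M) (t0_act M) b0n2 ((d0e_act M).mono (by decide)) (fun _ _ => trivial) b0n2_0 b0n2_1 (List.forall_mem_nil _)
theorem d0 {G Ω : Type*} [Group G] [MulAction G Ω] {g : ℕ → G} {pt : ℕ → Ω}
    (M : Md g pt H15.MM22.P 24 9 H15.MM22.B 443520) : Cen ⊤ (wds g t0_W) 1 (wds g d0e_W) pt 24 [d0c0, d0c2, d0c4] :=
  (b0_S0 M).top ▸ Cen.lev M (b0_S0 M) (Cen.triv (b0_S1 M) (Cen.lev M (b0_S2 M) (Cen.triv (b0_S3 M) (Cen.lev M (b0_S4 M) (Cen.bot) (b0n0_t M) (t0_act M) (d0e_act M) (fun _ _ => trivial) d0c4_ok d0_f4) (forced (b0_S3 M) (b0h_act M) (t0_act M) _ _ d0_f3)) (b0n1_t M) (t0_act M) (d0e_act M) (fun _ _ => trivial) d0c2_ok d0_f2) (forced (b0_S1 M) (b0h_act M) (t0_act M) _ _ d0_f1)) (b0n2_t M) (t0_act M) (d0e_act M) (fun _ _ => trivial) d0c0_ok d0_f0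
theorem d0_card {G Ω : Type*} [Group G] [MulAction G Ω] {g : ℕ → G} {pt : ℕ → Ω}
    (M : Md g pt H15.MM22.P 24 9 H15.MM22.B 443520) : Nat.card (Subgroup.centralizer {(wds g t0_W) 0}) = 384 :=
  (d0 M).card_cent1 M.inj d0_c.1
theorem d0_eq {G Ω : Type*} [Group G] [MulAction G Ω] {g : ℕ → G} {pt : ℕ → Ω}
    (M : Md g pt H15.MM22.P 24 9 H15.MM22.B 443520) : Subgroup.centralizer (gen (wds g t0_W) 1) = gen (wds g d0e_W) 16 ∧ Nat.card (gen (wds g d0e_W) 16) = 384 :=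
  d0_c.1 ▸ d0_c.2 ▸ ⟨(d0 M).cent, (d0 M).card M.inj⟩
theorem q0_act {G Ω : Type*} [Group G] [MulAction G Ω] {g : ℕ → G} {pt : ℕ → Ω}
    (M : Md g pt H15.MM22.P 24 9 H15.MM22.B 443520) : Act (wds g q0_W) pt q0_P 24 4 :=
  M.wact q0_lt
theorem u0h_act {G Ω : Type*} [Group G] [MulAction G Ω] {g : ℕ → G} {pt : ℕ → Ω}
    (M : Md g pt H15.MM22.P 24 9 H15.MM22.B 443520) : Act (wds g u0h_W) pt u0h_P 24 19 :=
  M.wact u0h_lt
theorem u0l0_e : ∀ i < 21, (dent u0l0 u0h_P (nat_lit 24)) i = 0 := allZ_sound0 u0l0_e_0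
theorem u0l0_ok : DOK u0l0 u0h_P 24 := ⟨u0l0_h, u0l0_e⟩
theorem u0l1_e : ∀ i < 20, (dent u0l1 u0h_P (nat_lit 24)) i = 0 := allZ_sound0 u0l1_e_0
theorem u0l1_ok : DOK u0l1 u0h_P 24 := ⟨u0l1_h, u0l1_e⟩
theorem u0l2_e : ∀ i < 19, (dent u0l2 u0h_P (nat_lit 24)) i = 0 := allZ_sound0 u0l2_e_0
theorem u0l2_ok : DOK u0l2 u0h_P 24 := ⟨u0l2_h, u0l2_e⟩
theorem u0l3_e : ∀ i < 2, (dent u0l3 u0h_P (nat_lit 24)) i = 0 := allZ_sound0 u0l3_e_0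
theorem u0l3_ok : DOK u0l3 u0h_P 24 := ⟨u0l3_h, u0l3_e⟩
theorem u0l4_e : ∀ i < 15, (dent u0l4 u0h_P (nat_lit 24)) i = 0 := allZ_sound0 u0l4_e_0
theorem u0l4_ok : DOK u0l4 u0h_P 24 := ⟨u0l4_h, u0l4_e⟩
theorem u0_low {G Ω : Type*} [Group G] [MulAction G Ω] {g : ℕ → G} {pt : ℕ → Ω}
    (M : Md g pt H15.MM22.P 24 9 H15.MM22.B 443520) : SLow (gi (wds g u0h_W)) pt 24 [u0l0, u0l1, u0l2, u0l3, u0l4] :=
  (((((SLow.nil).cons u0l4_ok (u0h_act M) u0_f4).cons u0l3_ok (u0h_act M) u0_f3).cons u0l2_ok (u0h_act M) u0_f2).cons u0l1_ok (u0h_act M) u0_f1).cons u0l0_ok (u0h_act M) u0_f0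
theorem u0_S0 {G Ω : Type*} [Group G] [MulAction G Ω] {g : ℕ → G} {pt : ℕ → Ω}
    (M : Md g pt H15.MM22.P 24 9 H15.MM22.B 443520) : Stage ⊤ (wds g u0h_W) pt 24 [u0l0, u0l1, u0l2, u0l3, u0l4] [] :=
  M.stage (u0_low M) u0_c
theorem u0_S1 {G Ω : Type*} [Group G] [MulAction G Ω] {g : ℕ → G} {pt : ℕ → Ω}
    (M : Md g pt H15.MM22.P 24 9 H15.MM22.B 443520) : Stage ⊤ (wds g u0h_W) pt 24 [u0l1, u0l2, u0l3, u0l4] [u0l0.Pt 0] :=
  (u0_S0 M).next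
theorem u0_S2 {G Ω : Type*} [Group G] [MulAction G Ω] {g : ℕ → G} {pt : ℕ → Ω}
    (M : Md g pt H15.MM22.P 24 9 H15.MM22.B 443520) : Stage ⊤ (wds g u0h_W) pt 24 [u0l2, u0l3, u0l4] [u0l1.Pt 0, u0l0.Pt 0] :=
  (u0_S1 M).next
theorem u0_S3 {G Ω : Type*} [Group G] [MulAction G Ω] {g : ℕ → G} {pt : ℕ → Ω}
    (M : Md g pt H15.MM22.P 24 9 H15.MM22.B 443520) : Stage ⊤ (wds g u0h_W) pt 24 [u0l3, u0l4] [u0l2.Pt 0, u0l1.Pt 0, u0l0.Pt 0] :=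
  (u0_S2 M).next
theorem u0_S4 {G Ω : Type*} [Group G] [MulAction G Ω] {g : ℕ → G} {pt : ℕ → Ω}
    (M : Md g pt H15.MM22.P 24 9 H15.MM22.B 443520) : Stage ⊤ (wds g u0h_W) pt 24 [u0l4] [u0l3.Pt 0, u0l2.Pt 0, u0l1.Pt 0, u0l0.Pt 0] :=
  (u0_S3 M).next
theorem u0_S5 {G Ω : Type*} [Group G] [MulAction G Ω] {g : ℕ → G} {pt : ℕ → Ω}
    (M : Md g pt H15.MM22.P 24 9 H15.MM22.B 443520) : Stage ⊤ (wds g u0h_W) pt 24 [] [u0l4.Pt 0, u0l3.Pt 0, u0l2.Pt 0, u0l1.Pt 0, u0l0.Pt 0] :=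
  (u0_S4 M).next
theorem f0e_act {G Ω : Type*} [Group G] [MulAction G Ω] {g : ℕ → G} {pt : ℕ → Ω}
    (M : Md g pt H15.MM22.P 24 9 H15.MM22.B 443520) : Act (wds g f0e_W) pt f0e_P 24 23 :=
  M.wact f0e_lt
theorem f0c0_e : ∀ i < 15, (dent f0c0 f0e_P (nat_lit 24)) i = 0 := allZ_sound0 f0c0_e_0
theorem f0c0_ok : DOK f0c0 f0e_P 24 := ⟨f0c0_h, f0c0_e⟩
theorem u0n0_1 : ∀ i < 22, (u0n0.ent H15.MM22.P u0h_P q0_P q0_P f0e_P (nat_lit 9) (nat_lit 4) H15.MM22.B u0l0 [u0l1, u0l2, u0l3, u0l4] (memO f0c0)) i = 0 := allZ_sound0 u0n0_1_0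
theorem u0n0_t {G Ω : Type*} [Group G] [MulAction G Ω] {g : ℕ → G} {pt : ℕ → Ω}
    (M : Md g pt H15.MM22.P 24 9 H15.MM22.B 443520) : TrO (gen (wds g u0h_W) u0l0.K) (wds g q0_W) (wds g q0_W) 4 pt 24 (u0l0.Pt 0) (memO f0c0) :=
  node M (u0_S0 M) (u0h_act M) (q0_act M) (q0_act M) u0n0 ((f0e_act M).mono (by decide)) (fun _ _ => trivial) u0n0_0 u0n0_1 (List.forall_mem_nil _)
theorem f0 {G Ω : Type*} [Group G] [MulAction G Ω] {g : ℕ → G} {pt : ℕ → Ω}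
    (M : Md g pt H15.MM22.P 24 9 H15.MM22.B 443520) : Cen ⊤ (wds g q0_W) 4 (wds g f0e_W) pt 24 [f0c0] :=
  (u0_S0 M).top ▸ Cen.lev M (u0_S0 M) (Cen.triv (u0_S1 M) (Cen.triv (u0_S2 M) (Cen.triv (u0_S3 M) (Cen.triv (u0_S4 M) (Cen.bot) (forced (u0_S4 M) (u0h_act M) (q0_act M) _ _ f0_f4)) (forced (u0_S3 M) (u0h_act M) (q0_act M) _ _ f0_f3)) (forced (u0_S2 M) (u0h_act M) (q0_act M) _ _ f0_f2)) (forced (u0_S1 M) (u0h_act M) (q0_act M) _ _ f0_f1)) (u0n0_t M) (q0_act M) (f0e_act M) (fun _ _ => trivial) f0c0_ok f0_f0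
theorem f0_eq {G Ω : Type*} [Group G] [MulAction G Ω] {g : ℕ → G} {pt : ℕ → Ω}
    (M : Md g pt H15.MM22.P 24 9 H15.MM22.B 443520) : Subgroup.centralizer (gen (wds g q0_W) 4) = gen (wds g f0e_W) 23 ∧ Nat.card (gen (wds g f0e_W) 23) = 16 :=
  f0_c.1 ▸ f0_c.2 ▸ ⟨(f0 M).cent, (f0 M).card M.inj⟩
theorem con0 {G Ω : Type*} [Group G] [MulAction G Ω] {g : ℕ → G} {pt : ℕ → Ω}
    (M : Md g pt H15.MM22.P 24 9 H15.MM22.B 443520) : H7.One.Con 2 ((wds g cov2r_W) 0) :=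
  (congrArg (fun W => H7.One.Con 2 (evA g W)) n0_e.2).mp
  (H7.One.con (t := (wds g t0_W)) M (d0e_act M) (q0_act M) Nat.prime_two (d0_eq M) (congrArg (evA g) n0_e.1) (by decide) (k' := 4) (f0_eq M) n0_c n0_k)
theorem con {G Ω : Type*} [Group G] [MulAction G Ω] {g : ℕ → G} {pt : ℕ → Ω}
    (M : Md g pt H15.MM22.P 24 9 H15.MM22.B 443520) {y : G} (hy : orderOf y = 2) : H7.One.Con 2 y :=
  by
    have h2 : y ^ 2 = 1 := hy ▸ pow_orderOf_eq_one y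
    rcases cov2 M (e := 1) h2 h2 with rfl | ⟨r, hr, h⟩
    · simp at hy
    · exact match r, hr with | 0, _ => (con0 M).conj h

end H7.OneA
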