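import Cfsg.Agent.H7.One1
import Cfsg.Agent.H15.M.M24

/-! Generated by tools/h0/tr.py. -/

set_option maxRecDepth 100000
set_option maxHeartbeats 0

namespace H7.OneB
open H16 H0.TR

noncomputable def x5_W : List (List ℕ) := [[nat_lit 3, nat_lit 5, nat_lit 6, nat_lit 8, nat_lit 3, nat_lit 9, nat_lit 8, nat_lit 0, nat_lit 1, nat_lit 5, nat_lit 10, nat_lit 9, nat_lit 8, nat_lit 0, nat_lit 1]]
noncomputable def x5_P : ℕ → ℕ → ℕ := wdsP H15.MM24.P x5_W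
noncomputable def a5h_W : List (List ℕ) := [[nat_lit 0, nat_lit 3, nat_lit 6, nat_lit 0, nat_lit 3, nat_lit 7, nat_lit 6, nat_lit 5, nat_lit 8, nat_lit 10, nat_lit 9, nat_lit 8, nat_lit 3, nat_lit 10, nat_lit 6],
  [nat_lit 0, nat_lit 6, nat_lit 4, nat_lit 8, nat_lit 2, nat_lit 5, nat_lit 9, nat_lit 10, nat_lit 9, nat_lit 8, nat_lit 0],
  [nat_lit 8, nat_lit 6, nat_lit 2, nat_lit 6, nat_lit 8, nat_lit 9, nat_lit 10, nat_lit 9, nat_lit 8, nat_lit 2, nat_lit 6],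
  [nat_lit 6, nat_lit 2, nat_lit 6, nat_lit 8, nat_lit 0, nat_lit 3, nat_lit 9, nat_lit 10, nat_lit 9, nat_lit 8, nat_lit 2, nat_lit 3],
  [nat_lit 5, nat_lit 10, nat_lit 0, nat_lit 3, nat_lit 7, nat_lit 6, nat_lit 8, nat_lit 2, nat_lit 3, nat_lit 9, nat_lit 8, nat_lit 2, nat_lit 3, nat_lit 8, nat_lit 10],
  [nat_lit 3, nat_lit 6, nat_lit 7, nat_lit 6, nat_lit 2, nat_lit 9, nat_lit 10, nat_lit 9, nat_lit 8, nat_lit 2, nat_lit 3, nat_lit 0],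
  [nat_lit 6],
  [nat_lit 0],
  [nat_lit 1],
  [nat_lit 2],
  [nat_lit 3],
  [nat_lit 4],
  [nat_lit 5],
  [nat_lit 7],
  [nat_lit 8],
  [nat_lit 9],
  [nat_lit 10]]
noncomputable def a5h_P : ℕ → ℕ → ℕ := wdsP H15.MM24.P a5h_W
noncomputable def a5l0Dd : ℕ := nat_lit 0x9c208e4502f938da4d2616c963d0a92876220b09046120f8401e00
noncomputable def a5l0D (u : ℕ) : ℕ := Nat.land (Nat.shiftRight a5l0Dd (Nat.mul u (nat_lit 9))) (nat_lit 511)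
noncomputable def a5l0Pd : ℕ := nat_lit 0x19509552d034e47155f172c8d65c20
noncomputable def a5l0P (u : ℕ) : ℕ := Nat.land (Nat.shiftRight a5l0Pd (Nat.mul u (nat_lit 5))) (nat_lit 31)
noncomputable def a5l0Qd : ℕ := nat_lit 0x145527351049c8334e9563ec5bac20
noncomputable def a5l0Q (u : ℕ) : ℕ := Nat.land (Nat.shiftRight a5l0Qd (Nat.mul u (nat_lit 5))) (nat_lit 31)
noncomputable def a5l0 : Lev := ⟨24, 17, a5l0D, a5l0P, a5l0Q⟩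
noncomputable def a5l1Dd : ℕ := nat_lit 0x31144dd8c9ba54371b271942181724150d0b0a09080700
noncomputable def a5l1D (u : ℕ) : ℕ := Nat.land (Nat.shiftRight a5l1Dd (Nat.mul u (nat_lit 8))) (nat_lit 255)
noncomputable def a5l1Pd : ℕ := nat_lit 0x457195ccad12f234f13597392a08
noncomputable def a5l1P (u : ℕ) : ℕ := Nat.land (Nat.shiftRight a5l1Pd (Nat.mul u (nat_lit 5))) (nat_lit 31)
noncomputable def a5l1Qd : ℕ := nat_lit 0xa19ee20d0164550289a049e4b9d6c0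
noncomputable def a5l1Q (u : ℕ) : ℕ := Nat.land (Nat.shiftRight a5l1Qd (Nat.mul u (nat_lit 5))) (nat_lit 31)
noncomputable def a5l1 : Lev := ⟨23, 15, a5l1D, a5l1P, a5l1Q⟩
noncomputable def a5l2Dd : ℕ := nat_lit 0x383a5ae53194870f952638c22362ca0a1220300
noncomputable def a5l2D (u : ℕ) : ℕ := Nat.land (Nat.shiftRight a5l2Dd (Nat.mul u (nat_lit 7))) (nat_lit 127)
noncomputable def a5l2Pd : ℕ := nat_lit 0x4482e3609e6c35d4f4c9ae2d474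
noncomputable def a5l2P (u : ℕ) : ℕ := Nat.land (Nat.shiftRight a5l2Pd (Nat.mul u (nat_lit 5))) (nat_lit 31)
noncomputable def a5l2Qd : ℕ := nat_lit 0x5404069a33410ac924e072c740d5e0
noncomputable def a5l2Q (u : ℕ) : ℕ := Nat.land (Nat.shiftRight a5l2Qd (Nat.mul u (nat_lit 5))) (nat_lit 31)
noncomputable def a5l2 : Lev := ⟨22, 7, a5l2D, a5l2P, a5l2Q⟩
noncomputable def a5l3Dd : ℕ := nat_lit 0x5952893a33080b9f3230a8f1c28586101c280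
noncomputable def a5l3D (u : ℕ) : ℕ := Nat.land (Nat.shiftRight a5l3Dd (Nat.mul u (nat_lit 7))) (nat_lit 127)
noncomputable def a5l3Pd : ℕ := nat_lit 0x12b086eab20d3a8c57cc31592e9
noncomputable def a5l3P (u : ℕ) : ℕ := Nat.land (Nat.shiftRight a5l3Pd (Nat.mul u (nat_lit 5))) (nat_lit 31)
noncomputable def a5l3Qd : ℕ := nat_lit 0xcde03508d3c18e1a8005a5028c8a0
noncomputable def a5l3Q (u : ℕ) : ℕ := Nat.land (Nat.shiftRight a5l3Qd (Nat.mul u (nat_lit 5))) (nat_lit 31)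
noncomputable def a5l3 : Lev := ⟨21, 6, a5l3D, a5l3P, a5l3Q⟩
noncomputable def a5l4Dd : ℕ := nat_lit 0xb74c33a2b66a95c6cd24c2c52040c0
noncomputable def a5l4D (u : ℕ) : ℕ := Nat.land (Nat.shiftRight a5l4Dd (Nat.mul u (nat_lit 6))) (nat_lit 63)
noncomputable def a5l4Pd : ℕ := nat_lit 0xbc5e6590ed0ceaa60dc2916d0
noncomputable def a5l4P (u : ℕ) : ℕ := Nat.land (Nat.shiftRight a5l4Pd (Nat.mul u (nat_lit 5))) (nat_lit 31)
noncomputable def a5l4Qd : ℕ := nat_lit 0x9852050e40895877a0006c04e31160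
noncomputable def a5l4Q (u : ℕ) : ℕ := Nat.land (Nat.shiftRight a5l4Qd (Nat.mul u (nat_lit 5))) (nat_lit 31)
noncomputable def a5l4 : Lev := ⟨20, 5, a5l4D, a5l4P, a5l4Q⟩
noncomputable def a5l5Dd : ℕ := nat_lit 0xaf6f6a460e4b4c328820
noncomputable def a5l5D (u : ℕ) : ℕ := Nat.land (Nat.shiftRight a5l5Dd (Nat.mul u (nat_lit 5))) (nat_lit 31)
noncomputable def a5l5Pd : ℕ := nat_lit 0x23aef896a75cc66531a1
noncomputable def a5l5P (u : ℕ) : ℕ := Nat.land (Nat.shiftRight a5l5Pd (Nat.mul u (nat_lit 5))) (nat_lit 31)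
noncomputable def a5l5Qd : ℕ := nat_lit 0xd09060b0ce12730084af5000
noncomputable def a5l5Q (u : ℕ) : ℕ := Nat.land (Nat.shiftRight a5l5Qd (Nat.mul u (nat_lit 4))) (nat_lit 15)
noncomputable def a5l5 : Lev := ⟨16, 3, a5l5D, a5l5P, a5l5Q⟩
noncomputable def a5l6Dd : ℕ := nat_lit 4
noncomputable def a5l6D (u : ℕ) : ℕ := Nat.land (Nat.shiftRight a5l6Dd (Nat.mul u (nat_lit 1))) (nat_lit 1)
noncomputable def a5l6Pd : ℕ := nat_lit 0xba4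
noncomputable def a5l6P (u : ℕ) : ℕ := Nat.land (Nat.shiftRight a5l6Pd (Nat.mul u (nat_lit 4))) (nat_lit 15)
noncomputable def a5l6Qd : ℕ := nat_lit 0x900000
noncomputable def a5l6Q (u : ℕ) : ℕ := Nat.land (Nat.shiftRight a5l6Qd (Nat.mul u (nat_lit 2))) (nat_lit 3)
noncomputable def a5l6 : Lev := ⟨3, 1, a5l6D, a5l6P, a5l6Q⟩
noncomputable def c5e_W : List (List ℕ) := [[nat_lit 0, nat_lit 3, nat_lit 6, nat_lit 1, nat_lit 4, nat_lit 7, nat_lit 6, nat_lit 0, nat_lit 2, nat_lit 8, nat_lit 1, nat_lit 2, nat_lit 6, nat_lit 10, nat_lit 9, nat_lit 8, nat_lit 3, nat_lit 10],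
  [nat_lit 3, nat_lit 6, nat_lit 0, nat_lit 1, nat_lit 2, nat_lit 9, nat_lit 8, nat_lit 1, nat_lit 6, nat_lit 10, nat_lit 9, nat_lit 8, nat_lit 0],
  [nat_lit 2, nat_lit 6, nat_lit 3, nat_lit 8, nat_lit 3, nat_lit 9, nat_lit 8, nat_lit 1, nat_lit 4, nat_lit 10, nat_lit 9, nat_lit 4]]
noncomputable def c5e_P : ℕ → ℕ → ℕ := wdsP H15.MM24.P c5e_W
noncomputable def c5c5Dd : ℕ := nat_lit 4
noncomputable def c5c5D (u : ℕ) : ℕ := Nat.land (Nat.shiftRight c5c5Dd (Nat.mul u (nat_lit 1))) (nat_lit 1)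
noncomputable def c5c5Pd : ℕ := nat_lit 0xe9
noncomputable def c5c5P (u : ℕ) : ℕ := Nat.land (Nat.shiftRight c5c5Pd (Nat.mul u (nat_lit 3))) (nat_lit 7)
noncomputable def c5c5Qd : ℕ := nat_lit 0x480
noncomputable def c5c5Q (u : ℕ) : ℕ := Nat.land (Nat.shiftRight c5c5Qd (Nat.mul u (nat_lit 2))) (nat_lit 3)
noncomputable def c5c5 : Lev := ⟨3, 1, c5c5D, c5c5P, c5c5Q⟩
noncomputable def a5n0Fd : ℕ := nat_lit 0x494822841248
noncomputable def a5n0F (u : ℕ) : ℕ := Nat.land (Nat.shiftRight a5n0Fd (Nat.mul u (nat_lit 3))) (nat_lit 7)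
noncomputable def a5n0 : Nd := ⟨a5n0F, (nat_lit 2), (nat_lit 1), [[nat_lit 0]], [((nat_lit 0), []), ((nat_lit 0), [nat_lit 0])], []⟩
noncomputable def c5c0Dd : ℕ := nat_lit 0xa188e071958c50940d2831c4141080
noncomputable def c5c0D (u : ℕ) : ℕ := Nat.land (Nat.shiftRight c5c0Dd (Nat.mul u (nat_lit 6))) (nat_lit 63)
noncomputable def c5c0Pd : ℕ := nat_lit 0x7dc2548ea43a90d74e068d160
noncomputable def c5c0P (u : ℕ) : ℕ := Nat.land (Nat.shiftRight c5c0Pd (Nat.mul u (nat_lit 5))) (nat_lit 31)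
noncomputable def c5c0Qd : ℕ := nat_lit 0x901a23006599d000a9e95920c70220
noncomputable def c5c0Q (u : ℕ) : ℕ := Nat.land (Nat.shiftRight c5c0Qd (Nat.mul u (nat_lit 5))) (nat_lit 31)
noncomputable def c5c0 : Lev := ⟨20, 3, c5c0D, c5c0P, c5c0Q⟩
noncomputable def a5n1Fd : ℕ := nat_lit 0x500080600000001000
noncomputable def a5n1F (u : ℕ) : ℕ := Nat.land (Nat.shiftRight a5n1Fd (Nat.mul u (nat_lit 4))) (nat_lit 15)
noncomputable def a5n1 : Nd := ⟨a5n1F, (nat_lit 3), (nat_lit 3), [[nat_lit 0]], [((nat_lit 0), [])], []⟩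
noncomputable def x7_W : List (List ℕ) := [[nat_lit 0, nat_lit 4, nat_lit 6, nat_lit 0, nat_lit 3, nat_lit 7, nat_lit 6, nat_lit 2, nat_lit 6, nat_lit 8, nat_lit 1, nat_lit 2, nat_lit 6, nat_lit 9, nat_lit 8, nat_lit 2, nat_lit 10, nat_lit 9, nat_lit 8, nat_lit 3]]
noncomputable def x7_P : ℕ → ℕ → ℕ := wdsP H15.MM24.P x7_W
noncomputable def a7h_W : List (List ℕ) := [[nat_lit 6, nat_lit 2, nat_lit 6, nat_lit 5, nat_lit 8, nat_lit 2, nat_lit 4, nat_lit 9, nat_lit 10, nat_lit 9, nat_lit 8, nat_lit 2],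
  [nat_lit 0, nat_lit 6, nat_lit 5, nat_lit 8, nat_lit 0, nat_lit 3, nat_lit 9, nat_lit 10, nat_lit 9, nat_lit 8, nat_lit 0],
  [nat_lit 1, nat_lit 5, nat_lit 6, nat_lit 3, nat_lit 4, nat_lit 9, nat_lit 10, nat_lit 9],
  [nat_lit 1, nat_lit 5, nat_lit 6, nat_lit 3, nat_lit 4, nat_lit 9, nat_lit 10, nat_lit 9],
  [nat_lit 0, nat_lit 6, nat_lit 5, nat_lit 8, nat_lit 0, nat_lit 3, nat_lit 9, nat_lit 10, nat_lit 9, nat_lit 8, nat_lit 0],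
  [nat_lit 0, nat_lit 6, nat_lit 5, nat_lit 8, nat_lit 0, nat_lit 3, nat_lit 9, nat_lit 10, nat_lit 9, nat_lit 8, nat_lit 0],
  [nat_lit 3, nat_lit 5, nat_lit 6, nat_lit 5, nat_lit 8, nat_lit 2, nat_lit 4, nat_lit 9, nat_lit 10, nat_lit 9, nat_lit 8, nat_lit 0, nat_lit 2, nat_lit 6],
  [nat_lit 0, nat_lit 1, nat_lit 3, nat_lit 6, nat_lit 5, nat_lit 7, nat_lit 6, nat_lit 1, nat_lit 4, nat_lit 1, nat_lit 8, nat_lit 1, nat_lit 3],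
  [nat_lit 6, nat_lit 1, nat_lit 2, nat_lit 3, nat_lit 4, nat_lit 7, nat_lit 8, nat_lit 0, nat_lit 9, nat_lit 10, nat_lit 9, nat_lit 8, nat_lit 0, nat_lit 1, nat_lit 5],
  [nat_lit 6, nat_lit 3, nat_lit 4, nat_lit 8, nat_lit 1, nat_lit 6, nat_lit 9, nat_lit 10, nat_lit 9, nat_lit 8, nat_lit 0, nat_lit 3, nat_lit 6],
  [nat_lit 1, nat_lit 2, nat_lit 3, nat_lit 5, nat_lit 6, nat_lit 4, nat_lit 7, nat_lit 6, nat_lit 3, nat_lit 4, nat_lit 8, nat_lit 2, nat_lit 9, nat_lit 10, nat_lit 9],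
  [nat_lit 0],
  [nat_lit 1],
  [nat_lit 2],
  [nat_lit 3],
  [nat_lit 4],
  [nat_lit 5],
  [nat_lit 6],
  [nat_lit 7],
  [nat_lit 8],
  [nat_lit 9],
  [nat_lit 10]]
noncomputable def a7h_P : ℕ → ℕ → ℕ := wdsP H15.MM24.P a7h_W
noncomputable def a7l0Dd : ℕ := nat_lit 0x8d109247c28a9920653d190c61e1a8c8381d148b05a160b8542800
noncomputable def a7l0D (u : ℕ) : ℕ := Nat.land (Nat.shiftRight a7l0Dd (Nat.mul u (nat_lit 9))) (nat_lit 511)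
noncomputable def a7l0Pd : ℕ := nat_lit 0x140ca73e889a5a3b1ea562c928dc20
noncomputable def a7l0P (u : ℕ) : ℕ := Nat.land (Nat.shiftRight a7l0Pd (Nat.mul u (nat_lit 5))) (nat_lit 31)
noncomputable def a7l0Qd : ℕ := nat_lit 0x12d317907694da7351d05550565c20
noncomputable def a7l0Q (u : ℕ) : ℕ := Nat.land (Nat.shiftRight a7l0Qd (Nat.mul u (nat_lit 5))) (nat_lit 31)
noncomputable def a7l0 : Lev := ⟨24, 22, a7l0D, a7l0P, a7l0Q⟩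
noncomputable def a7l1Dd : ℕ := nat_lit 0xee7f7778504c71834a246f2a22212013100f0e0d0c0b00
noncomputable def a7l1D (u : ℕ) : ℕ := Nat.land (Nat.shiftRight a7l1Dd (Nat.mul u (nat_lit 8))) (nat_lit 255)
noncomputable def a7l1Pd : ℕ := nat_lit 0x82e8dc8f432751d9522c28b3b526
noncomputable def a7l1P (u : ℕ) : ℕ := Nat.land (Nat.shiftRight a7l1Pd (Nat.mul u (nat_lit 5))) (nat_lit 31)
noncomputable def a7l1Qd : ℕ := nat_lit 0x929856a2668504e2242f180f15daa0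
noncomputable def a7l1Q (u : ℕ) : ℕ := Nat.land (Nat.shiftRight a7l1Qd (Nat.mul u (nat_lit 5))) (nat_lit 31)
noncomputable def a7l1 : Lev := ⟨23, 20, a7l1D, a7l1P, a7l1Q⟩
noncomputable def a7l2Dd : ℕ := nat_lit 0x354a9701f203ce0e393a58a93284490b1834500
noncomputable def a7l2D (u : ℕ) : ℕ := Nat.land (Nat.shiftRight a7l2Dd (Nat.mul u (nat_lit 7))) (nat_lit 127)
noncomputable def a7l2Pd : ℕ := nat_lit 0x1023b28a5bdb6a9532b8dd009233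
noncomputable def a7l2P (u : ℕ) : ℕ := Nat.land (Nat.shiftRight a7l2Pd (Nat.mul u (nat_lit 5))) (nat_lit 31)
noncomputable def a7l2Qd : ℕ := nat_lit 0x3b17102024715b27c1359814235060
noncomputable def a7l2Q (u : ℕ) : ℕ := Nat.land (Nat.shiftRight a7l2Qd (Nat.mul u (nat_lit 5))) (nat_lit 31)
noncomputable def a7l2 : Lev := ⟨22, 11, a7l2D, a7l2P, a7l2Q⟩
noncomputable def a7l3Dd : ℕ := nat_lit 0x4e776a3a79069a1b3c50a92264088a1630480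
noncomputable def a7l3D (u : ℕ) : ℕ := Nat.land (Nat.shiftRight a7l3Dd (Nat.mul u (nat_lit 7))) (nat_lit 127)
noncomputable def a7l3Pd : ℕ := nat_lit 0x2446a96bdc72060c1d2d72c96a
noncomputable def a7l3P (u : ℕ) : ℕ := Nat.land (Nat.shiftRight a7l3Pd (Nat.mul u (nat_lit 5))) (nat_lit 31)
noncomputable def a7l3Qd : ℕ := nat_lit 0x2162600a49735e8082136006b3d140
noncomputable def a7l3Q (u : ℕ) : ℕ := Nat.land (Nat.shiftRight a7l3Qd (Nat.mul u (nat_lit 5))) (nat_lit 31)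
noncomputable def a7l3 : Lev := ⟨21, 10, a7l3D, a7l3P, a7l3Q⟩
noncomputable def a7l4Dd : ℕ := nat_lit 0x8e3e5c342c1a2e182f191213110f10090a0b0800
noncomputable def a7l4D (u : ℕ) : ℕ := Nat.land (Nat.shiftRight a7l4Dd (Nat.mul u (nat_lit 8))) (nat_lit 255)
noncomputable def a7l4Pd : ℕ := nat_lit 0x408f44adedb54b790dd00922c
noncomputable def a7l4P (u : ℕ) : ℕ := Nat.land (Nat.shiftRight a7l4Pd (Nat.mul u (nat_lit 5))) (nat_lit 31)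
noncomputable def a7l4Qd : ℕ := nat_lit 0x42d5001c2469580701f38812234860
noncomputable def a7l4Q (u : ℕ) : ℕ := Nat.land (Nat.shiftRight a7l4Qd (Nat.mul u (nat_lit 5))) (nat_lit 31)
noncomputable def a7l4 : Lev := ⟨20, 9, a7l4D, a7l4P, a7l4Q⟩
noncomputable def a7l5Dd : ℕ := nat_lit 0xf70
noncomputable def a7l5D (u : ℕ) : ℕ := Nat.land (Nat.shiftRight a7l5Dd (Nat.mul u (nat_lit 4))) (nat_lit 15)
noncomputable def a7l5Pd : ℕ := nat_lit 0x928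
noncomputable def a7l5P (u : ℕ) : ℕ := Nat.land (Nat.shiftRight a7l5Pd (Nat.mul u (nat_lit 4))) (nat_lit 15)
noncomputable def a7l5Qd : ℕ := nat_lit 0x80010
noncomputable def a7l5Q (u : ℕ) : ℕ := Nat.land (Nat.shiftRight a7l5Qd (Nat.mul u (nat_lit 2))) (nat_lit 3)
noncomputable def a7l5 : Lev := ⟨3, 8, a7l5D, a7l5P, a7l5Q⟩
noncomputable def a7l6Dd : ℕ := nat_lit 0xa6dd829466ca0d1c1c4060004100
noncomputable def a7l6D (u : ℕ) : ℕ := Nat.land (Nat.shiftRight a7l6Dd (Nat.mul u (nat_lit 7))) (nat_lit 127)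
noncomputable def a7l6Pd : ℕ := nat_lit 0xb3a8d2bc6782c95946e1
noncomputable def a7l6P (u : ℕ) : ℕ := Nat.land (Nat.shiftRight a7l6Pd (Nat.mul u (nat_lit 5))) (nat_lit 31)
noncomputable def a7l6Qd : ℕ := nat_lit 0x1f4d0327aec0600080b59000
noncomputable def a7l6Q (u : ℕ) : ℕ := Nat.land (Nat.shiftRight a7l6Qd (Nat.mul u (nat_lit 4))) (nat_lit 15)
noncomputable def a7l6 : Lev := ⟨16, 7, a7l6D, a7l6P, a7l6Q⟩
noncomputable def c7e_W : List (List ℕ) := [[nat_lit 1, nat_lit 3, nat_lit 5, nat_lit 6, nat_lit 4, nat_lit 8, nat_lit 3, nat_lit 9, nat_lit 10, nat_lit 9, nat_lit 8, nat_lit 1, nat_lit 3],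
  [nat_lit 0, nat_lit 1, nat_lit 6, nat_lit 0, nat_lit 3, nat_lit 7, nat_lit 6, nat_lit 8, nat_lit 1, nat_lit 3, nat_lit 9, nat_lit 10]]
noncomputable def c7e_P : ℕ → ℕ → ℕ := wdsP H15.MM24.P c7e_W
noncomputable def c7c6Dd : ℕ := nat_lit 0
noncomputable def c7c6D (u : ℕ) : ℕ := Nat.land (Nat.shiftRight c7c6Dd (Nat.mul u (nat_lit 1))) (nat_lit 1)
noncomputable def c7c6Pd : ℕ := nat_lit 0x29
noncomputable def c7c6P (u : ℕ) : ℕ := Nat.land (Nat.shiftRight c7c6Pd (Nat.mul u (nat_lit 3))) (nat_lit 7)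
noncomputable def c7c6Qd : ℕ := nat_lit 0x20
noncomputable def c7c6Q (u : ℕ) : ℕ := Nat.land (Nat.shiftRight c7c6Qd (Nat.mul u (nat_lit 1))) (nat_lit 1)
noncomputable def c7c6 : Lev := ⟨2, 1, c7c6D, c7c6P, c7c6Q⟩
noncomputable def a7n0Fd : ℕ := nat_lit 0xaa15a954
noncomputable def a7n0F (u : ℕ) : ℕ := Nat.land (Nat.shiftRight a7n0Fd (Nat.mul u (nat_lit 2))) (nat_lit 3)
noncomputable def a7n0 : Nd := ⟨a7n0F, (nat_lit 2), (nat_lit 1), [[nat_lit 0]], [((nat_lit 0), []), ((nat_lit 1), [nat_lit 0])], []⟩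
noncomputable def c7c0Dd : ℕ := nat_lit 0x2781f75b5d455138f34b247105083040
noncomputable def c7c0D (u : ℕ) : ℕ := Nat.land (Nat.shiftRight c7c0Dd (Nat.mul u (nat_lit 6))) (nat_lit 63)
noncomputable def c7c0Pd : ℕ := nat_lit 0x137942d51d06aba83b3162846e0
noncomputable def c7c0P (u : ℕ) : ℕ := Nat.land (Nat.shiftRight c7c0Pd (Nat.mul u (nat_lit 5))) (nat_lit 31)
noncomputable def c7c0Qd : ℕ := nat_lit 0x9d69a00439aa062bc0d7324041220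
noncomputable def c7c0Q (u : ℕ) : ℕ := Nat.land (Nat.shiftRight c7c0Qd (Nat.mul u (nat_lit 5))) (nat_lit 31)
noncomputable def c7c0 : Lev := ⟨21, 2, c7c0D, c7c0P, c7c0Q⟩
noncomputable def a7n1Fd : ℕ := nat_lit 0x30000900
noncomputable def a7n1F (u : ℕ) : ℕ := Nat.land (Nat.shiftRight a7n1Fd (Nat.mul u (nat_lit 2))) (nat_lit 3)
noncomputable def a7n1 : Nd := ⟨a7n1F, (nat_lit 2), (nat_lit 2), [[nat_lit 0]], [((nat_lit 0), [])], []⟩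
noncomputable def x11_W : List (List ℕ) := [[nat_lit 5, nat_lit 3, nat_lit 5, nat_lit 6, nat_lit 1, nat_lit 7, nat_lit 6, nat_lit 8, nat_lit 3, nat_lit 9, nat_lit 8, nat_lit 0, nat_lit 1, nat_lit 4, nat_lit 10, nat_lit 9, nat_lit 6]]
noncomputable def x11_P : ℕ → ℕ → ℕ := wdsP H15.MM24.P x11_W
noncomputable def a11h_W : List (List ℕ) := [[nat_lit 1, nat_lit 10, nat_lit 6, nat_lit 8, nat_lit 1, nat_lit 6, nat_lit 5, nat_lit 9, nat_lit 8, nat_lit 1, nat_lit 3, nat_lit 10],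
  [nat_lit 0, nat_lit 5, nat_lit 6, nat_lit 0, nat_lit 3, nat_lit 8, nat_lit 1, nat_lit 6, nat_lit 5],
  [nat_lit 10, nat_lit 1, nat_lit 8, nat_lit 0, nat_lit 9, nat_lit 8, nat_lit 1, nat_lit 3, nat_lit 10],
  [nat_lit 5, nat_lit 7, nat_lit 6, nat_lit 3, nat_lit 4, nat_lit 8, nat_lit 0, nat_lit 2, nat_lit 9, nat_lit 10, nat_lit 9],
  [nat_lit 5, nat_lit 6, nat_lit 1, nat_lit 4, nat_lit 7, nat_lit 6, nat_lit 0, nat_lit 3, nat_lit 9, nat_lit 10, nat_lit 9, nat_lit 8, nat_lit 3],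
  [nat_lit 0],
  [nat_lit 1],
  [nat_lit 2],
  [nat_lit 3],
  [nat_lit 4],
  [nat_lit 5],
  [nat_lit 6],
  [nat_lit 7],
  [nat_lit 8],
  [nat_lit 9],
  [nat_lit 10]]
noncomputable def a11h_P : ℕ → ℕ → ℕ := wdsP H15.MM24.P a11h_W
noncomputable def a11l0Dd : ℕ := nat_lit 0x8371a54d696867584957655637145535102212111d0f0e00
noncomputable def a11l0D (u : ℕ) : ℕ := Nat.land (Nat.shiftRight a11l0Dd (Nat.mul u (nat_lit 8))) (nat_lit 255)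
noncomputable def a11l0Pd : ℕ := nat_lit 0x10d46b42958a26959da473e4565c20
noncomputable def a11l0P (u : ℕ) : ℕ := Nat.land (Nat.shiftRight a11l0Pd (Nat.mul u (nat_lit 5))) (nat_lit 31)
noncomputable def a11l0Qd : ℕ := nat_lit 0x14e11695f231d235d58e55088b5c20
noncomputable def a11l0Q (u : ℕ) : ℕ := Nat.land (Nat.shiftRight a11l0Qd (Nat.mul u (nat_lit 5))) (nat_lit 31)
noncomputable def a11l0 : Lev := ⟨24, 16, a11l0D, a11l0P, a11l0Q⟩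
noncomputable def a11l1Dd : ℕ := nat_lit 0xaac26a1f5c5b2b1d100f411b3f193231302f0d0b0a0900
noncomputable def a11l1D (u : ℕ) : ℕ := Nat.land (Nat.shiftRight a11l1Dd (Nat.mul u (nat_lit 8))) (nat_lit 255)
noncomputable def a11l1Pd : ℕ := nat_lit 0x5c565ce550b066a35e44a0f0515d1
noncomputable def a11l1P (u : ℕ) : ℕ := Nat.land (Nat.shiftRight a11l1Pd (Nat.mul u (nat_lit 5))) (nat_lit 31)
noncomputable def a11l1Qd : ℕ := nat_lit 0xb520b944044854e98ce62b0486d5e0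
noncomputable def a11l1Q (u : ℕ) : ℕ := Nat.land (Nat.shiftRight a11l1Qd (Nat.mul u (nat_lit 5))) (nat_lit 31)
noncomputable def a11l1 : Lev := ⟨23, 14, a11l1D, a11l1P, a11l1Q⟩
noncomputable def a11l2Dd : ℕ := nat_lit 0x2d413c5680c6a75a1c288cd1922407880e18280
noncomputable def a11l2D (u : ℕ) : ℕ := Nat.land (Nat.shiftRight a11l2Dd (Nat.mul u (nat_lit 7))) (nat_lit 127)
noncomputable def a11l2Pd : ℕ := nat_lit 0x771150e685e782a533328925576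
noncomputable def a11l2P (u : ℕ) : ℕ := Nat.land (Nat.shiftRight a11l2Pd (Nat.mul u (nat_lit 5))) (nat_lit 31)
noncomputable def a11l2Qd : ℕ := nat_lit 0xa00454240b6c1e60a89161e43acdc0
noncomputable def a11l2Q (u : ℕ) : ℕ := Nat.land (Nat.shiftRight a11l2Qd (Nat.mul u (nat_lit 5))) (nat_lit 31)
noncomputable def a11l2 : Lev := ⟨22, 9, a11l2D, a11l2P, a11l2Q⟩
noncomputable def a11l3Dd : ℕ := nat_lit 0x536a9909e405cd923458a8a20244050e18200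
noncomputable def a11l3D (u : ℕ) : ℕ := Nat.land (Nat.shiftRight a11l3Dd (Nat.mul u (nat_lit 7))) (nat_lit 127)
noncomputable def a11l3Pd : ℕ := nat_lit 0x17119413bcb5592891c272731a8
noncomputable def a11l3P (u : ℕ) : ℕ := Nat.land (Nat.shiftRight a11l3Pd (Nat.mul u (nat_lit 5))) (nat_lit 31)
noncomputable def a11l3Qd : ℕ := nat_lit 0xa01892900670c225c5007c9aa3ce00
noncomputable def a11l3Q (u : ℕ) : ℕ := Nat.land (Nat.shiftRight a11l3Qd (Nat.mul u (nat_lit 5))) (nat_lit 31)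
noncomputable def a11l3 : Lev := ⟨21, 5, a11l3D, a11l3P, a11l3Q⟩
noncomputable def a11l4Dd : ℕ := nat_lit 0x718aa16954cf3122ce3482871050c0
noncomputable def a11l4D (u : ℕ) : ℕ := Nat.land (Nat.shiftRight a11l4Dd (Nat.mul u (nat_lit 6))) (nat_lit 63)
noncomputable def a11l4Pd : ℕ := nat_lit 0x285f33b48955eab94186a3862
noncomputable def a11l4P (u : ℕ) : ℕ := Nat.land (Nat.shiftRight a11l4Pd (Nat.mul u (nat_lit 5))) (nat_lit 31)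
noncomputable def a11l4Qd : ℕ := nat_lit 0x5012381c06889c542d807926d08240
noncomputable def a11l4Q (u : ℕ) : ℕ := Nat.land (Nat.shiftRight a11l4Qd (Nat.mul u (nat_lit 5))) (nat_lit 31)
noncomputable def a11l4 : Lev := ⟨20, 4, a11l4D, a11l4P, a11l4Q⟩
noncomputable def a11l5Dd : ℕ := nat_lit 0xb31338396a30d0728820
noncomputable def a11l5D (u : ℕ) : ℕ := Nat.land (Nat.shiftRight a11l5Dd (Nat.mul u (nat_lit 5))) (nat_lit 31)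
noncomputable def a11l5Pd : ℕ := nat_lit 0x731a794121192952aa6b
noncomputable def a11l5P (u : ℕ) : ℕ := Nat.land (Nat.shiftRight a11l5Pd (Nat.mul u (nat_lit 5))) (nat_lit 31)
noncomputable def a11l5Qd : ℕ := nat_lit 0x451b0a0fde0290c0367080
noncomputable def a11l5Q (u : ℕ) : ℕ := Nat.land (Nat.shiftRight a11l5Qd (Nat.mul u (nat_lit 4))) (nat_lit 15)
noncomputable def a11l5 : Lev := ⟨16, 3, a11l5D, a11l5P, a11l5Q⟩
noncomputable def a11l6Dd : ℕ := nat_lit 4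
noncomputable def a11l6D (u : ℕ) : ℕ := Nat.land (Nat.shiftRight a11l6Dd (Nat.mul u (nat_lit 1))) (nat_lit 1)
noncomputable def a11l6Pd : ℕ := nat_lit 0x1c93
noncomputable def a11l6P (u : ℕ) : ℕ := Nat.land (Nat.shiftRight a11l6Pd (Nat.mul u (nat_lit 5))) (nat_lit 31)
noncomputable def a11l6Qd : ℕ := nat_lit 0x8100
noncomputable def a11l6Q (u : ℕ) : ℕ := Nat.land (Nat.shiftRight a11l6Qd (Nat.mul u (nat_lit 2))) (nat_lit 3)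
noncomputable def a11l6 : Lev := ⟨3, 1, a11l6D, a11l6P, a11l6Q⟩
noncomputable def c11e_W : List (List ℕ) := [[nat_lit 0, nat_lit 4, nat_lit 6, nat_lit 1, nat_lit 7, nat_lit 6, nat_lit 8, nat_lit 3, nat_lit 9, nat_lit 8, nat_lit 0, nat_lit 1, nat_lit 10, nat_lit 9, nat_lit 4, nat_lit 6]]
noncomputable def c11e_P : ℕ → ℕ → ℕ := wdsP H15.MM24.P c11e_W
noncomputable def c11c0Dd : ℕ := nat_lit 0x98765432100
noncomputable def c11c0D (u : ℕ) : ℕ := Nat.land (Nat.shiftRight c11c0Dd (Nat.mul u (nat_lit 4))) (nat_lit 15)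
noncomputable def c11c0Pd : ℕ := nat_lit 0x46c812e6da19c0
noncomputable def c11c0P (u : ℕ) : ℕ := Nat.land (Nat.shiftRight c11c0Pd (Nat.mul u (nat_lit 5))) (nat_lit 31)
noncomputable def c11c0Qd : ℕ := nat_lit 0x90350a00140600802000700
noncomputable def c11c0Q (u : ℕ) : ℕ := Nat.land (Nat.shiftRight c11c0Qd (Nat.mul u (nat_lit 4))) (nat_lit 15)
noncomputable def c11c0 : Lev := ⟨11, 1, c11c0D, c11c0P, c11c0Q⟩
noncomputable def a11n0Fd : ℕ := nat_lit 0x290004006000010500e0482460820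
noncomputable def a11n0F (u : ℕ) : ℕ := Nat.land (Nat.shiftRight a11n0Fd (Nat.mul u (nat_lit 5))) (nat_lit 31)
noncomputable def a11n0 : Nd := ⟨a11n0F, (nat_lit 2), (nat_lit 1), [[nat_lit 0]], [((nat_lit 0), []), ((nat_lit 0), [nat_lit 0]), ((nat_lit 0), [nat_lit 0, nat_lit 0]), ((nat_lit 0), [nat_lit 0, nat_lit 0, nat_lit 0]), ((nat_lit 0), [nat_lit 0, nat_lit 0, nat_lit 0, nat_lit 0]), ((nat_lit 0), [nat_lit 0, nat_lit 0, nat_lit 0, nat_lit 0, nat_lit 0]), ((nat_lit 0), [nat_lit 0, nat_lit 0, nat_lit 0, nat_lit 0, nat_lit 0, nat_lit 0])], []⟩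
noncomputable def x23_W : List (List ℕ) := [[nat_lit 0, nat_lit 2, nat_lit 4, nat_lit 6, nat_lit 0, nat_lit 2, nat_lit 7, nat_lit 6, nat_lit 8, nat_lit 0, nat_lit 2, nat_lit 9, nat_lit 8, nat_lit 0, nat_lit 2, nat_lit 10, nat_lit 9, nat_lit 8, nat_lit 2, nat_lit 4]]
noncomputable def x23_P : ℕ → ℕ → ℕ := wdsP H15.MM24.P x23_W
noncomputable def a23h_W : List (List ℕ) := [[nat_lit 0, nat_lit 1, nat_lit 6, nat_lit 5, nat_lit 7, nat_lit 6, nat_lit 2],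
  [nat_lit 0, nat_lit 6, nat_lit 0, nat_lit 1, nat_lit 8],
  [nat_lit 0, nat_lit 6, nat_lit 0, nat_lit 1, nat_lit 8],
  [nat_lit 0, nat_lit 6, nat_lit 0, nat_lit 1, nat_lit 8],
  [nat_lit 4, nat_lit 0, nat_lit 2, nat_lit 6, nat_lit 0, nat_lit 1, nat_lit 2, nat_lit 8, nat_lit 2],
  [nat_lit 1, nat_lit 6, nat_lit 2, nat_lit 8, nat_lit 0],
  [nat_lit 0, nat_lit 6, nat_lit 0, nat_lit 1, nat_lit 7, nat_lit 6, nat_lit 0, nat_lit 2],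
  [nat_lit 0, nat_lit 3, nat_lit 6, nat_lit 0, nat_lit 7, nat_lit 8, nat_lit 0, nat_lit 2],
  [nat_lit 4, nat_lit 7, nat_lit 6, nat_lit 1, nat_lit 8, nat_lit 2, nat_lit 9, nat_lit 10, nat_lit 9, nat_lit 8, nat_lit 1, nat_lit 5],
  [nat_lit 0],
  [nat_lit 1],
  [nat_lit 2],
  [nat_lit 3],
  [nat_lit 4],
  [nat_lit 5],
  [nat_lit 6],
  [nat_lit 7],
  [nat_lit 8],
  [nat_lit 9],
  [nat_lit 10]]
noncomputable def a23h_P : ℕ → ℕ → ℕ := wdsP H15.MM24.P a23h_W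
noncomputable def a23l0Dd : ℕ := nat_lit 0xb97d61815f6d5e405c1c59485141463c451b181915131200
noncomputable def a23l0D (u : ℕ) : ℕ := Nat.land (Nat.shiftRight a23l0Dd (Nat.mul u (nat_lit 8))) (nat_lit 255)
noncomputable def a23l0Pd : ℕ := nat_lit 0x8a9c81d8d268aa7995e92417465c20
noncomputable def a23l0P (u : ℕ) : ℕ := Nat.land (Nat.shiftRight a23l0Pd (Nat.mul u (nat_lit 5))) (nat_lit 31)
noncomputable def a23l0Qd : ℕ := nat_lit 0x149a45c2e64d5e32d914645479b820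
noncomputable def a23l0Q (u : ℕ) : ℕ := Nat.land (Nat.shiftRight a23l0Qd (Nat.mul u (nat_lit 5))) (nat_lit 31)
noncomputable def a23l0 : Lev := ⟨24, 20, a23l0D, a23l0P, a23l0Q⟩
noncomputable def a23l1Dd : ℕ := nat_lit 0x3ca646b26064ca752118c3c5b0e8903813088381a0c058281200
noncomputable def a23l1D (u : ℕ) : ℕ := Nat.land (Nat.shiftRight a23l1Dd (Nat.mul u (nat_lit 9))) (nat_lit 511)
noncomputable def a23l1Pd : ℕ := nat_lit 0x5c4e0c5e8656d350e442c28b3b526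
noncomputable def a23l1P (u : ℕ) : ℕ := Nat.land (Nat.shiftRight a23l1Pd (Nat.mul u (nat_lit 5))) (nat_lit 31)
noncomputable def a23l1Qd : ℕ := nat_lit 0xb35c5626468d04f22c30180e855660
noncomputable def a23l1Q (u : ℕ) : ℕ := Nat.land (Nat.shiftRight a23l1Qd (Nat.mul u (nat_lit 5))) (nat_lit 31)
noncomputable def a23l1 : Lev := ⟨23, 18, a23l1D, a23l1P, a23l1Q⟩
noncomputable def a23l2Dd : ℕ := nat_lit 0x233d698e8c47e7d491485ce12203c68e1228400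
noncomputable def a23l2D (u : ℕ) : ℕ := Nat.land (Nat.shiftRight a23l2Dd (Nat.mul u (nat_lit 7))) (nat_lit 127)
noncomputable def a23l2Pd : ℕ := nat_lit 0x2c7441d11058aa2643792755b4b7
noncomputable def a23l2P (u : ℕ) : ℕ := Nat.land (Nat.shiftRight a23l2Pd (Nat.mul u (nat_lit 5))) (nat_lit 31)
noncomputable def a23l2Qd : ℕ := nat_lit 0x548b2a6123c44d1b153a002643dc0
noncomputable def a23l2Q (u : ℕ) : ℕ := Nat.land (Nat.shiftRight a23l2Qd (Nat.mul u (nat_lit 5))) (nat_lit 31)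
noncomputable def a23l2 : Lev := ⟨22, 9, a23l2D, a23l2P, a23l2Q⟩
noncomputable def a23l3Dd : ℕ := nat_lit 0x3780d531e2c9501d3054c901e3860d1024380
noncomputable def a23l3D (u : ℕ) : ℕ := Nat.land (Nat.shiftRight a23l3Dd (Nat.mul u (nat_lit 7))) (nat_lit 127)
noncomputable def a23l3Pd : ℕ := nat_lit 0x115c9f61058aa8ce5725a484e88
noncomputable def a23l3P (u : ℕ) : ℕ := Nat.land (Nat.shiftRight a23l3Pd (Nat.mul u (nat_lit 5))) (nat_lit 31)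
noncomputable def a23l3Qd : ℕ := nat_lit 0x416114a8389cad9b0c04810453dc0
noncomputable def a23l3Q (u : ℕ) : ℕ := Nat.land (Nat.shiftRight a23l3Qd (Nat.mul u (nat_lit 5))) (nat_lit 31)
noncomputable def a23l3 : Lev := ⟨21, 8, a23l3D, a23l3P, a23l3Q⟩
noncomputable def a23l4Dd : ℕ := nat_lit 0xc54ae46710151b5670a122a3470f0e18280
noncomputable def a23l4D (u : ℕ) : ℕ := Nat.land (Nat.shiftRight a23l4Dd (Nat.mul u (nat_lit 7))) (nat_lit 127)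
noncomputable def a23l4Pd : ℕ := nat_lit 0x9d083aad250b650130ea7bad1
noncomputable def a23l4P (u : ℕ) : ℕ := Nat.land (Nat.shiftRight a23l4Pd (Nat.mul u (nat_lit 5))) (nat_lit 31)
noncomputable def a23l4Qd : ℕ := nat_lit 0x5f29a40818946711a02819181d60
noncomputable def a23l4Q (u : ℕ) : ℕ := Nat.land (Nat.shiftRight a23l4Qd (Nat.mul u (nat_lit 5))) (nat_lit 31)
noncomputable def a23l4 : Lev := ⟨20, 7, a23l4D, a23l4P, a23l4Q⟩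
noncomputable def a23l5Dd : ℕ := nat_lit 0xceda298996944d0289144040
noncomputable def a23l5D (u : ℕ) : ℕ := Nat.land (Nat.shiftRight a23l5Dd (Nat.mul u (nat_lit 6))) (nat_lit 63)
noncomputable def a23l5Pd : ℕ := nat_lit 0x6c0eaa968e192724ad81
noncomputable def a23l5P (u : ℕ) : ℕ := Nat.land (Nat.shiftRight a23l5Pd (Nat.mul u (nat_lit 5))) (nat_lit 31)
noncomputable def a23l5Qd : ℕ := nat_lit 0xb9540e08f12c30d0a67000
noncomputable def a23l5Q (u : ℕ) : ℕ := Nat.land (Nat.shiftRight a23l5Qd (Nat.mul u (nat_lit 4))) (nat_lit 15)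
noncomputable def a23l5 : Lev := ⟨16, 5, a23l5D, a23l5P, a23l5Q⟩
noncomputable def a23l6Dd : ℕ := nat_lit 4
noncomputable def a23l6D (u : ℕ) : ℕ := Nat.land (Nat.shiftRight a23l6Dd (Nat.mul u (nat_lit 1))) (nat_lit 1)
noncomputable def a23l6Pd : ℕ := nat_lit 0x3da
noncomputable def a23l6P (u : ℕ) : ℕ := Nat.land (Nat.shiftRight a23l6Pd (Nat.mul u (nat_lit 4))) (nat_lit 15)
noncomputable def a23l6Qd : ℕ := nat_lit 0x4000080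
noncomputable def a23l6Q (u : ℕ) : ℕ := Nat.land (Nat.shiftRight a23l6Qd (Nat.mul u (nat_lit 2))) (nat_lit 3)
noncomputable def a23l6 : Lev := ⟨3, 1, a23l6D, a23l6P, a23l6Q⟩
noncomputable def c23e_W : List (List ℕ) := [[nat_lit 10, nat_lit 9, nat_lit 1, nat_lit 2, nat_lit 3, nat_lit 5, nat_lit 6, nat_lit 0, nat_lit 7, nat_lit 6, nat_lit 0, nat_lit 1, nat_lit 2, nat_lit 8, nat_lit 0, nat_lit 9, nat_lit 8, nat_lit 6]]
noncomputable def c23e_P : ℕ → ℕ → ℕ := wdsP H15.MM24.P c23e_W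
noncomputable def c23c0Dd : ℕ := nat_lit 0x56939460f7358b525073148310400
noncomputable def c23c0D (u : ℕ) : ℕ := Nat.land (Nat.shiftRight c23c0Dd (Nat.mul u (nat_lit 5))) (nat_lit 31)
noncomputable def c23c0Pd : ℕ := nat_lit 0x5e2a69530939e43202c5d47614ce0
noncomputable def c23c0P (u : ℕ) : ℕ := Nat.land (Nat.shiftRight c23c0Pd (Nat.mul u (nat_lit 5))) (nat_lit 31)
noncomputable def c23c0Qd : ℕ := nat_lit 0xb10c013eb06ba683d22a0ae4c28d20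
noncomputable def c23c0Q (u : ℕ) : ℕ := Nat.land (Nat.shiftRight c23c0Qd (Nat.mul u (nat_lit 5))) (nat_lit 31)
noncomputable def c23c0 : Lev := ⟨23, 1, c23c0D, c23c0P, c23c0Q⟩
noncomputable def a23n0Fd : ℕ := nat_lit 0x10
noncomputable def a23n0F (u : ℕ) : ℕ := Nat.land (Nat.shiftRight a23n0Fd (Nat.mul u (nat_lit 1))) (nat_lit 1)
noncomputable def a23n0 : Nd := ⟨a23n0F, (nat_lit 2), (nat_lit 1), [[nat_lit 0]], [((nat_lit 0), [])], []⟩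
noncomputable def p2t_W : List (List ℕ) := [[nat_lit 3, nat_lit 4, nat_lit 6, nat_lit 7, nat_lit 6, nat_lit 0, nat_lit 8, nat_lit 0, nat_lit 9, nat_lit 8, nat_lit 0, nat_lit 3, nat_lit 10, nat_lit 9, nat_lit 8, nat_lit 0, nat_lit 3, nat_lit 6, nat_lit 0],
  [nat_lit 7, nat_lit 9, nat_lit 3, nat_lit 4, nat_lit 6, nat_lit 2, nat_lit 6, nat_lit 4, nat_lit 7, nat_lit 8, nat_lit 0, nat_lit 3, nat_lit 6, nat_lit 9, nat_lit 8, nat_lit 10, nat_lit 9, nat_lit 8, nat_lit 2],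
  [nat_lit 6, nat_lit 2, nat_lit 6, nat_lit 7, nat_lit 6, nat_lit 8, nat_lit 1, nat_lit 6, nat_lit 9, nat_lit 8, nat_lit 1, nat_lit 2, nat_lit 6, nat_lit 10, nat_lit 9, nat_lit 8, nat_lit 2],
  [nat_lit 6, nat_lit 0, nat_lit 3, nat_lit 5, nat_lit 8, nat_lit 0, nat_lit 1, nat_lit 5, nat_lit 9, nat_lit 8, nat_lit 1, nat_lit 3, nat_lit 10, nat_lit 9, nat_lit 8, nat_lit 0, nat_lit 3, nat_lit 6],
  [nat_lit 6, nat_lit 2, nat_lit 6, nat_lit 7, nat_lit 6, nat_lit 3, nat_lit 9, nat_lit 8, nat_lit 1, nat_lit 6, nat_lit 5, nat_lit 10, nat_lit 9, nat_lit 8, nat_lit 2, nat_lit 4, nat_lit 10, nat_lit 9, nat_lit 2],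
  [nat_lit 9, nat_lit 0, nat_lit 4, nat_lit 6, nat_lit 1, nat_lit 4, nat_lit 7, nat_lit 6, nat_lit 4, nat_lit 8, nat_lit 1, nat_lit 9, nat_lit 10, nat_lit 9, nat_lit 8, nat_lit 3, nat_lit 9],
  [nat_lit 6, nat_lit 0, nat_lit 2, nat_lit 5, nat_lit 7, nat_lit 6, nat_lit 3, nat_lit 8, nat_lit 9, nat_lit 8, nat_lit 1, nat_lit 6, nat_lit 5, nat_lit 10],
  [nat_lit 0, nat_lit 3, nat_lit 5, nat_lit 6, nat_lit 3, nat_lit 4, nat_lit 7, nat_lit 6, nat_lit 0, nat_lit 8, nat_lit 0, nat_lit 9, nat_lit 8, nat_lit 1, nat_lit 2, nat_lit 10, nat_lit 9, nat_lit 8, nat_lit 1, nat_lit 4],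
  [nat_lit 3, nat_lit 4, nat_lit 6, nat_lit 3, nat_lit 7, nat_lit 6, nat_lit 5, nat_lit 8, nat_lit 1, nat_lit 9, nat_lit 8, nat_lit 1, nat_lit 2, nat_lit 6, nat_lit 10, nat_lit 9, nat_lit 8, nat_lit 2, nat_lit 5],
  [nat_lit 7, nat_lit 9, nat_lit 6, nat_lit 2, nat_lit 6, nat_lit 4, nat_lit 7, nat_lit 6, nat_lit 0, nat_lit 8, nat_lit 1, nat_lit 2, nat_lit 6, nat_lit 9, nat_lit 8, nat_lit 0, nat_lit 1, nat_lit 5, nat_lit 10, nat_lit 9, nat_lit 8, nat_lit 1]]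
noncomputable def p2t_P : ℕ → ℕ → ℕ := wdsP H15.MM24.P p2t_W
noncomputable def p2Pd : List ℕ := [nat_lit 0xbdab49ca304904b619e12a8ee03503,
  nat_lit 0xbdab49ca303300e225450bd0b10ced,
  nat_lit 0x85276ac65732c64725450bd0c680e2,
  nat_lit 0x94e95b5e114b84c599e83a8a403423,
  nat_lit 0xbd276aca305384c5bcc50a504034e3,
  nat_lit 0xbd276aca302816d104ea7a123730c4,
  nat_lit 0xbce95b4a3001d414086c235c579969,
  nat_lit 0xac2578d2d3685253804458d8853dc6,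
  nat_lit 0x8d276ac2f25106b63cc12a4ee68102,
  nat_lit 0x84ed5a4a374380b6142a49de468cc2]
noncomputable def p2P (k u : ℕ) : ℕ := Nat.land (Nat.shiftRight (nth (nat_lit 0) p2Pd k) (Nat.mul u (nat_lit 5))) (nat_lit 31)
noncomputable def p2Ed : ℕ := nat_lit 0x8358939481bdab49ca2f72d4830c40
noncomputable def p2E (u : ℕ) : ℕ := Nat.land (Nat.shiftRight p2Ed (Nat.mul u (nat_lit 5))) (nat_lit 31)
noncomputable def p2Id : ℕ := nat_lit 0x7b9ac5a93741ed53168498e5110600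
noncomputable def p2I (u : ℕ) : ℕ := Nat.land (Nat.shiftRight p2Id (Nat.mul u (nat_lit 5))) (nat_lit 31)
noncomputable def p2B : List ℕ := [nat_lit 15, nat_lit 0, nat_lit 16, nat_lit 1, nat_lit 2, nat_lit 18, nat_lit 17]
noncomputable def p2C : List (List (List ℕ)) := [[[],
  [],
  [],
  [],
  [],
  [],
  [],
  [],
  [],
  []], [[],
  [],
  [],
  [],
  [],
  [],
  [],
  [nat_lit 0],
  [],
  [nat_lit 0]], [[],
  [],
  [],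
  [],
  [],
  [],
  [nat_lit 0],
  [],
  [],
  [nat_lit 0]], [[],
  [],
  [],
  [],
  [],
  [nat_lit 0],
  [],
  [],
  [],
  [nat_lit 0, nat_lit 1, nat_lit 2]], [[],
  [],
  [],
  [],
  [],
  [nat_lit 0],
  [nat_lit 1],
  [nat_lit 2],
  [],
  []], [[],
  [],
  [],
  [],
  [],
  [nat_lit 0],
  [nat_lit 0],
  [nat_lit 1, nat_lit 2],
  [nat_lit 1],
  [nat_lit 0, nat_lit 1]], [[],
  [],
  [],
  [],
  [],
  [],
  [nat_lit 0],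
  [nat_lit 3],
  [],
  [nat_lit 0, nat_lit 5]], [[],
  [],
  [],
  [],
  [],
  [],
  [],
  [nat_lit 3],
  [nat_lit 3],
  [nat_lit 1, nat_lit 2, nat_lit 3, nat_lit 5]], [[],
  [],
  [],
  [],
  [],
  [],
  [],
  [],
  [],
  [nat_lit 0, nat_lit 1, nat_lit 2, nat_lit 4]], [[],
  [],
  [],
  [],
  [],
  [],
  [],
  [],
  [],
  [nat_lit 4]]]
noncomputable def p2e : List (List ℕ) := [[],
  [],
  [],
  [],
  [],
  [],
  [],
  [],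
  [],
  [],
  [],
  [],
  [],
  [],
  [],
  [],
  [],
  [],
  [],
  [],
  [],
  [],
  [],
  [],
  [],
  [],
  [],
  [],
  [],
  [],
  [],
  [],
  [],
  [],
  [],
  [],
  [],
  [],
  [],
  [nat_lit 0, nat_lit 2, nat_lit 6, nat_lit 7],
  [nat_lit 0, nat_lit 2, nat_lit 4, nat_lit 8],
  [nat_lit 0, nat_lit 3],
  [nat_lit 0, nat_lit 1, nat_lit 2],
  [nat_lit 2, nat_lit 3, nat_lit 9],
  [nat_lit 0, nat_lit 1, nat_lit 2, nat_lit 9],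
  [nat_lit 3, nat_lit 4, nat_lit 9],
  [nat_lit 2, nat_lit 5, nat_lit 6]]
noncomputable def p2l0Dd : ℕ := nat_lit 0x8cdd5699772e5432288b2245d1705a21c2e0b400
noncomputable def p2l0D (u : ℕ) : ℕ := Nat.land (Nat.shiftRight p2l0Dd (Nat.mul u (nat_lit 10))) (nat_lit 1023)
noncomputable def p2l0Pd : ℕ := nat_lit 0xbc4e95fa673281d0
noncomputable def p2l0P (u : ℕ) : ℕ := Nat.land (Nat.shiftRight p2l0Pd (Nat.mul u (nat_lit 4))) (nat_lit 15)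
noncomputable def p2l0Qd : ℕ := nat_lit 0x9c1ef8b367ad5420
noncomputable def p2l0Q (u : ℕ) : ℕ := Nat.land (Nat.shiftRight p2l0Qd (Nat.mul u (nat_lit 4))) (nat_lit 15)
noncomputable def p2l0 : Lev := ⟨16, 47, p2l0D, p2l0P, p2l0Q⟩
noncomputable def p2l1Dd : ℕ := nat_lit 0xacaf8083572b2900
noncomputable def p2l1D (u : ℕ) : ℕ := Nat.land (Nat.shiftRight p2l1Dd (Nat.mul u (nat_lit 8))) (nat_lit 255)
noncomputable def p2l1Pd : ℕ := nat_lit 0xf597a681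
noncomputable def p2l1P (u : ℕ) : ℕ := Nat.land (Nat.shiftRight p2l1Pd (Nat.mul u (nat_lit 4))) (nat_lit 15)
noncomputable def p2l1Qd : ℕ := nat_lit 0xe000e98b0000
noncomputable def p2l1Q (u : ℕ) : ℕ := Nat.land (Nat.shiftRight p2l1Qd (Nat.mul u (nat_lit 3))) (nat_lit 7)
noncomputable def p2l1 : Lev := ⟨8, 44, p2l1D, p2l1P, p2l1Q⟩
noncomputable def p2l2Dd : ℕ := nat_lit 0xf541400
noncomputable def p2l2D (u : ℕ) : ℕ := Nat.land (Nat.shiftRight p2l2Dd (Nat.mul u (nat_lit 7))) (nat_lit 127)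
noncomputable def p2l2Pd : ℕ := nat_lit 0xebc4
noncomputable def p2l2P (u : ℕ) : ℕ := Nat.land (Nat.shiftRight p2l2Pd (Nat.mul u (nat_lit 4))) (nat_lit 15)
noncomputable def p2l2Qd : ℕ := nat_lit 0x31800000
noncomputable def p2l2Q (u : ℕ) : ℕ := Nat.land (Nat.shiftRight p2l2Qd (Nat.mul u (nat_lit 2))) (nat_lit 3)
noncomputable def p2l2 : Lev := ⟨4, 41, p2l2D, p2l2P, p2l2Q⟩
noncomputable def p2l3Dd : ℕ := nat_lit 0x9c0
noncomputable def p2l3D (u : ℕ) : ℕ := Nat.land (Nat.shiftRight p2l3Dd (Nat.mul u (nat_lit 6))) (nat_lit 63)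
noncomputable def p2l3Pd : ℕ := nat_lit 0xd2
noncomputable def p2l3P (u : ℕ) : ℕ := Nat.land (Nat.shiftRight p2l3Pd (Nat.mul u (nat_lit 4))) (nat_lit 15)
noncomputable def p2l3Qd : ℕ := nat_lit 0x2000
noncomputable def p2l3Q (u : ℕ) : ℕ := Nat.land (Nat.shiftRight p2l3Qd (Nat.mul u (nat_lit 1))) (nat_lit 1)
noncomputable def p2l3 : Lev := ⟨2, 40, p2l3D, p2l3P, p2l3Q⟩
noncomputable def cov2r_W : List (List ℕ) := [[nat_lit 3, nat_lit 4, nat_lit 6, nat_lit 1, nat_lit 2, nat_lit 7, nat_lit 6, nat_lit 3, nat_lit 8, nat_lit 9, nat_lit 8, nat_lit 0, nat_lit 3, nat_lit 6, nat_lit 10, nat_lit 9, nat_lit 8, nat_lit 3, nat_lit 9, nat_lit 6],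
  [nat_lit 6, nat_lit 2, nat_lit 6, nat_lit 7, nat_lit 6, nat_lit 8, nat_lit 1, nat_lit 6, nat_lit 9, nat_lit 8, nat_lit 1, nat_lit 2, nat_lit 6, nat_lit 10, nat_lit 9, nat_lit 8, nat_lit 2]]
noncomputable def cov2r_P : ℕ → ℕ → ℕ := wdsP H15.MM24.P cov2r_W
noncomputable def cov2T0 : CT := (.split (.more (.split (.more (.split (.more (.split (.more (.split (.more (.split (.more (.split (.more (.split (.more (.split (.more (.split (.more .one (.more (.leaf (nat_lit 0) []) .one))) (.more (.fuse [nat_lit 7] [] (.leaf (nat_lit 0) [nat_lit 1, nat_lit 2, nat_lit 8, nat_lit 2, nat_lit 3, nat_lit 9, nat_lit 10, nat_lit 9, nat_lit 8, nat_lit 2, nat_lit 4])) .one))) (.more (.split (.more (.fuse [nat_lit 6] [] (.leaf (nat_lit 1) [])) (.more (.fuse [nat_lit 6] [] (.leaf (nat_lit 0) [nat_lit 2, nat_lit 5, nat_lit 6, nat_lit 0, nat_lit 1, nat_lit 7, nat_lit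 6, nat_lit 1, nat_lit 8, nat_lit 1, nat_lit 2, nat_lit 6, nat_lit 9, nat_lit 10, nat_lit 9, nat_lit 8])) .one))) .one))) (.more (.fuse [nat_lit 9] [nat_lit 0, nat_lit 1] (.split (.more (.fuse [nat_lit 5] [] (.leaf (nat_lit 0) [nat_lit 0, nat_lit 5, nat_lit 6, nat_lit 2, nat_lit 7, nat_lit 6, nat_lit 4, nat_lit 9, nat_lit 8, nat_lit 0, nat_lit 1, nat_lit 5, nat_lit 10, nat_lit 9, nat_lit 8, nat_lit 1, nat_lit 4])) (.more (.fuse [nat_lit 5] [] (.leaf (nat_lit 1) [nat_lit 0, nat_lit 1, nat_lit 3])) .one)))) .one))) (.more (.split (.more (.fuse [nat_lit 7] [] (.fuse [nat_lit 6] [] (.fuse [nat_lit 5] [] (.leaf (nat_lit 0) [nat_lit 1, nat_lit 2, nat_lit 6])))) (.more (.fuse [nat_lit 7] [] (.fuse [nat_lit 6] [] (.split (.more (.leaf (nat_lit 0) [nat_lit 1, nat_lit 5, nat_lit 6, nat_lit 0, nat_lit 3, nat_lit 7, nat_lit 9, nat_lit 8, nat_lit 0, nat_lit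 1, nat_lit 4, nat_lit 10, nat_lit 9, nat_lit 8, nat_lit 0, nat_lit 3]) (.more (.leaf (nat_lit 1) [nat_lit 0, nat_lit 2, nat_lit 4, nat_lit 6, nat_lit 0, nat_lit 2, nat_lit 7, nat_lit 6, nat_lit 2, nat_lit 8, nat_lit 9, nat_lit 10, nat_lit 9, nat_lit 8, nat_lit 1, nat_lit 6]) .one))))) .one))) .one))) (.more (.split (.more (.split (.more (.fuse [nat_lit 7] [nat_lit 1] (.fuse [nat_lit 8] [] (.fuse [nat_lit 3] [] (.prune (nat_lit 0) (nat_lit 1) [])))) (.more (.fuse [nat_lit 7] [nat_lit 1] (.fuse [nat_lit 8] [] (.fuse [nat_lit 3] [] (.leaf (nat_lit 1) [nat_lit 8, nat_lit 5, nat_lit 6, nat_lit 3, nat_lit 4, nat_lit 7, nat_lit 8, nat_lit 0, nat_lit 9, nat_lit 10, nat_lit 9, nat_lit 8, nat_lit 3, nat_lit 6])))) .one))) (.more (.split (.more (.split (.more (.fuse [nat_lit 6] [nat_lit 0] (.fuse [nat_lit 3] [] (.leaf (nat_lit 0) [nat_lit 0, nat_lit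 3, nat_lit 6, nat_lit 1, nat_lit 4, nat_lit 1, nat_lit 8, nat_lit 9, nat_lit 10, nat_lit 9, nat_lit 8, nat_lit 1]))) (.more (.fuse [nat_lit 6] [] (.fuse [nat_lit 3] [] (.leaf (nat_lit 1) [nat_lit 0, nat_lit 2, nat_lit 6, nat_lit 1, nat_lit 4, nat_lit 8, nat_lit 9, nat_lit 10, nat_lit 9, nat_lit 8, nat_lit 2]))) .one))) (.more (.fuse [nat_lit 9] [] (.fuse [nat_lit 6] [nat_lit 0] (.fuse [nat_lit 3] [] (.prune (nat_lit 0) (nat_lit 1) [])))) .one))) .one))) .one))) (.more (.fuse [nat_lit 9] [] (.split (.more (.fuse [nat_lit 7] [] (.split (.more (.fuse [nat_lit 4] [] (.fuse [nat_lit 2] [] (.prune (nat_lit 0) (nat_lit 1) []))) (.more (.fuse [nat_lit 4] [] (.fuse [nat_lit 2] [] (.leaf (nat_lit 1) [nat_lit 0, nat_lit 1, nat_lit 6, nat_lit 3, nat_lit 7, nat_lit 6, nat_lit 0, nat_lit 8, nat_lit 9, nat_lit 10, nat_lit 9, nat_lit 8, nat_lit 1, nat_lit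 2]))) .one)))) (.more (.fuse [nat_lit 7] [nat_lit 2] (.split (.more (.fuse [nat_lit 4] [] (.prune (nat_lit 1) (nat_lit 1) [nat_lit 0])) (.more (.fuse [nat_lit 4] [] (.prune (nat_lit 1) (nat_lit 1) [])) .one)))) .one)))) .one))) (.more (.split (.more (.fuse [nat_lit 9] [nat_lit 3] (.split (.more (.fuse [nat_lit 6] [] (.prune (nat_lit 3) (nat_lit 1) [])) (.more (.fuse [nat_lit 6] [nat_lit 1] (.prune (nat_lit 3) (nat_lit 1) [nat_lit 2])) .one)))) (.more (.split (.more (.split (.more (.fuse [nat_lit 6] [] (.fuse [nat_lit 4] [nat_lit 0, nat_lit 1] (.split (.more (.fuse [nat_lit 1] [] (.prune (nat_lit 0) (nat_lit 1) [])) (.more (.fuse [nat_lit 1] [] (.leaf (nat_lit 0) [nat_lit 0, nat_lit 2, nat_lit 9])) .one))))) (.more (.fuse [nat_lit 6] [nat_lit 1] (.fuse [nat_lit 4] [nat_lit 0, nat_lit 1] (.prune (nat_lit 2) (nat_lit 1) [nat_lit 1]))) .one)))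 (.more (.split (.more (.fuse [nat_lit 6] [] (.fuse [nat_lit 4] [nat_lit 1] (.prune (nat_lit 2) (nat_lit 1) [nat_lit 0, nat_lit 1]))) (.more (.fuse [nat_lit 6] [nat_lit 1] (.fuse [nat_lit 4] [nat_lit 1] (.split (.more (.fuse [nat_lit 1] [] (.prune (nat_lit 0) (nat_lit 1) [])) (.more (.fuse [nat_lit 1] [] (.leaf (nat_lit 1) [nat_lit 0, nat_lit 1, nat_lit 6, nat_lit 3, nat_lit 4, nat_lit 8, nat_lit 9, nat_lit 10, nat_lit 9, nat_lit 8, nat_lit 0, nat_lit 3])) .one))))) .one))) .one))) .one))) .one))) (.more (.split (.more (.split (.more (.split (.more (.fuse [nat_lit 9] [nat_lit 0, nat_lit 1, nat_lit 2] (.fuse [nat_lit 7] [] (.split (.more (.fuse [nat_lit 5] [] (.split (.more (.leaf (nat_lit 1) [nat_lit 1, nat_lit 6, nat_lit 7, nat_lit 6, nat_lit 1, nat_lit 4, nat_lit 8, nat_lit 9, nat_lit 10, nat_lit 9, nat_lit 8, nat_lit 0, nat_lit 3]) (.more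 (.leaf (nat_lit 0) [nat_lit 1, nat_lit 2, nat_lit 3, nat_lit 6, nat_lit 7, nat_lit 6, nat_lit 1, nat_lit 2, nat_lit 8, nat_lit 0, nat_lit 1]) .one)))) (.more (.fuse [nat_lit 5] [] (.fuse [nat_lit 6] [] (.leaf (nat_lit 0) [nat_lit 6, nat_lit 8, nat_lit 4, nat_lit 6, nat_lit 4, nat_lit 7, nat_lit 6, nat_lit 0, nat_lit 1, nat_lit 8, nat_lit 9, nat_lit 8, nat_lit 10]))) .one))))) (.more (.fuse [nat_lit 9] [nat_lit 0, nat_lit 2] (.fuse [nat_lit 7] [nat_lit 0, nat_lit 1, nat_lit 2] (.split (.more (.fuse [nat_lit 5] [] (.prune (nat_lit 1) (nat_lit 1) [nat_lit 0])) (.more (.fuse [nat_lit 5] [] (.prune (nat_lit 1) (nat_lit 1) [nat_lit 0])) .one))))) .one))) (.more (.fuse [nat_lit 9] [nat_lit 0, nat_lit 2, nat_lit 4] (.split (.more (.split (.more (.split (.more (.fuse [nat_lit 4] [] (.fuse [nat_lit 2] [] (.prune (nat_lit 0) (nat_lit 1) []))) (.more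 (.fuse [nat_lit 4] [] (.fuse [nat_lit 2] [] (.leaf (nat_lit 1) [nat_lit 0, nat_lit 4, nat_lit 6, nat_lit 1, nat_lit 4, nat_lit 1, nat_lit 7, nat_lit 6, nat_lit 3, nat_lit 8, nat_lit 9, nat_lit 10, nat_lit 9, nat_lit 8, nat_lit 1, nat_lit 4]))) .one))) (.more (.split (.more (.fuse [nat_lit 4] [] (.fuse [nat_lit 2] [] (.prune (nat_lit 0) (nat_lit 1) []))) (.more (.fuse [nat_lit 4] [] (.fuse [nat_lit 2] [] (.leaf (nat_lit 0) [nat_lit 1, nat_lit 3, nat_lit 6, nat_lit 1, nat_lit 4, nat_lit 8, nat_lit 9, nat_lit 10, nat_lit 9, nat_lit 8, nat_lit 2, nat_lit 3]))) .one))) .one))) (.more (.split (.more (.fuse [nat_lit 7] [] (.fuse [nat_lit 4] [] (.prune (nat_lit 1) (nat_lit 1) [nat_lit 0]))) (.more (.fuse [nat_lit 7] [] (.fuse [nat_lit 4] [] (.prune (nat_lit 1) (nat_lit 1) [nat_lit 0]))) .one))) .one)))) .one))) (.more (.split (.more (.fuse [nat_lit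 9] [nat_lit 0, nat_lit 1, nat_lit 3, nat_lit 4] (.split (.more (.fuse [nat_lit 6] [] (.fuse [nat_lit 4] [] (.split (.more (.fuse [nat_lit 1] [] (.leaf (nat_lit 1) [nat_lit 4, nat_lit 1, nat_lit 4, nat_lit 6, nat_lit 3, nat_lit 4, nat_lit 7, nat_lit 6, nat_lit 0, nat_lit 8, nat_lit 9, nat_lit 10, nat_lit 9, nat_lit 8, nat_lit 1, nat_lit 2, nat_lit 0])) (.more (.fuse [nat_lit 1] [] (.prune (nat_lit 0) (nat_lit 1) [])) .one))))) (.more (.fuse [nat_lit 6] [nat_lit 1] (.fuse [nat_lit 4] [] (.prune (nat_lit 2) (nat_lit 1) []))) .one)))) (.more (.split (.more (.fuse [nat_lit 9] [nat_lit 0, nat_lit 3] (.fuse [nat_lit 6] [] (.prune (nat_lit 3) (nat_lit 1) [nat_lit 0]))) (.more (.fuse [nat_lit 9] [nat_lit 1, nat_lit 3] (.fuse [nat_lit 6] [] (.prune (nat_lit 3) (nat_lit 1) [nat_lit 2]))) .one))) .one))) .one))) .one))) (.more (.split (.more (.split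 (.more (.split (.more (.fuse [nat_lit 6] [nat_lit 1] (.fuse [nat_lit 8] [nat_lit 0, nat_lit 1, nat_lit 2] (.prune (nat_lit 4) (nat_lit 1) []))) (.more (.fuse [nat_lit 6] [nat_lit 0, nat_lit 1] (.prune (nat_lit 5) (nat_lit 1) [nat_lit 1, nat_lit 4])) .one))) (.more (.split (.more (.fuse [nat_lit 6] [nat_lit 2, nat_lit 3] (.prune (nat_lit 5) (nat_lit 1) [nat_lit 1, nat_lit 4])) (.more (.fuse [nat_lit 6] [nat_lit 2, nat_lit 3] (.fuse [nat_lit 8] [nat_lit 3] (.prune (nat_lit 4) (nat_lit 1) [nat_lit 0, nat_lit 1, nat_lit 2, nat_lit 3]))) .one))) .one))) (.more (.split (.more (.split (.more (.fuse [nat_lit 6] [] (.fuse [nat_lit 8] [nat_lit 0, nat_lit 1, nat_lit 2] (.split (.more (.fuse [nat_lit 3] [nat_lit 0, nat_lit 1] (.prune (nat_lit 2) (nat_lit 1) [nat_lit 0, nat_lit 1])) (.more (.fuse [nat_lit 3] [nat_lit 0, nat_lit 1] (.split (.more (.fuse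 [nat_lit 1] [] (.leaf (nat_lit 0) [nat_lit 1, nat_lit 8, nat_lit 2, nat_lit 3, nat_lit 9, nat_lit 8, nat_lit 0, nat_lit 2, nat_lit 10, nat_lit 9, nat_lit 8, nat_lit 2, nat_lit 5])) (.more (.fuse [nat_lit 1] [] (.prune (nat_lit 0) (nat_lit 1) [])) .one)))) .one))))) (.more (.fuse [nat_lit 6] [nat_lit 0] (.prune (nat_lit 5) (nat_lit 1) [nat_lit 1, nat_lit 2])) .one))) (.more (.split (.more (.fuse [nat_lit 6] [nat_lit 0, nat_lit 1, nat_lit 2, nat_lit 3] (.prune (nat_lit 5) (nat_lit 1) [nat_lit 1, nat_lit 2, nat_lit 3])) (.more (.fuse [nat_lit 6] [nat_lit 0, nat_lit 1, nat_lit 2, nat_lit 3] (.fuse [nat_lit 8] [nat_lit 3] (.split (.more (.fuse [nat_lit 3] [nat_lit 0, nat_lit 1] (.split (.more (.fuse [nat_lit 3, nat_lit 6, nat_lit 7] [] (.leaf (nat_lit 1) [nat_lit 5, nat_lit 6, nat_lit 1, nat_lit 8, nat_lit 9, nat_lit 10, nat_lit 9, nat_lit 8,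 nat_lit 1, nat_lit 6])) (.more (.split (.more (.leaf (nat_lit 1) [nat_lit 7, nat_lit 1, nat_lit 5, nat_lit 6, nat_lit 1, nat_lit 2, nat_lit 7, nat_lit 6, nat_lit 8, nat_lit 0, nat_lit 10, nat_lit 9, nat_lit 8, nat_lit 0]) (.more (.leaf (nat_lit 0) [nat_lit 2, nat_lit 6, nat_lit 3, nat_lit 4, nat_lit 8, nat_lit 9, nat_lit 8, nat_lit 0, nat_lit 10, nat_lit 9, nat_lit 8, nat_lit 1, nat_lit 2, nat_lit 6, nat_lit 1]) .one))) .one)))) (.more (.fuse [nat_lit 3] [nat_lit 0, nat_lit 1] (.prune (nat_lit 2) (nat_lit 1) [nat_lit 0, nat_lit 1])) .one))))) .one))) .one))) .one))) .one)))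
noncomputable def t0_W : List (List ℕ) := [[nat_lit 3, nat_lit 4, nat_lit 6, nat_lit 1, nat_lit 2, nat_lit 7, nat_lit 6, nat_lit 3, nat_lit 8, nat_lit 9, nat_lit 8, nat_lit 0, nat_lit 3, nat_lit 6, nat_lit 10, nat_lit 9, nat_lit 8, nat_lit 3, nat_lit 9, nat_lit 6]]
noncomputable def t0_P : ℕ → ℕ → ℕ := wdsP H15.MM24.P t0_W
noncomputable def b0h_W : List (List ℕ) := [[nat_lit 9, nat_lit 10, nat_lit 9, nat_lit 1, nat_lit 5],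
  [nat_lit 4, nat_lit 8, nat_lit 1, nat_lit 4, nat_lit 9, nat_lit 10, nat_lit 9, nat_lit 8],
  [nat_lit 3, nat_lit 5, nat_lit 8, nat_lit 2, nat_lit 4, nat_lit 9, nat_lit 10, nat_lit 9, nat_lit 8, nat_lit 3],
  [nat_lit 0, nat_lit 2, nat_lit 4, nat_lit 9, nat_lit 10, nat_lit 9],
  [nat_lit 3, nat_lit 5, nat_lit 8, nat_lit 2, nat_lit 4, nat_lit 9, nat_lit 10, nat_lit 9, nat_lit 8, nat_lit 3],
  [nat_lit 10, nat_lit 8, nat_lit 0, nat_lit 2, nat_lit 9, nat_lit 8, nat_lit 10],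
  [nat_lit 4, nat_lit 8, nat_lit 1, nat_lit 4, nat_lit 9, nat_lit 10, nat_lit 9, nat_lit 8],
  [nat_lit 0, nat_lit 4, nat_lit 8, nat_lit 0, nat_lit 1, nat_lit 5, nat_lit 9, nat_lit 10, nat_lit 9, nat_lit 8, nat_lit 0],
  [nat_lit 3, nat_lit 5, nat_lit 8, nat_lit 2, nat_lit 4, nat_lit 9, nat_lit 10, nat_lit 9, nat_lit 8, nat_lit 3],
  [nat_lit 0, nat_lit 2, nat_lit 4, nat_lit 9, nat_lit 10, nat_lit 9],
  [nat_lit 4, nat_lit 8, nat_lit 1, nat_lit 4, nat_lit 9, nat_lit 10, nat_lit 9, nat_lit 8],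
  [nat_lit 10, nat_lit 8, nat_lit 0, nat_lit 2, nat_lit 9, nat_lit 8, nat_lit 10],
  [nat_lit 10, nat_lit 2, nat_lit 3, nat_lit 4, nat_lit 8, nat_lit 0, nat_lit 3, nat_lit 9, nat_lit 8, nat_lit 2, nat_lit 3, nat_lit 10],
  [nat_lit 1, nat_lit 2, nat_lit 8, nat_lit 3, nat_lit 9, nat_lit 10, nat_lit 9, nat_lit 8, nat_lit 1, nat_lit 3],
  [nat_lit 5, nat_lit 10, nat_lit 1, nat_lit 4, nat_lit 6, nat_lit 8, nat_lit 0, nat_lit 9, nat_lit 10],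
  [nat_lit 1, nat_lit 3, nat_lit 4, nat_lit 6, nat_lit 1, nat_lit 2, nat_lit 8, nat_lit 9, nat_lit 10, nat_lit 9, nat_lit 8],
  [nat_lit 2, nat_lit 5, nat_lit 6, nat_lit 3, nat_lit 4, nat_lit 7, nat_lit 8, nat_lit 1, nat_lit 9, nat_lit 10, nat_lit 9],
  [nat_lit 0],
  [nat_lit 1],
  [nat_lit 2],
  [nat_lit 3],
  [nat_lit 4],
  [nat_lit 5],
  [nat_lit 6],
  [nat_lit 7],
  [nat_lit 8],
  [nat_lit 9],
  [nat_lit 10]]
noncomputable def b0h_P : ℕ → ℕ → ℕ := wdsP H15.MM24.P b0h_W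
noncomputable def b0l0Dd : ℕ := nat_lit 0xd04d9fa625dae5f8684111c882822918523f118e83c390e86c3400
noncomputable def b0l0D (u : ℕ) : ℕ := Nat.land (Nat.shiftRight b0l0Dd (Nat.mul u (nat_lit 9))) (nat_lit 511)
noncomputable def b0l0Pd : ℕ := nat_lit 0x1162e3290978e0ba55a491e6cb5c20
noncomputable def b0l0P (u : ℕ) : ℕ := Nat.land (Nat.shiftRight b0l0Pd (Nat.mul u (nat_lit 5))) (nat_lit 31)
noncomputable def b0l0Qd : ℕ := nat_lit 0x10d4b29ead7d12464a1134ec875c20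
noncomputable def b0l0Q (u : ℕ) : ℕ := Nat.land (Nat.shiftRight b0l0Qd (Nat.mul u (nat_lit 5))) (nat_lit 31)
noncomputable def b0l0 : Lev := ⟨24, 28, b0l0D, b0l0P, b0l0Q⟩
noncomputable def b0l1Dd : ℕ := nat_lit 0x20626cec264eb2546224c2e0b45013c3513834064160541404c1204400
noncomputable def b0l1D (u : ℕ) : ℕ := Nat.land (Nat.shiftRight b0l1Dd (Nat.mul u (nat_lit 10))) (nat_lit 1023)
noncomputable def b0l1Pd : ℕ := nat_lit 0x9c1191ecad957946682c28b3b526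
noncomputable def b0l1P (u : ℕ) : ℕ := Nat.land (Nat.shiftRight b0l1Pd (Nat.mul u (nat_lit 5))) (nat_lit 31)
noncomputable def b0l1Qd : ℕ := nat_lit 0x639e54ad468d45023428180f29da80
noncomputable def b0l1Q (u : ℕ) : ℕ := Nat.land (Nat.shiftRight b0l1Qd (Nat.mul u (nat_lit 5))) (nat_lit 31)
noncomputable def b0l1 : Lev := ⟨23, 26, b0l1D, b0l1P, b0l1Q⟩
noncomputable def b0l2Dd : ℕ := nat_lit 0x967574535152423f99312e35201d2418231312111000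
noncomputable def b0l2D (u : ℕ) : ℕ := Nat.land (Nat.shiftRight b0l2Dd (Nat.mul u (nat_lit 8))) (nat_lit 255)
noncomputable def b0l2Pd : ℕ := nat_lit 0x14f70e95896096b1680d89794ce2
noncomputable def b0l2P (u : ℕ) : ℕ := Nat.land (Nat.shiftRight b0l2Pd (Nat.mul u (nat_lit 5))) (nat_lit 31)
noncomputable def b0l2Qd : ℕ := nat_lit 0x21a1110deda4d6a4d588081c5900e0
noncomputable def b0l2Q (u : ℕ) : ℕ := Nat.land (Nat.shiftRight b0l2Qd (Nat.mul u (nat_lit 5))) (nat_lit 31)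
noncomputable def b0l2 : Lev := ⟨22, 17, b0l2D, b0l2P, b0l2Q⟩
noncomputable def b0l3Dd : ℕ := nat_lit 0x8f7cb16e5c4c2f2c3d3e4241222140201f1d1e0f00
noncomputable def b0l3D (u : ℕ) : ℕ := Nat.land (Nat.shiftRight b0l3Dd (Nat.mul u (nat_lit 8))) (nat_lit 255)
noncomputable def b0l3Pd : ℕ := nat_lit 0x32d22d4ad0e810379327651eaf
noncomputable def b0l3P (u : ℕ) : ℕ := Nat.land (Nat.shiftRight b0l3Pd (Nat.mul u (nat_lit 5))) (nat_lit 31)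
noncomputable def b0l3Qd : ℕ := nat_lit 0x4103229e2b0320670ded1026aa0120
noncomputable def b0l3Q (u : ℕ) : ℕ := Nat.land (Nat.shiftRight b0l3Qd (Nat.mul u (nat_lit 5))) (nat_lit 31)
noncomputable def b0l3 : Lev := ⟨21, 16, b0l3D, b0l3P, b0l3Q⟩
noncomputable def b0l4Dd : ℕ := nat_lit 0xfe956858a639792a782f1b1d20161f11100f0e00
noncomputable def b0l4D (u : ℕ) : ℕ := Nat.land (Nat.shiftRight b0l4Dd (Nat.mul u (nat_lit 8))) (nat_lit 255)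
noncomputable def b0l4Pd : ℕ := nat_lit 0xab957984ec236d22a2115d123
noncomputable def b0l4P (u : ℕ) : ℕ := Nat.land (Nat.shiftRight b0l4Pd (Nat.mul u (nat_lit 5))) (nat_lit 31)
noncomputable def b0l4Qd : ℕ := nat_lit 0x826627a0850494c1c426680eb001c0
noncomputable def b0l4Q (u : ℕ) : ℕ := Nat.land (Nat.shiftRight b0l4Qd (Nat.mul u (nat_lit 5))) (nat_lit 31)
noncomputable def b0l4 : Lev := ⟨20, 15, b0l4D, b0l4P, b0l4Q⟩
noncomputable def b0l5Dd : ℕ := nat_lit 0x6da0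
noncomputable def b0l5D (u : ℕ) : ℕ := Nat.land (Nat.shiftRight b0l5Dd (Nat.mul u (nat_lit 5))) (nat_lit 31)
noncomputable def b0l5Pd : ℕ := nat_lit 0x3955
noncomputable def b0l5P (u : ℕ) : ℕ := Nat.land (Nat.shiftRight b0l5Pd (Nat.mul u (nat_lit 5))) (nat_lit 31)
noncomputable def b0l5Qd : ℕ := nat_lit 0x20100000
noncomputable def b0l5Q (u : ℕ) : ℕ := Nat.land (Nat.shiftRight b0l5Qd (Nat.mul u (nat_lit 2))) (nat_lit 3)
noncomputable def b0l5 : Lev := ⟨3, 14, b0l5D, b0l5P, b0l5Q⟩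
noncomputable def b0l6Dd : ℕ := nat_lit 0xe96a6c06698c9c183c38e0404000
noncomputable def b0l6D (u : ℕ) : ℕ := Nat.land (Nat.shiftRight b0l6Dd (Nat.mul u (nat_lit 7))) (nat_lit 127)
noncomputable def b0l6Pd : ℕ := nat_lit 0x606c4bca743ad31815a8
noncomputable def b0l6P (u : ℕ) : ℕ := Nat.land (Nat.shiftRight b0l6Pd (Nat.mul u (nat_lit 5))) (nat_lit 31)
noncomputable def b0l6Qd : ℕ := nat_lit 0xbd089a43001f6050702c00e0
noncomputable def b0l6Q (u : ℕ) : ℕ := Nat.land (Nat.shiftRight b0l6Qd (Nat.mul u (nat_lit 4))) (nat_lit 15)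
noncomputable def b0l6 : Lev := ⟨16, 13, b0l6D, b0l6P, b0l6Q⟩
noncomputable def d0e_W : List (List ℕ) := [[nat_lit 2, nat_lit 4, nat_lit 8, nat_lit 0, nat_lit 1, nat_lit 5, nat_lit 9, nat_lit 10, nat_lit 9, nat_lit 8, nat_lit 2],
  [nat_lit 0, nat_lit 1, nat_lit 3, nat_lit 4, nat_lit 8, nat_lit 1, nat_lit 9, nat_lit 10, nat_lit 9, nat_lit 8, nat_lit 2, nat_lit 4],
  [nat_lit 0, nat_lit 1, nat_lit 5, nat_lit 8, nat_lit 2, nat_lit 4, nat_lit 9, nat_lit 10, nat_lit 9, nat_lit 8, nat_lit 0, nat_lit 1],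
  [nat_lit 10, nat_lit 2, nat_lit 4, nat_lit 8, nat_lit 0, nat_lit 3, nat_lit 9, nat_lit 10, nat_lit 8, nat_lit 2],
  [nat_lit 10, nat_lit 0, nat_lit 4, nat_lit 8, nat_lit 2, nat_lit 5, nat_lit 9, nat_lit 8, nat_lit 0, nat_lit 10],
  [nat_lit 2, nat_lit 4, nat_lit 8, nat_lit 0, nat_lit 1, nat_lit 5, nat_lit 9, nat_lit 10, nat_lit 9, nat_lit 8, nat_lit 2],
  [nat_lit 8, nat_lit 4, nat_lit 0, nat_lit 2, nat_lit 8, nat_lit 9, nat_lit 10, nat_lit 9, nat_lit 8, nat_lit 0, nat_lit 2],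
  [nat_lit 10, nat_lit 1, nat_lit 0, nat_lit 6, nat_lit 2, nat_lit 8, nat_lit 9, nat_lit 8, nat_lit 1, nat_lit 4, nat_lit 10],
  [nat_lit 1, nat_lit 6, nat_lit 3, nat_lit 4, nat_lit 8, nat_lit 3, nat_lit 9, nat_lit 10, nat_lit 9, nat_lit 8, nat_lit 1, nat_lit 6],
  [nat_lit 5, nat_lit 10, nat_lit 0, nat_lit 4, nat_lit 6, nat_lit 4, nat_lit 7, nat_lit 6, nat_lit 0, nat_lit 8, nat_lit 0, nat_lit 9, nat_lit 8, nat_lit 0, nat_lit 10],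
  [nat_lit 0, nat_lit 1, nat_lit 5, nat_lit 6, nat_lit 4, nat_lit 7, nat_lit 6, nat_lit 0, nat_lit 8, nat_lit 9, nat_lit 8, nat_lit 2]]
noncomputable def d0e_P : ℕ → ℕ → ℕ := wdsP H15.MM24.P d0e_W
noncomputable def d0c6Dd : ℕ := nat_lit 0xdd1a609000
noncomputable def d0c6D (u : ℕ) : ℕ := Nat.land (Nat.shiftRight d0c6Dd (Nat.mul u (nat_lit 5))) (nat_lit 31)
noncomputable def d0c6Pd : ℕ := nat_lit 0xb5251bae68
noncomputable def d0c6P (u : ℕ) : ℕ := Nat.land (Nat.shiftRight d0c6Pd (Nat.mul u (nat_lit 5))) (nat_lit 31)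
noncomputable def d0c6Qd : ℕ := nat_lit 0x7c6360000400000000
noncomputable def d0c6Q (u : ℕ) : ℕ := Nat.land (Nat.shiftRight d0c6Qd (Nat.mul u (nat_lit 3))) (nat_lit 7)
noncomputable def d0c6 : Lev := ⟨8, 7, d0c6D, d0c6P, d0c6Q⟩
noncomputable def b0n0Fd : ℕ := nat_lit 0xa201400000382805b420
noncomputable def b0n0F (u : ℕ) : ℕ := Nat.land (Nat.shiftRight b0n0Fd (Nat.mul u (nat_lit 5))) (nat_lit 31)
noncomputable def b0n0 : Nd := ⟨b0n0F, (nat_lit 7), (nat_lit 7), [[nat_lit 0]], [((nat_lit 0), [])], []⟩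
noncomputable def d0c4Dd : ℕ := nat_lit 0x8efd09a22609962420380
noncomputable def d0c4D (u : ℕ) : ℕ := Nat.land (Nat.shiftRight d0c4Dd (Nat.mul u (nat_lit 7))) (nat_lit 127)
noncomputable def d0c4Pd : ℕ := nat_lit 0x7524ab46eb9a2a3
noncomputable def d0c4P (u : ℕ) : ℕ := Nat.land (Nat.shiftRight d0c4Pd (Nat.mul u (nat_lit 5))) (nat_lit 31)
noncomputable def d0c4Qd : ℕ := nat_lit 0x571a39600b00480200000000
noncomputable def d0c4Q (u : ℕ) : ℕ := Nat.land (Nat.shiftRight d0c4Qd (Nat.mul u (nat_lit 4))) (nat_lit 15)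
noncomputable def d0c4 : Lev := ⟨12, 9, d0c4D, d0c4P, d0c4Q⟩
noncomputable def b0n1Fd : ℕ := nat_lit 0x460954800681e000020
noncomputable def b0n1F (u : ℕ) : ℕ := Nat.land (Nat.shiftRight b0n1Fd (Nat.mul u (nat_lit 5))) (nat_lit 31)
noncomputable def b0n1 : Nd := ⟨b0n1F, (nat_lit 9), (nat_lit 9), [[nat_lit 0]], [((nat_lit 0), [])], []⟩
noncomputable def d0c2Dd : ℕ := nat_lit 0x27454c71724344c80b1c28480
noncomputable def d0c2D (u : ℕ) : ℕ := Nat.land (Nat.shiftRight d0c2Dd (Nat.mul u (nat_lit 7))) (nat_lit 127)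
noncomputable def d0c2Pd : ℕ := nat_lit 0x1cf55651b0e9345d62
noncomputable def d0c2P (u : ℕ) : ℕ := Nat.land (Nat.shiftRight d0c2Pd (Nat.mul u (nat_lit 5))) (nat_lit 31)
noncomputable def d0c2Qd : ℕ := nat_lit 0x27a54980cd001b0300006000
noncomputable def d0c2Q (u : ℕ) : ℕ := Nat.land (Nat.shiftRight d0c2Qd (Nat.mul u (nat_lit 4))) (nat_lit 15)
noncomputable def d0c2 : Lev := ⟨14, 10, d0c2D, d0c2P, d0c2Q⟩
noncomputable def b0n2Fd : ℕ := nat_lit 0x4d71548007020000020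
noncomputable def b0n2F (u : ℕ) : ℕ := Nat.land (Nat.shiftRight b0n2Fd (Nat.mul u (nat_lit 5))) (nat_lit 31)
noncomputable def b0n2 : Nd := ⟨b0n2F, (nat_lit 10), (nat_lit 10), [[nat_lit 0]], [((nat_lit 0), [])], []⟩
noncomputable def d0c0Dd : ℕ := nat_lit 0xdbd5ab65279927385488c1e2c500
noncomputable def d0c0D (u : ℕ) : ℕ := Nat.land (Nat.shiftRight d0c0Dd (Nat.mul u (nat_lit 7))) (nat_lit 127)
noncomputable def d0c0Pd : ℕ := nat_lit 0x12aa61ba68bbd728da80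
noncomputable def d0c0P (u : ℕ) : ℕ := Nat.land (Nat.shiftRight d0c0Pd (Nat.mul u (nat_lit 5))) (nat_lit 31)
noncomputable def d0c0Qd : ℕ := nat_lit 0x72d194306a005e080c00bf00
noncomputable def d0c0Q (u : ℕ) : ℕ := Nat.land (Nat.shiftRight d0c0Qd (Nat.mul u (nat_lit 4))) (nat_lit 15)
noncomputable def d0c0 : Lev := ⟨16, 11, d0c0D, d0c0P, d0c0Q⟩
noncomputable def b0n3Fd : ℕ := nat_lit 0x70000001c001600019303c1100020
noncomputable def b0n3F (u : ℕ) : ℕ := Nat.land (Nat.shiftRight b0n3Fd (Nat.mul u (nat_lit 5))) (nat_lit 31)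
noncomputable def b0n3 : Nd := ⟨b0n3F, (nat_lit 11), (nat_lit 11), [[nat_lit 0]], [((nat_lit 0), [])], []⟩
noncomputable def q0_W : List (List ℕ) := [[nat_lit 3, nat_lit 4, nat_lit 6, nat_lit 1, nat_lit 2, nat_lit 7, nat_lit 6, nat_lit 3, nat_lit 8, nat_lit 9, nat_lit 8, nat_lit 0, nat_lit 3, nat_lit 6, nat_lit 10, nat_lit 9, nat_lit 8, nat_lit 3, nat_lit 9, nat_lit 6],
  [nat_lit 2, nat_lit 3, nat_lit 8, nat_lit 2, nat_lit 9, nat_lit 8, nat_lit 2, nat_lit 3],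
  [nat_lit 8, nat_lit 1, nat_lit 3, nat_lit 8, nat_lit 2, nat_lit 3, nat_lit 9, nat_lit 8, nat_lit 0, nat_lit 3, nat_lit 10, nat_lit 9, nat_lit 8, nat_lit 1, nat_lit 3, nat_lit 8],
  [nat_lit 0, nat_lit 6, nat_lit 0, nat_lit 3, nat_lit 8, nat_lit 2, nat_lit 3, nat_lit 9, nat_lit 8, nat_lit 0, nat_lit 3, nat_lit 10, nat_lit 9, nat_lit 8, nat_lit 1, nat_lit 3, nat_lit 8]]
noncomputable def q0_P : ℕ → ℕ → ℕ := wdsP H15.MM24.P q0_W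
noncomputable def u0h_W : List (List ℕ) := [[nat_lit 0, nat_lit 3, nat_lit 5, nat_lit 6, nat_lit 5, nat_lit 7, nat_lit 6, nat_lit 0, nat_lit 10],
  [nat_lit 0, nat_lit 3, nat_lit 5, nat_lit 6, nat_lit 5, nat_lit 7, nat_lit 6, nat_lit 0, nat_lit 10],
  [nat_lit 0, nat_lit 3, nat_lit 5, nat_lit 6, nat_lit 5, nat_lit 7, nat_lit 6, nat_lit 0, nat_lit 10],
  [nat_lit 0, nat_lit 1, nat_lit 7, nat_lit 9, nat_lit 8, nat_lit 0, nat_lit 1, nat_lit 5, nat_lit 10, nat_lit 9, nat_lit 8, nat_lit 3, nat_lit 10, nat_lit 3, nat_lit 9],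
  [nat_lit 9, nat_lit 6, nat_lit 2, nat_lit 7, nat_lit 6, nat_lit 2, nat_lit 8, nat_lit 1, nat_lit 2, nat_lit 9, nat_lit 10, nat_lit 9, nat_lit 8, nat_lit 1, nat_lit 2, nat_lit 6, nat_lit 8, nat_lit 9],
  [nat_lit 6, nat_lit 9, nat_lit 4, nat_lit 6, nat_lit 2, nat_lit 7, nat_lit 6, nat_lit 2, nat_lit 8, nat_lit 3, nat_lit 9, nat_lit 8, nat_lit 10, nat_lit 9, nat_lit 8, nat_lit 1, nat_lit 2],
  [nat_lit 0, nat_lit 1, nat_lit 3, nat_lit 5, nat_lit 6, nat_lit 4, nat_lit 7, nat_lit 8, nat_lit 10, nat_lit 9, nat_lit 8, nat_lit 2, nat_lit 4],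
  [nat_lit 4, nat_lit 6, nat_lit 5, nat_lit 7, nat_lit 6, nat_lit 8, nat_lit 10, nat_lit 9, nat_lit 8, nat_lit 1, nat_lit 6, nat_lit 5, nat_lit 10],
  [nat_lit 8, nat_lit 0, nat_lit 6, nat_lit 4, nat_lit 7, nat_lit 6, nat_lit 0, nat_lit 8, nat_lit 9, nat_lit 8, nat_lit 2, nat_lit 3, nat_lit 10, nat_lit 9, nat_lit 8],
  [nat_lit 10, nat_lit 1, nat_lit 4, nat_lit 6, nat_lit 2, nat_lit 8, nat_lit 3, nat_lit 9, nat_lit 8, nat_lit 0, nat_lit 10, nat_lit 9, nat_lit 8, nat_lit 0, nat_lit 2],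
  [nat_lit 0],
  [nat_lit 1],
  [nat_lit 2],
  [nat_lit 3],
  [nat_lit 4],
  [nat_lit 5],
  [nat_lit 6],
  [nat_lit 7],
  [nat_lit 10],
  [nat_lit 8],
  [nat_lit 9]]
noncomputable def u0h_P : ℕ → ℕ → ℕ := wdsP H15.MM24.P u0h_W
noncomputable def u0l0Dd : ℕ := nat_lit 0x59f6b65b9064777669604c301c4b1b4a2a2221201f141300
noncomputable def u0l0D (u : ℕ) : ℕ := Nat.land (Nat.shiftRight u0l0Dd (Nat.mul u (nat_lit 8))) (nat_lit 255)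
noncomputable def u0l0Pd : ℕ := nat_lit 0x195226ba46ad1488da13b9d6f20181
noncomputable def u0l0P (u : ℕ) : ℕ := Nat.land (Nat.shiftRight u0l0Pd (Nat.mul u (nat_lit 5))) (nat_lit 31)
noncomputable def u0l0Qd : ℕ := nat_lit 0x3a9ee4456924a612b6ac342c3bd002
noncomputable def u0l0Q (u : ℕ) : ℕ := Nat.land (Nat.shiftRight u0l0Qd (Nat.mul u (nat_lit 5))) (nat_lit 31)
noncomputable def u0l0 : Lev := ⟨24, 21, u0l0D, u0l0P, u0l0Q⟩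
noncomputable def u0l1Dd : ℕ := nat_lit 0xcfe14f3c297e2c5c6b356a343933321f1e0e0d0c0b0a00
noncomputable def u0l1D (u : ℕ) : ℕ := Nat.land (Nat.shiftRight u0l1Dd (Nat.mul u (nat_lit 8))) (nat_lit 255)
noncomputable def u0l1Pd : ℕ := nat_lit 0xca095e8e899b0489155bceab4d84
noncomputable def u0l1P (u : ℕ) : ℕ := Nat.land (Nat.shiftRight u0l1Pd (Nat.mul u (nat_lit 5))) (nat_lit 31)
noncomputable def u0l1Qd : ℕ := nat_lit 0x90d1114dec341a1391692baa0b2814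
noncomputable def u0l1Q (u : ℕ) : ℕ := Nat.land (Nat.shiftRight u0l1Qd (Nat.mul u (nat_lit 5))) (nat_lit 31)
noncomputable def u0l1 : Lev := ⟨23, 19, u0l1D, u0l1P, u0l1Q⟩
noncomputable def u0l2Dd : ℕ := nat_lit 0x2bd64ce5aaf4a659173c6898e1e4888d2028480
noncomputable def u0l2D (u : ℕ) : ℕ := Nat.land (Nat.shiftRight u0l2Dd (Nat.mul u (nat_lit 7))) (nat_lit 127)
noncomputable def u0l2Pd : ℕ := nat_lit 0x21568d6c299e0a4ac28a51772a67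
noncomputable def u0l2P (u : ℕ) : ℕ := Nat.land (Nat.shiftRight u0l2Pd (Nat.mul u (nat_lit 5))) (nat_lit 31)
noncomputable def u0l2Qd : ℕ := nat_lit 0x2268b0a8f568e70888c5039e09200c
noncomputable def u0l2Q (u : ℕ) : ℕ := Nat.land (Nat.shiftRight u0l2Qd (Nat.mul u (nat_lit 5))) (nat_lit 31)
noncomputable def u0l2 : Lev := ⟨22, 10, u0l2D, u0l2P, u0l2Q⟩
noncomputable def u0l3Dd : ℕ := nat_lit 0x6a9eb31ab4478b363254d8d1c4480c1e24400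
noncomputable def u0l3D (u : ℕ) : ℕ := Nat.land (Nat.shiftRight u0l3Dd (Nat.mul u (nat_lit 7))) (nat_lit 127)
noncomputable def u0l3Pd : ℕ := nat_lit 0x102aacd64e911540e9186bbbd09
noncomputable def u0l3P (u : ℕ) : ℕ := Nat.land (Nat.shiftRight u0l3Pd (Nat.mul u (nat_lit 5))) (nat_lit 31)
noncomputable def u0l3Qd : ℕ := nat_lit 0x1c54d71d941220f2480101a602ac09
noncomputable def u0l3Q (u : ℕ) : ℕ := Nat.land (Nat.shiftRight u0l3Qd (Nat.mul u (nat_lit 5))) (nat_lit 31)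
noncomputable def u0l3 : Lev := ⟨21, 9, u0l3D, u0l3P, u0l3Q⟩
noncomputable def u0l4Dd : ℕ := nat_lit 0xefbe7f0a07ca15505c998183478b1c20380
noncomputable def u0l4D (u : ℕ) : ℕ := Nat.land (Nat.shiftRight u0l4Dd (Nat.mul u (nat_lit 7))) (nat_lit 127)
noncomputable def u0l4Pd : ℕ := nat_lit 0x6c1957ac51a22e3b19c094d45
noncomputable def u0l4P (u : ℕ) : ℕ := Nat.land (Nat.shiftRight u0l4Pd (Nat.mul u (nat_lit 5))) (nat_lit 31)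
noncomputable def u0l4Qd : ℕ := nat_lit 0x49e0b10d92796717040a0180043404
noncomputable def u0l4Q (u : ℕ) : ℕ := Nat.land (Nat.shiftRight u0l4Qd (Nat.mul u (nat_lit 5))) (nat_lit 31)
noncomputable def u0l4 : Lev := ⟨20, 8, u0l4D, u0l4P, u0l4Q⟩
noncomputable def u0l5Dd : ℕ := nat_lit 0xd60
noncomputable def u0l5D (u : ℕ) : ℕ := Nat.land (Nat.shiftRight u0l5Dd (Nat.mul u (nat_lit 4))) (nat_lit 15)
noncomputable def u0l5Pd : ℕ := nat_lit 0x360c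
noncomputable def u0l5P (u : ℕ) : ℕ := Nat.land (Nat.shiftRight u0l5Pd (Nat.mul u (nat_lit 5))) (nat_lit 31)
noncomputable def u0l5Qd : ℕ := nat_lit 0x108000000
noncomputable def u0l5Q (u : ℕ) : ℕ := Nat.land (Nat.shiftRight u0l5Qd (Nat.mul u (nat_lit 2))) (nat_lit 3)
noncomputable def u0l5 : Lev := ⟨3, 7, u0l5D, u0l5P, u0l5Q⟩
noncomputable def u0l6Dd : ℕ := nat_lit 0x8cd14224658811142c4840a0c000
noncomputable def u0l6D (u : ℕ) : ℕ := Nat.land (Nat.shiftRight u0l6Dd (Nat.mul u (nat_lit 7))) (nat_lit 127)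
noncomputable def u0l6Pd : ℕ := nat_lit 0xaade28a2c61d27272ae0
noncomputable def u0l6P (u : ℕ) : ℕ := Nat.land (Nat.shiftRight u0l6Pd (Nat.mul u (nat_lit 5))) (nat_lit 31)
noncomputable def u0l6Qd : ℕ := nat_lit 0x19f654b0d300e20a08007c00
noncomputable def u0l6Q (u : ℕ) : ℕ := Nat.land (Nat.shiftRight u0l6Qd (Nat.mul u (nat_lit 4))) (nat_lit 15)
noncomputable def u0l6 : Lev := ⟨16, 6, u0l6D, u0l6P, u0l6Q⟩
noncomputable def f0e_W : List (List ℕ) := [[nat_lit 3, nat_lit 4, nat_lit 6, nat_lit 7, nat_lit 6, nat_lit 0, nat_lit 8, nat_lit 0, nat_lit 9, nat_lit 8, nat_lit 0, nat_lit 3, nat_lit 10, nat_lit 9, nat_lit 8, nat_lit 0, nat_lit 3, nat_lit 6, nat_lit 0],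
  [nat_lit 0, nat_lit 6, nat_lit 0, nat_lit 1, nat_lit 8],
  [nat_lit 2, nat_lit 3, nat_lit 8, nat_lit 2, nat_lit 9, nat_lit 8, nat_lit 2, nat_lit 3],
  [nat_lit 0, nat_lit 6, nat_lit 0, nat_lit 1, nat_lit 8],
  [nat_lit 0, nat_lit 6, nat_lit 0, nat_lit 1, nat_lit 8],
  [nat_lit 0, nat_lit 6, nat_lit 0, nat_lit 1, nat_lit 8],
  [nat_lit 2, nat_lit 3, nat_lit 8, nat_lit 2, nat_lit 9, nat_lit 8, nat_lit 2, nat_lit 3],
  [nat_lit 0, nat_lit 6, nat_lit 0, nat_lit 1, nat_lit 8],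
  [nat_lit 2, nat_lit 3, nat_lit 8, nat_lit 2, nat_lit 9, nat_lit 8, nat_lit 2, nat_lit 3],
  [nat_lit 9, nat_lit 0, nat_lit 6, nat_lit 7, nat_lit 6, nat_lit 4, nat_lit 9, nat_lit 8, nat_lit 0]]
noncomputable def f0e_P : ℕ → ℕ → ℕ := wdsP H15.MM24.P f0e_W
noncomputable def f0c6Dd : ℕ := nat_lit 0
noncomputable def f0c6D (u : ℕ) : ℕ := Nat.land (Nat.shiftRight f0c6Dd (Nat.mul u (nat_lit 1))) (nat_lit 1)
noncomputable def f0c6Pd : ℕ := nat_lit 0x30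
noncomputable def f0c6P (u : ℕ) : ℕ := Nat.land (Nat.shiftRight f0c6Pd (Nat.mul u (nat_lit 3))) (nat_lit 7)
noncomputable def f0c6Qd : ℕ := nat_lit 0x40
noncomputable def f0c6Q (u : ℕ) : ℕ := Nat.land (Nat.shiftRight f0c6Qd (Nat.mul u (nat_lit 1))) (nat_lit 1)
noncomputable def f0c6 : Lev := ⟨2, 1, f0c6D, f0c6P, f0c6Q⟩
noncomputable def u0n0Fd : ℕ := nat_lit 0xa9a46594
noncomputable def u0n0F (u : ℕ) : ℕ := Nat.land (Nat.shiftRight u0n0Fd (Nat.mul u (nat_lit 2))) (nat_lit 3)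
noncomputable def u0n0 : Nd := ⟨u0n0F, (nat_lit 2), (nat_lit 1), [[nat_lit 1],
  [nat_lit 2],
  [nat_lit 3]], [((nat_lit 0), [])], []⟩
noncomputable def f0c0Dd : ℕ := nat_lit 0xc5d4cc242040
noncomputable def f0c0D (u : ℕ) : ℕ := Nat.land (Nat.shiftRight f0c0Dd (Nat.mul u (nat_lit 6))) (nat_lit 63)
noncomputable def f0c0Pd : ℕ := nat_lit 0x2b53021d81
noncomputable def f0c0P (u : ℕ) : ℕ := Nat.land (Nat.shiftRight f0c0Pd (Nat.mul u (nat_lit 5))) (nat_lit 31)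
noncomputable def f0c0Qd : ℕ := nat_lit 0x403102843b000
noncomputable def f0c0Q (u : ℕ) : ℕ := Nat.land (Nat.shiftRight f0c0Qd (Nat.mul u (nat_lit 3))) (nat_lit 7)
noncomputable def f0c0 : Lev := ⟨8, 10, f0c0D, f0c0P, f0c0Q⟩
noncomputable def u0n1Fd : ℕ := nat_lit 0x5801302d6c0ac2c504010802100400
noncomputable def u0n1F (u : ℕ) : ℕ := Nat.land (Nat.shiftRight u0n1Fd (Nat.mul u (nat_lit 5))) (nat_lit 31)
noncomputable def u0n1 : Nd := ⟨u0n1F, (nat_lit 10), (nat_lit 10), [[nat_lit 0]], [((nat_lit 0), [])], []⟩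
noncomputable def n0T : List (List (List ℕ)) := [[[nat_lit 0],
  [nat_lit 2],
  [nat_lit 1],
  [nat_lit 3]], [[nat_lit 0],
  [nat_lit 2],
  [nat_lit 1],
  [nat_lit 1, nat_lit 2, nat_lit 3]], [[nat_lit 0],
  [nat_lit 1],
  [nat_lit 2],
  [nat_lit 1, nat_lit 2, nat_lit 3]], [[nat_lit 0],
  [nat_lit 2],
  [nat_lit 1],
  [nat_lit 3]], [[nat_lit 0],
  [nat_lit 1],
  [nat_lit 2],
  [nat_lit 1, nat_lit 2, nat_lit 3]], [[nat_lit 0],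
  [nat_lit 2],
  [nat_lit 1],
  [nat_lit 3]], [[nat_lit 0],
  [nat_lit 2],
  [nat_lit 1],
  [nat_lit 1, nat_lit 2, nat_lit 3]], [[nat_lit 0],
  [nat_lit 2],
  [nat_lit 1],
  [nat_lit 1, nat_lit 2, nat_lit 3]], [[nat_lit 0],
  [nat_lit 1, nat_lit 2, nat_lit 3],
  [nat_lit 1],
  [nat_lit 2]], [[nat_lit 0],
  [nat_lit 0, nat_lit 2, nat_lit 3],
  [nat_lit 2],
  [nat_lit 0, nat_lit 1, nat_lit 3]], [[nat_lit 0],
  [nat_lit 0, nat_lit 2],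
  [nat_lit 3],
  [nat_lit 0, nat_lit 1, nat_lit 2, nat_lit 3]]]
noncomputable def t1_W : List (List ℕ) := [[nat_lit 6, nat_lit 2, nat_lit 6, nat_lit 7, nat_lit 6, nat_lit 8, nat_lit 1, nat_lit 6, nat_lit 9, nat_lit 8, nat_lit 1, nat_lit 2, nat_lit 6, nat_lit 10, nat_lit 9, nat_lit 8, nat_lit 2]]
noncomputable def t1_P : ℕ → ℕ → ℕ := wdsP H15.MM24.P t1_W
noncomputable def b1h_W : List (List ℕ) := [[nat_lit 10, nat_lit 2, nat_lit 5, nat_lit 6, nat_lit 1, nat_lit 8, nat_lit 9, nat_lit 8, nat_lit 1, nat_lit 6, nat_lit 5, nat_lit 10],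
  [nat_lit 1, nat_lit 2, nat_lit 4],
  [nat_lit 0, nat_lit 2, nat_lit 8, nat_lit 9, nat_lit 10, nat_lit 9, nat_lit 8, nat_lit 0],
  [nat_lit 2, nat_lit 3, nat_lit 4, nat_lit 6, nat_lit 7, nat_lit 6],
  [nat_lit 0],
  [nat_lit 1],
  [nat_lit 2],
  [nat_lit 3],
  [nat_lit 4],
  [nat_lit 5],
  [nat_lit 8],
  [nat_lit 6],
  [nat_lit 7],
  [nat_lit 9],
  [nat_lit 10]]
noncomputable def b1h_P : ℕ → ℕ → ℕ := wdsP H15.MM24.P b1h_W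
noncomputable def b1l0Dd : ℕ := nat_lit 0x655d64703f978879504c43304134331e322e3120190e0d00
noncomputable def b1l0D (u : ℕ) : ℕ := Nat.land (Nat.shiftRight b1l0Dd (Nat.mul u (nat_lit 8))) (nat_lit 255)
noncomputable def b1l0Pd : ℕ := nat_lit 0x189d0449519b526a9d657d09665c20
noncomputable def b1l0P (u : ℕ) : ℕ := Nat.land (Nat.shiftRight b1l0Pd (Nat.mul u (nat_lit 5))) (nat_lit 31)
noncomputable def b1l0Qd : ℕ := nat_lit 0x111667ca143d5c34c5b353105bd820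
noncomputable def b1l0Q (u : ℕ) : ℕ := Nat.land (Nat.shiftRight b1l0Qd (Nat.mul u (nat_lit 5))) (nat_lit 31)
noncomputable def b1l0 : Lev := ⟨24, 15, b1l0D, b1l0P, b1l0Q⟩
noncomputable def b1l1Dd : ℕ := nat_lit 0xf99972933e6c2e3a2d422c353817151413120e110c0b00
noncomputable def b1l1D (u : ℕ) : ℕ := Nat.land (Nat.shiftRight b1l1Dd (Nat.mul u (nat_lit 8))) (nat_lit 255)
noncomputable def b1l1Pd : ℕ := nat_lit 0x5c31215123cd56625d06bd66a8a83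
noncomputable def b1l1P (u : ℕ) : ℕ := Nat.land (Nat.shiftRight b1l1Pd (Nat.mul u (nat_lit 5))) (nat_lit 31)
noncomputable def b1l1Qd : ℕ := nat_lit 0xb306174288324eb2b5517925300aa0
noncomputable def b1l1Q (u : ℕ) : ℕ := Nat.land (Nat.shiftRight b1l1Qd (Nat.mul u (nat_lit 5))) (nat_lit 31)
noncomputable def b1l1 : Lev := ⟨23, 13, b1l1D, b1l1P, b1l1Q⟩
noncomputable def b1l2Dd : ℕ := nat_lit 0xc3a49005ab670dc1c1a6d2971c48890183c500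
noncomputable def b1l2D (u : ℕ) : ℕ := Nat.land (Nat.shiftRight b1l2Dd (Nat.mul u (nat_lit 7))) (nat_lit 127)
noncomputable def b1l2Pd : ℕ := nat_lit 0x2e51212e849568cead31d6fa1181
noncomputable def b1l2P (u : ℕ) : ℕ := Nat.land (Nat.shiftRight b1l2Pd (Nat.mul u (nat_lit 5))) (nat_lit 31)
noncomputable def b1l2Qd : ℕ := nat_lit 0xab1235396f241012b63231e8204c00
noncomputable def b1l2Q (u : ℕ) : ℕ := Nat.land (Nat.shiftRight b1l2Qd (Nat.mul u (nat_lit 5))) (nat_lit 31)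
noncomputable def b1l2 : Lev := ⟨22, 11, b1l2D, b1l2P, b1l2Q⟩
noncomputable def b1l3Dd : ℕ := nat_lit 0x9899483f161d40361b12111f150f09080706050400
noncomputable def b1l3D (u : ℕ) : ℕ := Nat.land (Nat.shiftRight b1l3Dd (Nat.mul u (nat_lit 8))) (nat_lit 255)
noncomputable def b1l3Pd : ℕ := nat_lit 0x178944e2552c5ced2550cf69d10
noncomputable def b1l3P (u : ℕ) : ℕ := Nat.land (Nat.shiftRight b1l3Pd (Nat.mul u (nat_lit 5))) (nat_lit 31)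
noncomputable def b1l3Qd : ℕ := nat_lit 0xa25c6522602406c59da11164f04400
noncomputable def b1l3Q (u : ℕ) : ℕ := Nat.land (Nat.shiftRight b1l3Qd (Nat.mul u (nat_lit 5))) (nat_lit 31)
noncomputable def b1l3 : Lev := ⟨21, 10, b1l3D, b1l3P, b1l3Q⟩
noncomputable def b1l4Dd : ℕ := nat_lit 0x937d6d95684c5d938844a1062450c0
noncomputable def b1l4D (u : ℕ) : ℕ := Nat.land (Nat.shiftRight b1l4Dd (Nat.mul u (nat_lit 6))) (nat_lit 63)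
noncomputable def b1l4Pd : ℕ := nat_lit 0xba093716c97ca2d59d5561a82
noncomputable def b1l4P (u : ℕ) : ℕ := Nat.land (Nat.shiftRight b1l4Pd (Nat.mul u (nat_lit 5))) (nat_lit 31)
noncomputable def b1l4Qd : ℕ := nat_lit 0x9b481829205bd0339592309d100000
noncomputable def b1l4Q (u : ℕ) : ℕ := Nat.land (Nat.shiftRight b1l4Qd (Nat.mul u (nat_lit 5))) (nat_lit 31)
noncomputable def b1l4 : Lev := ⟨20, 4, b1l4D, b1l4P, b1l4Q⟩
noncomputable def b1l5Dd : ℕ := nat_lit 0xadf3164c9190348285084040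
noncomputable def b1l5D (u : ℕ) : ℕ := Nat.land (Nat.shiftRight b1l5Dd (Nat.mul u (nat_lit 6))) (nat_lit 63)
noncomputable def b1l5Pd : ℕ := nat_lit 0x25ab2536f43ad89344ae
noncomputable def b1l5P (u : ℕ) : ℕ := Nat.land (Nat.shiftRight b1l5Pd (Nat.mul u (nat_lit 5))) (nat_lit 31)
noncomputable def b1l5Qd : ℕ := nat_lit 0x9ed80c2000a56b40731f0000
noncomputable def b1l5Q (u : ℕ) : ℕ := Nat.land (Nat.shiftRight b1l5Qd (Nat.mul u (nat_lit 4))) (nat_lit 15)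
noncomputable def b1l5 : Lev := ⟨16, 3, b1l5D, b1l5P, b1l5Q⟩
noncomputable def b1l6Dd : ℕ := nat_lit 4
noncomputable def b1l6D (u : ℕ) : ℕ := Nat.land (Nat.shiftRight b1l6Dd (Nat.mul u (nat_lit 1))) (nat_lit 1)
noncomputable def b1l6Pd : ℕ := nat_lit 0x4964
noncomputable def b1l6P (u : ℕ) : ℕ := Nat.land (Nat.shiftRight b1l6Pd (Nat.mul u (nat_lit 5))) (nat_lit 31)
noncomputable def b1l6Qd : ℕ := nat_lit 0x2000400000
noncomputable def b1l6Q (u : ℕ) : ℕ := Nat.land (Nat.shiftRight b1l6Qd (Nat.mul u (nat_lit 2))) (nat_lit 3)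
noncomputable def b1l6 : Lev := ⟨3, 1, b1l6D, b1l6P, b1l6Q⟩
noncomputable def d1e_W : List (List ℕ) := [[nat_lit 6, nat_lit 7, nat_lit 6, nat_lit 5, nat_lit 8, nat_lit 9, nat_lit 10, nat_lit 9, nat_lit 8],
  [nat_lit 6, nat_lit 7, nat_lit 6, nat_lit 5, nat_lit 8, nat_lit 9, nat_lit 10, nat_lit 9, nat_lit 8],
  [nat_lit 0, nat_lit 3, nat_lit 7, nat_lit 6, nat_lit 2, nat_lit 8, nat_lit 9, nat_lit 10, nat_lit 9, nat_lit 8, nat_lit 2, nat_lit 7],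
  [nat_lit 0, nat_lit 4, nat_lit 8, nat_lit 0, nat_lit 1, nat_lit 5, nat_lit 9, nat_lit 10, nat_lit 9, nat_lit 8, nat_lit 0],
  [nat_lit 1, nat_lit 6, nat_lit 1, nat_lit 7, nat_lit 6, nat_lit 5, nat_lit 1, nat_lit 8, nat_lit 1, nat_lit 9, nat_lit 10, nat_lit 7]]
noncomputable def d1e_P : ℕ → ℕ → ℕ := wdsP H15.MM24.P d1e_W
noncomputable def b1n0Fd : ℕ := nat_lit 6
noncomputable def b1n0F (u : ℕ) : ℕ := Nat.land (Nat.shiftRight b1n0Fd (Nat.mul u (nat_lit 1))) (nat_lit 1)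
noncomputable def b1n0 : Nd := ⟨b1n0F, (nat_lit 2), (nat_lit 0), [], [((nat_lit 0), []), ((nat_lit 1), [nat_lit 0])], []⟩
noncomputable def d1c4Dd : ℕ := nat_lit 0xa6681a5d444e2c9206142000
noncomputable def d1c4D (u : ℕ) : ℕ := Nat.land (Nat.shiftRight d1c4Dd (Nat.mul u (nat_lit 6))) (nat_lit 63)
noncomputable def d1c4Pd : ℕ := nat_lit 0x7d8f15a12e55e6d64a82
noncomputable def d1c4P (u : ℕ) : ℕ := Nat.land (Nat.shiftRight d1c4Pd (Nat.mul u (nat_lit 5))) (nat_lit 31)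
noncomputable def d1c4Qd : ℕ := nat_lit 0x6e0152c0f843b79ad0000000
noncomputable def d1c4Q (u : ℕ) : ℕ := Nat.land (Nat.shiftRight d1c4Qd (Nat.mul u (nat_lit 4))) (nat_lit 15)
noncomputable def d1c4 : Lev := ⟨16, 3, d1c4D, d1c4P, d1c4Q⟩
noncomputable def b1n1Fd : ℕ := nat_lit 0x28040000005040
noncomputable def b1n1F (u : ℕ) : ℕ := Nat.land (Nat.shiftRight b1n1Fd (Nat.mul u (nat_lit 3))) (nat_lit 7)
noncomputable def b1n1 : Nd := ⟨b1n1F, (nat_lit 3), (nat_lit 3), [], [((nat_lit 0), []), ((nat_lit 0), [nat_lit 0])], []⟩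
noncomputable def d1c2Dd : ℕ := nat_lit 0xeb2df3bea69671440e3cc28b1840c0
noncomputable def d1c2D (u : ℕ) : ℕ := Nat.land (Nat.shiftRight d1c2Dd (Nat.mul u (nat_lit 6))) (nat_lit 63)
noncomputable def d1c2Pd : ℕ := nat_lit 0x7d8b021d71ba049629d49b641
noncomputable def d1c2P (u : ℕ) : ℕ := Nat.land (Nat.shiftRight d1c2Pd (Nat.mul u (nat_lit 5))) (nat_lit 31)
noncomputable def d1c2Qd : ℕ := nat_lit 0x5c80418590994476990a7022f02400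
noncomputable def d1c2Q (u : ℕ) : ℕ := Nat.land (Nat.shiftRight d1c2Qd (Nat.mul u (nat_lit 5))) (nat_lit 31)
noncomputable def d1c2 : Lev := ⟨20, 4, d1c2D, d1c2P, d1c2Q⟩
noncomputable def b1n2y6_W : List (List ℕ) := [[nat_lit 0, nat_lit 2, nat_lit 6, nat_lit 1, nat_lit 2, nat_lit 7, nat_lit 6, nat_lit 0, nat_lit 3, nat_lit 8, nat_lit 0, nat_lit 9, nat_lit 8, nat_lit 1, nat_lit 3, nat_lit 10, nat_lit 9, nat_lit 8, nat_lit 0, nat_lit 2, nat_lit 6]]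
noncomputable def b1n2y6_P : ℕ → ℕ → ℕ := wdsP H15.MM24.P b1n2y6_W
noncomputable def b1r3k_W : List (List ℕ) := [[nat_lit 10, nat_lit 9, nat_lit 6, nat_lit 7, nat_lit 6, nat_lit 0, nat_lit 8, nat_lit 0, nat_lit 2, nat_lit 9, nat_lit 10],
  [nat_lit 0, nat_lit 4, nat_lit 7, nat_lit 6, nat_lit 2, nat_lit 6, nat_lit 8, nat_lit 9, nat_lit 10, nat_lit 9, nat_lit 8, nat_lit 7],
  [nat_lit 5, nat_lit 6, nat_lit 7, nat_lit 6, nat_lit 4, nat_lit 8, nat_lit 9, nat_lit 10, nat_lit 9, nat_lit 8]]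
noncomputable def b1r3k_P : ℕ → ℕ → ℕ := wdsP H15.MM24.P b1r3k_W
noncomputable def b1n3Fd : ℕ := nat_lit 0xc838d49676bbb69aa591
noncomputable def b1n3F (u : ℕ) : ℕ := Nat.land (Nat.shiftRight b1n3Fd (Nat.mul u (nat_lit 4))) (nat_lit 15)
noncomputable def b1n3 : Nd := ⟨b1n3F, (nat_lit 3), (nat_lit 3), [], [((nat_lit 0), []), ((nat_lit 0), [nat_lit 0])], []⟩
noncomputable def b1n2Fd : ℕ := nat_lit 0x30200000
noncomputable def b1n2F (u : ℕ) : ℕ := Nat.land (Nat.shiftRight b1n2Fd (Nat.mul u (nat_lit 3))) (nat_lit 7)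
noncomputable def b1n2 : Nd := ⟨b1n2F, (nat_lit 4), (nat_lit 4), [], [((nat_lit 0), []), ((nat_lit 0), [nat_lit 0])], [((nat_lit 6), b1n2y6_W)]⟩
noncomputable def d1c0Dd : ℕ := nat_lit 0xe5624c36cbdb9d3660e132e44c9418344871014200
noncomputable def d1c0D (u : ℕ) : ℕ := Nat.land (Nat.shiftRight d1c0Dd (Nat.mul u (nat_lit 7))) (nat_lit 127)
noncomputable def d1c0Pd : ℕ := nat_lit 0x1c24d35222786d54956e54ce8232e0
noncomputable def d1c0P (u : ℕ) : ℕ := Nat.land (Nat.shiftRight d1c0Pd (Nat.mul u (nat_lit 5))) (nat_lit 31)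
noncomputable def d1c0Qd : ℕ := nat_lit 0xb592356367a28249d642cd43bc1c0
noncomputable def d1c0Q (u : ℕ) : ℕ := Nat.land (Nat.shiftRight d1c0Qd (Nat.mul u (nat_lit 5))) (nat_lit 31)
noncomputable def d1c0 : Lev := ⟨24, 5, d1c0D, d1c0P, d1c0Q⟩
noncomputable def b1n4Fd : ℕ := nat_lit 0
noncomputable def b1n4F (u : ℕ) : ℕ := Nat.land (Nat.shiftRight b1n4Fd (Nat.mul u (nat_lit 1))) (nat_lit 1)
noncomputable def b1n4 : Nd := ⟨b1n4F, (nat_lit 5), (nat_lit 5), [], [((nat_lit 0), [])], []⟩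
noncomputable def q1_W : List (List ℕ) := [[nat_lit 6, nat_lit 2, nat_lit 6, nat_lit 7, nat_lit 6, nat_lit 8, nat_lit 1, nat_lit 6, nat_lit 9, nat_lit 8, nat_lit 1, nat_lit 2, nat_lit 6, nat_lit 10, nat_lit 9, nat_lit 8, nat_lit 2],
  [nat_lit 9, nat_lit 8, nat_lit 0, nat_lit 6, nat_lit 0, nat_lit 8, nat_lit 2, nat_lit 9, nat_lit 8, nat_lit 0, nat_lit 1, nat_lit 6],
  [nat_lit 0, nat_lit 6, nat_lit 1, nat_lit 4, nat_lit 1, nat_lit 8, nat_lit 1, nat_lit 2, nat_lit 9, nat_lit 8, nat_lit 2, nat_lit 3, nat_lit 10, nat_lit 9, nat_lit 8, nat_lit 2, nat_lit 5],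
  [nat_lit 0, nat_lit 6, nat_lit 0, nat_lit 3, nat_lit 8, nat_lit 2, nat_lit 3, nat_lit 9, nat_lit 8, nat_lit 0, nat_lit 3, nat_lit 10, nat_lit 9, nat_lit 8, nat_lit 1, nat_lit 3, nat_lit 8],
  [nat_lit 3, nat_lit 4, nat_lit 6, nat_lit 5, nat_lit 1, nat_lit 7, nat_lit 6, nat_lit 3, nat_lit 8, nat_lit 0, nat_lit 9, nat_lit 8, nat_lit 0, nat_lit 1, nat_lit 4, nat_lit 10, nat_lit 9, nat_lit 8, nat_lit 2, nat_lit 5],
  [nat_lit 9, nat_lit 0, nat_lit 1, nat_lit 3, nat_lit 6, nat_lit 8, nat_lit 1, nat_lit 3, nat_lit 9, nat_lit 10, nat_lit 9, nat_lit 8, nat_lit 2, nat_lit 4, nat_lit 9]]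
noncomputable def q1_P : ℕ → ℕ → ℕ := wdsP H15.MM24.P q1_W
noncomputable def u1h_W : List (List ℕ) := [[nat_lit 1, nat_lit 6, nat_lit 7, nat_lit 6, nat_lit 3, nat_lit 8, nat_lit 9, nat_lit 10, nat_lit 9, nat_lit 8, nat_lit 3, nat_lit 5],
  [nat_lit 0, nat_lit 3, nat_lit 6, nat_lit 7, nat_lit 6, nat_lit 3, nat_lit 4, nat_lit 8, nat_lit 9, nat_lit 10, nat_lit 9, nat_lit 8, nat_lit 1],
  [nat_lit 2, nat_lit 6, nat_lit 7, nat_lit 6, nat_lit 3, nat_lit 8, nat_lit 9, nat_lit 10, nat_lit 9, nat_lit 8, nat_lit 2, nat_lit 5],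
  [nat_lit 6, nat_lit 7, nat_lit 6, nat_lit 5, nat_lit 8, nat_lit 9, nat_lit 10, nat_lit 9, nat_lit 8],
  [nat_lit 10, nat_lit 0, nat_lit 3, nat_lit 6, nat_lit 7, nat_lit 6, nat_lit 3, nat_lit 8, nat_lit 9, nat_lit 8, nat_lit 1, nat_lit 4, nat_lit 10],
  [nat_lit 2, nat_lit 3, nat_lit 6, nat_lit 0, nat_lit 1, nat_lit 7, nat_lit 6, nat_lit 8, nat_lit 0, nat_lit 3, nat_lit 6, nat_lit 9, nat_lit 10, nat_lit 9],
  [nat_lit 6, nat_lit 7, nat_lit 6, nat_lit 0, nat_lit 2, nat_lit 8, nat_lit 1, nat_lit 2, nat_lit 9, nat_lit 10, nat_lit 9, nat_lit 8, nat_lit 1],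
  [nat_lit 0],
  [nat_lit 1],
  [nat_lit 2],
  [nat_lit 3],
  [nat_lit 4],
  [nat_lit 5],
  [nat_lit 8],
  [nat_lit 6],
  [nat_lit 7],
  [nat_lit 9],
  [nat_lit 10]]
noncomputable def u1h_P : ℕ → ℕ → ℕ := wdsP H15.MM24.P u1h_W
noncomputable def u1l0Dd : ℕ := nat_lit 0x8e350b67a66958ec643a9ccc2501490054181e8944c240f8442000
noncomputable def u1l0D (u : ℕ) : ℕ := Nat.land (Nat.shiftRight u1l0Dd (Nat.mul u (nat_lit 9))) (nat_lit 511)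
noncomputable def u1l0Pd : ℕ := nat_lit 0x1944e34615a4da849ecb23e4a65c20
noncomputable def u1l0P (u : ℕ) : ℕ := Nat.land (Nat.shiftRight u1l0Pd (Nat.mul u (nat_lit 5))) (nat_lit 31)
noncomputable def u1l0Qd : ℕ := nat_lit 0x1260f71651351a34116c54ec7bd420
noncomputable def u1l0Q (u : ℕ) : ℕ := Nat.land (Nat.shiftRight u1l0Qd (Nat.mul u (nat_lit 5))) (nat_lit 31)
noncomputable def u1l0 : Lev := ⟨24, 18, u1l0D, u1l0P, u1l0Q⟩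
noncomputable def u1l1Dd : ℕ := nat_lit 0xed51b9a79b7d8777493a3938101d1c1b1a1918170f0e00
noncomputable def u1l1D (u : ℕ) : ℕ := Nat.land (Nat.shiftRight u1l1Dd (Nat.mul u (nat_lit 8))) (nat_lit 255)
noncomputable def u1l1Pd : ℕ := nat_lit 0x6e45162943253b1dc6835eba8a83
noncomputable def u1l1P (u : ℕ) : ℕ := Nat.land (Nat.shiftRight u1l1Pd (Nat.mul u (nat_lit 5))) (nat_lit 31)
noncomputable def u1l1Qd : ℕ := nat_lit 0xaac61636272a4ce24e0f5225400ac0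
noncomputable def u1l1Q (u : ℕ) : ℕ := Nat.land (Nat.shiftRight u1l1Qd (Nat.mul u (nat_lit 5))) (nat_lit 31)
noncomputable def u1l1 : Lev := ⟨23, 16, u1l1D, u1l1P, u1l1Q⟩
noncomputable def u1l2Dd : ℕ := nat_lit 0x7ec3495311364f5b341a4d1817160d0c0b0a09080700
noncomputable def u1l2D (u : ℕ) : ℕ := Nat.land (Nat.shiftRight u1l2Dd (Nat.mul u (nat_lit 8))) (nat_lit 255)
noncomputable def u1l2Pd : ℕ := nat_lit 0x2e113a247a193ad9522c28b3b526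
noncomputable def u1l2P (u : ℕ) : ℕ := Nat.land (Nat.shiftRight u1l2Pd (Nat.mul u (nat_lit 5))) (nat_lit 31)
noncomputable def u1l2Qd : ℕ := nat_lit 0xaa965622267c84d2242e180f004e80
noncomputable def u1l2Q (u : ℕ) : ℕ := Nat.land (Nat.shiftRight u1l2Qd (Nat.mul u (nat_lit 5))) (nat_lit 31)
noncomputable def u1l2 : Lev := ⟨22, 14, u1l2D, u1l2P, u1l2Q⟩
noncomputable def u1l3Dd : ℕ := nat_lit 0x454ecd2aa46850192478b9c2a7cc0c1a2c300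
noncomputable def u1l3D (u : ℕ) : ℕ := Nat.land (Nat.shiftRight u1l3Dd (Nat.mul u (nat_lit 7))) (nat_lit 127)
noncomputable def u1l3Pd : ℕ := nat_lit 0x1a35d6b9c522ad0f6255199215
noncomputable def u1l3P (u : ℕ) : ℕ := Nat.land (Nat.shiftRight u1l3Pd (Nat.mul u (nat_lit 5))) (nat_lit 31)
noncomputable def u1l3Qd : ℕ := nat_lit 0x7c0131b08144647514c97016203680
noncomputable def u1l3Q (u : ℕ) : ℕ := Nat.land (Nat.shiftRight u1l3Qd (Nat.mul u (nat_lit 5))) (nat_lit 31)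
noncomputable def u1l3 : Lev := ⟨21, 7, u1l3D, u1l3P, u1l3Q⟩
noncomputable def u1l4Dd : ℕ := nat_lit 0x9af51a62e44b19265068e182c3880c24280
noncomputable def u1l4D (u : ℕ) : ℕ := Nat.land (Nat.shiftRight u1l4Dd (Nat.mul u (nat_lit 7))) (nat_lit 127)
noncomputable def u1l4Pd : ℕ := nat_lit 0x82c872a2828bacd9a5f2532e1
noncomputable def u1l4P (u : ℕ) : ℕ := Nat.land (Nat.shiftRight u1l4Pd (Nat.mul u (nat_lit 5))) (nat_lit 31)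
noncomputable def u1l4Qd : ℕ := nat_lit 0xa40d391732a90290cce801f103000
noncomputable def u1l4Q (u : ℕ) : ℕ := Nat.land (Nat.shiftRight u1l4Qd (Nat.mul u (nat_lit 5))) (nat_lit 31)
noncomputable def u1l4 : Lev := ⟨20, 6, u1l4D, u1l4P, u1l4Q⟩
noncomputable def u1l5Dd : ℕ := nat_lit 0x940
noncomputable def u1l5D (u : ℕ) : ℕ := Nat.land (Nat.shiftRight u1l5Dd (Nat.mul u (nat_lit 4))) (nat_lit 15)
noncomputable def u1l5Pd : ℕ := nat_lit 0x40a4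
noncomputable def u1l5P (u : ℕ) : ℕ := Nat.land (Nat.shiftRight u1l5Pd (Nat.mul u (nat_lit 5))) (nat_lit 31)
noncomputable def u1l5Qd : ℕ := nat_lit 0x200000400
noncomputable def u1l5Q (u : ℕ) : ℕ := Nat.land (Nat.shiftRight u1l5Qd (Nat.mul u (nat_lit 2))) (nat_lit 3)
noncomputable def u1l5 : Lev := ⟨3, 5, u1l5D, u1l5P, u1l5Q⟩
noncomputable def u1l6Dd : ℕ := nat_lit 0xb6165558d24a1461010800c0
noncomputable def u1l6D (u : ℕ) : ℕ := Nat.land (Nat.shiftRight u1l6Dd (Nat.mul u (nat_lit 6))) (nat_lit 63)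
noncomputable def u1l6Pd : ℕ := nat_lit 0x9a9884ddd16d8f27ae82
noncomputable def u1l6P (u : ℕ) : ℕ := Nat.land (Nat.shiftRight u1l6Pd (Nat.mul u (nat_lit 5))) (nat_lit 31)
noncomputable def u1l6Qd : ℕ := nat_lit 0xa601f480397d2ebc50000000
noncomputable def u1l6Q (u : ℕ) : ℕ := Nat.land (Nat.shiftRight u1l6Qd (Nat.mul u (nat_lit 4))) (nat_lit 15)
noncomputable def u1l6 : Lev := ⟨16, 4, u1l6D, u1l6P, u1l6Q⟩
noncomputable def f1e_W : List (List ℕ) := [[nat_lit 2, nat_lit 6, nat_lit 7, nat_lit 6, nat_lit 3, nat_lit 8, nat_lit 9, nat_lit 10, nat_lit 9, nat_lit 8, nat_lit 2, nat_lit 5],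
  [nat_lit 2, nat_lit 6, nat_lit 7, nat_lit 6, nat_lit 3, nat_lit 8, nat_lit 9, nat_lit 10, nat_lit 9, nat_lit 8, nat_lit 2, nat_lit 5],
  [nat_lit 0, nat_lit 1, nat_lit 2, nat_lit 3, nat_lit 7, nat_lit 6, nat_lit 3, nat_lit 8, nat_lit 9, nat_lit 10, nat_lit 9, nat_lit 8, nat_lit 1, nat_lit 7],
  [nat_lit 9, nat_lit 0, nat_lit 6, nat_lit 7, nat_lit 6, nat_lit 4, nat_lit 9, nat_lit 8, nat_lit 0],
  [nat_lit 2, nat_lit 6, nat_lit 7, nat_lit 6, nat_lit 5, nat_lit 8, nat_lit 3, nat_lit 9, nat_lit 10, nat_lit 9, nat_lit 8, nat_lit 2],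
  [nat_lit 2, nat_lit 6, nat_lit 3, nat_lit 7, nat_lit 6, nat_lit 5, nat_lit 1, nat_lit 8, nat_lit 0, nat_lit 3, nat_lit 6, nat_lit 9, nat_lit 8, nat_lit 1, nat_lit 2, nat_lit 6],
  [nat_lit 0, nat_lit 1, nat_lit 2, nat_lit 3, nat_lit 6, nat_lit 0, nat_lit 1, nat_lit 7, nat_lit 6, nat_lit 2, nat_lit 8, nat_lit 9, nat_lit 8, nat_lit 2, nat_lit 3]]
noncomputable def f1e_P : ℕ → ℕ → ℕ := wdsP H15.MM24.P f1e_W
noncomputable def f1c6Dd : ℕ := nat_lit 0xa80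
noncomputable def f1c6D (u : ℕ) : ℕ := Nat.land (Nat.shiftRight f1c6Dd (Nat.mul u (nat_lit 3))) (nat_lit 7)
noncomputable def f1c6Pd : ℕ := nat_lit 0xeaf2
noncomputable def f1c6P (u : ℕ) : ℕ := Nat.land (Nat.shiftRight f1c6Pd (Nat.mul u (nat_lit 4))) (nat_lit 15)
noncomputable def f1c6Qd : ℕ := nat_lit 0x70200000
noncomputable def f1c6Q (u : ℕ) : ℕ := Nat.land (Nat.shiftRight f1c6Qd (Nat.mul u (nat_lit 2))) (nat_lit 3)
noncomputable def f1c6 : Lev := ⟨4, 3, f1c6D, f1c6P, f1c6Q⟩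
noncomputable def u1n0Fd : ℕ := nat_lit 0x5058350383180110
noncomputable def u1n0F (u : ℕ) : ℕ := Nat.land (Nat.shiftRight u1n0Fd (Nat.mul u (nat_lit 4))) (nat_lit 15)
noncomputable def u1n0 : Nd := ⟨u1n0F, (nat_lit 3), (nat_lit 3), [[nat_lit 5]], [((nat_lit 0), [])], []⟩
noncomputable def f1c4Dd : ℕ := nat_lit 0x9430
noncomputable def f1c4D (u : ℕ) : ℕ := Nat.land (Nat.shiftRight f1c4Dd (Nat.mul u (nat_lit 4))) (nat_lit 15)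
noncomputable def f1c4Pd : ℕ := nat_lit 0x81481
noncomputable def f1c4P (u : ℕ) : ℕ := Nat.land (Nat.shiftRight f1c4Pd (Nat.mul u (nat_lit 5))) (nat_lit 31)
noncomputable def f1c4Qd : ℕ := nat_lit 0x300000900
noncomputable def f1c4Q (u : ℕ) : ℕ := Nat.land (Nat.shiftRight f1c4Qd (Nat.mul u (nat_lit 2))) (nat_lit 3)
noncomputable def f1c4 : Lev := ⟨4, 5, f1c4D, f1c4P, f1c4Q⟩
noncomputable def u1n1Fd : ℕ := nat_lit 0x9070587e89518c51110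
noncomputable def u1n1F (u : ℕ) : ℕ := Nat.land (Nat.shiftRight u1n1Fd (Nat.mul u (nat_lit 4))) (nat_lit 15)
noncomputable def u1n1 : Nd := ⟨u1n1F, (nat_lit 5), (nat_lit 5), [[nat_lit 5],
  [nat_lit 1]], [((nat_lit 0), [])], []⟩
noncomputable def f1c0Dd : ℕ := nat_lit 0xc560
noncomputable def f1c0D (u : ℕ) : ℕ := Nat.land (Nat.shiftRight f1c0Dd (Nat.mul u (nat_lit 4))) (nat_lit 15)
noncomputable def f1c0Pd : ℕ := nat_lit 0xa8cc0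
noncomputable def f1c0P (u : ℕ) : ℕ := Nat.land (Nat.shiftRight f1c0Pd (Nat.mul u (nat_lit 5))) (nat_lit 31)
noncomputable def f1c0Qd : ℕ := nat_lit 0xc0000001080
noncomputable def f1c0Q (u : ℕ) : ℕ := Nat.land (Nat.shiftRight f1c0Qd (Nat.mul u (nat_lit 2))) (nat_lit 3)
noncomputable def f1c0 : Lev := ⟨4, 7, f1c0D, f1c0P, f1c0Q⟩
noncomputable def u1n2Fd : ℕ := nat_lit 0x2d2a049803acea5242b540e108420
noncomputable def u1n2F (u : ℕ) : ℕ := Nat.land (Nat.shiftRight u1n2Fd (Nat.mul u (nat_lit 5))) (nat_lit 31)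
noncomputable def u1n2 : Nd := ⟨u1n2F, (nat_lit 7), (nat_lit 7), [[nat_lit 1, nat_lit 5],
  [nat_lit 1]], [((nat_lit 0), [])], []⟩
noncomputable def n1T : List (List (List ℕ)) := [[[nat_lit 0],
  [nat_lit 4],
  [nat_lit 1, nat_lit 2, nat_lit 4],
  [nat_lit 3],
  [nat_lit 1],
  [nat_lit 0, nat_lit 2, nat_lit 4, nat_lit 5]], [[nat_lit 0],
  [nat_lit 4],
  [nat_lit 1, nat_lit 2, nat_lit 4],
  [nat_lit 3],
  [nat_lit 1],
  [nat_lit 0, nat_lit 2, nat_lit 4, nat_lit 5]], [[nat_lit 0],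
  [nat_lit 2],
  [nat_lit 4],
  [nat_lit 0, nat_lit 1, nat_lit 3, nat_lit 4],
  [nat_lit 1, nat_lit 2, nat_lit 4],
  [nat_lit 3, nat_lit 4, nat_lit 5]], [[nat_lit 0],
  [nat_lit 5],
  [nat_lit 3],
  [nat_lit 2],
  [nat_lit 4],
  [nat_lit 1]], [[nat_lit 0],
  [nat_lit 0, nat_lit 1, nat_lit 2, nat_lit 4, nat_lit 5],
  [nat_lit 0, nat_lit 1, nat_lit 3, nat_lit 4],
  [nat_lit 2],
  [nat_lit 1],
  [nat_lit 4]]]

theorem md_b : ltAll 24 H15.MM24.B = 0 ∧ 244823040 ≠ 0 := by decide +kernel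
theorem x5_lt : allL (ltAll 11) x5_W = true := by decide +kernel
theorem a5h_lt : allL (ltAll 11) a5h_W = true := by decide +kernel
theorem a5l0_e_0 : allZ (dent a5l0 a5h_P (nat_lit 24)) (nat_lit 0) (nat_lit 23) = true := by decide +kernel
theorem a5l0_h : 0 < a5l0.n ∧ 0 < a5l0.K ∧ a5l0.Pt 0 < 24 ∧ a5l0.Q (a5l0.Pt 0) = 0 := by decide +kernel
theorem a5l1_e_0 : allZ (dent a5l1 a5h_P (nat_lit 24)) (nat_lit 0) (nat_lit 22) = true := by decide +kernel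
theorem a5l1_h : 0 < a5l1.n ∧ 0 < a5l1.K ∧ a5l1.Pt 0 < 24 ∧ a5l1.Q (a5l1.Pt 0) = 0 := by decide +kernel
theorem a5l2_e_0 : allZ (dent a5l2 a5h_P (nat_lit 24)) (nat_lit 0) (nat_lit 21) = true := by decide +kernel
theorem a5l2_h : 0 < a5l2.n ∧ 0 < a5l2.K ∧ a5l2.Pt 0 < 24 ∧ a5l2.Q (a5l2.Pt 0) = 0 := by decide +kernel
theorem a5l3_e_0 : allZ (dent a5l3 a5h_P (nat_lit 24)) (nat_lit 0) (nat_lit 20) = true := by decide +kernel
theorem a5l3_h : 0 < a5l3.n ∧ 0 < a5l3.K ∧ a5l3.Pt 0 < 24 ∧ a5l3.Q (a5l3.Pt 0) = 0 := by decide +kernel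
theorem a5l4_e_0 : allZ (dent a5l4 a5h_P (nat_lit 24)) (nat_lit 0) (nat_lit 19) = true := by decide +kernel
theorem a5l4_h : 0 < a5l4.n ∧ 0 < a5l4.K ∧ a5l4.Pt 0 < 24 ∧ a5l4.Q (a5l4.Pt 0) = 0 := by decide +kernel
theorem a5l5_e_0 : allZ (dent a5l5 a5h_P (nat_lit 24)) (nat_lit 0) (nat_lit 15) = true := by decide +kernel
theorem a5l5_h : 0 < a5l5.n ∧ 0 < a5l5.K ∧ a5l5.Pt 0 < 24 ∧ a5l5.Q (a5l5.Pt 0) = 0 := by decide +kernel
theorem a5l6_e_0 : allZ (dent a5l6 a5h_P (nat_lit 24)) (nat_lit 0) (nat_lit 2) = true := by decide +kernel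
theorem a5l6_h : 0 < a5l6.n ∧ 0 < a5l6.K ∧ a5l6.Pt 0 < 24 ∧ a5l6.Q (a5l6.Pt 0) = 0 := by decide +kernel
theorem a5_f6 : (Nat.ble a5l6.K 17 && Nat.ble (topK []) a5l6.K && fixLetters a5h_P (topK []) (a5l6.Pt 0)) = true := by decide +kernel
theorem a5_f5 : (Nat.ble a5l5.K 17 && Nat.ble (topK [a5l6]) a5l5.K && fixLetters a5h_P (topK [a5l6]) (a5l5.Pt 0)) = true := by decide +kernel
theorem a5_f4 : (Nat.ble a5l4.K 17 && Nat.ble (topK [a5l5, a5l6]) a5l4.K && fixLetters a5h_P (topK [a5l5, a5l6]) (a5l4.Pt 0)) = true := by decide +kernel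
theorem a5_f3 : (Nat.ble a5l3.K 17 && Nat.ble (topK [a5l4, a5l5, a5l6]) a5l3.K && fixLetters a5h_P (topK [a5l4, a5l5, a5l6]) (a5l3.Pt 0)) = true := by decide +kernel
theorem a5_f2 : (Nat.ble a5l2.K 17 && Nat.ble (topK [a5l3, a5l4, a5l5, a5l6]) a5l2.K && fixLetters a5h_P (topK [a5l3, a5l4, a5l5, a5l6]) (a5l2.Pt 0)) = true := by decide +kernel
theorem a5_f1 : (Nat.ble a5l1.K 17 && Nat.ble (topK [a5l2, a5l3, a5l4, a5l5, a5l6]) a5l1.K && fixLetters a5h_P (topK [a5l2, a5l3, a5l4, a5l5, a5l6]) (a5l1.Pt 0)) = true := by decide +kernel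
theorem a5_f0 : (Nat.ble a5l0.K 17 && Nat.ble (topK [a5l1, a5l2, a5l3, a5l4, a5l5, a5l6]) a5l0.K && fixLetters a5h_P (topK [a5l1, a5l2, a5l3, a5l4, a5l5, a5l6]) (a5l0.Pt 0)) = true := by decide +kernel
theorem a5_c : chainCard [a5l0, a5l1, a5l2, a5l3, a5l4, a5l5, a5l6] = 244823040 := by decide +kernel
theorem c5e_lt : allL (ltAll 11) c5e_W = true := by decide +kernel
theorem c5_f6 : (Nat.ble a5l6.K 17 && Nat.blt (nat_lit 1) 24 && fixLetters a5h_P a5l6.K (nat_lit 1) && Nat.beq (ltAll 1 [nat_lit 0]) 0 && Nat.beq (apW x5_P [nat_lit 0] (nat_lit 1)) (a5l6.Pt 0)) = true := by decide +kernel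
theorem c5c5_e_0 : allZ (dent c5c5 c5e_P (nat_lit 24)) (nat_lit 0) (nat_lit 2) = true := by decide +kernel
theorem c5c5_h : 0 < c5c5.n ∧ 0 < c5c5.K ∧ c5c5.Pt 0 < 24 ∧ c5c5.Q (c5c5.Pt 0) = 0 := by decide +kernel
theorem a5n0_0 : (Nat.ble a5l5.K 17 && Nat.beq (ltAll 24 [a5l4.Pt 0, a5l3.Pt 0, a5l2.Pt 0, a5l1.Pt 0, a5l0.Pt 0]) 0 && kChk c5e_P x5_P a5n0.Kn 1 H15.MM24.B [a5l4.Pt 0, a5l3.Pt 0, a5l2.Pt 0, a5l1.Pt 0, a5l0.Pt 0] && allL (ltAll 1) a5n0.pre && planOK a5h_P x5_P 1 (a5l5.Pt 0) a5n0.plan [a5l5, a5l6]) = true := by decide +kernel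
theorem a5n0_1_0 : allZ (a5n0.ent H15.MM24.P a5h_P x5_P x5_P c5e_P (nat_lit 11) (nat_lit 1) H15.MM24.B a5l5 [a5l6] (memO c5c5)) (nat_lit 0) (nat_lit 16) = true := by decide +kernel
theorem c5_f5 : (Nat.ble c5c5.K 3 && Nat.ble (topK []) c5c5.K && Nat.beq (c5c5.Pt 0) (a5l5.Pt 0) && Nat.beq (ltAll 24 [a5l4.Pt 0, a5l3.Pt 0, a5l2.Pt 0, a5l1.Pt 0, a5l0.Pt 0]) 0 && kChk c5e_P x5_P c5c5.K 1 H15.MM24.B [a5l4.Pt 0, a5l3.Pt 0, a5l2.Pt 0, a5l1.Pt 0, a5l0.Pt 0]) = true := by decide +kernel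
theorem c5_f4 : (Nat.ble a5l4.K 17 && Nat.blt (nat_lit 0) 24 && fixLetters a5h_P a5l4.K (nat_lit 0) && Nat.beq (ltAll 1 [nat_lit 0, nat_lit 0, nat_lit 0, nat_lit 0]) 0 && Nat.beq (apW x5_P [nat_lit 0, nat_lit 0, nat_lit 0, nat_lit 0] (nat_lit 0)) (a5l4.Pt 0)) = true := by decide +kernel
theorem c5_f3 : (Nat.ble a5l3.K 17 && Nat.blt (nat_lit 0) 24 && fixLetters a5h_P a5l3.K (nat_lit 0) && Nat.beq (ltAll 1 [nat_lit 0, nat_lit 0, nat_lit 0]) 0 && Nat.beq (apW x5_P [nat_lit 0, nat_lit 0, nat_lit 0] (nat_lit 0)) (a5l3.Pt 0)) = true := by decide +kernel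
theorem c5_f2 : (Nat.ble a5l2.K 17 && Nat.blt (nat_lit 0) 24 && fixLetters a5h_P a5l2.K (nat_lit 0) && Nat.beq (ltAll 1 [nat_lit 0, nat_lit 0]) 0 && Nat.beq (apW x5_P [nat_lit 0, nat_lit 0] (nat_lit 0)) (a5l2.Pt 0)) = true := by decide +kernel
theorem c5_f1 : (Nat.ble a5l1.K 17 && Nat.blt (nat_lit 0) 24 && fixLetters a5h_P a5l1.K (nat_lit 0) && Nat.beq (ltAll 1 [nat_lit 0]) 0 && Nat.beq (apW x5_P [nat_lit 0] (nat_lit 0)) (a5l1.Pt 0)) = true := by decide +kernel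
theorem c5c0_e_0 : allZ (dent c5c0 c5e_P (nat_lit 24)) (nat_lit 0) (nat_lit 19) = true := by decide +kernel
theorem c5c0_h : 0 < c5c0.n ∧ 0 < c5c0.K ∧ c5c0.Pt 0 < 24 ∧ c5c0.Q (c5c0.Pt 0) = 0 := by decide +kernel
theorem a5n1_0 : (Nat.ble a5l0.K 17 && Nat.beq (ltAll 24 []) 0 && kChk c5e_P x5_P a5n1.Kn 1 H15.MM24.B [] && allL (ltAll 1) a5n1.pre && planOK a5h_P x5_P 1 (a5l0.Pt 0) a5n1.plan [a5l0, a5l1, a5l2, a5l3, a5l4, a5l5, a5l6]) = true := by decide +kernel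
theorem a5n1_1_0 : allZ (a5n1.ent H15.MM24.P a5h_P x5_P x5_P c5e_P (nat_lit 11) (nat_lit 1) H15.MM24.B a5l0 [a5l1, a5l2, a5l3, a5l4, a5l5, a5l6] (memO c5c0)) (nat_lit 0) (nat_lit 24) = true := by decide +kernel
theorem c5_f0 : (Nat.ble c5c0.K 3 && Nat.ble (topK [c5c5]) c5c0.K && Nat.beq (c5c0.Pt 0) (a5l0.Pt 0) && Nat.beq (ltAll 24 []) 0 && kChk c5e_P x5_P c5c0.K 1 H15.MM24.B []) = true := by decide +kernel
theorem c5_c : chainCard [c5c0, c5c5] = 60 ∧ topK [c5c0, c5c5] = 3 := by decide +kernel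
theorem x5_o : sumL (fun β => Nat.xor (itW x5_P [0] 5 β) β) H15.MM24.B = 0 ∧ ltAll 1 [0] = 0 ∧ 0 < 24 ∧ apW x5_P [0] 0 ≠ 0 := by decide +kernel
theorem x7_lt : allL (ltAll 11) x7_W = true := by decide +kernel
theorem a7h_lt : allL (ltAll 11) a7h_W = true := by decide +kernel
theorem a7l0_e_0 : allZ (dent a7l0 a7h_P (nat_lit 24)) (nat_lit 0) (nat_lit 23) = true := by decide +kernel
theorem a7l0_h : 0 < a7l0.n ∧ 0 < a7l0.K ∧ a7l0.Pt 0 < 24 ∧ a7l0.Q (a7l0.Pt 0) = 0 := by decide +kernel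
theorem a7l1_e_0 : allZ (dent a7l1 a7h_P (nat_lit 24)) (nat_lit 0) (nat_lit 22) = true := by decide +kernel
theorem a7l1_h : 0 < a7l1.n ∧ 0 < a7l1.K ∧ a7l1.Pt 0 < 24 ∧ a7l1.Q (a7l1.Pt 0) = 0 := by decide +kernel
theorem a7l2_e_0 : allZ (dent a7l2 a7h_P (nat_lit 24)) (nat_lit 0) (nat_lit 21) = true := by decide +kernel
theorem a7l2_h : 0 < a7l2.n ∧ 0 < a7l2.K ∧ a7l2.Pt 0 < 24 ∧ a7l2.Q (a7l2.Pt 0) = 0 := by decide +kernel
theorem a7l3_e_0 : allZ (dent a7l3 a7h_P (nat_lit 24)) (nat_lit 0) (nat_lit 20) = true := by decide +kernel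
theorem a7l3_h : 0 < a7l3.n ∧ 0 < a7l3.K ∧ a7l3.Pt 0 < 24 ∧ a7l3.Q (a7l3.Pt 0) = 0 := by decide +kernel
theorem a7l4_e_0 : allZ (dent a7l4 a7h_P (nat_lit 24)) (nat_lit 0) (nat_lit 19) = true := by decide +kernel
theorem a7l4_h : 0 < a7l4.n ∧ 0 < a7l4.K ∧ a7l4.Pt 0 < 24 ∧ a7l4.Q (a7l4.Pt 0) = 0 := by decide +kernel
theorem a7l5_e_0 : allZ (dent a7l5 a7h_P (nat_lit 24)) (nat_lit 0) (nat_lit 2) = true := by decide +kernel
theorem a7l5_h : 0 < a7l5.n ∧ 0 < a7l5.K ∧ a7l5.Pt 0 < 24 ∧ a7l5.Q (a7l5.Pt 0) = 0 := by decide +kernel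
theorem a7l6_e_0 : allZ (dent a7l6 a7h_P (nat_lit 24)) (nat_lit 0) (nat_lit 15) = true := by decide +kernel
theorem a7l6_h : 0 < a7l6.n ∧ 0 < a7l6.K ∧ a7l6.Pt 0 < 24 ∧ a7l6.Q (a7l6.Pt 0) = 0 := by decide +kernel
theorem a7_f6 : (Nat.ble a7l6.K 22 && Nat.ble (topK []) a7l6.K && fixLetters a7h_P (topK []) (a7l6.Pt 0)) = true := by decide +kernel
theorem a7_f5 : (Nat.ble a7l5.K 22 && Nat.ble (topK [a7l6]) a7l5.K && fixLetters a7h_P (topK [a7l6]) (a7l5.Pt 0)) = true := by decide +kernel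
theorem a7_f4 : (Nat.ble a7l4.K 22 && Nat.ble (topK [a7l5, a7l6]) a7l4.K && fixLetters a7h_P (topK [a7l5, a7l6]) (a7l4.Pt 0)) = true := by decide +kernel
theorem a7_f3 : (Nat.ble a7l3.K 22 && Nat.ble (topK [a7l4, a7l5, a7l6]) a7l3.K && fixLetters a7h_P (topK [a7l4, a7l5, a7l6]) (a7l3.Pt 0)) = true := by decide +kernel
theorem a7_f2 : (Nat.ble a7l2.K 22 && Nat.ble (topK [a7l3, a7l4, a7l5, a7l6]) a7l2.K && fixLetters a7h_P (topK [a7l3, a7l4, a7l5, a7l6]) (a7l2.Pt 0)) = true := by decide +kernel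
theorem a7_f1 : (Nat.ble a7l1.K 22 && Nat.ble (topK [a7l2, a7l3, a7l4, a7l5, a7l6]) a7l1.K && fixLetters a7h_P (topK [a7l2, a7l3, a7l4, a7l5, a7l6]) (a7l1.Pt 0)) = true := by decide +kernel
theorem a7_f0 : (Nat.ble a7l0.K 22 && Nat.ble (topK [a7l1, a7l2, a7l3, a7l4, a7l5, a7l6]) a7l0.K && fixLetters a7h_P (topK [a7l1, a7l2, a7l3, a7l4, a7l5, a7l6]) (a7l0.Pt 0)) = true := by decide +kernel
theorem a7_c : chainCard [a7l0, a7l1, a7l2, a7l3, a7l4, a7l5, a7l6] = 244823040 := by decide +kernel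
theorem c7e_lt : allL (ltAll 11) c7e_W = true := by decide +kernel
theorem c7c6_e_0 : allZ (dent c7c6 c7e_P (nat_lit 24)) (nat_lit 0) (nat_lit 1) = true := by decide +kernel
theorem c7c6_h : 0 < c7c6.n ∧ 0 < c7c6.K ∧ c7c6.Pt 0 < 24 ∧ c7c6.Q (c7c6.Pt 0) = 0 := by decide +kernel
theorem a7n0_0 : (Nat.ble a7l6.K 22 && Nat.beq (ltAll 24 [a7l5.Pt 0, a7l4.Pt 0, a7l3.Pt 0, a7l2.Pt 0, a7l1.Pt 0, a7l0.Pt 0]) 0 && kChk c7e_P x7_P a7n0.Kn 1 H15.MM24.B [a7l5.Pt 0, a7l4.Pt 0, a7l3.Pt 0, a7l2.Pt 0, a7l1.Pt 0, a7l0.Pt 0] && allL (ltAll 1) a7n0.pre && planOK a7h_P x7_P 1 (a7l6.Pt 0) a7n0.plan [a7l6]) = true := by decide +kernel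
theorem a7n0_1_0 : allZ (a7n0.ent H15.MM24.P a7h_P x7_P x7_P c7e_P (nat_lit 11) (nat_lit 1) H15.MM24.B a7l6 [] (memO c7c6)) (nat_lit 0) (nat_lit 16) = true := by decide +kernel
theorem c7_f6 : (Nat.ble c7c6.K 2 && Nat.ble (topK []) c7c6.K && Nat.beq (c7c6.Pt 0) (a7l6.Pt 0) && Nat.beq (ltAll 24 [a7l5.Pt 0, a7l4.Pt 0, a7l3.Pt 0, a7l2.Pt 0, a7l1.Pt 0, a7l0.Pt 0]) 0 && kChk c7e_P x7_P c7c6.K 1 H15.MM24.B [a7l5.Pt 0, a7l4.Pt 0, a7l3.Pt 0, a7l2.Pt 0, a7l1.Pt 0, a7l0.Pt 0]) = true := by decide +kernel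
theorem c7_f5 : (Nat.ble a7l5.K 22 && Nat.blt (nat_lit 0) 24 && fixLetters a7h_P a7l5.K (nat_lit 0) && Nat.beq (ltAll 1 [nat_lit 0, nat_lit 0, nat_lit 0, nat_lit 0, nat_lit 0]) 0 && Nat.beq (apW x7_P [nat_lit 0, nat_lit 0, nat_lit 0, nat_lit 0, nat_lit 0] (nat_lit 0)) (a7l5.Pt 0)) = true := by decide +kernel
theorem c7_f4 : (Nat.ble a7l4.K 22 && Nat.blt (nat_lit 0) 24 && fixLetters a7h_P a7l4.K (nat_lit 0) && Nat.beq (ltAll 1 [nat_lit 0, nat_lit 0, nat_lit 0, nat_lit 0]) 0 && Nat.beq (apW x7_P [nat_lit 0, nat_lit 0, nat_lit 0, nat_lit 0] (nat_lit 0)) (a7l4.Pt 0)) = true := by decide +kernel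
theorem c7_f3 : (Nat.ble a7l3.K 22 && Nat.blt (nat_lit 0) 24 && fixLetters a7h_P a7l3.K (nat_lit 0) && Nat.beq (ltAll 1 [nat_lit 0, nat_lit 0, nat_lit 0]) 0 && Nat.beq (apW x7_P [nat_lit 0, nat_lit 0, nat_lit 0] (nat_lit 0)) (a7l3.Pt 0)) = true := by decide +kernel
theorem c7_f2 : (Nat.ble a7l2.K 22 && Nat.blt (nat_lit 0) 24 && fixLetters a7h_P a7l2.K (nat_lit 0) && Nat.beq (ltAll 1 [nat_lit 0, nat_lit 0]) 0 && Nat.beq (apW x7_P [nat_lit 0, nat_lit 0] (nat_lit 0)) (a7l2.Pt 0)) = true := by decide +kernel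
theorem c7_f1 : (Nat.ble a7l1.K 22 && Nat.blt (nat_lit 0) 24 && fixLetters a7h_P a7l1.K (nat_lit 0) && Nat.beq (ltAll 1 [nat_lit 0]) 0 && Nat.beq (apW x7_P [nat_lit 0] (nat_lit 0)) (a7l1.Pt 0)) = true := by decide +kernel
theorem c7c0_e_0 : allZ (dent c7c0 c7e_P (nat_lit 24)) (nat_lit 0) (nat_lit 20) = true := by decide +kernel
theorem c7c0_h : 0 < c7c0.n ∧ 0 < c7c0.K ∧ c7c0.Pt 0 < 24 ∧ c7c0.Q (c7c0.Pt 0) = 0 := by decide +kernel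
theorem a7n1_0 : (Nat.ble a7l0.K 22 && Nat.beq (ltAll 24 []) 0 && kChk c7e_P x7_P a7n1.Kn 1 H15.MM24.B [] && allL (ltAll 1) a7n1.pre && planOK a7h_P x7_P 1 (a7l0.Pt 0) a7n1.plan [a7l0, a7l1, a7l2, a7l3, a7l4, a7l5, a7l6]) = true := by decide +kernel
theorem a7n1_1_0 : allZ (a7n1.ent H15.MM24.P a7h_P x7_P x7_P c7e_P (nat_lit 11) (nat_lit 1) H15.MM24.B a7l0 [a7l1, a7l2, a7l3, a7l4, a7l5, a7l6] (memO c7c0)) (nat_lit 0) (nat_lit 24) = true := by decide +kernel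
theorem c7_f0 : (Nat.ble c7c0.K 2 && Nat.ble (topK [c7c6]) c7c0.K && Nat.beq (c7c0.Pt 0) (a7l0.Pt 0) && Nat.beq (ltAll 24 []) 0 && kChk c7e_P x7_P c7c0.K 1 H15.MM24.B []) = true := by decide +kernel
theorem c7_c : chainCard [c7c0, c7c6] = 42 ∧ topK [c7c0, c7c6] = 2 := by decide +kernel
theorem x7_o : sumL (fun β => Nat.xor (itW x7_P [0] 7 β) β) H15.MM24.B = 0 ∧ ltAll 1 [0] = 0 ∧ 0 < 24 ∧ apW x7_P [0] 0 ≠ 0 := by decide +kernel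
theorem x11_lt : allL (ltAll 11) x11_W = true := by decide +kernel
theorem a11h_lt : allL (ltAll 11) a11h_W = true := by decide +kernel
theorem a11l0_e_0 : allZ (dent a11l0 a11h_P (nat_lit 24)) (nat_lit 0) (nat_lit 23) = true := by decide +kernel
theorem a11l0_h : 0 < a11l0.n ∧ 0 < a11l0.K ∧ a11l0.Pt 0 < 24 ∧ a11l0.Q (a11l0.Pt 0) = 0 := by decide +kernel
theorem a11l1_e_0 : allZ (dent a11l1 a11h_P (nat_lit 24)) (nat_lit 0) (nat_lit 22) = true := by decide +kernel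
theorem a11l1_h : 0 < a11l1.n ∧ 0 < a11l1.K ∧ a11l1.Pt 0 < 24 ∧ a11l1.Q (a11l1.Pt 0) = 0 := by decide +kernel
theorem a11l2_e_0 : allZ (dent a11l2 a11h_P (nat_lit 24)) (nat_lit 0) (nat_lit 21) = true := by decide +kernel
theorem a11l2_h : 0 < a11l2.n ∧ 0 < a11l2.K ∧ a11l2.Pt 0 < 24 ∧ a11l2.Q (a11l2.Pt 0) = 0 := by decide +kernel
theorem a11l3_e_0 : allZ (dent a11l3 a11h_P (nat_lit 24)) (nat_lit 0) (nat_lit 20) = true := by decide +kernel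
theorem a11l3_h : 0 < a11l3.n ∧ 0 < a11l3.K ∧ a11l3.Pt 0 < 24 ∧ a11l3.Q (a11l3.Pt 0) = 0 := by decide +kernel
theorem a11l4_e_0 : allZ (dent a11l4 a11h_P (nat_lit 24)) (nat_lit 0) (nat_lit 19) = true := by decide +kernel
theorem a11l4_h : 0 < a11l4.n ∧ 0 < a11l4.K ∧ a11l4.Pt 0 < 24 ∧ a11l4.Q (a11l4.Pt 0) = 0 := by decide +kernel
theorem a11l5_e_0 : allZ (dent a11l5 a11h_P (nat_lit 24)) (nat_lit 0) (nat_lit 15) = true := by decide +kernel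
theorem a11l5_h : 0 < a11l5.n ∧ 0 < a11l5.K ∧ a11l5.Pt 0 < 24 ∧ a11l5.Q (a11l5.Pt 0) = 0 := by decide +kernel
theorem a11l6_e_0 : allZ (dent a11l6 a11h_P (nat_lit 24)) (nat_lit 0) (nat_lit 2) = true := by decide +kernel
theorem a11l6_h : 0 < a11l6.n ∧ 0 < a11l6.K ∧ a11l6.Pt 0 < 24 ∧ a11l6.Q (a11l6.Pt 0) = 0 := by decide +kernel
theorem a11_f6 : (Nat.ble a11l6.K 16 && Nat.ble (topK []) a11l6.K && fixLetters a11h_P (topK []) (a11l6.Pt 0)) = true := by decide +kernel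
theorem a11_f5 : (Nat.ble a11l5.K 16 && Nat.ble (topK [a11l6]) a11l5.K && fixLetters a11h_P (topK [a11l6]) (a11l5.Pt 0)) = true := by decide +kernel
theorem a11_f4 : (Nat.ble a11l4.K 16 && Nat.ble (topK [a11l5, a11l6]) a11l4.K && fixLetters a11h_P (topK [a11l5, a11l6]) (a11l4.Pt 0)) = true := by decide +kernel
theorem a11_f3 : (Nat.ble a11l3.K 16 && Nat.ble (topK [a11l4, a11l5, a11l6]) a11l3.K && fixLetters a11h_P (topK [a11l4, a11l5, a11l6]) (a11l3.Pt 0)) = true := by decide +kernel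
theorem a11_f2 : (Nat.ble a11l2.K 16 && Nat.ble (topK [a11l3, a11l4, a11l5, a11l6]) a11l2.K && fixLetters a11h_P (topK [a11l3, a11l4, a11l5, a11l6]) (a11l2.Pt 0)) = true := by decide +kernel
theorem a11_f1 : (Nat.ble a11l1.K 16 && Nat.ble (topK [a11l2, a11l3, a11l4, a11l5, a11l6]) a11l1.K && fixLetters a11h_P (topK [a11l2, a11l3, a11l4, a11l5, a11l6]) (a11l1.Pt 0)) = true := by decide +kernel
theorem a11_f0 : (Nat.ble a11l0.K 16 && Nat.ble (topK [a11l1, a11l2, a11l3, a11l4, a11l5, a11l6]) a11l0.K && fixLetters a11h_P (topK [a11l1, a11l2, a11l3, a11l4, a11l5, a11l6]) (a11l0.Pt 0)) = true := by decide +kernel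
theorem a11_c : chainCard [a11l0, a11l1, a11l2, a11l3, a11l4, a11l5, a11l6] = 244823040 := by decide +kernel
theorem c11e_lt : allL (ltAll 11) c11e_W = true := by decide +kernel
theorem c11_f6 : (Nat.ble a11l6.K 16 && Nat.blt (nat_lit 0) 24 && fixLetters a11h_P a11l6.K (nat_lit 0) && Nat.beq (ltAll 1 [nat_lit 0, nat_lit 0, nat_lit 0, nat_lit 0, nat_lit 0, nat_lit 0]) 0 && Nat.beq (apW x11_P [nat_lit 0, nat_lit 0, nat_lit 0, nat_lit 0, nat_lit 0, nat_lit 0] (nat_lit 0)) (a11l6.Pt 0)) = true := by decide +kernel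
theorem c11_f5 : (Nat.ble a11l5.K 16 && Nat.blt (nat_lit 0) 24 && fixLetters a11h_P a11l5.K (nat_lit 0) && Nat.beq (ltAll 1 [nat_lit 0, nat_lit 0, nat_lit 0, nat_lit 0, nat_lit 0]) 0 && Nat.beq (apW x11_P [nat_lit 0, nat_lit 0, nat_lit 0, nat_lit 0, nat_lit 0] (nat_lit 0)) (a11l5.Pt 0)) = true := by decide +kernel
theorem c11_f4 : (Nat.ble a11l4.K 16 && Nat.blt (nat_lit 0) 24 && fixLetters a11h_P a11l4.K (nat_lit 0) && Nat.beq (ltAll 1 [nat_lit 0, nat_lit 0, nat_lit 0, nat_lit 0]) 0 && Nat.beq (apW x11_P [nat_lit 0, nat_lit 0, nat_lit 0, nat_lit 0] (nat_lit 0)) (a11l4.Pt 0)) = true := by decide +kernel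
theorem c11_f3 : (Nat.ble a11l3.K 16 && Nat.blt (nat_lit 0) 24 && fixLetters a11h_P a11l3.K (nat_lit 0) && Nat.beq (ltAll 1 [nat_lit 0, nat_lit 0, nat_lit 0]) 0 && Nat.beq (apW x11_P [nat_lit 0, nat_lit 0, nat_lit 0] (nat_lit 0)) (a11l3.Pt 0)) = true := by decide +kernel
theorem c11_f2 : (Nat.ble a11l2.K 16 && Nat.blt (nat_lit 0) 24 && fixLetters a11h_P a11l2.K (nat_lit 0) && Nat.beq (ltAll 1 [nat_lit 0, nat_lit 0]) 0 && Nat.beq (apW x11_P [nat_lit 0, nat_lit 0] (nat_lit 0)) (a11l2.Pt 0)) = true := by decide +kernel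
theorem c11_f1 : (Nat.ble a11l1.K 16 && Nat.blt (nat_lit 0) 24 && fixLetters a11h_P a11l1.K (nat_lit 0) && Nat.beq (ltAll 1 [nat_lit 0]) 0 && Nat.beq (apW x11_P [nat_lit 0] (nat_lit 0)) (a11l1.Pt 0)) = true := by decide +kernel
theorem c11c0_e_0 : allZ (dent c11c0 c11e_P (nat_lit 24)) (nat_lit 0) (nat_lit 10) = true := by decide +kernel
theorem c11c0_h : 0 < c11c0.n ∧ 0 < c11c0.K ∧ c11c0.Pt 0 < 24 ∧ c11c0.Q (c11c0.Pt 0) = 0 := by decide +kernel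
theorem a11n0_0 : (Nat.ble a11l0.K 16 && Nat.beq (ltAll 24 []) 0 && kChk c11e_P x11_P a11n0.Kn 1 H15.MM24.B [] && allL (ltAll 1) a11n0.pre && planOK a11h_P x11_P 1 (a11l0.Pt 0) a11n0.plan [a11l0, a11l1, a11l2, a11l3, a11l4, a11l5, a11l6]) = true := by decide +kernel
theorem a11n0_1_0 : allZ (a11n0.ent H15.MM24.P a11h_P x11_P x11_P c11e_P (nat_lit 11) (nat_lit 1) H15.MM24.B a11l0 [a11l1, a11l2, a11l3, a11l4, a11l5, a11l6] (memO c11c0)) (nat_lit 0) (nat_lit 24) = true := by decide +kernel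
theorem c11_f0 : (Nat.ble c11c0.K 1 && Nat.ble (topK []) c11c0.K && Nat.beq (c11c0.Pt 0) (a11l0.Pt 0) && Nat.beq (ltAll 24 []) 0 && kChk c11e_P x11_P c11c0.K 1 H15.MM24.B []) = true := by decide +kernel
theorem c11_c : chainCard [c11c0] = 11 ∧ topK [c11c0] = 1 := by decide +kernel
theorem x11_o : sumL (fun β => Nat.xor (itW x11_P [0] 11 β) β) H15.MM24.B = 0 ∧ ltAll 1 [0] = 0 ∧ 0 < 24 ∧ apW x11_P [0] 0 ≠ 0 := by decide +kernel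
theorem x23_lt : allL (ltAll 11) x23_W = true := by decide +kernel
theorem a23h_lt : allL (ltAll 11) a23h_W = true := by decide +kernel
theorem a23l0_e_0 : allZ (dent a23l0 a23h_P (nat_lit 24)) (nat_lit 0) (nat_lit 23) = true := by decide +kernel
theorem a23l0_h : 0 < a23l0.n ∧ 0 < a23l0.K ∧ a23l0.Pt 0 < 24 ∧ a23l0.Q (a23l0.Pt 0) = 0 := by decide +kernel
theorem a23l1_e_0 : allZ (dent a23l1 a23h_P (nat_lit 24)) (nat_lit 0) (nat_lit 22) = true := by decide +kernel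
theorem a23l1_h : 0 < a23l1.n ∧ 0 < a23l1.K ∧ a23l1.Pt 0 < 24 ∧ a23l1.Q (a23l1.Pt 0) = 0 := by decide +kernel
theorem a23l2_e_0 : allZ (dent a23l2 a23h_P (nat_lit 24)) (nat_lit 0) (nat_lit 21) = true := by decide +kernel
theorem a23l2_h : 0 < a23l2.n ∧ 0 < a23l2.K ∧ a23l2.Pt 0 < 24 ∧ a23l2.Q (a23l2.Pt 0) = 0 := by decide +kernel
theorem a23l3_e_0 : allZ (dent a23l3 a23h_P (nat_lit 24)) (nat_lit 0) (nat_lit 20) = true := by decide +kernel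
theorem a23l3_h : 0 < a23l3.n ∧ 0 < a23l3.K ∧ a23l3.Pt 0 < 24 ∧ a23l3.Q (a23l3.Pt 0) = 0 := by decide +kernel
theorem a23l4_e_0 : allZ (dent a23l4 a23h_P (nat_lit 24)) (nat_lit 0) (nat_lit 19) = true := by decide +kernel
theorem a23l4_h : 0 < a23l4.n ∧ 0 < a23l4.K ∧ a23l4.Pt 0 < 24 ∧ a23l4.Q (a23l4.Pt 0) = 0 := by decide +kernel
theorem a23l5_e_0 : allZ (dent a23l5 a23h_P (nat_lit 24)) (nat_lit 0) (nat_lit 15) = true := by decide +kernel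
theorem a23l5_h : 0 < a23l5.n ∧ 0 < a23l5.K ∧ a23l5.Pt 0 < 24 ∧ a23l5.Q (a23l5.Pt 0) = 0 := by decide +kernel
theorem a23l6_e_0 : allZ (dent a23l6 a23h_P (nat_lit 24)) (nat_lit 0) (nat_lit 2) = true := by decide +kernel
theorem a23l6_h : 0 < a23l6.n ∧ 0 < a23l6.K ∧ a23l6.Pt 0 < 24 ∧ a23l6.Q (a23l6.Pt 0) = 0 := by decide +kernel
theorem a23_f6 : (Nat.ble a23l6.K 20 && Nat.ble (topK []) a23l6.K && fixLetters a23h_P (topK []) (a23l6.Pt 0)) = true := by decide +kernel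
theorem a23_f5 : (Nat.ble a23l5.K 20 && Nat.ble (topK [a23l6]) a23l5.K && fixLetters a23h_P (topK [a23l6]) (a23l5.Pt 0)) = true := by decide +kernel
theorem a23_f4 : (Nat.ble a23l4.K 20 && Nat.ble (topK [a23l5, a23l6]) a23l4.K && fixLetters a23h_P (topK [a23l5, a23l6]) (a23l4.Pt 0)) = true := by decide +kernel
theorem a23_f3 : (Nat.ble a23l3.K 20 && Nat.ble (topK [a23l4, a23l5, a23l6]) a23l3.K && fixLetters a23h_P (topK [a23l4, a23l5, a23l6]) (a23l3.Pt 0)) = true := by decide +kernel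
theorem a23_f2 : (Nat.ble a23l2.K 20 && Nat.ble (topK [a23l3, a23l4, a23l5, a23l6]) a23l2.K && fixLetters a23h_P (topK [a23l3, a23l4, a23l5, a23l6]) (a23l2.Pt 0)) = true := by decide +kernel
theorem a23_f1 : (Nat.ble a23l1.K 20 && Nat.ble (topK [a23l2, a23l3, a23l4, a23l5, a23l6]) a23l1.K && fixLetters a23h_P (topK [a23l2, a23l3, a23l4, a23l5, a23l6]) (a23l1.Pt 0)) = true := by decide +kernel
theorem a23_f0 : (Nat.ble a23l0.K 20 && Nat.ble (topK [a23l1, a23l2, a23l3, a23l4, a23l5, a23l6]) a23l0.K && fixLetters a23h_P (topK [a23l1, a23l2, a23l3, a23l4, a23l5, a23l6]) (a23l0.Pt 0)) = true := by decide +kernel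
theorem a23_c : chainCard [a23l0, a23l1, a23l2, a23l3, a23l4, a23l5, a23l6] = 244823040 := by decide +kernel
theorem c23e_lt : allL (ltAll 11) c23e_W = true := by decide +kernel
theorem c23_f6 : (Nat.ble a23l6.K 20 && Nat.blt (nat_lit 0) 24 && fixLetters a23h_P a23l6.K (nat_lit 0) && Nat.beq (ltAll 1 [nat_lit 0, nat_lit 0, nat_lit 0, nat_lit 0, nat_lit 0, nat_lit 0]) 0 && Nat.beq (apW x23_P [nat_lit 0, nat_lit 0, nat_lit 0, nat_lit 0, nat_lit 0, nat_lit 0] (nat_lit 0)) (a23l6.Pt 0)) = true := by decide +kernel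
theorem c23_f5 : (Nat.ble a23l5.K 20 && Nat.blt (nat_lit 0) 24 && fixLetters a23h_P a23l5.K (nat_lit 0) && Nat.beq (ltAll 1 [nat_lit 0, nat_lit 0, nat_lit 0, nat_lit 0, nat_lit 0]) 0 && Nat.beq (apW x23_P [nat_lit 0, nat_lit 0, nat_lit 0, nat_lit 0, nat_lit 0] (nat_lit 0)) (a23l5.Pt 0)) = true := by decide +kernel
theorem c23_f4 : (Nat.ble a23l4.K 20 && Nat.blt (nat_lit 0) 24 && fixLetters a23h_P a23l4.K (nat_lit 0) && Nat.beq (ltAll 1 [nat_lit 0, nat_lit 0, nat_lit 0, nat_lit 0]) 0 && Nat.beq (apW x23_P [nat_lit 0, nat_lit 0, nat_lit 0, nat_lit 0] (nat_lit 0)) (a23l4.Pt 0)) = true := by decide +kernel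
theorem c23_f3 : (Nat.ble a23l3.K 20 && Nat.blt (nat_lit 0) 24 && fixLetters a23h_P a23l3.K (nat_lit 0) && Nat.beq (ltAll 1 [nat_lit 0, nat_lit 0, nat_lit 0]) 0 && Nat.beq (apW x23_P [nat_lit 0, nat_lit 0, nat_lit 0] (nat_lit 0)) (a23l3.Pt 0)) = true := by decide +kernel
theorem c23_f2 : (Nat.ble a23l2.K 20 && Nat.blt (nat_lit 0) 24 && fixLetters a23h_P a23l2.K (nat_lit 0) && Nat.beq (ltAll 1 [nat_lit 0, nat_lit 0]) 0 && Nat.beq (apW x23_P [nat_lit 0, nat_lit 0] (nat_lit 0)) (a23l2.Pt 0)) = true := by decide +kernel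
theorem c23_f1 : (Nat.ble a23l1.K 20 && Nat.blt (nat_lit 0) 24 && fixLetters a23h_P a23l1.K (nat_lit 0) && Nat.beq (ltAll 1 [nat_lit 0]) 0 && Nat.beq (apW x23_P [nat_lit 0] (nat_lit 0)) (a23l1.Pt 0)) = true := by decide +kernel
theorem c23c0_e_0 : allZ (dent c23c0 c23e_P (nat_lit 24)) (nat_lit 0) (nat_lit 22) = true := by decide +kernel
theorem c23c0_h : 0 < c23c0.n ∧ 0 < c23c0.K ∧ c23c0.Pt 0 < 24 ∧ c23c0.Q (c23c0.Pt 0) = 0 := by decide +kernel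
theorem a23n0_0 : (Nat.ble a23l0.K 20 && Nat.beq (ltAll 24 []) 0 && kChk c23e_P x23_P a23n0.Kn 1 H15.MM24.B [] && allL (ltAll 1) a23n0.pre && planOK a23h_P x23_P 1 (a23l0.Pt 0) a23n0.plan [a23l0, a23l1, a23l2, a23l3, a23l4, a23l5, a23l6]) = true := by decide +kernel
theorem a23n0_1_0 : allZ (a23n0.ent H15.MM24.P a23h_P x23_P x23_P c23e_P (nat_lit 11) (nat_lit 1) H15.MM24.B a23l0 [a23l1, a23l2, a23l3, a23l4, a23l5, a23l6] (memO c23c0)) (nat_lit 0) (nat_lit 24) = true := by decide +kernel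
theorem c23_f0 : (Nat.ble c23c0.K 1 && Nat.ble (topK []) c23c0.K && Nat.beq (c23c0.Pt 0) (a23l0.Pt 0) && Nat.beq (ltAll 24 []) 0 && kChk c23e_P x23_P c23c0.K 1 H15.MM24.B []) = true := by decide +kernel
theorem c23_c : chainCard [c23c0] = 23 ∧ topK [c23c0] = 1 := by decide +kernel
theorem x23_o : sumL (fun β => Nat.xor (itW x23_P [0] 23 β) β) H15.MM24.B = 0 ∧ ltAll 1 [0] = 0 ∧ 0 < 24 ∧ apW x23_P [0] 0 ≠ 0 := by decide +kernel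
theorem p2t_lt : allL (ltAll 11) p2t_W = true := by decide +kernel
theorem p2_r_a : allZ2 (resEnt p2t_P p2P p2E p2I (nat_lit 24) (nat_lit 24)) (nat_lit 10) (nat_lit 24) = true := by decide +kernel
theorem p2_b : neL H15.MM24.B (p2B.map p2E) = 0 ∧ ltAll 24 p2B = 0 := by decide +kernel
theorem p2_p : allZ2 (pcEnt p2P (nat_lit 2) p2B p2C) 10 10 = true := by decide +kernel
theorem p2_e : allL (ltAll 10) p2e = true := by decide +kernel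
theorem p2l0_e_0 : allZ (dent p2l0 (wdsP p2P p2e) (nat_lit 24)) (nat_lit 0) (nat_lit 15) = true := by decide +kernel
theorem p2l0_h : 0 < p2l0.n ∧ 0 < p2l0.K ∧ p2l0.Pt 0 < 24 ∧ p2l0.Q (p2l0.Pt 0) = 0 := by decide +kernel
theorem p2l1_e_0 : allZ (dent p2l1 (wdsP p2P p2e) (nat_lit 24)) (nat_lit 0) (nat_lit 7) = true := by decide +kernel
theorem p2l1_h : 0 < p2l1.n ∧ 0 < p2l1.K ∧ p2l1.Pt 0 < 24 ∧ p2l1.Q (p2l1.Pt 0) = 0 := by decide +kernel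
theorem p2l2_e_0 : allZ (dent p2l2 (wdsP p2P p2e) (nat_lit 24)) (nat_lit 0) (nat_lit 3) = true := by decide +kernel
theorem p2l2_h : 0 < p2l2.n ∧ 0 < p2l2.K ∧ p2l2.Pt 0 < 24 ∧ p2l2.Q (p2l2.Pt 0) = 0 := by decide +kernel
theorem p2l3_e_0 : allZ (dent p2l3 (wdsP p2P p2e) (nat_lit 24)) (nat_lit 0) (nat_lit 1) = true := by decide +kernel
theorem p2l3_h : 0 < p2l3.n ∧ 0 < p2l3.K ∧ p2l3.Pt 0 < 24 ∧ p2l3.Q (p2l3.Pt 0) = 0 := by decide +kernel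
theorem p2_f3 : (Nat.ble p2l3.K 47 && Nat.ble (topK []) p2l3.K && fixLetters (wdsP p2P p2e) (topK []) (p2l3.Pt 0)) = true := by decide +kernel
theorem p2_f2 : (Nat.ble p2l2.K 47 && Nat.ble (topK [p2l3]) p2l2.K && fixLetters (wdsP p2P p2e) (topK [p2l3]) (p2l2.Pt 0)) = true := by decide +kernel
theorem p2_f1 : (Nat.ble p2l1.K 47 && Nat.ble (topK [p2l2, p2l3]) p2l1.K && fixLetters (wdsP p2P p2e) (topK [p2l2, p2l3]) (p2l1.Pt 0)) = true := by decide +kernel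
theorem p2_f0 : (Nat.ble p2l0.K 47 && Nat.ble (topK [p2l1, p2l2, p2l3]) p2l0.K && fixLetters (wdsP p2P p2e) (topK [p2l1, p2l2, p2l3]) (p2l0.Pt 0)) = true := by decide +kernel
theorem p2_c : chainCard [p2l0, p2l1, p2l2, p2l3] = 2 ^ 10 ∧ ¬ 2 ^ (10 + 1) ∣ 244823040 := by decide +kernel
theorem cov2r_lt : allL (ltAll 11) cov2r_W = true := by decide +kernel
theorem cov2_c0 : (Nat.ble 10 10 && Nat.beq (ltAll 10 []) 0 && Nat.beq (cov2T0.chk H15.MM24.P p2P cov2r_P p2E 11 10 2 2 2 p2B 10 [] 0) 0) = true := by decide +kernel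
theorem t0_lt : allL (ltAll 11) t0_W = true := by decide +kernel
theorem b0h_lt : allL (ltAll 11) b0h_W = true := by decide +kernel
theorem b0l0_e_0 : allZ (dent b0l0 b0h_P (nat_lit 24)) (nat_lit 0) (nat_lit 23) = true := by decide +kernel
theorem b0l0_h : 0 < b0l0.n ∧ 0 < b0l0.K ∧ b0l0.Pt 0 < 24 ∧ b0l0.Q (b0l0.Pt 0) = 0 := by decide +kernel
theorem b0l1_e_0 : allZ (dent b0l1 b0h_P (nat_lit 24)) (nat_lit 0) (nat_lit 22) = true := by decide +kernel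
theorem b0l1_h : 0 < b0l1.n ∧ 0 < b0l1.K ∧ b0l1.Pt 0 < 24 ∧ b0l1.Q (b0l1.Pt 0) = 0 := by decide +kernel
theorem b0l2_e_0 : allZ (dent b0l2 b0h_P (nat_lit 24)) (nat_lit 0) (nat_lit 21) = true := by decide +kernel
theorem b0l2_h : 0 < b0l2.n ∧ 0 < b0l2.K ∧ b0l2.Pt 0 < 24 ∧ b0l2.Q (b0l2.Pt 0) = 0 := by decide +kernel
theorem b0l3_e_0 : allZ (dent b0l3 b0h_P (nat_lit 24)) (nat_lit 0) (nat_lit 20) = true := by decide +kernel
theorem b0l3_h : 0 < b0l3.n ∧ 0 < b0l3.K ∧ b0l3.Pt 0 < 24 ∧ b0l3.Q (b0l3.Pt 0) = 0 := by decide +kernel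
theorem b0l4_e_0 : allZ (dent b0l4 b0h_P (nat_lit 24)) (nat_lit 0) (nat_lit 19) = true := by decide +kernel
theorem b0l4_h : 0 < b0l4.n ∧ 0 < b0l4.K ∧ b0l4.Pt 0 < 24 ∧ b0l4.Q (b0l4.Pt 0) = 0 := by decide +kernel
theorem b0l5_e_0 : allZ (dent b0l5 b0h_P (nat_lit 24)) (nat_lit 0) (nat_lit 2) = true := by decide +kernel
theorem b0l5_h : 0 < b0l5.n ∧ 0 < b0l5.K ∧ b0l5.Pt 0 < 24 ∧ b0l5.Q (b0l5.Pt 0) = 0 := by decide +kernel
theorem b0l6_e_0 : allZ (dent b0l6 b0h_P (nat_lit 24)) (nat_lit 0) (nat_lit 15) = true := by decide +kernel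
theorem b0l6_h : 0 < b0l6.n ∧ 0 < b0l6.K ∧ b0l6.Pt 0 < 24 ∧ b0l6.Q (b0l6.Pt 0) = 0 := by decide +kernel
theorem b0_f6 : (Nat.ble b0l6.K 28 && Nat.ble (topK []) b0l6.K && fixLetters b0h_P (topK []) (b0l6.Pt 0)) = true := by decide +kernel
theorem b0_f5 : (Nat.ble b0l5.K 28 && Nat.ble (topK [b0l6]) b0l5.K && fixLetters b0h_P (topK [b0l6]) (b0l5.Pt 0)) = true := by decide +kernel
theorem b0_f4 : (Nat.ble b0l4.K 28 && Nat.ble (topK [b0l5, b0l6]) b0l4.K && fixLetters b0h_P (topK [b0l5, b0l6]) (b0l4.Pt 0)) = true := by decide +kernel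
theorem b0_f3 : (Nat.ble b0l3.K 28 && Nat.ble (topK [b0l4, b0l5, b0l6]) b0l3.K && fixLetters b0h_P (topK [b0l4, b0l5, b0l6]) (b0l3.Pt 0)) = true := by decide +kernel
theorem b0_f2 : (Nat.ble b0l2.K 28 && Nat.ble (topK [b0l3, b0l4, b0l5, b0l6]) b0l2.K && fixLetters b0h_P (topK [b0l3, b0l4, b0l5, b0l6]) (b0l2.Pt 0)) = true := by decide +kernel
theorem b0_f1 : (Nat.ble b0l1.K 28 && Nat.ble (topK [b0l2, b0l3, b0l4, b0l5, b0l6]) b0l1.K && fixLetters b0h_P (topK [b0l2, b0l3, b0l4, b0l5, b0l6]) (b0l1.Pt 0)) = true := by decide +kernel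
theorem b0_f0 : (Nat.ble b0l0.K 28 && Nat.ble (topK [b0l1, b0l2, b0l3, b0l4, b0l5, b0l6]) b0l0.K && fixLetters b0h_P (topK [b0l1, b0l2, b0l3, b0l4, b0l5, b0l6]) (b0l0.Pt 0)) = true := by decide +kernel
theorem b0_c : chainCard [b0l0, b0l1, b0l2, b0l3, b0l4, b0l5, b0l6] = 244823040 := by decide +kernel
theorem d0e_lt : allL (ltAll 11) d0e_W = true := by decide +kernel
theorem d0c6_e_0 : allZ (dent d0c6 d0e_P (nat_lit 24)) (nat_lit 0) (nat_lit 7) = true := by decide +kernel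
theorem d0c6_h : 0 < d0c6.n ∧ 0 < d0c6.K ∧ d0c6.Pt 0 < 24 ∧ d0c6.Q (d0c6.Pt 0) = 0 := by decide +kernel
theorem b0n0_0 : (Nat.ble b0l6.K 28 && Nat.beq (ltAll 24 [b0l5.Pt 0, b0l4.Pt 0, b0l3.Pt 0, b0l2.Pt 0, b0l1.Pt 0, b0l0.Pt 0]) 0 && kChk d0e_P t0_P b0n0.Kn 1 H15.MM24.B [b0l5.Pt 0, b0l4.Pt 0, b0l3.Pt 0, b0l2.Pt 0, b0l1.Pt 0, b0l0.Pt 0] && allL (ltAll 1) b0n0.pre && planOK b0h_P t0_P 1 (b0l6.Pt 0) b0n0.plan [b0l6]) = true := by decide +kernel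
theorem b0n0_1_0 : allZ (b0n0.ent H15.MM24.P b0h_P t0_P t0_P d0e_P (nat_lit 11) (nat_lit 1) H15.MM24.B b0l6 [] (memO d0c6)) (nat_lit 0) (nat_lit 16) = true := by decide +kernel
theorem d0_f6 : (Nat.ble d0c6.K 11 && Nat.ble (topK []) d0c6.K && Nat.beq (d0c6.Pt 0) (b0l6.Pt 0) && Nat.beq (ltAll 24 [b0l5.Pt 0, b0l4.Pt 0, b0l3.Pt 0, b0l2.Pt 0, b0l1.Pt 0, b0l0.Pt 0]) 0 && kChk d0e_P t0_P d0c6.K 1 H15.MM24.B [b0l5.Pt 0, b0l4.Pt 0, b0l3.Pt 0, b0l2.Pt 0, b0l1.Pt 0, b0l0.Pt 0]) = true := by decide +kernel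
theorem d0_f5 : (Nat.ble b0l5.K 28 && Nat.blt (nat_lit 3) 24 && fixLetters b0h_P b0l5.K (nat_lit 3) && Nat.beq (ltAll 1 [nat_lit 0]) 0 && Nat.beq (apW t0_P [nat_lit 0] (nat_lit 3)) (b0l5.Pt 0)) = true := by decide +kernel
theorem d0c4_e_0 : allZ (dent d0c4 d0e_P (nat_lit 24)) (nat_lit 0) (nat_lit 11) = true := by decide +kernel
theorem d0c4_h : 0 < d0c4.n ∧ 0 < d0c4.K ∧ d0c4.Pt 0 < 24 ∧ d0c4.Q (d0c4.Pt 0) = 0 := by decide +kernel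
theorem b0n1_0 : (Nat.ble b0l4.K 28 && Nat.beq (ltAll 24 [b0l3.Pt 0, b0l2.Pt 0, b0l1.Pt 0, b0l0.Pt 0]) 0 && kChk d0e_P t0_P b0n1.Kn 1 H15.MM24.B [b0l3.Pt 0, b0l2.Pt 0, b0l1.Pt 0, b0l0.Pt 0] && allL (ltAll 1) b0n1.pre && planOK b0h_P t0_P 1 (b0l4.Pt 0) b0n1.plan [b0l4, b0l5, b0l6]) = true := by decide +kernel
theorem b0n1_1_0 : allZ (b0n1.ent H15.MM24.P b0h_P t0_P t0_P d0e_P (nat_lit 11) (nat_lit 1) H15.MM24.B b0l4 [b0l5, b0l6] (memO d0c4)) (nat_lit 0) (nat_lit 20) = true := by decide +kernel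
theorem d0_f4 : (Nat.ble d0c4.K 11 && Nat.ble (topK [d0c6]) d0c4.K && Nat.beq (d0c4.Pt 0) (b0l4.Pt 0) && Nat.beq (ltAll 24 [b0l3.Pt 0, b0l2.Pt 0, b0l1.Pt 0, b0l0.Pt 0]) 0 && kChk d0e_P t0_P d0c4.K 1 H15.MM24.B [b0l3.Pt 0, b0l2.Pt 0, b0l1.Pt 0, b0l0.Pt 0]) = true := by decide +kernel
theorem d0_f3 : (Nat.ble b0l3.K 28 && Nat.blt (nat_lit 2) 24 && fixLetters b0h_P b0l3.K (nat_lit 2) && Nat.beq (ltAll 1 [nat_lit 0]) 0 && Nat.beq (apW t0_P [nat_lit 0] (nat_lit 2)) (b0l3.Pt 0)) = true := by decide +kernel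
theorem d0c2_e_0 : allZ (dent d0c2 d0e_P (nat_lit 24)) (nat_lit 0) (nat_lit 13) = true := by decide +kernel
theorem d0c2_h : 0 < d0c2.n ∧ 0 < d0c2.K ∧ d0c2.Pt 0 < 24 ∧ d0c2.Q (d0c2.Pt 0) = 0 := by decide +kernel
theorem b0n2_0 : (Nat.ble b0l2.K 28 && Nat.beq (ltAll 24 [b0l1.Pt 0, b0l0.Pt 0]) 0 && kChk d0e_P t0_P b0n2.Kn 1 H15.MM24.B [b0l1.Pt 0, b0l0.Pt 0] && allL (ltAll 1) b0n2.pre && planOK b0h_P t0_P 1 (b0l2.Pt 0) b0n2.plan [b0l2, b0l3, b0l4, b0l5, b0l6]) = true := by decide +kernel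
theorem b0n2_1_0 : allZ (b0n2.ent H15.MM24.P b0h_P t0_P t0_P d0e_P (nat_lit 11) (nat_lit 1) H15.MM24.B b0l2 [b0l3, b0l4, b0l5, b0l6] (memO d0c2)) (nat_lit 0) (nat_lit 22) = true := by decide +kernel
theorem d0_f2 : (Nat.ble d0c2.K 11 && Nat.ble (topK [d0c4, d0c6]) d0c2.K && Nat.beq (d0c2.Pt 0) (b0l2.Pt 0) && Nat.beq (ltAll 24 [b0l1.Pt 0, b0l0.Pt 0]) 0 && kChk d0e_P t0_P d0c2.K 1 H15.MM24.B [b0l1.Pt 0, b0l0.Pt 0]) = true := by decide +kernel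
theorem d0_f1 : (Nat.ble b0l1.K 28 && Nat.blt (nat_lit 0) 24 && fixLetters b0h_P b0l1.K (nat_lit 0) && Nat.beq (ltAll 1 [nat_lit 0]) 0 && Nat.beq (apW t0_P [nat_lit 0] (nat_lit 0)) (b0l1.Pt 0)) = true := by decide +kernel
theorem d0c0_e_0 : allZ (dent d0c0 d0e_P (nat_lit 24)) (nat_lit 0) (nat_lit 15) = true := by decide +kernel
theorem d0c0_h : 0 < d0c0.n ∧ 0 < d0c0.K ∧ d0c0.Pt 0 < 24 ∧ d0c0.Q (d0c0.Pt 0) = 0 := by decide +kernel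
theorem b0n3_0 : (Nat.ble b0l0.K 28 && Nat.beq (ltAll 24 []) 0 && kChk d0e_P t0_P b0n3.Kn 1 H15.MM24.B [] && allL (ltAll 1) b0n3.pre && planOK b0h_P t0_P 1 (b0l0.Pt 0) b0n3.plan [b0l0, b0l1, b0l2, b0l3, b0l4, b0l5, b0l6]) = true := by decide +kernel
theorem b0n3_1_0 : allZ (b0n3.ent H15.MM24.P b0h_P t0_P t0_P d0e_P (nat_lit 11) (nat_lit 1) H15.MM24.B b0l0 [b0l1, b0l2, b0l3, b0l4, b0l5, b0l6] (memO d0c0)) (nat_lit 0) (nat_lit 24) = true := by decide +kernel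
theorem d0_f0 : (Nat.ble d0c0.K 11 && Nat.ble (topK [d0c2, d0c4, d0c6]) d0c0.K && Nat.beq (d0c0.Pt 0) (b0l0.Pt 0) && Nat.beq (ltAll 24 []) 0 && kChk d0e_P t0_P d0c0.K 1 H15.MM24.B []) = true := by decide +kernel
theorem d0_c : chainCard [d0c0, d0c2, d0c4, d0c6] = 21504 ∧ topK [d0c0, d0c2, d0c4, d0c6] = 11 := by decide +kernel
theorem q0_lt : allL (ltAll 11) q0_W = true := by decide +kernel
theorem u0h_lt : allL (ltAll 11) u0h_W = true := by decide +kernel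
theorem u0l0_e_0 : allZ (dent u0l0 u0h_P (nat_lit 24)) (nat_lit 0) (nat_lit 23) = true := by decide +kernel
theorem u0l0_h : 0 < u0l0.n ∧ 0 < u0l0.K ∧ u0l0.Pt 0 < 24 ∧ u0l0.Q (u0l0.Pt 0) = 0 := by decide +kernel
theorem u0l1_e_0 : allZ (dent u0l1 u0h_P (nat_lit 24)) (nat_lit 0) (nat_lit 22) = true := by decide +kernel
theorem u0l1_h : 0 < u0l1.n ∧ 0 < u0l1.K ∧ u0l1.Pt 0 < 24 ∧ u0l1.Q (u0l1.Pt 0) = 0 := by decide +kernel
theorem u0l2_e_0 : allZ (dent u0l2 u0h_P (nat_lit 24)) (nat_lit 0) (nat_lit 21) = true := by decide +kernel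
theorem u0l2_h : 0 < u0l2.n ∧ 0 < u0l2.K ∧ u0l2.Pt 0 < 24 ∧ u0l2.Q (u0l2.Pt 0) = 0 := by decide +kernel
theorem u0l3_e_0 : allZ (dent u0l3 u0h_P (nat_lit 24)) (nat_lit 0) (nat_lit 20) = true := by decide +kernel
theorem u0l3_h : 0 < u0l3.n ∧ 0 < u0l3.K ∧ u0l3.Pt 0 < 24 ∧ u0l3.Q (u0l3.Pt 0) = 0 := by decide +kernel
theorem u0l4_e_0 : allZ (dent u0l4 u0h_P (nat_lit 24)) (nat_lit 0) (nat_lit 19) = true := by decide +kernel
theorem u0l4_h : 0 < u0l4.n ∧ 0 < u0l4.K ∧ u0l4.Pt 0 < 24 ∧ u0l4.Q (u0l4.Pt 0) = 0 := by decide +kernel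
theorem u0l5_e_0 : allZ (dent u0l5 u0h_P (nat_lit 24)) (nat_lit 0) (nat_lit 2) = true := by decide +kernel
theorem u0l5_h : 0 < u0l5.n ∧ 0 < u0l5.K ∧ u0l5.Pt 0 < 24 ∧ u0l5.Q (u0l5.Pt 0) = 0 := by decide +kernel
theorem u0l6_e_0 : allZ (dent u0l6 u0h_P (nat_lit 24)) (nat_lit 0) (nat_lit 15) = true := by decide +kernel
theorem u0l6_h : 0 < u0l6.n ∧ 0 < u0l6.K ∧ u0l6.Pt 0 < 24 ∧ u0l6.Q (u0l6.Pt 0) = 0 := by decide +kernel
theorem u0_f6 : (Nat.ble u0l6.K 21 && Nat.ble (topK []) u0l6.K && fixLetters u0h_P (topK []) (u0l6.Pt 0)) = true := by decide +kernel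
theorem u0_f5 : (Nat.ble u0l5.K 21 && Nat.ble (topK [u0l6]) u0l5.K && fixLetters u0h_P (topK [u0l6]) (u0l5.Pt 0)) = true := by decide +kernel
theorem u0_f4 : (Nat.ble u0l4.K 21 && Nat.ble (topK [u0l5, u0l6]) u0l4.K && fixLetters u0h_P (topK [u0l5, u0l6]) (u0l4.Pt 0)) = true := by decide +kernel
theorem u0_f3 : (Nat.ble u0l3.K 21 && Nat.ble (topK [u0l4, u0l5, u0l6]) u0l3.K && fixLetters u0h_P (topK [u0l4, u0l5, u0l6]) (u0l3.Pt 0)) = true := by decide +kernel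
theorem u0_f2 : (Nat.ble u0l2.K 21 && Nat.ble (topK [u0l3, u0l4, u0l5, u0l6]) u0l2.K && fixLetters u0h_P (topK [u0l3, u0l4, u0l5, u0l6]) (u0l2.Pt 0)) = true := by decide +kernel
theorem u0_f1 : (Nat.ble u0l1.K 21 && Nat.ble (topK [u0l2, u0l3, u0l4, u0l5, u0l6]) u0l1.K && fixLetters u0h_P (topK [u0l2, u0l3, u0l4, u0l5, u0l6]) (u0l1.Pt 0)) = true := by decide +kernel
theorem u0_f0 : (Nat.ble u0l0.K 21 && Nat.ble (topK [u0l1, u0l2, u0l3, u0l4, u0l5, u0l6]) u0l0.K && fixLetters u0h_P (topK [u0l1, u0l2, u0l3, u0l4, u0l5, u0l6]) (u0l0.Pt 0)) = true := by decide +kernel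
theorem u0_c : chainCard [u0l0, u0l1, u0l2, u0l3, u0l4, u0l5, u0l6] = 244823040 := by decide +kernel
theorem f0e_lt : allL (ltAll 11) f0e_W = true := by decide +kernel
theorem f0c6_e_0 : allZ (dent f0c6 f0e_P (nat_lit 24)) (nat_lit 0) (nat_lit 1) = true := by decide +kernel
theorem f0c6_h : 0 < f0c6.n ∧ 0 < f0c6.K ∧ f0c6.Pt 0 < 24 ∧ f0c6.Q (f0c6.Pt 0) = 0 := by decide +kernel
theorem u0n0_0 : (Nat.ble u0l6.K 21 && Nat.beq (ltAll 24 [u0l5.Pt 0, u0l4.Pt 0, u0l3.Pt 0, u0l2.Pt 0, u0l1.Pt 0, u0l0.Pt 0]) 0 && kChk f0e_P q0_P u0n0.Kn 4 H15.MM24.B [u0l5.Pt 0, u0l4.Pt 0, u0l3.Pt 0, u0l2.Pt 0, u0l1.Pt 0, u0l0.Pt 0] && allL (ltAll 4) u0n0.pre && planOK u0h_P q0_P 4 (u0l6.Pt 0) u0n0.plan [u0l6]) = true := by decide +kernel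
theorem u0n0_1_0 : allZ (u0n0.ent H15.MM24.P u0h_P q0_P q0_P f0e_P (nat_lit 11) (nat_lit 4) H15.MM24.B u0l6 [] (memO f0c6)) (nat_lit 0) (nat_lit 16) = true := by decide +kernel
theorem f0_f6 : (Nat.ble f0c6.K 10 && Nat.ble (topK []) f0c6.K && Nat.beq (f0c6.Pt 0) (u0l6.Pt 0) && Nat.beq (ltAll 24 [u0l5.Pt 0, u0l4.Pt 0, u0l3.Pt 0, u0l2.Pt 0, u0l1.Pt 0, u0l0.Pt 0]) 0 && kChk f0e_P q0_P f0c6.K 4 H15.MM24.B [u0l5.Pt 0, u0l4.Pt 0, u0l3.Pt 0, u0l2.Pt 0, u0l1.Pt 0, u0l0.Pt 0]) = true := by decide +kernel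
theorem f0_f5 : (Nat.ble u0l5.K 21 && Nat.blt (nat_lit 1) 24 && fixLetters u0h_P u0l5.K (nat_lit 1) && Nat.beq (ltAll 4 [nat_lit 2, nat_lit 3]) 0 && Nat.beq (apW q0_P [nat_lit 2, nat_lit 3] (nat_lit 1)) (u0l5.Pt 0)) = true := by decide +kernel
theorem f0_f4 : (Nat.ble u0l4.K 21 && Nat.blt (nat_lit 1) 24 && fixLetters u0h_P u0l4.K (nat_lit 1) && Nat.beq (ltAll 4 [nat_lit 1, nat_lit 2]) 0 && Nat.beq (apW q0_P [nat_lit 1, nat_lit 2] (nat_lit 1)) (u0l4.Pt 0)) = true := by decide +kernel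
theorem f0_f3 : (Nat.ble u0l3.K 21 && Nat.blt (nat_lit 1) 24 && fixLetters u0h_P u0l3.K (nat_lit 1) && Nat.beq (ltAll 4 [nat_lit 2]) 0 && Nat.beq (apW q0_P [nat_lit 2] (nat_lit 1)) (u0l3.Pt 0)) = true := by decide +kernel
theorem f0_f2 : (Nat.ble u0l2.K 21 && Nat.blt (nat_lit 1) 24 && fixLetters u0h_P u0l2.K (nat_lit 1) && Nat.beq (ltAll 4 [nat_lit 1]) 0 && Nat.beq (apW q0_P [nat_lit 1] (nat_lit 1)) (u0l2.Pt 0)) = true := by decide +kernel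
theorem f0_f1 : (Nat.ble u0l1.K 21 && Nat.blt (nat_lit 1) 24 && fixLetters u0h_P u0l1.K (nat_lit 1) && Nat.beq (ltAll 4 [nat_lit 3]) 0 && Nat.beq (apW q0_P [nat_lit 3] (nat_lit 1)) (u0l1.Pt 0)) = true := by decide +kernel
theorem f0c0_e_0 : allZ (dent f0c0 f0e_P (nat_lit 24)) (nat_lit 0) (nat_lit 7) = true := by decide +kernel
theorem f0c0_h : 0 < f0c0.n ∧ 0 < f0c0.K ∧ f0c0.Pt 0 < 24 ∧ f0c0.Q (f0c0.Pt 0) = 0 := by decide +kernel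
theorem u0n1_0 : (Nat.ble u0l0.K 21 && Nat.beq (ltAll 24 []) 0 && kChk f0e_P q0_P u0n1.Kn 4 H15.MM24.B [] && allL (ltAll 4) u0n1.pre && planOK u0h_P q0_P 4 (u0l0.Pt 0) u0n1.plan [u0l0, u0l1, u0l2, u0l3, u0l4, u0l5, u0l6]) = true := by decide +kernel
theorem u0n1_1_0 : allZ (u0n1.ent H15.MM24.P u0h_P q0_P q0_P f0e_P (nat_lit 11) (nat_lit 4) H15.MM24.B u0l0 [u0l1, u0l2, u0l3, u0l4, u0l5, u0l6] (memO f0c0)) (nat_lit 0) (nat_lit 24) = true := by decide +kernel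
theorem f0_f0 : (Nat.ble f0c0.K 10 && Nat.ble (topK [f0c6]) f0c0.K && Nat.beq (f0c0.Pt 0) (u0l0.Pt 0) && Nat.beq (ltAll 24 []) 0 && kChk f0e_P q0_P f0c0.K 4 H15.MM24.B []) = true := by decide +kernel
theorem f0_c : chainCard [f0c0, f0c6] = 16 ∧ topK [f0c0, f0c6] = 10 := by decide +kernel
theorem n0_c : allZ2 (H7.One.nrmEnt d0e_P q0_P 4 H15.MM24.B n0T) 11 4 = true := by decide +kernel
theorem n0_k : kChk q0_P q0_P 4 4 H15.MM24.B [] = true := by decide +kernel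
theorem n0_e : nth [] q0_W 0 = nth [] t0_W 0 ∧ nth [] t0_W 0 = nth [] cov2r_W 0 := by decide +kernel
theorem t1_lt : allL (ltAll 11) t1_W = true := by decide +kernel
theorem b1h_lt : allL (ltAll 11) b1h_W = true := by decide +kernel
theorem b1l0_e_0 : allZ (dent b1l0 b1h_P (nat_lit 24)) (nat_lit 0) (nat_lit 23) = true := by decide +kernel
theorem b1l0_h : 0 < b1l0.n ∧ 0 < b1l0.K ∧ b1l0.Pt 0 < 24 ∧ b1l0.Q (b1l0.Pt 0) = 0 := by decide +kernel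
theorem b1l1_e_0 : allZ (dent b1l1 b1h_P (nat_lit 24)) (nat_lit 0) (nat_lit 22) = true := by decide +kernel
theorem b1l1_h : 0 < b1l1.n ∧ 0 < b1l1.K ∧ b1l1.Pt 0 < 24 ∧ b1l1.Q (b1l1.Pt 0) = 0 := by decide +kernel
theorem b1l2_e_0 : allZ (dent b1l2 b1h_P (nat_lit 24)) (nat_lit 0) (nat_lit 21) = true := by decide +kernel
theorem b1l2_h : 0 < b1l2.n ∧ 0 < b1l2.K ∧ b1l2.Pt 0 < 24 ∧ b1l2.Q (b1l2.Pt 0) = 0 := by decide +kernel
theorem b1l3_e_0 : allZ (dent b1l3 b1h_P (nat_lit 24)) (nat_lit 0) (nat_lit 20) = true := by decide +kernel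
theorem b1l3_h : 0 < b1l3.n ∧ 0 < b1l3.K ∧ b1l3.Pt 0 < 24 ∧ b1l3.Q (b1l3.Pt 0) = 0 := by decide +kernel
theorem b1l4_e_0 : allZ (dent b1l4 b1h_P (nat_lit 24)) (nat_lit 0) (nat_lit 19) = true := by decide +kernel
theorem b1l4_h : 0 < b1l4.n ∧ 0 < b1l4.K ∧ b1l4.Pt 0 < 24 ∧ b1l4.Q (b1l4.Pt 0) = 0 := by decide +kernel
theorem b1l5_e_0 : allZ (dent b1l5 b1h_P (nat_lit 24)) (nat_lit 0) (nat_lit 15) = true := by decide +kernel
theorem b1l5_h : 0 < b1l5.n ∧ 0 < b1l5.K ∧ b1l5.Pt 0 < 24 ∧ b1l5.Q (b1l5.Pt 0) = 0 := by decide +kernel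
theorem b1l6_e_0 : allZ (dent b1l6 b1h_P (nat_lit 24)) (nat_lit 0) (nat_lit 2) = true := by decide +kernel
theorem b1l6_h : 0 < b1l6.n ∧ 0 < b1l6.K ∧ b1l6.Pt 0 < 24 ∧ b1l6.Q (b1l6.Pt 0) = 0 := by decide +kernel
theorem b1_f6 : (Nat.ble b1l6.K 15 && Nat.ble (topK []) b1l6.K && fixLetters b1h_P (topK []) (b1l6.Pt 0)) = true := by decide +kernel
theorem b1_f5 : (Nat.ble b1l5.K 15 && Nat.ble (topK [b1l6]) b1l5.K && fixLetters b1h_P (topK [b1l6]) (b1l5.Pt 0)) = true := by decide +kernel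
theorem b1_f4 : (Nat.ble b1l4.K 15 && Nat.ble (topK [b1l5, b1l6]) b1l4.K && fixLetters b1h_P (topK [b1l5, b1l6]) (b1l4.Pt 0)) = true := by decide +kernel
theorem b1_f3 : (Nat.ble b1l3.K 15 && Nat.ble (topK [b1l4, b1l5, b1l6]) b1l3.K && fixLetters b1h_P (topK [b1l4, b1l5, b1l6]) (b1l3.Pt 0)) = true := by decide +kernel
theorem b1_f2 : (Nat.ble b1l2.K 15 && Nat.ble (topK [b1l3, b1l4, b1l5, b1l6]) b1l2.K && fixLetters b1h_P (topK [b1l3, b1l4, b1l5, b1l6]) (b1l2.Pt 0)) = true := by decide +kernel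
theorem b1_f1 : (Nat.ble b1l1.K 15 && Nat.ble (topK [b1l2, b1l3, b1l4, b1l5, b1l6]) b1l1.K && fixLetters b1h_P (topK [b1l2, b1l3, b1l4, b1l5, b1l6]) (b1l1.Pt 0)) = true := by decide +kernel
theorem b1_f0 : (Nat.ble b1l0.K 15 && Nat.ble (topK [b1l1, b1l2, b1l3, b1l4, b1l5, b1l6]) b1l0.K && fixLetters b1h_P (topK [b1l1, b1l2, b1l3, b1l4, b1l5, b1l6]) (b1l0.Pt 0)) = true := by decide +kernel
theorem b1_c : chainCard [b1l0, b1l1, b1l2, b1l3, b1l4, b1l5, b1l6] = 244823040 := by decide +kernel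
theorem d1e_lt : allL (ltAll 11) d1e_W = true := by decide +kernel
theorem b1n0_0 : (Nat.ble b1l6.K 15 && Nat.beq (ltAll 24 [b1l5.Pt 0, b1l4.Pt 0, b1l3.Pt 0, b1l2.Pt 0, b1l1.Pt 0, b1l0.Pt 0]) 0 && kChk d1e_P t1_P b1n0.Kn 1 H15.MM24.B [b1l5.Pt 0, b1l4.Pt 0, b1l3.Pt 0, b1l2.Pt 0, b1l1.Pt 0, b1l0.Pt 0] && allL (ltAll 1) b1n0.pre && planOK b1h_P t1_P 1 (b1l6.Pt 0) b1n0.plan [b1l6]) = true := by decide +kernel
theorem b1n0_1_0 : allZ (b1n0.ent H15.MM24.P b1h_P t1_P t1_P d1e_P (nat_lit 11) (nat_lit 1) H15.MM24.B b1l6 [] (fun w => Nat.xor w (b1l6.Pt (nat_lit 0)))) (nat_lit 0) (nat_lit 3) = true := by decide +kernel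
theorem d1_f5 : (Nat.ble b1l5.K 15 && Nat.blt (nat_lit 2) 24 && fixLetters b1h_P b1l5.K (nat_lit 2) && Nat.beq (ltAll 1 [nat_lit 0]) 0 && Nat.beq (apW t1_P [nat_lit 0] (nat_lit 2)) (b1l5.Pt 0)) = true := by decide +kernel
theorem d1c4_e_0 : allZ (dent d1c4 d1e_P (nat_lit 24)) (nat_lit 0) (nat_lit 15) = true := by decide +kernel
theorem d1c4_h : 0 < d1c4.n ∧ 0 < d1c4.K ∧ d1c4.Pt 0 < 24 ∧ d1c4.Q (d1c4.Pt 0) = 0 := by decide +kernel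
theorem b1n1_0 : (Nat.ble b1l4.K 15 && Nat.beq (ltAll 24 [b1l3.Pt 0, b1l2.Pt 0, b1l1.Pt 0, b1l0.Pt 0]) 0 && kChk d1e_P t1_P b1n1.Kn 1 H15.MM24.B [b1l3.Pt 0, b1l2.Pt 0, b1l1.Pt 0, b1l0.Pt 0] && allL (ltAll 1) b1n1.pre && planOK b1h_P t1_P 1 (b1l4.Pt 0) b1n1.plan [b1l4, b1l5, b1l6]) = true := by decide +kernel
theorem b1n1_1_0 : allZ (b1n1.ent H15.MM24.P b1h_P t1_P t1_P d1e_P (nat_lit 11) (nat_lit 1) H15.MM24.B b1l4 [b1l5, b1l6] (memO d1c4)) (nat_lit 0) (nat_lit 20) = true := by decide +kernel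
theorem d1_f4 : (Nat.ble d1c4.K 5 && Nat.ble (topK []) d1c4.K && Nat.beq (d1c4.Pt 0) (b1l4.Pt 0) && Nat.beq (ltAll 24 [b1l3.Pt 0, b1l2.Pt 0, b1l1.Pt 0, b1l0.Pt 0]) 0 && kChk d1e_P t1_P d1c4.K 1 H15.MM24.B [b1l3.Pt 0, b1l2.Pt 0, b1l1.Pt 0, b1l0.Pt 0]) = true := by decide +kernel
theorem d1_f3 : (Nat.ble b1l3.K 15 && Nat.blt (nat_lit 1) 24 && fixLetters b1h_P b1l3.K (nat_lit 1) && Nat.beq (ltAll 1 [nat_lit 0]) 0 && Nat.beq (apW t1_P [nat_lit 0] (nat_lit 1)) (b1l3.Pt 0)) = true := by decide +kernel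
theorem d1c2_e_0 : allZ (dent d1c2 d1e_P (nat_lit 24)) (nat_lit 0) (nat_lit 19) = true := by decide +kernel
theorem d1c2_h : 0 < d1c2.n ∧ 0 < d1c2.K ∧ d1c2.Pt 0 < 24 ∧ d1c2.Q (d1c2.Pt 0) = 0 := by decide +kernel
theorem b1n2y6_lt : allL (ltAll 11) b1n2y6_W = true := by decide +kernel
theorem b1r3k_lt : allL (ltAll 11) b1r3k_W = true := by decide +kernel
theorem b1n3_0 : (Nat.ble b1l4.K 15 && Nat.beq (ltAll 24 [b1l3.Pt 0, b1l2.Pt 0, b1l1.Pt 0, b1l0.Pt 0]) 0 && kChk b1r3k_P b1n2y6_P b1n3.Kn 1 H15.MM24.B [b1l3.Pt 0, b1l2.Pt 0, b1l1.Pt 0, b1l0.Pt 0] && allL (ltAll 1) b1n3.pre && planOK b1h_P t1_P 1 (b1l4.Pt 0) b1n3.plan [b1l4, b1l5, b1l6]) = true := by decide +kernel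
theorem b1n3_1_0 : allZ (b1n3.ent H15.MM24.P b1h_P t1_P b1n2y6_P b1r3k_P (nat_lit 11) (nat_lit 1) H15.MM24.B b1l4 [b1l5, b1l6] (fun _ => nat_lit 1)) (nat_lit 0) (nat_lit 20) = true := by decide +kernel
theorem b1n2_0 : (Nat.ble b1l2.K 15 && Nat.beq (ltAll 24 [b1l1.Pt 0, b1l0.Pt 0]) 0 && kChk d1e_P t1_P b1n2.Kn 1 H15.MM24.B [b1l1.Pt 0, b1l0.Pt 0] && allL (ltAll 1) b1n2.pre && planOK b1h_P t1_P 1 (b1l2.Pt 0) b1n2.plan [b1l2, b1l3, b1l4, b1l5, b1l6]) = true := by decide +kernel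
theorem b1n2_1_0 : allZ (b1n2.ent H15.MM24.P b1h_P t1_P t1_P d1e_P (nat_lit 11) (nat_lit 1) H15.MM24.B b1l2 [b1l3, b1l4, b1l5, b1l6] (memO d1c2)) (nat_lit 0) (nat_lit 22) = true := by decide +kernel
theorem d1_f2 : (Nat.ble d1c2.K 5 && Nat.ble (topK [d1c4]) d1c2.K && Nat.beq (d1c2.Pt 0) (b1l2.Pt 0) && Nat.beq (ltAll 24 [b1l1.Pt 0, b1l0.Pt 0]) 0 && kChk d1e_P t1_P d1c2.K 1 H15.MM24.B [b1l1.Pt 0, b1l0.Pt 0]) = true := by decide +kernel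
theorem d1_f1 : (Nat.ble b1l1.K 15 && Nat.blt (nat_lit 0) 24 && fixLetters b1h_P b1l1.K (nat_lit 0) && Nat.beq (ltAll 1 [nat_lit 0]) 0 && Nat.beq (apW t1_P [nat_lit 0] (nat_lit 0)) (b1l1.Pt 0)) = true := by decide +kernel
theorem d1c0_e_0 : allZ (dent d1c0 d1e_P (nat_lit 24)) (nat_lit 0) (nat_lit 23) = true := by decide +kernel
theorem d1c0_h : 0 < d1c0.n ∧ 0 < d1c0.K ∧ d1c0.Pt 0 < 24 ∧ d1c0.Q (d1c0.Pt 0) = 0 := by decide +kernel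
theorem b1n4_0 : (Nat.ble b1l0.K 15 && Nat.beq (ltAll 24 []) 0 && kChk d1e_P t1_P b1n4.Kn 1 H15.MM24.B [] && allL (ltAll 1) b1n4.pre && planOK b1h_P t1_P 1 (b1l0.Pt 0) b1n4.plan [b1l0, b1l1, b1l2, b1l3, b1l4, b1l5, b1l6]) = true := by decide +kernel
theorem b1n4_1_0 : allZ (b1n4.ent H15.MM24.P b1h_P t1_P t1_P d1e_P (nat_lit 11) (nat_lit 1) H15.MM24.B b1l0 [b1l1, b1l2, b1l3, b1l4, b1l5, b1l6] (memO d1c0)) (nat_lit 0) (nat_lit 24) = true := by decide +kernel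
theorem d1_f0 : (Nat.ble d1c0.K 5 && Nat.ble (topK [d1c2, d1c4]) d1c0.K && Nat.beq (d1c0.Pt 0) (b1l0.Pt 0) && Nat.beq (ltAll 24 []) 0 && kChk d1e_P t1_P d1c0.K 1 H15.MM24.B []) = true := by decide +kernel
theorem d1_c : chainCard [d1c0, d1c2, d1c4] = 7680 ∧ topK [d1c0, d1c2, d1c4] = 5 := by decide +kernel
theorem q1_lt : allL (ltAll 11) q1_W = true := by decide +kernel
theorem u1h_lt : allL (ltAll 11) u1h_W = true := by decide +kernel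
theorem u1l0_e_0 : allZ (dent u1l0 u1h_P (nat_lit 24)) (nat_lit 0) (nat_lit 23) = true := by decide +kernel
theorem u1l0_h : 0 < u1l0.n ∧ 0 < u1l0.K ∧ u1l0.Pt 0 < 24 ∧ u1l0.Q (u1l0.Pt 0) = 0 := by decide +kernel
theorem u1l1_e_0 : allZ (dent u1l1 u1h_P (nat_lit 24)) (nat_lit 0) (nat_lit 22) = true := by decide +kernel
theorem u1l1_h : 0 < u1l1.n ∧ 0 < u1l1.K ∧ u1l1.Pt 0 < 24 ∧ u1l1.Q (u1l1.Pt 0) = 0 := by decide +kernel
theorem u1l2_e_0 : allZ (dent u1l2 u1h_P (nat_lit 24)) (nat_lit 0) (nat_lit 21) = true := by decide +kernel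
theorem u1l2_h : 0 < u1l2.n ∧ 0 < u1l2.K ∧ u1l2.Pt 0 < 24 ∧ u1l2.Q (u1l2.Pt 0) = 0 := by decide +kernel
theorem u1l3_e_0 : allZ (dent u1l3 u1h_P (nat_lit 24)) (nat_lit 0) (nat_lit 20) = true := by decide +kernel
theorem u1l3_h : 0 < u1l3.n ∧ 0 < u1l3.K ∧ u1l3.Pt 0 < 24 ∧ u1l3.Q (u1l3.Pt 0) = 0 := by decide +kernel
theorem u1l4_e_0 : allZ (dent u1l4 u1h_P (nat_lit 24)) (nat_lit 0) (nat_lit 19) = true := by decide +kernel
theorem u1l4_h : 0 < u1l4.n ∧ 0 < u1l4.K ∧ u1l4.Pt 0 < 24 ∧ u1l4.Q (u1l4.Pt 0) = 0 := by decide +kernel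
theorem u1l5_e_0 : allZ (dent u1l5 u1h_P (nat_lit 24)) (nat_lit 0) (nat_lit 2) = true := by decide +kernel
theorem u1l5_h : 0 < u1l5.n ∧ 0 < u1l5.K ∧ u1l5.Pt 0 < 24 ∧ u1l5.Q (u1l5.Pt 0) = 0 := by decide +kernel
theorem u1l6_e_0 : allZ (dent u1l6 u1h_P (nat_lit 24)) (nat_lit 0) (nat_lit 15) = true := by decide +kernel
theorem u1l6_h : 0 < u1l6.n ∧ 0 < u1l6.K ∧ u1l6.Pt 0 < 24 ∧ u1l6.Q (u1l6.Pt 0) = 0 := by decide +kernel
theorem u1_f6 : (Nat.ble u1l6.K 18 && Nat.ble (topK []) u1l6.K && fixLetters u1h_P (topK []) (u1l6.Pt 0)) = true := by decide +kernel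
theorem u1_f5 : (Nat.ble u1l5.K 18 && Nat.ble (topK [u1l6]) u1l5.K && fixLetters u1h_P (topK [u1l6]) (u1l5.Pt 0)) = true := by decide +kernel
theorem u1_f4 : (Nat.ble u1l4.K 18 && Nat.ble (topK [u1l5, u1l6]) u1l4.K && fixLetters u1h_P (topK [u1l5, u1l6]) (u1l4.Pt 0)) = true := by decide +kernel
theorem u1_f3 : (Nat.ble u1l3.K 18 && Nat.ble (topK [u1l4, u1l5, u1l6]) u1l3.K && fixLetters u1h_P (topK [u1l4, u1l5, u1l6]) (u1l3.Pt 0)) = true := by decide +kernel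
theorem u1_f2 : (Nat.ble u1l2.K 18 && Nat.ble (topK [u1l3, u1l4, u1l5, u1l6]) u1l2.K && fixLetters u1h_P (topK [u1l3, u1l4, u1l5, u1l6]) (u1l2.Pt 0)) = true := by decide +kernel
theorem u1_f1 : (Nat.ble u1l1.K 18 && Nat.ble (topK [u1l2, u1l3, u1l4, u1l5, u1l6]) u1l1.K && fixLetters u1h_P (topK [u1l2, u1l3, u1l4, u1l5, u1l6]) (u1l1.Pt 0)) = true := by decide +kernel
theorem u1_f0 : (Nat.ble u1l0.K 18 && Nat.ble (topK [u1l1, u1l2, u1l3, u1l4, u1l5, u1l6]) u1l0.K && fixLetters u1h_P (topK [u1l1, u1l2, u1l3, u1l4, u1l5, u1l6]) (u1l0.Pt 0)) = true := by decide +kernel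
theorem u1_c : chainCard [u1l0, u1l1, u1l2, u1l3, u1l4, u1l5, u1l6] = 244823040 := by decide +kernel
theorem f1e_lt : allL (ltAll 11) f1e_W = true := by decide +kernel
theorem f1c6_e_0 : allZ (dent f1c6 f1e_P (nat_lit 24)) (nat_lit 0) (nat_lit 3) = true := by decide +kernel
theorem f1c6_h : 0 < f1c6.n ∧ 0 < f1c6.K ∧ f1c6.Pt 0 < 24 ∧ f1c6.Q (f1c6.Pt 0) = 0 := by decide +kernel
theorem u1n0_0 : (Nat.ble u1l6.K 18 && Nat.beq (ltAll 24 [u1l5.Pt 0, u1l4.Pt 0, u1l3.Pt 0, u1l2.Pt 0, u1l1.Pt 0, u1l0.Pt 0]) 0 && kChk f1e_P q1_P u1n0.Kn 6 H15.MM24.B [u1l5.Pt 0, u1l4.Pt 0, u1l3.Pt 0, u1l2.Pt 0, u1l1.Pt 0, u1l0.Pt 0] && allL (ltAll 6) u1n0.pre && planOK u1h_P q1_P 6 (u1l6.Pt 0) u1n0.plan [u1l6]) = true := by decide +kernel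
theorem u1n0_1_0 : allZ (u1n0.ent H15.MM24.P u1h_P q1_P q1_P f1e_P (nat_lit 11) (nat_lit 6) H15.MM24.B u1l6 [] (memO f1c6)) (nat_lit 0) (nat_lit 16) = true := by decide +kernel
theorem f1_f6 : (Nat.ble f1c6.K 7 && Nat.ble (topK []) f1c6.K && Nat.beq (f1c6.Pt 0) (u1l6.Pt 0) && Nat.beq (ltAll 24 [u1l5.Pt 0, u1l4.Pt 0, u1l3.Pt 0, u1l2.Pt 0, u1l1.Pt 0, u1l0.Pt 0]) 0 && kChk f1e_P q1_P f1c6.K 6 H15.MM24.B [u1l5.Pt 0, u1l4.Pt 0, u1l3.Pt 0, u1l2.Pt 0, u1l1.Pt 0, u1l0.Pt 0]) = true := by decide +kernel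
theorem f1_f5 : (Nat.ble u1l5.K 18 && Nat.blt (nat_lit 1) 24 && fixLetters u1h_P u1l5.K (nat_lit 1) && Nat.beq (ltAll 6 [nat_lit 1]) 0 && Nat.beq (apW q1_P [nat_lit 1] (nat_lit 1)) (u1l5.Pt 0)) = true := by decide +kernel
theorem f1c4_e_0 : allZ (dent f1c4 f1e_P (nat_lit 24)) (nat_lit 0) (nat_lit 3) = true := by decide +kernel
theorem f1c4_h : 0 < f1c4.n ∧ 0 < f1c4.K ∧ f1c4.Pt 0 < 24 ∧ f1c4.Q (f1c4.Pt 0) = 0 := by decide +kernel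
theorem u1n1_0 : (Nat.ble u1l4.K 18 && Nat.beq (ltAll 24 [u1l3.Pt 0, u1l2.Pt 0, u1l1.Pt 0, u1l0.Pt 0]) 0 && kChk f1e_P q1_P u1n1.Kn 6 H15.MM24.B [u1l3.Pt 0, u1l2.Pt 0, u1l1.Pt 0, u1l0.Pt 0] && allL (ltAll 6) u1n1.pre && planOK u1h_P q1_P 6 (u1l4.Pt 0) u1n1.plan [u1l4, u1l5, u1l6]) = true := by decide +kernel
theorem u1n1_1_0 : allZ (u1n1.ent H15.MM24.P u1h_P q1_P q1_P f1e_P (nat_lit 11) (nat_lit 6) H15.MM24.B u1l4 [u1l5, u1l6] (memO f1c4)) (nat_lit 0) (nat_lit 20) = true := by decide +kernel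
theorem f1_f4 : (Nat.ble f1c4.K 7 && Nat.ble (topK [f1c6]) f1c4.K && Nat.beq (f1c4.Pt 0) (u1l4.Pt 0) && Nat.beq (ltAll 24 [u1l3.Pt 0, u1l2.Pt 0, u1l1.Pt 0, u1l0.Pt 0]) 0 && kChk f1e_P q1_P f1c4.K 6 H15.MM24.B [u1l3.Pt 0, u1l2.Pt 0, u1l1.Pt 0, u1l0.Pt 0]) = true := by decide +kernel
theorem f1_f3 : (Nat.ble u1l3.K 18 && Nat.blt (nat_lit 0) 24 && fixLetters u1h_P u1l3.K (nat_lit 0) && Nat.beq (ltAll 6 [nat_lit 1]) 0 && Nat.beq (apW q1_P [nat_lit 1] (nat_lit 0)) (u1l3.Pt 0)) = true := by decide +kernel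
theorem f1_f2 : (Nat.ble u1l2.K 18 && Nat.blt (nat_lit 0) 24 && fixLetters u1h_P u1l2.K (nat_lit 0) && Nat.beq (ltAll 6 [nat_lit 2]) 0 && Nat.beq (apW q1_P [nat_lit 2] (nat_lit 0)) (u1l2.Pt 0)) = true := by decide +kernel
theorem f1_f1 : (Nat.ble u1l1.K 18 && Nat.blt (nat_lit 0) 24 && fixLetters u1h_P u1l1.K (nat_lit 0) && Nat.beq (ltAll 6 [nat_lit 0]) 0 && Nat.beq (apW q1_P [nat_lit 0] (nat_lit 0)) (u1l1.Pt 0)) = true := by decide +kernel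
theorem f1c0_e_0 : allZ (dent f1c0 f1e_P (nat_lit 24)) (nat_lit 0) (nat_lit 3) = true := by decide +kernel
theorem f1c0_h : 0 < f1c0.n ∧ 0 < f1c0.K ∧ f1c0.Pt 0 < 24 ∧ f1c0.Q (f1c0.Pt 0) = 0 := by decide +kernel
theorem u1n2_0 : (Nat.ble u1l0.K 18 && Nat.beq (ltAll 24 []) 0 && kChk f1e_P q1_P u1n2.Kn 6 H15.MM24.B [] && allL (ltAll 6) u1n2.pre && planOK u1h_P q1_P 6 (u1l0.Pt 0) u1n2.plan [u1l0, u1l1, u1l2, u1l3, u1l4, u1l5, u1l6]) = true := by decide +kernel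
theorem u1n2_1_0 : allZ (u1n2.ent H15.MM24.P u1h_P q1_P q1_P f1e_P (nat_lit 11) (nat_lit 6) H15.MM24.B u1l0 [u1l1, u1l2, u1l3, u1l4, u1l5, u1l6] (memO f1c0)) (nat_lit 0) (nat_lit 24) = true := by decide +kernel
theorem f1_f0 : (Nat.ble f1c0.K 7 && Nat.ble (topK [f1c4, f1c6]) f1c0.K && Nat.beq (f1c0.Pt 0) (u1l0.Pt 0) && Nat.beq (ltAll 24 []) 0 && kChk f1e_P q1_P f1c0.K 6 H15.MM24.B []) = true := by decide +kernel
theorem f1_c : chainCard [f1c0, f1c4, f1c6] = 64 ∧ topK [f1c0, f1c4, f1c6] = 7 := by decide +kernel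
theorem n1_c : allZ2 (H7.One.nrmEnt d1e_P q1_P 6 H15.MM24.B n1T) 5 6 = true := by decide +kernel
theorem n1_k : kChk q1_P q1_P 6 6 H15.MM24.B [] = true := by decide +kernel
theorem n1_e : nth [] q1_W 0 = nth [] t1_W 0 ∧ nth [] t1_W 0 = nth [] cov2r_W 1 := by decide +kernel

theorem md {G : Type*} [Group G] (e : gen H15.MM24.g 11 ≃* G) :
    ∃ (_ : MulAction G (Cfsg.GolayPt)) (g : ℕ → G), Md g H15.pt H15.MM24.P 24 11 H15.MM24.B 244823040 ∧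
      ∀ k < 11, (e.symm (g k)).1 = H15.MM24.g k :=
  exists_md H15.MM24.act H15.MM24.inj H15.MM24.card H15.MM24.isBase md_b e
theorem x5_act {G Ω : Type*} [Group G] [MulAction G Ω] {g : ℕ → G} {pt : ℕ → Ω}
    (M : Md g pt H15.MM24.P 24 11 H15.MM24.B 244823040) : Act (wds g x5_W) pt x5_P 24 1 :=
  M.wact x5_lt
theorem a5h_act {G Ω : Type*} [Group G] [MulAction G Ω] {g : ℕ → G} {pt : ℕ → Ω}
    (M : Md g pt H15.MM24.P 24 11 H15.MM24.B 244823040) : Act (wds g a5h_W) pt a5h_P 24 17 :=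
  M.wact a5h_lt
theorem a5l0_e : ∀ i < 23, (dent a5l0 a5h_P (nat_lit 24)) i = 0 := allZ_sound0 a5l0_e_0
theorem a5l0_ok : DOK a5l0 a5h_P 24 := ⟨a5l0_h, a5l0_e⟩
theorem a5l1_e : ∀ i < 22, (dent a5l1 a5h_P (nat_lit 24)) i = 0 := allZ_sound0 a5l1_e_0
theorem a5l1_ok : DOK a5l1 a5h_P 24 := ⟨a5l1_h, a5l1_e⟩
theorem a5l2_e : ∀ i < 21, (dent a5l2 a5h_P (nat_lit 24)) i = 0 := allZ_sound0 a5l2_e_0
theorem a5l2_ok : DOK a5l2 a5h_P 24 := ⟨a5l2_h, a5l2_e⟩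
theorem a5l3_e : ∀ i < 20, (dent a5l3 a5h_P (nat_lit 24)) i = 0 := allZ_sound0 a5l3_e_0
theorem a5l3_ok : DOK a5l3 a5h_P 24 := ⟨a5l3_h, a5l3_e⟩
theorem a5l4_e : ∀ i < 19, (dent a5l4 a5h_P (nat_lit 24)) i = 0 := allZ_sound0 a5l4_e_0
theorem a5l4_ok : DOK a5l4 a5h_P 24 := ⟨a5l4_h, a5l4_e⟩
theorem a5l5_e : ∀ i < 15, (dent a5l5 a5h_P (nat_lit 24)) i = 0 := allZ_sound0 a5l5_e_0
theorem a5l5_ok : DOK a5l5 a5h_P 24 := ⟨a5l5_h, a5l5_e⟩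
theorem a5l6_e : ∀ i < 2, (dent a5l6 a5h_P (nat_lit 24)) i = 0 := allZ_sound0 a5l6_e_0
theorem a5l6_ok : DOK a5l6 a5h_P 24 := ⟨a5l6_h, a5l6_e⟩
theorem a5_low {G Ω : Type*} [Group G] [MulAction G Ω] {g : ℕ → G} {pt : ℕ → Ω}
    (M : Md g pt H15.MM24.P 24 11 H15.MM24.B 244823040) : SLow (gi (wds g a5h_W)) pt 24 [a5l0, a5l1, a5l2, a5l3, a5l4, a5l5, a5l6] :=
  (((((((SLow.nil).cons a5l6_ok (a5h_act M) a5_f6).cons a5l5_ok (a5h_act M) a5_f5).cons a5l4_ok (a5h_act M) a5_f4).cons a5l3_ok (a5h_act M) a5_f3).cons a5l2_ok (a5h_act M) a5_f2).cons a5l1_ok (a5h_act M) a5_f1).cons a5l0_ok (a5h_act M) a5_f0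
theorem a5_S0 {G Ω : Type*} [Group G] [MulAction G Ω] {g : ℕ → G} {pt : ℕ → Ω}
    (M : Md g pt H15.MM24.P 24 11 H15.MM24.B 244823040) : Stage ⊤ (wds g a5h_W) pt 24 [a5l0, a5l1, a5l2, a5l3, a5l4, a5l5, a5l6] [] :=
  M.stage (a5_low M) a5_c
theorem a5_S1 {G Ω : Type*} [Group G] [MulAction G Ω] {g : ℕ → G} {pt : ℕ → Ω}
    (M : Md g pt H15.MM24.P 24 11 H15.MM24.B 244823040) : Stage ⊤ (wds g a5h_W) pt 24 [a5l1, a5l2, a5l3, a5l4, a5l5, a5l6] [a5l0.Pt 0] :=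
  (a5_S0 M).next
theorem a5_S2 {G Ω : Type*} [Group G] [MulAction G Ω] {g : ℕ → G} {pt : ℕ → Ω}
    (M : Md g pt H15.MM24.P 24 11 H15.MM24.B 244823040) : Stage ⊤ (wds g a5h_W) pt 24 [a5l2, a5l3, a5l4, a5l5, a5l6] [a5l1.Pt 0, a5l0.Pt 0] :=
  (a5_S1 M).next
theorem a5_S3 {G Ω : Type*} [Group G] [MulAction G Ω] {g : ℕ → G} {pt : ℕ → Ω}
    (M : Md g pt H15.MM24.P 24 11 H15.MM24.B 244823040) : Stage ⊤ (wds g a5h_W) pt 24 [a5l3, a5l4, a5l5, a5l6] [a5l2.Pt 0, a5l1.Pt 0, a5l0.Pt 0] :=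
  (a5_S2 M).next
theorem a5_S4 {G Ω : Type*} [Group G] [MulAction G Ω] {g : ℕ → G} {pt : ℕ → Ω}
    (M : Md g pt H15.MM24.P 24 11 H15.MM24.B 244823040) : Stage ⊤ (wds g a5h_W) pt 24 [a5l4, a5l5, a5l6] [a5l3.Pt 0, a5l2.Pt 0, a5l1.Pt 0, a5l0.Pt 0] :=
  (a5_S3 M).next
theorem a5_S5 {G Ω : Type*} [Group G] [MulAction G Ω] {g : ℕ → G} {pt : ℕ → Ω}
    (M : Md g pt H15.MM24.P 24 11 H15.MM24.B 244823040) : Stage ⊤ (wds g a5h_W) pt 24 [a5l5, a5l6] [a5l4.Pt 0, a5l3.Pt 0, a5l2.Pt 0, a5l1.Pt 0, a5l0.Pt 0] :=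
  (a5_S4 M).next
theorem a5_S6 {G Ω : Type*} [Group G] [MulAction G Ω] {g : ℕ → G} {pt : ℕ → Ω}
    (M : Md g pt H15.MM24.P 24 11 H15.MM24.B 244823040) : Stage ⊤ (wds g a5h_W) pt 24 [a5l6] [a5l5.Pt 0, a5l4.Pt 0, a5l3.Pt 0, a5l2.Pt 0, a5l1.Pt 0, a5l0.Pt 0] :=
  (a5_S5 M).next
theorem a5_S7 {G Ω : Type*} [Group G] [MulAction G Ω] {g : ℕ → G} {pt : ℕ → Ω}
    (M : Md g pt H15.MM24.P 24 11 H15.MM24.B 244823040) : Stage ⊤ (wds g a5h_W) pt 24 [] [a5l6.Pt 0, a5l5.Pt 0, a5l4.Pt 0, a5l3.Pt 0, a5l2.Pt 0, a5l1.Pt 0, a5l0.Pt 0] :=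
  (a5_S6 M).next
theorem c5e_act {G Ω : Type*} [Group G] [MulAction G Ω] {g : ℕ → G} {pt : ℕ → Ω}
    (M : Md g pt H15.MM24.P 24 11 H15.MM24.B 244823040) : Act (wds g c5e_W) pt c5e_P 24 3 :=
  M.wact c5e_lt
theorem c5c5_e : ∀ i < 2, (dent c5c5 c5e_P (nat_lit 24)) i = 0 := allZ_sound0 c5c5_e_0
theorem c5c5_ok : DOK c5c5 c5e_P 24 := ⟨c5c5_h, c5c5_e⟩
theorem a5n0_1 : ∀ i < 16, (a5n0.ent H15.MM24.P a5h_P x5_P x5_P c5e_P (nat_lit 11) (nat_lit 1) H15.MM24.B a5l5 [a5l6] (memO c5c5)) i = 0 := allZ_sound0 a5n0_1_0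
theorem a5n0_t {G Ω : Type*} [Group G] [MulAction G Ω] {g : ℕ → G} {pt : ℕ → Ω}
    (M : Md g pt H15.MM24.P 24 11 H15.MM24.B 244823040) : TrO (gen (wds g a5h_W) a5l5.K) (wds g x5_W) (wds g x5_W) 1 pt 24 (a5l5.Pt 0) (memO c5c5) :=
  node M (a5_S5 M) (a5h_act M) (x5_act M) (x5_act M) a5n0 ((c5e_act M).mono (by decide)) (fun _ _ => trivial) a5n0_0 a5n0_1 (List.forall_mem_nil _)
theorem c5c0_e : ∀ i < 19, (dent c5c0 c5e_P (nat_lit 24)) i = 0 := allZ_sound0 c5c0_e_0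
theorem c5c0_ok : DOK c5c0 c5e_P 24 := ⟨c5c0_h, c5c0_e⟩
theorem a5n1_1 : ∀ i < 24, (a5n1.ent H15.MM24.P a5h_P x5_P x5_P c5e_P (nat_lit 11) (nat_lit 1) H15.MM24.B a5l0 [a5l1, a5l2, a5l3, a5l4, a5l5, a5l6] (memO c5c0)) i = 0 := allZ_sound0 a5n1_1_0
theorem a5n1_t {G Ω : Type*} [Group G] [MulAction G Ω] {g : ℕ → G} {pt : ℕ → Ω}
    (M : Md g pt H15.MM24.P 24 11 H15.MM24.B 244823040) : TrO (gen (wds g a5h_W) a5l0.K) (wds g x5_W) (wds g x5_W) 1 pt 24 (a5l0.Pt 0) (memO c5c0) :=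
  node M (a5_S0 M) (a5h_act M) (x5_act M) (x5_act M) a5n1 ((c5e_act M).mono (by decide)) (fun _ _ => trivial) a5n1_0 a5n1_1 (List.forall_mem_nil _)
theorem c5 {G Ω : Type*} [Group G] [MulAction G Ω] {g : ℕ → G} {pt : ℕ → Ω}
    (M : Md g pt H15.MM24.P 24 11 H15.MM24.B 244823040) : Cen ⊤ (wds g x5_W) 1 (wds g c5e_W) pt 24 [c5c0, c5c5] :=
  (a5_S0 M).top ▸ Cen.lev M (a5_S0 M) (Cen.triv (a5_S1 M) (Cen.triv (a5_S2 M) (Cen.triv (a5_S3 M) (Cen.triv (a5_S4 M) (Cen.lev M (a5_S5 M) (Cen.triv (a5_S6 M) (Cen.bot) (forced (a5_S6 M) (a5h_act M) (x5_act M) _ _ c5_f6)) (a5n0_t M) (x5_act M) (c5e_act M) (fun _ _ => trivial) c5c5_ok c5_f5) (forced (a5_S4 M) (a5h_act M) (x5_act M) _ _ c5_f4)) (forced (a5_S3 M) (a5h_act M) (x5_act M) _ _ c5_f3)) (forced (a5_S2 M) (a5h_act M) (x5_act M) _ _ c5_f2)) (forced (a5_S1 M) (a5h_act M) (x5_act M) _ _ c5_f1)) (a5n1_t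 M) (x5_act M) (c5e_act M) (fun _ _ => trivial) c5c0_ok c5_f0
theorem c5_card {G Ω : Type*} [Group G] [MulAction G Ω] {g : ℕ → G} {pt : ℕ → Ω}
    (M : Md g pt H15.MM24.P 24 11 H15.MM24.B 244823040) : Nat.card (Subgroup.centralizer {(wds g x5_W) 0}) = 60 :=
  (c5 M).card_cent1 M.inj c5_c.1
theorem c5_eq {G Ω : Type*} [Group G] [MulAction G Ω] {g : ℕ → G} {pt : ℕ → Ω}
    (M : Md g pt H15.MM24.P 24 11 H15.MM24.B 244823040) : Subgroup.centralizer (gen (wds g x5_W) 1) = gen (wds g c5e_W) 3 ∧ Nat.card (gen (wds g c5e_W) 3) = 60 :=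
  c5_c.1 ▸ c5_c.2 ▸ ⟨(c5 M).cent, (c5 M).card M.inj⟩
theorem x5_ord {G Ω : Type*} [Group G] [MulAction G Ω] {g : ℕ → G} {pt : ℕ → Ω}
    (M : Md g pt H15.MM24.P 24 11 H15.MM24.B 244823040) : orderOf ((wds g x5_W) 0) = 5 :=
  H7.One.ord M (x5_act M) (by decide) x5_o
theorem x7_act {G Ω : Type*} [Group G] [MulAction G Ω] {g : ℕ → G} {pt : ℕ → Ω}
    (M : Md g pt H15.MM24.P 24 11 H15.MM24.B 244823040) : Act (wds g x7_W) pt x7_P 24 1 :=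
  M.wact x7_lt
theorem a7h_act {G Ω : Type*} [Group G] [MulAction G Ω] {g : ℕ → G} {pt : ℕ → Ω}
    (M : Md g pt H15.MM24.P 24 11 H15.MM24.B 244823040) : Act (wds g a7h_W) pt a7h_P 24 22 :=
  M.wact a7h_lt
theorem a7l0_e : ∀ i < 23, (dent a7l0 a7h_P (nat_lit 24)) i = 0 := allZ_sound0 a7l0_e_0
theorem a7l0_ok : DOK a7l0 a7h_P 24 := ⟨a7l0_h, a7l0_e⟩
theorem a7l1_e : ∀ i < 22, (dent a7l1 a7h_P (nat_lit 24)) i = 0 := allZ_sound0 a7l1_e_0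
theorem a7l1_ok : DOK a7l1 a7h_P 24 := ⟨a7l1_h, a7l1_e⟩
theorem a7l2_e : ∀ i < 21, (dent a7l2 a7h_P (nat_lit 24)) i = 0 := allZ_sound0 a7l2_e_0
theorem a7l2_ok : DOK a7l2 a7h_P 24 := ⟨a7l2_h, a7l2_e⟩
theorem a7l3_e : ∀ i < 20, (dent a7l3 a7h_P (nat_lit 24)) i = 0 := allZ_sound0 a7l3_e_0
theorem a7l3_ok : DOK a7l3 a7h_P 24 := ⟨a7l3_h, a7l3_e⟩
theorem a7l4_e : ∀ i < 19, (dent a7l4 a7h_P (nat_lit 24)) i = 0 := allZ_sound0 a7l4_e_0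
theorem a7l4_ok : DOK a7l4 a7h_P 24 := ⟨a7l4_h, a7l4_e⟩
theorem a7l5_e : ∀ i < 2, (dent a7l5 a7h_P (nat_lit 24)) i = 0 := allZ_sound0 a7l5_e_0
theorem a7l5_ok : DOK a7l5 a7h_P 24 := ⟨a7l5_h, a7l5_e⟩
theorem a7l6_e : ∀ i < 15, (dent a7l6 a7h_P (nat_lit 24)) i = 0 := allZ_sound0 a7l6_e_0
theorem a7l6_ok : DOK a7l6 a7h_P 24 := ⟨a7l6_h, a7l6_e⟩
theorem a7_low {G Ω : Type*} [Group G] [MulAction G Ω] {g : ℕ → G} {pt : ℕ → Ω}
    (M : Md g pt H15.MM24.P 24 11 H15.MM24.B 244823040) : SLow (gi (wds g a7h_W)) pt 24 [a7l0, a7l1, a7l2, a7l3, a7l4, a7l5, a7l6] :=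
  (((((((SLow.nil).cons a7l6_ok (a7h_act M) a7_f6).cons a7l5_ok (a7h_act M) a7_f5).cons a7l4_ok (a7h_act M) a7_f4).cons a7l3_ok (a7h_act M) a7_f3).cons a7l2_ok (a7h_act M) a7_f2).cons a7l1_ok (a7h_act M) a7_f1).cons a7l0_ok (a7h_act M) a7_f0
theorem a7_S0 {G Ω : Type*} [Group G] [MulAction G Ω] {g : ℕ → G} {pt : ℕ → Ω}
    (M : Md g pt H15.MM24.P 24 11 H15.MM24.B 244823040) : Stage ⊤ (wds g a7h_W) pt 24 [a7l0, a7l1, a7l2, a7l3, a7l4, a7l5, a7l6] [] :=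
  M.stage (a7_low M) a7_c
theorem a7_S1 {G Ω : Type*} [Group G] [MulAction G Ω] {g : ℕ → G} {pt : ℕ → Ω}
    (M : Md g pt H15.MM24.P 24 11 H15.MM24.B 244823040) : Stage ⊤ (wds g a7h_W) pt 24 [a7l1, a7l2, a7l3, a7l4, a7l5, a7l6] [a7l0.Pt 0] :=
  (a7_S0 M).next
theorem a7_S2 {G Ω : Type*} [Group G] [MulAction G Ω] {g : ℕ → G} {pt : ℕ → Ω}
    (M : Md g pt H15.MM24.P 24 11 H15.MM24.B 244823040) : Stage ⊤ (wds g a7h_W) pt 24 [a7l2, a7l3, a7l4, a7l5, a7l6] [a7l1.Pt 0, a7l0.Pt 0] :=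
  (a7_S1 M).next
theorem a7_S3 {G Ω : Type*} [Group G] [MulAction G Ω] {g : ℕ → G} {pt : ℕ → Ω}
    (M : Md g pt H15.MM24.P 24 11 H15.MM24.B 244823040) : Stage ⊤ (wds g a7h_W) pt 24 [a7l3, a7l4, a7l5, a7l6] [a7l2.Pt 0, a7l1.Pt 0, a7l0.Pt 0] :=
  (a7_S2 M).next
theorem a7_S4 {G Ω : Type*} [Group G] [MulAction G Ω] {g : ℕ → G} {pt : ℕ → Ω}
    (M : Md g pt H15.MM24.P 24 11 H15.MM24.B 244823040) : Stage ⊤ (wds g a7h_W) pt 24 [a7l4, a7l5, a7l6] [a7l3.Pt 0, a7l2.Pt 0, a7l1.Pt 0, a7l0.Pt 0] :=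
  (a7_S3 M).next
theorem a7_S5 {G Ω : Type*} [Group G] [MulAction G Ω] {g : ℕ → G} {pt : ℕ → Ω}
    (M : Md g pt H15.MM24.P 24 11 H15.MM24.B 244823040) : Stage ⊤ (wds g a7h_W) pt 24 [a7l5, a7l6] [a7l4.Pt 0, a7l3.Pt 0, a7l2.Pt 0, a7l1.Pt 0, a7l0.Pt 0] :=
  (a7_S4 M).next
theorem a7_S6 {G Ω : Type*} [Group G] [MulAction G Ω] {g : ℕ → G} {pt : ℕ → Ω}
    (M : Md g pt H15.MM24.P 24 11 H15.MM24.B 244823040) : Stage ⊤ (wds g a7h_W) pt 24 [a7l6] [a7l5.Pt 0, a7l4.Pt 0, a7l3.Pt 0, a7l2.Pt 0, a7l1.Pt 0, a7l0.Pt 0] :=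
  (a7_S5 M).next
theorem a7_S7 {G Ω : Type*} [Group G] [MulAction G Ω] {g : ℕ → G} {pt : ℕ → Ω}
    (M : Md g pt H15.MM24.P 24 11 H15.MM24.B 244823040) : Stage ⊤ (wds g a7h_W) pt 24 [] [a7l6.Pt 0, a7l5.Pt 0, a7l4.Pt 0, a7l3.Pt 0, a7l2.Pt 0, a7l1.Pt 0, a7l0.Pt 0] :=
  (a7_S6 M).next
theorem c7e_act {G Ω : Type*} [Group G] [MulAction G Ω] {g : ℕ → G} {pt : ℕ → Ω}
    (M : Md g pt H15.MM24.P 24 11 H15.MM24.B 244823040) : Act (wds g c7e_W) pt c7e_P 24 2 :=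
  M.wact c7e_lt
theorem c7c6_e : ∀ i < 1, (dent c7c6 c7e_P (nat_lit 24)) i = 0 := allZ_sound0 c7c6_e_0
theorem c7c6_ok : DOK c7c6 c7e_P 24 := ⟨c7c6_h, c7c6_e⟩
theorem a7n0_1 : ∀ i < 16, (a7n0.ent H15.MM24.P a7h_P x7_P x7_P c7e_P (nat_lit 11) (nat_lit 1) H15.MM24.B a7l6 [] (memO c7c6)) i = 0 := allZ_sound0 a7n0_1_0
theorem a7n0_t {G Ω : Type*} [Group G] [MulAction G Ω] {g : ℕ → G} {pt : ℕ → Ω}
    (M : Md g pt H15.MM24.P 24 11 H15.MM24.B 244823040) : TrO (gen (wds g a7h_W) a7l6.K) (wds g x7_W) (wds g x7_W) 1 pt 24 (a7l6.Pt 0) (memO c7c6) :=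
  node M (a7_S6 M) (a7h_act M) (x7_act M) (x7_act M) a7n0 ((c7e_act M).mono (by decide)) (fun _ _ => trivial) a7n0_0 a7n0_1 (List.forall_mem_nil _)
theorem c7c0_e : ∀ i < 20, (dent c7c0 c7e_P (nat_lit 24)) i = 0 := allZ_sound0 c7c0_e_0
theorem c7c0_ok : DOK c7c0 c7e_P 24 := ⟨c7c0_h, c7c0_e⟩
theorem a7n1_1 : ∀ i < 24, (a7n1.ent H15.MM24.P a7h_P x7_P x7_P c7e_P (nat_lit 11) (nat_lit 1) H15.MM24.B a7l0 [a7l1, a7l2, a7l3, a7l4, a7l5, a7l6] (memO c7c0)) i = 0 := allZ_sound0 a7n1_1_0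
theorem a7n1_t {G Ω : Type*} [Group G] [MulAction G Ω] {g : ℕ → G} {pt : ℕ → Ω}
    (M : Md g pt H15.MM24.P 24 11 H15.MM24.B 244823040) : TrO (gen (wds g a7h_W) a7l0.K) (wds g x7_W) (wds g x7_W) 1 pt 24 (a7l0.Pt 0) (memO c7c0) :=
  node M (a7_S0 M) (a7h_act M) (x7_act M) (x7_act M) a7n1 ((c7e_act M).mono (by decide)) (fun _ _ => trivial) a7n1_0 a7n1_1 (List.forall_mem_nil _)
theorem c7 {G Ω : Type*} [Group G] [MulAction G Ω] {g : ℕ → G} {pt : ℕ → Ω}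
    (M : Md g pt H15.MM24.P 24 11 H15.MM24.B 244823040) : Cen ⊤ (wds g x7_W) 1 (wds g c7e_W) pt 24 [c7c0, c7c6] :=
  (a7_S0 M).top ▸ Cen.lev M (a7_S0 M) (Cen.triv (a7_S1 M) (Cen.triv (a7_S2 M) (Cen.triv (a7_S3 M) (Cen.triv (a7_S4 M) (Cen.triv (a7_S5 M) (Cen.lev M (a7_S6 M) (Cen.bot) (a7n0_t M) (x7_act M) (c7e_act M) (fun _ _ => trivial) c7c6_ok c7_f6) (forced (a7_S5 M) (a7h_act M) (x7_act M) _ _ c7_f5)) (forced (a7_S4 M) (a7h_act M) (x7_act M) _ _ c7_f4)) (forced (a7_S3 M) (a7h_act M) (x7_act M) _ _ c7_f3)) (forced (a7_S2 M) (a7h_act M) (x7_act M) _ _ c7_f2)) (forced (a7_S1 M) (a7h_act M) (x7_act M) _ _ c7_f1)) (a7n1_t M) (x7_act M) (c7e_act M) (fun _ _ => trivial) c7c0_ok c7_f0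
theorem c7_card {G Ω : Type*} [Group G] [MulAction G Ω] {g : ℕ → G} {pt : ℕ → Ω}
    (M : Md g pt H15.MM24.P 24 11 H15.MM24.B 244823040) : Nat.card (Subgroup.centralizer {(wds g x7_W) 0}) = 42 :=
  (c7 M).card_cent1 M.inj c7_c.1
theorem c7_eq {G Ω : Type*} [Group G] [MulAction G Ω] {g : ℕ → G} {pt : ℕ → Ω}
    (M : Md g pt H15.MM24.P 24 11 H15.MM24.B 244823040) : Subgroup.centralizer (gen (wds g x7_W) 1) = gen (wds g c7e_W) 2 ∧ Nat.card (gen (wds g c7e_W) 2) = 42 :=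
  c7_c.1 ▸ c7_c.2 ▸ ⟨(c7 M).cent, (c7 M).card M.inj⟩
theorem x7_ord {G Ω : Type*} [Group G] [MulAction G Ω] {g : ℕ → G} {pt : ℕ → Ω}
    (M : Md g pt H15.MM24.P 24 11 H15.MM24.B 244823040) : orderOf ((wds g x7_W) 0) = 7 :=
  H7.One.ord M (x7_act M) (by decide) x7_o
theorem x11_act {G Ω : Type*} [Group G] [MulAction G Ω] {g : ℕ → G} {pt : ℕ → Ω}
    (M : Md g pt H15.MM24.P 24 11 H15.MM24.B 244823040) : Act (wds g x11_W) pt x11_P 24 1 :=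
  M.wact x11_lt
theorem a11h_act {G Ω : Type*} [Group G] [MulAction G Ω] {g : ℕ → G} {pt : ℕ → Ω}
    (M : Md g pt H15.MM24.P 24 11 H15.MM24.B 244823040) : Act (wds g a11h_W) pt a11h_P 24 16 :=
  M.wact a11h_lt
theorem a11l0_e : ∀ i < 23, (dent a11l0 a11h_P (nat_lit 24)) i = 0 := allZ_sound0 a11l0_e_0
theorem a11l0_ok : DOK a11l0 a11h_P 24 := ⟨a11l0_h, a11l0_e⟩
theorem a11l1_e : ∀ i < 22, (dent a11l1 a11h_P (nat_lit 24)) i = 0 := allZ_sound0 a11l1_e_0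
theorem a11l1_ok : DOK a11l1 a11h_P 24 := ⟨a11l1_h, a11l1_e⟩
theorem a11l2_e : ∀ i < 21, (dent a11l2 a11h_P (nat_lit 24)) i = 0 := allZ_sound0 a11l2_e_0
theorem a11l2_ok : DOK a11l2 a11h_P 24 := ⟨a11l2_h, a11l2_e⟩
theorem a11l3_e : ∀ i < 20, (dent a11l3 a11h_P (nat_lit 24)) i = 0 := allZ_sound0 a11l3_e_0
theorem a11l3_ok : DOK a11l3 a11h_P 24 := ⟨a11l3_h, a11l3_e⟩
theorem a11l4_e : ∀ i < 19, (dent a11l4 a11h_P (nat_lit 24)) i = 0 := allZ_sound0 a11l4_e_0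
theorem a11l4_ok : DOK a11l4 a11h_P 24 := ⟨a11l4_h, a11l4_e⟩
theorem a11l5_e : ∀ i < 15, (dent a11l5 a11h_P (nat_lit 24)) i = 0 := allZ_sound0 a11l5_e_0
theorem a11l5_ok : DOK a11l5 a11h_P 24 := ⟨a11l5_h, a11l5_e⟩
theorem a11l6_e : ∀ i < 2, (dent a11l6 a11h_P (nat_lit 24)) i = 0 := allZ_sound0 a11l6_e_0
theorem a11l6_ok : DOK a11l6 a11h_P 24 := ⟨a11l6_h, a11l6_e⟩
theorem a11_low {G Ω : Type*} [Group G] [MulAction G Ω] {g : ℕ → G} {pt : ℕ → Ω}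
    (M : Md g pt H15.MM24.P 24 11 H15.MM24.B 244823040) : SLow (gi (wds g a11h_W)) pt 24 [a11l0, a11l1, a11l2, a11l3, a11l4, a11l5, a11l6] :=
  (((((((SLow.nil).cons a11l6_ok (a11h_act M) a11_f6).cons a11l5_ok (a11h_act M) a11_f5).cons a11l4_ok (a11h_act M) a11_f4).cons a11l3_ok (a11h_act M) a11_f3).cons a11l2_ok (a11h_act M) a11_f2).cons a11l1_ok (a11h_act M) a11_f1).cons a11l0_ok (a11h_act M) a11_f0
theorem a11_S0 {G Ω : Type*} [Group G] [MulAction G Ω] {g : ℕ → G} {pt : ℕ → Ω}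
    (M : Md g pt H15.MM24.P 24 11 H15.MM24.B 244823040) : Stage ⊤ (wds g a11h_W) pt 24 [a11l0, a11l1, a11l2, a11l3, a11l4, a11l5, a11l6] [] :=
  M.stage (a11_low M) a11_c
theorem a11_S1 {G Ω : Type*} [Group G] [MulAction G Ω] {g : ℕ → G} {pt : ℕ → Ω}
    (M : Md g pt H15.MM24.P 24 11 H15.MM24.B 244823040) : Stage ⊤ (wds g a11h_W) pt 24 [a11l1, a11l2, a11l3, a11l4, a11l5, a11l6] [a11l0.Pt 0] :=
  (a11_S0 M).next
theorem a11_S2 {G Ω : Type*} [Group G] [MulAction G Ω] {g : ℕ → G} {pt : ℕ → Ω}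
    (M : Md g pt H15.MM24.P 24 11 H15.MM24.B 244823040) : Stage ⊤ (wds g a11h_W) pt 24 [a11l2, a11l3, a11l4, a11l5, a11l6] [a11l1.Pt 0, a11l0.Pt 0] :=
  (a11_S1 M).next
theorem a11_S3 {G Ω : Type*} [Group G] [MulAction G Ω] {g : ℕ → G} {pt : ℕ → Ω}
    (M : Md g pt H15.MM24.P 24 11 H15.MM24.B 244823040) : Stage ⊤ (wds g a11h_W) pt 24 [a11l3, a11l4, a11l5, a11l6] [a11l2.Pt 0, a11l1.Pt 0, a11l0.Pt 0] :=
  (a11_S2 M).next
theorem a11_S4 {G Ω : Type*} [Group G] [MulAction G Ω] {g : ℕ → G} {pt : ℕ → Ω}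
    (M : Md g pt H15.MM24.P 24 11 H15.MM24.B 244823040) : Stage ⊤ (wds g a11h_W) pt 24 [a11l4, a11l5, a11l6] [a11l3.Pt 0, a11l2.Pt 0, a11l1.Pt 0, a11l0.Pt 0] :=
  (a11_S3 M).next
theorem a11_S5 {G Ω : Type*} [Group G] [MulAction G Ω] {g : ℕ → G} {pt : ℕ → Ω}
    (M : Md g pt H15.MM24.P 24 11 H15.MM24.B 244823040) : Stage ⊤ (wds g a11h_W) pt 24 [a11l5, a11l6] [a11l4.Pt 0, a11l3.Pt 0, a11l2.Pt 0, a11l1.Pt 0, a11l0.Pt 0] :=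
  (a11_S4 M).next
theorem a11_S6 {G Ω : Type*} [Group G] [MulAction G Ω] {g : ℕ → G} {pt : ℕ → Ω}
    (M : Md g pt H15.MM24.P 24 11 H15.MM24.B 244823040) : Stage ⊤ (wds g a11h_W) pt 24 [a11l6] [a11l5.Pt 0, a11l4.Pt 0, a11l3.Pt 0, a11l2.Pt 0, a11l1.Pt 0, a11l0.Pt 0] :=
  (a11_S5 M).next
theorem a11_S7 {G Ω : Type*} [Group G] [MulAction G Ω] {g : ℕ → G} {pt : ℕ → Ω}
    (M : Md g pt H15.MM24.P 24 11 H15.MM24.B 244823040) : Stage ⊤ (wds g a11h_W) pt 24 [] [a11l6.Pt 0, a11l5.Pt 0, a11l4.Pt 0, a11l3.Pt 0, a11l2.Pt 0, a11l1.Pt 0, a11l0.Pt 0] :=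
  (a11_S6 M).next
theorem c11e_act {G Ω : Type*} [Group G] [MulAction G Ω] {g : ℕ → G} {pt : ℕ → Ω}
    (M : Md g pt H15.MM24.P 24 11 H15.MM24.B 244823040) : Act (wds g c11e_W) pt c11e_P 24 1 :=
  M.wact c11e_lt
theorem c11c0_e : ∀ i < 10, (dent c11c0 c11e_P (nat_lit 24)) i = 0 := allZ_sound0 c11c0_e_0
theorem c11c0_ok : DOK c11c0 c11e_P 24 := ⟨c11c0_h, c11c0_e⟩
theorem a11n0_1 : ∀ i < 24, (a11n0.ent H15.MM24.P a11h_P x11_P x11_P c11e_P (nat_lit 11) (nat_lit 1) H15.MM24.B a11l0 [a11l1, a11l2, a11l3, a11l4, a11l5, a11l6] (memO c11c0)) i = 0 := allZ_sound0 a11n0_1_0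
theorem a11n0_t {G Ω : Type*} [Group G] [MulAction G Ω] {g : ℕ → G} {pt : ℕ → Ω}
    (M : Md g pt H15.MM24.P 24 11 H15.MM24.B 244823040) : TrO (gen (wds g a11h_W) a11l0.K) (wds g x11_W) (wds g x11_W) 1 pt 24 (a11l0.Pt 0) (memO c11c0) :=
  node M (a11_S0 M) (a11h_act M) (x11_act M) (x11_act M) a11n0 ((c11e_act M).mono (by decide)) (fun _ _ => trivial) a11n0_0 a11n0_1 (List.forall_mem_nil _)
theorem c11 {G Ω : Type*} [Group G] [MulAction G Ω] {g : ℕ → G} {pt : ℕ → Ω}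
    (M : Md g pt H15.MM24.P 24 11 H15.MM24.B 244823040) : Cen ⊤ (wds g x11_W) 1 (wds g c11e_W) pt 24 [c11c0] :=
  (a11_S0 M).top ▸ Cen.lev M (a11_S0 M) (Cen.triv (a11_S1 M) (Cen.triv (a11_S2 M) (Cen.triv (a11_S3 M) (Cen.triv (a11_S4 M) (Cen.triv (a11_S5 M) (Cen.triv (a11_S6 M) (Cen.bot) (forced (a11_S6 M) (a11h_act M) (x11_act M) _ _ c11_f6)) (forced (a11_S5 M) (a11h_act M) (x11_act M) _ _ c11_f5)) (forced (a11_S4 M) (a11h_act M) (x11_act M) _ _ c11_f4)) (forced (a11_S3 M) (a11h_act M) (x11_act M) _ _ c11_f3)) (forced (a11_S2 M) (a11h_act M) (x11_act M) _ _ c11_f2)) (forced (a11_S1 M) (a11h_act M) (x11_act M) _ _ c11_f1)) (a11n0_t M) (x11_act M) (c11e_act M) (fun _ _ => trivial) c11c0_ok c11_f0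
theorem c11_card {G Ω : Type*} [Group G] [MulAction G Ω] {g : ℕ → G} {pt : ℕ → Ω}
    (M : Md g pt H15.MM24.P 24 11 H15.MM24.B 244823040) : Nat.card (Subgroup.centralizer {(wds g x11_W) 0}) = 11 :=
  (c11 M).card_cent1 M.inj c11_c.1
theorem c11_eq {G Ω : Type*} [Group G] [MulAction G Ω] {g : ℕ → G} {pt : ℕ → Ω}
    (M : Md g pt H15.MM24.P 24 11 H15.MM24.B 244823040) : Subgroup.centralizer (gen (wds g x11_W) 1) = gen (wds g c11e_W) 1 ∧ Nat.card (gen (wds g c11e_W) 1) = 11 :=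
  c11_c.1 ▸ c11_c.2 ▸ ⟨(c11 M).cent, (c11 M).card M.inj⟩
theorem x11_ord {G Ω : Type*} [Group G] [MulAction G Ω] {g : ℕ → G} {pt : ℕ → Ω}
    (M : Md g pt H15.MM24.P 24 11 H15.MM24.B 244823040) : orderOf ((wds g x11_W) 0) = 11 :=
  H7.One.ord M (x11_act M) (by decide) x11_o
theorem x23_act {G Ω : Type*} [Group G] [MulAction G Ω] {g : ℕ → G} {pt : ℕ → Ω}
    (M : Md g pt H15.MM24.P 24 11 H15.MM24.B 244823040) : Act (wds g x23_W) pt x23_P 24 1 :=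
  M.wact x23_lt
theorem a23h_act {G Ω : Type*} [Group G] [MulAction G Ω] {g : ℕ → G} {pt : ℕ → Ω}
    (M : Md g pt H15.MM24.P 24 11 H15.MM24.B 244823040) : Act (wds g a23h_W) pt a23h_P 24 20 :=
  M.wact a23h_lt
theorem a23l0_e : ∀ i < 23, (dent a23l0 a23h_P (nat_lit 24)) i = 0 := allZ_sound0 a23l0_e_0
theorem a23l0_ok : DOK a23l0 a23h_P 24 := ⟨a23l0_h, a23l0_e⟩
theorem a23l1_e : ∀ i < 22, (dent a23l1 a23h_P (nat_lit 24)) i = 0 := allZ_sound0 a23l1_e_0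
theorem a23l1_ok : DOK a23l1 a23h_P 24 := ⟨a23l1_h, a23l1_e⟩
theorem a23l2_e : ∀ i < 21, (dent a23l2 a23h_P (nat_lit 24)) i = 0 := allZ_sound0 a23l2_e_0
theorem a23l2_ok : DOK a23l2 a23h_P 24 := ⟨a23l2_h, a23l2_e⟩
theorem a23l3_e : ∀ i < 20, (dent a23l3 a23h_P (nat_lit 24)) i = 0 := allZ_sound0 a23l3_e_0
theorem a23l3_ok : DOK a23l3 a23h_P 24 := ⟨a23l3_h, a23l3_e⟩
theorem a23l4_e : ∀ i < 19, (dent a23l4 a23h_P (nat_lit 24)) i = 0 := allZ_sound0 a23l4_e_0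
theorem a23l4_ok : DOK a23l4 a23h_P 24 := ⟨a23l4_h, a23l4_e⟩
theorem a23l5_e : ∀ i < 15, (dent a23l5 a23h_P (nat_lit 24)) i = 0 := allZ_sound0 a23l5_e_0
theorem a23l5_ok : DOK a23l5 a23h_P 24 := ⟨a23l5_h, a23l5_e⟩
theorem a23l6_e : ∀ i < 2, (dent a23l6 a23h_P (nat_lit 24)) i = 0 := allZ_sound0 a23l6_e_0
theorem a23l6_ok : DOK a23l6 a23h_P 24 := ⟨a23l6_h, a23l6_e⟩
theorem a23_low {G Ω : Type*} [Group G] [MulAction G Ω] {g : ℕ → G} {pt : ℕ → Ω}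
    (M : Md g pt H15.MM24.P 24 11 H15.MM24.B 244823040) : SLow (gi (wds g a23h_W)) pt 24 [a23l0, a23l1, a23l2, a23l3, a23l4, a23l5, a23l6] :=
  (((((((SLow.nil).cons a23l6_ok (a23h_act M) a23_f6).cons a23l5_ok (a23h_act M) a23_f5).cons a23l4_ok (a23h_act M) a23_f4).cons a23l3_ok (a23h_act M) a23_f3).cons a23l2_ok (a23h_act M) a23_f2).cons a23l1_ok (a23h_act M) a23_f1).cons a23l0_ok (a23h_act M) a23_f0
theorem a23_S0 {G Ω : Type*} [Group G] [MulAction G Ω] {g : ℕ → G} {pt : ℕ → Ω}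
    (M : Md g pt H15.MM24.P 24 11 H15.MM24.B 244823040) : Stage ⊤ (wds g a23h_W) pt 24 [a23l0, a23l1, a23l2, a23l3, a23l4, a23l5, a23l6] [] :=
  M.stage (a23_low M) a23_c
theorem a23_S1 {G Ω : Type*} [Group G] [MulAction G Ω] {g : ℕ → G} {pt : ℕ → Ω}
    (M : Md g pt H15.MM24.P 24 11 H15.MM24.B 244823040) : Stage ⊤ (wds g a23h_W) pt 24 [a23l1, a23l2, a23l3, a23l4, a23l5, a23l6] [a23l0.Pt 0] :=
  (a23_S0 M).next
theorem a23_S2 {G Ω : Type*} [Group G] [MulAction G Ω] {g : ℕ → G} {pt : ℕ → Ω}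
    (M : Md g pt H15.MM24.P 24 11 H15.MM24.B 244823040) : Stage ⊤ (wds g a23h_W) pt 24 [a23l2, a23l3, a23l4, a23l5, a23l6] [a23l1.Pt 0, a23l0.Pt 0] :=
  (a23_S1 M).next
theorem a23_S3 {G Ω : Type*} [Group G] [MulAction G Ω] {g : ℕ → G} {pt : ℕ → Ω}
    (M : Md g pt H15.MM24.P 24 11 H15.MM24.B 244823040) : Stage ⊤ (wds g a23h_W) pt 24 [a23l3, a23l4, a23l5, a23l6] [a23l2.Pt 0, a23l1.Pt 0, a23l0.Pt 0] :=
  (a23_S2 M).next
theorem a23_S4 {G Ω : Type*} [Group G] [MulAction G Ω] {g : ℕ → G} {pt : ℕ → Ω}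
    (M : Md g pt H15.MM24.P 24 11 H15.MM24.B 244823040) : Stage ⊤ (wds g a23h_W) pt 24 [a23l4, a23l5, a23l6] [a23l3.Pt 0, a23l2.Pt 0, a23l1.Pt 0, a23l0.Pt 0] :=
  (a23_S3 M).next
theorem a23_S5 {G Ω : Type*} [Group G] [MulAction G Ω] {g : ℕ → G} {pt : ℕ → Ω}
    (M : Md g pt H15.MM24.P 24 11 H15.MM24.B 244823040) : Stage ⊤ (wds g a23h_W) pt 24 [a23l5, a23l6] [a23l4.Pt 0, a23l3.Pt 0, a23l2.Pt 0, a23l1.Pt 0, a23l0.Pt 0] :=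
  (a23_S4 M).next
theorem a23_S6 {G Ω : Type*} [Group G] [MulAction G Ω] {g : ℕ → G} {pt : ℕ → Ω}
    (M : Md g pt H15.MM24.P 24 11 H15.MM24.B 244823040) : Stage ⊤ (wds g a23h_W) pt 24 [a23l6] [a23l5.Pt 0, a23l4.Pt 0, a23l3.Pt 0, a23l2.Pt 0, a23l1.Pt 0, a23l0.Pt 0] :=
  (a23_S5 M).next
theorem a23_S7 {G Ω : Type*} [Group G] [MulAction G Ω] {g : ℕ → G} {pt : ℕ → Ω}
    (M : Md g pt H15.MM24.P 24 11 H15.MM24.B 244823040) : Stage ⊤ (wds g a23h_W) pt 24 [] [a23l6.Pt 0, a23l5.Pt 0, a23l4.Pt 0, a23l3.Pt 0, a23l2.Pt 0, a23l1.Pt 0, a23l0.Pt 0] :=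
  (a23_S6 M).next
theorem c23e_act {G Ω : Type*} [Group G] [MulAction G Ω] {g : ℕ → G} {pt : ℕ → Ω}
    (M : Md g pt H15.MM24.P 24 11 H15.MM24.B 244823040) : Act (wds g c23e_W) pt c23e_P 24 1 :=
  M.wact c23e_lt
theorem c23c0_e : ∀ i < 22, (dent c23c0 c23e_P (nat_lit 24)) i = 0 := allZ_sound0 c23c0_e_0
theorem c23c0_ok : DOK c23c0 c23e_P 24 := ⟨c23c0_h, c23c0_e⟩
theorem a23n0_1 : ∀ i < 24, (a23n0.ent H15.MM24.P a23h_P x23_P x23_P c23e_P (nat_lit 11) (nat_lit 1) H15.MM24.B a23l0 [a23l1, a23l2, a23l3, a23l4, a23l5, a23l6] (memO c23c0)) i = 0 := allZ_sound0 a23n0_1_0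
theorem a23n0_t {G Ω : Type*} [Group G] [MulAction G Ω] {g : ℕ → G} {pt : ℕ → Ω}
    (M : Md g pt H15.MM24.P 24 11 H15.MM24.B 244823040) : TrO (gen (wds g a23h_W) a23l0.K) (wds g x23_W) (wds g x23_W) 1 pt 24 (a23l0.Pt 0) (memO c23c0) :=
  node M (a23_S0 M) (a23h_act M) (x23_act M) (x23_act M) a23n0 ((c23e_act M).mono (by decide)) (fun _ _ => trivial) a23n0_0 a23n0_1 (List.forall_mem_nil _)
theorem c23 {G Ω : Type*} [Group G] [MulAction G Ω] {g : ℕ → G} {pt : ℕ → Ω}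
    (M : Md g pt H15.MM24.P 24 11 H15.MM24.B 244823040) : Cen ⊤ (wds g x23_W) 1 (wds g c23e_W) pt 24 [c23c0] :=
  (a23_S0 M).top ▸ Cen.lev M (a23_S0 M) (Cen.triv (a23_S1 M) (Cen.triv (a23_S2 M) (Cen.triv (a23_S3 M) (Cen.triv (a23_S4 M) (Cen.triv (a23_S5 M) (Cen.triv (a23_S6 M) (Cen.bot) (forced (a23_S6 M) (a23h_act M) (x23_act M) _ _ c23_f6)) (forced (a23_S5 M) (a23h_act M) (x23_act M) _ _ c23_f5)) (forced (a23_S4 M) (a23h_act M) (x23_act M) _ _ c23_f4)) (forced (a23_S3 M) (a23h_act M) (x23_act M) _ _ c23_f3)) (forced (a23_S2 M) (a23h_act M) (x23_act M) _ _ c23_f2)) (forced (a23_S1 M) (a23h_act M) (x23_act M) _ _ c23_f1)) (a23n0_t M) (x23_act M) (c23e_act M) (fun _ _ => trivial) c23c0_ok c23_f0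
theorem c23_card {G Ω : Type*} [Group G] [MulAction G Ω] {g : ℕ → G} {pt : ℕ → Ω}
    (M : Md g pt H15.MM24.P 24 11 H15.MM24.B 244823040) : Nat.card (Subgroup.centralizer {(wds g x23_W) 0}) = 23 :=
  (c23 M).card_cent1 M.inj c23_c.1
theorem c23_eq {G Ω : Type*} [Group G] [MulAction G Ω] {g : ℕ → G} {pt : ℕ → Ω}
    (M : Md g pt H15.MM24.P 24 11 H15.MM24.B 244823040) : Subgroup.centralizer (gen (wds g x23_W) 1) = gen (wds g c23e_W) 1 ∧ Nat.card (gen (wds g c23e_W) 1) = 23 :=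
  c23_c.1 ▸ c23_c.2 ▸ ⟨(c23 M).cent, (c23 M).card M.inj⟩
theorem x23_ord {G Ω : Type*} [Group G] [MulAction G Ω] {g : ℕ → G} {pt : ℕ → Ω}
    (M : Md g pt H15.MM24.P 24 11 H15.MM24.B 244823040) : orderOf ((wds g x23_W) 0) = 23 :=
  H7.One.ord M (x23_act M) (by decide) x23_o
theorem p2t_act {G Ω : Type*} [Group G] [MulAction G Ω] {g : ℕ → G} {pt : ℕ → Ω}
    (M : Md g pt H15.MM24.P 24 11 H15.MM24.B 244823040) : Act (wds g p2t_W) pt p2t_P 24 10 :=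
  M.wact p2t_lt
theorem p2_r : ∀ k < 10, ∀ i < 24, (resEnt p2t_P p2P p2E p2I (nat_lit 24) (nat_lit 24)) k i = 0 := allZ2_sound p2_r_a
theorem p2_sm {G Ω : Type*} [Group G] [MulAction G Ω] {g : ℕ → G} {pt : ℕ → Ω}
    (M : Md g pt H15.MM24.P 24 11 H15.MM24.B 244823040) : Sm (wds g p2t_W) (fun i => pt (p2E i)) p2P 24 10 p2B ∧ ∀ i < 24, p2E i < 24 :=
  M.res (p2t_act M) (by decide) p2_r p2_b
theorem p2l0_e : ∀ i < 15, (dent p2l0 (wdsP p2P p2e) (nat_lit 24)) i = 0 := allZ_sound0 p2l0_e_0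
theorem p2l0_ok : DOK p2l0 (wdsP p2P p2e) 24 := ⟨p2l0_h, p2l0_e⟩
theorem p2l1_e : ∀ i < 7, (dent p2l1 (wdsP p2P p2e) (nat_lit 24)) i = 0 := allZ_sound0 p2l1_e_0
theorem p2l1_ok : DOK p2l1 (wdsP p2P p2e) 24 := ⟨p2l1_h, p2l1_e⟩
theorem p2l2_e : ∀ i < 3, (dent p2l2 (wdsP p2P p2e) (nat_lit 24)) i = 0 := allZ_sound0 p2l2_e_0
theorem p2l2_ok : DOK p2l2 (wdsP p2P p2e) 24 := ⟨p2l2_h, p2l2_e⟩
theorem p2l3_e : ∀ i < 1, (dent p2l3 (wdsP p2P p2e) (nat_lit 24)) i = 0 := allZ_sound0 p2l3_e_0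
theorem p2l3_ok : DOK p2l3 (wdsP p2P p2e) 24 := ⟨p2l3_h, p2l3_e⟩
theorem p2_low {G Ω : Type*} [Group G] [MulAction G Ω] {g : ℕ → G} {pt : ℕ → Ω}
    (M : Md g pt H15.MM24.P 24 11 H15.MM24.B 244823040) : SLow (gi (wds (wds g p2t_W) p2e)) (fun i => pt (p2E i)) 24 [p2l0, p2l1, p2l2, p2l3] :=
  ((((SLow.nil).cons p2l3_ok ((p2_sm M).1.act.wds p2_e 47) p2_f3).cons p2l2_ok ((p2_sm M).1.act.wds p2_e 47) p2_f2).cons p2l1_ok ((p2_sm M).1.act.wds p2_e 47) p2_f1).cons p2l0_ok ((p2_sm M).1.act.wds p2_e 47) p2_f0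
theorem p2_pc {G Ω : Type*} [Group G] [MulAction G Ω] {g : ℕ → G} {pt : ℕ → Ω}
    (M : Md g pt H15.MM24.P 24 11 H15.MM24.B 244823040) : PC (wds g p2t_W) 10 2 :=
  have := M.fin
  ((p2_sm M).1.pc0 (by decide) p2_p).pc (p2_low M) (p2_sm M).1.inj
    (fun k => evA_mem_gen _ (nth_lt p2_e k)) M.card ⟨by decide, p2_c⟩
theorem cov2r_act {G Ω : Type*} [Group G] [MulAction G Ω] {g : ℕ → G} {pt : ℕ → Ω}
    (M : Md g pt H15.MM24.P 24 11 H15.MM24.B 244823040) : Act (wds g cov2r_W) pt cov2r_P 24 2 :=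
  M.wact cov2r_lt
theorem cov2_0 {G Ω : Type*} [Group G] [MulAction G Ω] {g : ℕ → G} {pt : ℕ → Ω}
    (M : Md g pt H15.MM24.P 24 11 H15.MM24.B 244823040) : Cov (wds g p2t_W) (wds g cov2r_W) 2 2 10 (evA (wds g p2t_W) []) :=
  have := M.fin
  cov2T0.cov M (p2_sm M).1 (p2_sm M).2 (cov2r_act M) (p2_pc M) _ _ cov2_c0
theorem cov2 {G Ω : Type*} [Group G] [MulAction G Ω] {g : ℕ → G} {pt : ℕ → Ω}
    (M : Md g pt H15.MM24.P 24 11 H15.MM24.B 244823040) {y : G} {e : ℕ} (hy : y ^ 2 ^ e = 1) (hq : y ^ 2 = 1) : Good (wds g cov2r_W) 2 y :=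
  have := M.fin
  Cov.all (p2_pc M) (cov2_0 M) hy hq
theorem t0_act {G Ω : Type*} [Group G] [MulAction G Ω] {g : ℕ → G} {pt : ℕ → Ω}
    (M : Md g pt H15.MM24.P 24 11 H15.MM24.B 244823040) : Act (wds g t0_W) pt t0_P 24 1 :=
  M.wact t0_lt
theorem b0h_act {G Ω : Type*} [Group G] [MulAction G Ω] {g : ℕ → G} {pt : ℕ → Ω}
    (M : Md g pt H15.MM24.P 24 11 H15.MM24.B 244823040) : Act (wds g b0h_W) pt b0h_P 24 28 :=
  M.wact b0h_lt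
theorem b0l0_e : ∀ i < 23, (dent b0l0 b0h_P (nat_lit 24)) i = 0 := allZ_sound0 b0l0_e_0
theorem b0l0_ok : DOK b0l0 b0h_P 24 := ⟨b0l0_h, b0l0_e⟩
theorem b0l1_e : ∀ i < 22, (dent b0l1 b0h_P (nat_lit 24)) i = 0 := allZ_sound0 b0l1_e_0
theorem b0l1_ok : DOK b0l1 b0h_P 24 := ⟨b0l1_h, b0l1_e⟩
theorem b0l2_e : ∀ i < 21, (dent b0l2 b0h_P (nat_lit 24)) i = 0 := allZ_sound0 b0l2_e_0
theorem b0l2_ok : DOK b0l2 b0h_P 24 := ⟨b0l2_h, b0l2_e⟩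
theorem b0l3_e : ∀ i < 20, (dent b0l3 b0h_P (nat_lit 24)) i = 0 := allZ_sound0 b0l3_e_0
theorem b0l3_ok : DOK b0l3 b0h_P 24 := ⟨b0l3_h, b0l3_e⟩
theorem b0l4_e : ∀ i < 19, (dent b0l4 b0h_P (nat_lit 24)) i = 0 := allZ_sound0 b0l4_e_0
theorem b0l4_ok : DOK b0l4 b0h_P 24 := ⟨b0l4_h, b0l4_e⟩
theorem b0l5_e : ∀ i < 2, (dent b0l5 b0h_P (nat_lit 24)) i = 0 := allZ_sound0 b0l5_e_0
theorem b0l5_ok : DOK b0l5 b0h_P 24 := ⟨b0l5_h, b0l5_e⟩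
theorem b0l6_e : ∀ i < 15, (dent b0l6 b0h_P (nat_lit 24)) i = 0 := allZ_sound0 b0l6_e_0
theorem b0l6_ok : DOK b0l6 b0h_P 24 := ⟨b0l6_h, b0l6_e⟩
theorem b0_low {G Ω : Type*} [Group G] [MulAction G Ω] {g : ℕ → G} {pt : ℕ → Ω}
    (M : Md g pt H15.MM24.P 24 11 H15.MM24.B 244823040) : SLow (gi (wds g b0h_W)) pt 24 [b0l0, b0l1, b0l2, b0l3, b0l4, b0l5, b0l6] :=
  (((((((SLow.nil).cons b0l6_ok (b0h_act M) b0_f6).cons b0l5_ok (b0h_act M) b0_f5).cons b0l4_ok (b0h_act M) b0_f4).cons b0l3_ok (b0h_act M) b0_f3).cons b0l2_ok (b0h_act M) b0_f2).cons b0l1_ok (b0h_act M) b0_f1).cons b0l0_ok (b0h_act M) b0_f0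
theorem b0_S0 {G Ω : Type*} [Group G] [MulAction G Ω] {g : ℕ → G} {pt : ℕ → Ω}
    (M : Md g pt H15.MM24.P 24 11 H15.MM24.B 244823040) : Stage ⊤ (wds g b0h_W) pt 24 [b0l0, b0l1, b0l2, b0l3, b0l4, b0l5, b0l6] [] :=
  M.stage (b0_low M) b0_c
theorem b0_S1 {G Ω : Type*} [Group G] [MulAction G Ω] {g : ℕ → G} {pt : ℕ → Ω}
    (M : Md g pt H15.MM24.P 24 11 H15.MM24.B 244823040) : Stage ⊤ (wds g b0h_W) pt 24 [b0l1, b0l2, b0l3, b0l4, b0l5, b0l6] [b0l0.Pt 0] :=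
  (b0_S0 M).next
theorem b0_S2 {G Ω : Type*} [Group G] [MulAction G Ω] {g : ℕ → G} {pt : ℕ → Ω}
    (M : Md g pt H15.MM24.P 24 11 H15.MM24.B 244823040) : Stage ⊤ (wds g b0h_W) pt 24 [b0l2, b0l3, b0l4, b0l5, b0l6] [b0l1.Pt 0, b0l0.Pt 0] :=
  (b0_S1 M).next
theorem b0_S3 {G Ω : Type*} [Group G] [MulAction G Ω] {g : ℕ → G} {pt : ℕ → Ω}
    (M : Md g pt H15.MM24.P 24 11 H15.MM24.B 244823040) : Stage ⊤ (wds g b0h_W) pt 24 [b0l3, b0l4, b0l5, b0l6] [b0l2.Pt 0, b0l1.Pt 0, b0l0.Pt 0] :=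
  (b0_S2 M).next
theorem b0_S4 {G Ω : Type*} [Group G] [MulAction G Ω] {g : ℕ → G} {pt : ℕ → Ω}
    (M : Md g pt H15.MM24.P 24 11 H15.MM24.B 244823040) : Stage ⊤ (wds g b0h_W) pt 24 [b0l4, b0l5, b0l6] [b0l3.Pt 0, b0l2.Pt 0, b0l1.Pt 0, b0l0.Pt 0] :=
  (b0_S3 M).next
theorem b0_S5 {G Ω : Type*} [Group G] [MulAction G Ω] {g : ℕ → G} {pt : ℕ → Ω}
    (M : Md g pt H15.MM24.P 24 11 H15.MM24.B 244823040) : Stage ⊤ (wds g b0h_W) pt 24 [b0l5, b0l6] [b0l4.Pt 0, b0l3.Pt 0, b0l2.Pt 0, b0l1.Pt 0, b0l0.Pt 0] :=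
  (b0_S4 M).next
theorem b0_S6 {G Ω : Type*} [Group G] [MulAction G Ω] {g : ℕ → G} {pt : ℕ → Ω}
    (M : Md g pt H15.MM24.P 24 11 H15.MM24.B 244823040) : Stage ⊤ (wds g b0h_W) pt 24 [b0l6] [b0l5.Pt 0, b0l4.Pt 0, b0l3.Pt 0, b0l2.Pt 0, b0l1.Pt 0, b0l0.Pt 0] :=
  (b0_S5 M).next
theorem b0_S7 {G Ω : Type*} [Group G] [MulAction G Ω] {g : ℕ → G} {pt : ℕ → Ω}
    (M : Md g pt H15.MM24.P 24 11 H15.MM24.B 244823040) : Stage ⊤ (wds g b0h_W) pt 24 [] [b0l6.Pt 0, b0l5.Pt 0, b0l4.Pt 0, b0l3.Pt 0, b0l2.Pt 0, b0l1.Pt 0, b0l0.Pt 0] :=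
  (b0_S6 M).next
theorem d0e_act {G Ω : Type*} [Group G] [MulAction G Ω] {g : ℕ → G} {pt : ℕ → Ω}
    (M : Md g pt H15.MM24.P 24 11 H15.MM24.B 244823040) : Act (wds g d0e_W) pt d0e_P 24 11 :=
  M.wact d0e_lt
theorem d0c6_e : ∀ i < 7, (dent d0c6 d0e_P (nat_lit 24)) i = 0 := allZ_sound0 d0c6_e_0
theorem d0c6_ok : DOK d0c6 d0e_P 24 := ⟨d0c6_h, d0c6_e⟩
theorem b0n0_1 : ∀ i < 16, (b0n0.ent H15.MM24.P b0h_P t0_P t0_P d0e_P (nat_lit 11) (nat_lit 1) H15.MM24.B b0l6 [] (memO d0c6)) i = 0 := allZ_sound0 b0n0_1_0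
theorem b0n0_t {G Ω : Type*} [Group G] [MulAction G Ω] {g : ℕ → G} {pt : ℕ → Ω}
    (M : Md g pt H15.MM24.P 24 11 H15.MM24.B 244823040) : TrO (gen (wds g b0h_W) b0l6.K) (wds g t0_W) (wds g t0_W) 1 pt 24 (b0l6.Pt 0) (memO d0c6) :=
  node M (b0_S6 M) (b0h_act M) (t0_act M) (t0_act M) b0n0 ((d0e_act M).mono (by decide)) (fun _ _ => trivial) b0n0_0 b0n0_1 (List.forall_mem_nil _)
theorem d0c4_e : ∀ i < 11, (dent d0c4 d0e_P (nat_lit 24)) i = 0 := allZ_sound0 d0c4_e_0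
theorem d0c4_ok : DOK d0c4 d0e_P 24 := ⟨d0c4_h, d0c4_e⟩
theorem b0n1_1 : ∀ i < 20, (b0n1.ent H15.MM24.P b0h_P t0_P t0_P d0e_P (nat_lit 11) (nat_lit 1) H15.MM24.B b0l4 [b0l5, b0l6] (memO d0c4)) i = 0 := allZ_sound0 b0n1_1_0
theorem b0n1_t {G Ω : Type*} [Group G] [MulAction G Ω] {g : ℕ → G} {pt : ℕ → Ω}
    (M : Md g pt H15.MM24.P 24 11 H15.MM24.B 244823040) : TrO (gen (wds g b0h_W) b0l4.K) (wds g t0_W) (wds g t0_W) 1 pt 24 (b0l4.Pt 0) (memO d0c4) :=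
  node M (b0_S4 M) (b0h_act M) (t0_act M) (t0_act M) b0n1 ((d0e_act M).mono (by decide)) (fun _ _ => trivial) b0n1_0 b0n1_1 (List.forall_mem_nil _)
theorem d0c2_e : ∀ i < 13, (dent d0c2 d0e_P (nat_lit 24)) i = 0 := allZ_sound0 d0c2_e_0
theorem d0c2_ok : DOK d0c2 d0e_P 24 := ⟨d0c2_h, d0c2_e⟩
theorem b0n2_1 : ∀ i < 22, (b0n2.ent H15.MM24.P b0h_P t0_P t0_P d0e_P (nat_lit 11) (nat_lit 1) H15.MM24.B b0l2 [b0l3, b0l4, b0l5, b0l6] (memO d0c2)) i = 0 := allZ_sound0 b0n2_1_0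
theorem b0n2_t {G Ω : Type*} [Group G] [MulAction G Ω] {g : ℕ → G} {pt : ℕ → Ω}
    (M : Md g pt H15.MM24.P 24 11 H15.MM24.B 244823040) : TrO (gen (wds g b0h_W) b0l2.K) (wds g t0_W) (wds g t0_W) 1 pt 24 (b0l2.Pt 0) (memO d0c2) :=
  node M (b0_S2 M) (b0h_act M) (t0_act M) (t0_act M) b0n2 ((d0e_act M).mono (by decide)) (fun _ _ => trivial) b0n2_0 b0n2_1 (List.forall_mem_nil _)
theorem d0c0_e : ∀ i < 15, (dent d0c0 d0e_P (nat_lit 24)) i = 0 := allZ_sound0 d0c0_e_0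
theorem d0c0_ok : DOK d0c0 d0e_P 24 := ⟨d0c0_h, d0c0_e⟩
theorem b0n3_1 : ∀ i < 24, (b0n3.ent H15.MM24.P b0h_P t0_P t0_P d0e_P (nat_lit 11) (nat_lit 1) H15.MM24.B b0l0 [b0l1, b0l2, b0l3, b0l4, b0l5, b0l6] (memO d0c0)) i = 0 := allZ_sound0 b0n3_1_0
theorem b0n3_t {G Ω : Type*} [Group G] [MulAction G Ω] {g : ℕ → G} {pt : ℕ → Ω}
    (M : Md g pt H15.MM24.P 24 11 H15.MM24.B 244823040) : TrO (gen (wds g b0h_W) b0l0.K) (wds g t0_W) (wds g t0_W) 1 pt 24 (b0l0.Pt 0) (memO d0c0) :=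
  node M (b0_S0 M) (b0h_act M) (t0_act M) (t0_act M) b0n3 ((d0e_act M).mono (by decide)) (fun _ _ => trivial) b0n3_0 b0n3_1 (List.forall_mem_nil _)
theorem d0 {G Ω : Type*} [Group G] [MulAction G Ω] {g : ℕ → G} {pt : ℕ → Ω}
    (M : Md g pt H15.MM24.P 24 11 H15.MM24.B 244823040) : Cen ⊤ (wds g t0_W) 1 (wds g d0e_W) pt 24 [d0c0, d0c2, d0c4, d0c6] :=
  (b0_S0 M).top ▸ Cen.lev M (b0_S0 M) (Cen.triv (b0_S1 M) (Cen.lev M (b0_S2 M) (Cen.triv (b0_S3 M) (Cen.lev M (b0_S4 M) (Cen.triv (b0_S5 M) (Cen.lev M (b0_S6 M) (Cen.bot) (b0n0_t M) (t0_act M) (d0e_act M) (fun _ _ => trivial) d0c6_ok d0_f6) (forced (b0_S5 M) (b0h_act M) (t0_act M) _ _ d0_f5)) (b0n1_t M) (t0_act M) (d0e_act M) (fun _ _ => trivial) d0c4_ok d0_f4) (forced (b0_S3 M) (b0h_act M) (t0_act M) _ _ d0_f3)) (b0n2_t M) (t0_act M) (d0e_act M) (fun _ _ => trivial) d0c2_ok d0_f2) (forced (b0_S1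 M) (b0h_act M) (t0_act M) _ _ d0_f1)) (b0n3_t M) (t0_act M) (d0e_act M) (fun _ _ => trivial) d0c0_ok d0_f0
theorem d0_card {G Ω : Type*} [Group G] [MulAction G Ω] {g : ℕ → G} {pt : ℕ → Ω}
    (M : Md g pt H15.MM24.P 24 11 H15.MM24.B 244823040) : Nat.card (Subgroup.centralizer {(wds g t0_W) 0}) = 21504 :=
  (d0 M).card_cent1 M.inj d0_c.1
theorem d0_eq {G Ω : Type*} [Group G] [MulAction G Ω] {g : ℕ → G} {pt : ℕ → Ω}
    (M : Md g pt H15.MM24.P 24 11 H15.MM24.B 244823040) : Subgroup.centralizer (gen (wds g t0_W) 1) = gen (wds g d0e_W) 11 ∧ Nat.card (gen (wds g d0e_W) 11) = 21504 :=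
  d0_c.1 ▸ d0_c.2 ▸ ⟨(d0 M).cent, (d0 M).card M.inj⟩
theorem q0_act {G Ω : Type*} [Group G] [MulAction G Ω] {g : ℕ → G} {pt : ℕ → Ω}
    (M : Md g pt H15.MM24.P 24 11 H15.MM24.B 244823040) : Act (wds g q0_W) pt q0_P 24 4 :=
  M.wact q0_lt
theorem u0h_act {G Ω : Type*} [Group G] [MulAction G Ω] {g : ℕ → G} {pt : ℕ → Ω}
    (M : Md g pt H15.MM24.P 24 11 H15.MM24.B 244823040) : Act (wds g u0h_W) pt u0h_P 24 21 :=
  M.wact u0h_lt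
theorem u0l0_e : ∀ i < 23, (dent u0l0 u0h_P (nat_lit 24)) i = 0 := allZ_sound0 u0l0_e_0
theorem u0l0_ok : DOK u0l0 u0h_P 24 := ⟨u0l0_h, u0l0_e⟩
theorem u0l1_e : ∀ i < 22, (dent u0l1 u0h_P (nat_lit 24)) i = 0 := allZ_sound0 u0l1_e_0
theorem u0l1_ok : DOK u0l1 u0h_P 24 := ⟨u0l1_h, u0l1_e⟩
theorem u0l2_e : ∀ i < 21, (dent u0l2 u0h_P (nat_lit 24)) i = 0 := allZ_sound0 u0l2_e_0
theorem u0l2_ok : DOK u0l2 u0h_P 24 := ⟨u0l2_h, u0l2_e⟩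
theorem u0l3_e : ∀ i < 20, (dent u0l3 u0h_P (nat_lit 24)) i = 0 := allZ_sound0 u0l3_e_0
theorem u0l3_ok : DOK u0l3 u0h_P 24 := ⟨u0l3_h, u0l3_e⟩
theorem u0l4_e : ∀ i < 19, (dent u0l4 u0h_P (nat_lit 24)) i = 0 := allZ_sound0 u0l4_e_0
theorem u0l4_ok : DOK u0l4 u0h_P 24 := ⟨u0l4_h, u0l4_e⟩
theorem u0l5_e : ∀ i < 2, (dent u0l5 u0h_P (nat_lit 24)) i = 0 := allZ_sound0 u0l5_e_0
theorem u0l5_ok : DOK u0l5 u0h_P 24 := ⟨u0l5_h, u0l5_e⟩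
theorem u0l6_e : ∀ i < 15, (dent u0l6 u0h_P (nat_lit 24)) i = 0 := allZ_sound0 u0l6_e_0
theorem u0l6_ok : DOK u0l6 u0h_P 24 := ⟨u0l6_h, u0l6_e⟩
theorem u0_low {G Ω : Type*} [Group G] [MulAction G Ω] {g : ℕ → G} {pt : ℕ → Ω}
    (M : Md g pt H15.MM24.P 24 11 H15.MM24.B 244823040) : SLow (gi (wds g u0h_W)) pt 24 [u0l0, u0l1, u0l2, u0l3, u0l4, u0l5, u0l6] :=
  (((((((SLow.nil).cons u0l6_ok (u0h_act M) u0_f6).cons u0l5_ok (u0h_act M) u0_f5).cons u0l4_ok (u0h_act M) u0_f4).cons u0l3_ok (u0h_act M) u0_f3).cons u0l2_ok (u0h_act M) u0_f2).cons u0l1_ok (u0h_act M) u0_f1).cons u0l0_ok (u0h_act M) u0_f0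
theorem u0_S0 {G Ω : Type*} [Group G] [MulAction G Ω] {g : ℕ → G} {pt : ℕ → Ω}
    (M : Md g pt H15.MM24.P 24 11 H15.MM24.B 244823040) : Stage ⊤ (wds g u0h_W) pt 24 [u0l0, u0l1, u0l2, u0l3, u0l4, u0l5, u0l6] [] :=
  M.stage (u0_low M) u0_c
theorem u0_S1 {G Ω : Type*} [Group G] [MulAction G Ω] {g : ℕ → G} {pt : ℕ → Ω}
    (M : Md g pt H15.MM24.P 24 11 H15.MM24.B 244823040) : Stage ⊤ (wds g u0h_W) pt 24 [u0l1, u0l2, u0l3, u0l4, u0l5, u0l6] [u0l0.Pt 0] :=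
  (u0_S0 M).next
theorem u0_S2 {G Ω : Type*} [Group G] [MulAction G Ω] {g : ℕ → G} {pt : ℕ → Ω}
    (M : Md g pt H15.MM24.P 24 11 H15.MM24.B 244823040) : Stage ⊤ (wds g u0h_W) pt 24 [u0l2, u0l3, u0l4, u0l5, u0l6] [u0l1.Pt 0, u0l0.Pt 0] :=
  (u0_S1 M).next
theorem u0_S3 {G Ω : Type*} [Group G] [MulAction G Ω] {g : ℕ → G} {pt : ℕ → Ω}
    (M : Md g pt H15.MM24.P 24 11 H15.MM24.B 244823040) : Stage ⊤ (wds g u0h_W) pt 24 [u0l3, u0l4, u0l5, u0l6] [u0l2.Pt 0, u0l1.Pt 0, u0l0.Pt 0] :=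
  (u0_S2 M).next
theorem u0_S4 {G Ω : Type*} [Group G] [MulAction G Ω] {g : ℕ → G} {pt : ℕ → Ω}
    (M : Md g pt H15.MM24.P 24 11 H15.MM24.B 244823040) : Stage ⊤ (wds g u0h_W) pt 24 [u0l4, u0l5, u0l6] [u0l3.Pt 0, u0l2.Pt 0, u0l1.Pt 0, u0l0.Pt 0] :=
  (u0_S3 M).next
theorem u0_S5 {G Ω : Type*} [Group G] [MulAction G Ω] {g : ℕ → G} {pt : ℕ → Ω}
    (M : Md g pt H15.MM24.P 24 11 H15.MM24.B 244823040) : Stage ⊤ (wds g u0h_W) pt 24 [u0l5, u0l6] [u0l4.Pt 0, u0l3.Pt 0, u0l2.Pt 0, u0l1.Pt 0, u0l0.Pt 0] :=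
  (u0_S4 M).next
theorem u0_S6 {G Ω : Type*} [Group G] [MulAction G Ω] {g : ℕ → G} {pt : ℕ → Ω}
    (M : Md g pt H15.MM24.P 24 11 H15.MM24.B 244823040) : Stage ⊤ (wds g u0h_W) pt 24 [u0l6] [u0l5.Pt 0, u0l4.Pt 0, u0l3.Pt 0, u0l2.Pt 0, u0l1.Pt 0, u0l0.Pt 0] :=
  (u0_S5 M).next
theorem u0_S7 {G Ω : Type*} [Group G] [MulAction G Ω] {g : ℕ → G} {pt : ℕ → Ω}
    (M : Md g pt H15.MM24.P 24 11 H15.MM24.B 244823040) : Stage ⊤ (wds g u0h_W) pt 24 [] [u0l6.Pt 0, u0l5.Pt 0, u0l4.Pt 0, u0l3.Pt 0, u0l2.Pt 0, u0l1.Pt 0, u0l0.Pt 0] :=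
  (u0_S6 M).next
theorem f0e_act {G Ω : Type*} [Group G] [MulAction G Ω] {g : ℕ → G} {pt : ℕ → Ω}
    (M : Md g pt H15.MM24.P 24 11 H15.MM24.B 244823040) : Act (wds g f0e_W) pt f0e_P 24 10 :=
  M.wact f0e_lt
theorem f0c6_e : ∀ i < 1, (dent f0c6 f0e_P (nat_lit 24)) i = 0 := allZ_sound0 f0c6_e_0
theorem f0c6_ok : DOK f0c6 f0e_P 24 := ⟨f0c6_h, f0c6_e⟩
theorem u0n0_1 : ∀ i < 16, (u0n0.ent H15.MM24.P u0h_P q0_P q0_P f0e_P (nat_lit 11) (nat_lit 4) H15.MM24.B u0l6 [] (memO f0c6)) i = 0 := allZ_sound0 u0n0_1_0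
theorem u0n0_t {G Ω : Type*} [Group G] [MulAction G Ω] {g : ℕ → G} {pt : ℕ → Ω}
    (M : Md g pt H15.MM24.P 24 11 H15.MM24.B 244823040) : TrO (gen (wds g u0h_W) u0l6.K) (wds g q0_W) (wds g q0_W) 4 pt 24 (u0l6.Pt 0) (memO f0c6) :=
  node M (u0_S6 M) (u0h_act M) (q0_act M) (q0_act M) u0n0 ((f0e_act M).mono (by decide)) (fun _ _ => trivial) u0n0_0 u0n0_1 (List.forall_mem_nil _)
theorem f0c0_e : ∀ i < 7, (dent f0c0 f0e_P (nat_lit 24)) i = 0 := allZ_sound0 f0c0_e_0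
theorem f0c0_ok : DOK f0c0 f0e_P 24 := ⟨f0c0_h, f0c0_e⟩
theorem u0n1_1 : ∀ i < 24, (u0n1.ent H15.MM24.P u0h_P q0_P q0_P f0e_P (nat_lit 11) (nat_lit 4) H15.MM24.B u0l0 [u0l1, u0l2, u0l3, u0l4, u0l5, u0l6] (memO f0c0)) i = 0 := allZ_sound0 u0n1_1_0
theorem u0n1_t {G Ω : Type*} [Group G] [MulAction G Ω] {g : ℕ → G} {pt : ℕ → Ω}
    (M : Md g pt H15.MM24.P 24 11 H15.MM24.B 244823040) : TrO (gen (wds g u0h_W) u0l0.K) (wds g q0_W) (wds g q0_W) 4 pt 24 (u0l0.Pt 0) (memO f0c0) :=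
  node M (u0_S0 M) (u0h_act M) (q0_act M) (q0_act M) u0n1 ((f0e_act M).mono (by decide)) (fun _ _ => trivial) u0n1_0 u0n1_1 (List.forall_mem_nil _)
theorem f0 {G Ω : Type*} [Group G] [MulAction G Ω] {g : ℕ → G} {pt : ℕ → Ω}
    (M : Md g pt H15.MM24.P 24 11 H15.MM24.B 244823040) : Cen ⊤ (wds g q0_W) 4 (wds g f0e_W) pt 24 [f0c0, f0c6] :=
  (u0_S0 M).top ▸ Cen.lev M (u0_S0 M) (Cen.triv (u0_S1 M) (Cen.triv (u0_S2 M) (Cen.triv (u0_S3 M) (Cen.triv (u0_S4 M) (Cen.triv (u0_S5 M) (Cen.lev M (u0_S6 M) (Cen.bot) (u0n0_t M) (q0_act M) (f0e_act M) (fun _ _ => trivial) f0c6_ok f0_f6) (forced (u0_S5 M) (u0h_act M) (q0_act M) _ _ f0_f5)) (forced (u0_S4 M) (u0h_act M) (q0_act M) _ _ f0_f4)) (forced (u0_S3 M) (u0h_act M) (q0_act M) _ _ f0_f3)) (forced (u0_S2 M) (u0h_act M) (q0_act M) _ _ f0_f2)) (forced (u0_S1 M) (u0h_act M) (q0_act M) _ _ f0_f1)) (u0n1_t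 M) (q0_act M) (f0e_act M) (fun _ _ => trivial) f0c0_ok f0_f0
theorem f0_eq {G Ω : Type*} [Group G] [MulAction G Ω] {g : ℕ → G} {pt : ℕ → Ω}
    (M : Md g pt H15.MM24.P 24 11 H15.MM24.B 244823040) : Subgroup.centralizer (gen (wds g q0_W) 4) = gen (wds g f0e_W) 10 ∧ Nat.card (gen (wds g f0e_W) 10) = 16 :=
  f0_c.1 ▸ f0_c.2 ▸ ⟨(f0 M).cent, (f0 M).card M.inj⟩
theorem con0 {G Ω : Type*} [Group G] [MulAction G Ω] {g : ℕ → G} {pt : ℕ → Ω}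
    (M : Md g pt H15.MM24.P 24 11 H15.MM24.B 244823040) : H7.One.Con 2 ((wds g cov2r_W) 0) :=
  (congrArg (fun W => H7.One.Con 2 (evA g W)) n0_e.2).mp
  (H7.One.con (t := (wds g t0_W)) M (d0e_act M) (q0_act M) Nat.prime_two (d0_eq M) (congrArg (evA g) n0_e.1) (by decide) (k' := 4) (f0_eq M) n0_c n0_k)
theorem t1_act {G Ω : Type*} [Group G] [MulAction G Ω] {g : ℕ → G} {pt : ℕ → Ω}
    (M : Md g pt H15.MM24.P 24 11 H15.MM24.B 244823040) : Act (wds g t1_W) pt t1_P 24 1 :=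
  M.wact t1_lt
theorem b1h_act {G Ω : Type*} [Group G] [MulAction G Ω] {g : ℕ → G} {pt : ℕ → Ω}
    (M : Md g pt H15.MM24.P 24 11 H15.MM24.B 244823040) : Act (wds g b1h_W) pt b1h_P 24 15 :=
  M.wact b1h_lt
theorem b1l0_e : ∀ i < 23, (dent b1l0 b1h_P (nat_lit 24)) i = 0 := allZ_sound0 b1l0_e_0
theorem b1l0_ok : DOK b1l0 b1h_P 24 := ⟨b1l0_h, b1l0_e⟩
theorem b1l1_e : ∀ i < 22, (dent b1l1 b1h_P (nat_lit 24)) i = 0 := allZ_sound0 b1l1_e_0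
theorem b1l1_ok : DOK b1l1 b1h_P 24 := ⟨b1l1_h, b1l1_e⟩
theorem b1l2_e : ∀ i < 21, (dent b1l2 b1h_P (nat_lit 24)) i = 0 := allZ_sound0 b1l2_e_0
theorem b1l2_ok : DOK b1l2 b1h_P 24 := ⟨b1l2_h, b1l2_e⟩
theorem b1l3_e : ∀ i < 20, (dent b1l3 b1h_P (nat_lit 24)) i = 0 := allZ_sound0 b1l3_e_0
theorem b1l3_ok : DOK b1l3 b1h_P 24 := ⟨b1l3_h, b1l3_e⟩
theorem b1l4_e : ∀ i < 19, (dent b1l4 b1h_P (nat_lit 24)) i = 0 := allZ_sound0 b1l4_e_0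
theorem b1l4_ok : DOK b1l4 b1h_P 24 := ⟨b1l4_h, b1l4_e⟩
theorem b1l5_e : ∀ i < 15, (dent b1l5 b1h_P (nat_lit 24)) i = 0 := allZ_sound0 b1l5_e_0
theorem b1l5_ok : DOK b1l5 b1h_P 24 := ⟨b1l5_h, b1l5_e⟩
theorem b1l6_e : ∀ i < 2, (dent b1l6 b1h_P (nat_lit 24)) i = 0 := allZ_sound0 b1l6_e_0
theorem b1l6_ok : DOK b1l6 b1h_P 24 := ⟨b1l6_h, b1l6_e⟩
theorem b1_low {G Ω : Type*} [Group G] [MulAction G Ω] {g : ℕ → G} {pt : ℕ → Ω}
    (M : Md g pt H15.MM24.P 24 11 H15.MM24.B 244823040) : SLow (gi (wds g b1h_W)) pt 24 [b1l0, b1l1, b1l2, b1l3, b1l4, b1l5, b1l6] :=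
  (((((((SLow.nil).cons b1l6_ok (b1h_act M) b1_f6).cons b1l5_ok (b1h_act M) b1_f5).cons b1l4_ok (b1h_act M) b1_f4).cons b1l3_ok (b1h_act M) b1_f3).cons b1l2_ok (b1h_act M) b1_f2).cons b1l1_ok (b1h_act M) b1_f1).cons b1l0_ok (b1h_act M) b1_f0
theorem b1_S0 {G Ω : Type*} [Group G] [MulAction G Ω] {g : ℕ → G} {pt : ℕ → Ω}
    (M : Md g pt H15.MM24.P 24 11 H15.MM24.B 244823040) : Stage ⊤ (wds g b1h_W) pt 24 [b1l0, b1l1, b1l2, b1l3, b1l4, b1l5, b1l6] [] :=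
  M.stage (b1_low M) b1_c
theorem b1_S1 {G Ω : Type*} [Group G] [MulAction G Ω] {g : ℕ → G} {pt : ℕ → Ω}
    (M : Md g pt H15.MM24.P 24 11 H15.MM24.B 244823040) : Stage ⊤ (wds g b1h_W) pt 24 [b1l1, b1l2, b1l3, b1l4, b1l5, b1l6] [b1l0.Pt 0] :=
  (b1_S0 M).next
theorem b1_S2 {G Ω : Type*} [Group G] [MulAction G Ω] {g : ℕ → G} {pt : ℕ → Ω}
    (M : Md g pt H15.MM24.P 24 11 H15.MM24.B 244823040) : Stage ⊤ (wds g b1h_W) pt 24 [b1l2, b1l3, b1l4, b1l5, b1l6] [b1l1.Pt 0, b1l0.Pt 0] :=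
  (b1_S1 M).next
theorem b1_S3 {G Ω : Type*} [Group G] [MulAction G Ω] {g : ℕ → G} {pt : ℕ → Ω}
    (M : Md g pt H15.MM24.P 24 11 H15.MM24.B 244823040) : Stage ⊤ (wds g b1h_W) pt 24 [b1l3, b1l4, b1l5, b1l6] [b1l2.Pt 0, b1l1.Pt 0, b1l0.Pt 0] :=
  (b1_S2 M).next
theorem b1_S4 {G Ω : Type*} [Group G] [MulAction G Ω] {g : ℕ → G} {pt : ℕ → Ω}
    (M : Md g pt H15.MM24.P 24 11 H15.MM24.B 244823040) : Stage ⊤ (wds g b1h_W) pt 24 [b1l4, b1l5, b1l6] [b1l3.Pt 0, b1l2.Pt 0, b1l1.Pt 0, b1l0.Pt 0] :=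
  (b1_S3 M).next
theorem b1_S5 {G Ω : Type*} [Group G] [MulAction G Ω] {g : ℕ → G} {pt : ℕ → Ω}
    (M : Md g pt H15.MM24.P 24 11 H15.MM24.B 244823040) : Stage ⊤ (wds g b1h_W) pt 24 [b1l5, b1l6] [b1l4.Pt 0, b1l3.Pt 0, b1l2.Pt 0, b1l1.Pt 0, b1l0.Pt 0] :=
  (b1_S4 M).next
theorem b1_S6 {G Ω : Type*} [Group G] [MulAction G Ω] {g : ℕ → G} {pt : ℕ → Ω}
    (M : Md g pt H15.MM24.P 24 11 H15.MM24.B 244823040) : Stage ⊤ (wds g b1h_W) pt 24 [b1l6] [b1l5.Pt 0, b1l4.Pt 0, b1l3.Pt 0, b1l2.Pt 0, b1l1.Pt 0, b1l0.Pt 0] :=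
  (b1_S5 M).next
theorem b1_S7 {G Ω : Type*} [Group G] [MulAction G Ω] {g : ℕ → G} {pt : ℕ → Ω}
    (M : Md g pt H15.MM24.P 24 11 H15.MM24.B 244823040) : Stage ⊤ (wds g b1h_W) pt 24 [] [b1l6.Pt 0, b1l5.Pt 0, b1l4.Pt 0, b1l3.Pt 0, b1l2.Pt 0, b1l1.Pt 0, b1l0.Pt 0] :=
  (b1_S6 M).next
theorem d1e_act {G Ω : Type*} [Group G] [MulAction G Ω] {g : ℕ → G} {pt : ℕ → Ω}
    (M : Md g pt H15.MM24.P 24 11 H15.MM24.B 244823040) : Act (wds g d1e_W) pt d1e_P 24 5 :=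
  M.wact d1e_lt
theorem b1n0_1 : ∀ i < 3, (b1n0.ent H15.MM24.P b1h_P t1_P t1_P d1e_P (nat_lit 11) (nat_lit 1) H15.MM24.B b1l6 [] (fun w => Nat.xor w (b1l6.Pt (nat_lit 0)))) i = 0 := allZ_sound0 b1n0_1_0
theorem b1n0_t {G Ω : Type*} [Group G] [MulAction G Ω] {g : ℕ → G} {pt : ℕ → Ω}
    (M : Md g pt H15.MM24.P 24 11 H15.MM24.B 244823040) : TrO (gen (wds g b1h_W) b1l6.K) (wds g t1_W) (wds g t1_W) 1 pt 24 (b1l6.Pt 0) (fun w => Nat.xor w (b1l6.Pt (nat_lit 0))) :=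
  node M (b1_S6 M) (b1h_act M) (t1_act M) (t1_act M) b1n0 ((d1e_act M).mono (by decide)) (fun _ _ => trivial) b1n0_0 b1n0_1 (List.forall_mem_nil _)
theorem d1c4_e : ∀ i < 15, (dent d1c4 d1e_P (nat_lit 24)) i = 0 := allZ_sound0 d1c4_e_0
theorem d1c4_ok : DOK d1c4 d1e_P 24 := ⟨d1c4_h, d1c4_e⟩
theorem b1n1_1 : ∀ i < 20, (b1n1.ent H15.MM24.P b1h_P t1_P t1_P d1e_P (nat_lit 11) (nat_lit 1) H15.MM24.B b1l4 [b1l5, b1l6] (memO d1c4)) i = 0 := allZ_sound0 b1n1_1_0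
theorem b1n1_t {G Ω : Type*} [Group G] [MulAction G Ω] {g : ℕ → G} {pt : ℕ → Ω}
    (M : Md g pt H15.MM24.P 24 11 H15.MM24.B 244823040) : TrO (gen (wds g b1h_W) b1l4.K) (wds g t1_W) (wds g t1_W) 1 pt 24 (b1l4.Pt 0) (memO d1c4) :=
  node M (b1_S4 M) (b1h_act M) (t1_act M) (t1_act M) b1n1 ((d1e_act M).mono (by decide)) (fun _ _ => trivial) b1n1_0 b1n1_1 (List.forall_mem_nil _)
theorem d1c2_e : ∀ i < 19, (dent d1c2 d1e_P (nat_lit 24)) i = 0 := allZ_sound0 d1c2_e_0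
theorem d1c2_ok : DOK d1c2 d1e_P 24 := ⟨d1c2_h, d1c2_e⟩
theorem b1n2y6_act {G Ω : Type*} [Group G] [MulAction G Ω] {g : ℕ → G} {pt : ℕ → Ω}
    (M : Md g pt H15.MM24.P 24 11 H15.MM24.B 244823040) : Act (wds g b1n2y6_W) pt b1n2y6_P 24 1 :=
  M.wact b1n2y6_lt
theorem b1r3k_act {G Ω : Type*} [Group G] [MulAction G Ω] {g : ℕ → G} {pt : ℕ → Ω}
    (M : Md g pt H15.MM24.P 24 11 H15.MM24.B 244823040) : Act (wds g b1r3k_W) pt b1r3k_P 24 3 :=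
  M.wact b1r3k_lt
theorem b1n3_1 : ∀ i < 20, (b1n3.ent H15.MM24.P b1h_P t1_P b1n2y6_P b1r3k_P (nat_lit 11) (nat_lit 1) H15.MM24.B b1l4 [b1l5, b1l6] (fun _ => nat_lit 1)) i = 0 := allZ_sound0 b1n3_1_0
theorem b1n3_t {G Ω : Type*} [Group G] [MulAction G Ω] {g : ℕ → G} {pt : ℕ → Ω}
    (M : Md g pt H15.MM24.P 24 11 H15.MM24.B 244823040) : TrO (gen (wds g b1h_W) b1l4.K) (wds g t1_W) (wds g b1n2y6_W) 1 pt 24 (b1l4.Pt 0) (fun _ => nat_lit 1) :=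
  node M (b1_S4 M) (b1h_act M) (t1_act M) (b1n2y6_act M) b1n3 ((b1r3k_act M).mono (by decide)) (fun _ _ => trivial) b1n3_0 b1n3_1 (List.forall_mem_nil _)
theorem b1r3 {G Ω : Type*} [Group G] [MulAction G Ω] {g : ℕ → G} {pt : ℕ → Ω}
    (M : Md g pt H15.MM24.P 24 11 H15.MM24.B 244823040) : Ref (gen (wds g b1h_W) (topK [b1l4, b1l5, b1l6])) (wds g t1_W) (wds g b1n2y6_W) 1 :=
  (b1n3_t M).ref
theorem b1n2_1 : ∀ i < 22, (b1n2.ent H15.MM24.P b1h_P t1_P t1_P d1e_P (nat_lit 11) (nat_lit 1) H15.MM24.B b1l2 [b1l3, b1l4, b1l5, b1l6] (memO d1c2)) i = 0 := allZ_sound0 b1n2_1_0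
theorem b1n2_t {G Ω : Type*} [Group G] [MulAction G Ω] {g : ℕ → G} {pt : ℕ → Ω}
    (M : Md g pt H15.MM24.P 24 11 H15.MM24.B 244823040) : TrO (gen (wds g b1h_W) b1l2.K) (wds g t1_W) (wds g t1_W) 1 pt 24 (b1l2.Pt 0) (memO d1c2) :=
  node M (b1_S2 M) (b1h_act M) (t1_act M) (t1_act M) b1n2 ((d1e_act M).mono (by decide)) (fun _ _ => trivial) b1n2_0 b1n2_1 (List.forall_mem_cons.2 ⟨b1r3 M, List.forall_mem_nil _⟩)
theorem d1c0_e : ∀ i < 23, (dent d1c0 d1e_P (nat_lit 24)) i = 0 := allZ_sound0 d1c0_e_0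
theorem d1c0_ok : DOK d1c0 d1e_P 24 := ⟨d1c0_h, d1c0_e⟩
theorem b1n4_1 : ∀ i < 24, (b1n4.ent H15.MM24.P b1h_P t1_P t1_P d1e_P (nat_lit 11) (nat_lit 1) H15.MM24.B b1l0 [b1l1, b1l2, b1l3, b1l4, b1l5, b1l6] (memO d1c0)) i = 0 := allZ_sound0 b1n4_1_0
theorem b1n4_t {G Ω : Type*} [Group G] [MulAction G Ω] {g : ℕ → G} {pt : ℕ → Ω}
    (M : Md g pt H15.MM24.P 24 11 H15.MM24.B 244823040) : TrO (gen (wds g b1h_W) b1l0.K) (wds g t1_W) (wds g t1_W) 1 pt 24 (b1l0.Pt 0) (memO d1c0) :=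
  node M (b1_S0 M) (b1h_act M) (t1_act M) (t1_act M) b1n4 ((d1e_act M).mono (by decide)) (fun _ _ => trivial) b1n4_0 b1n4_1 (List.forall_mem_nil _)
theorem d1 {G Ω : Type*} [Group G] [MulAction G Ω] {g : ℕ → G} {pt : ℕ → Ω}
    (M : Md g pt H15.MM24.P 24 11 H15.MM24.B 244823040) : Cen ⊤ (wds g t1_W) 1 (wds g d1e_W) pt 24 [d1c0, d1c2, d1c4] :=
  (b1_S0 M).top ▸ Cen.lev M (b1_S0 M) (Cen.triv (b1_S1 M) (Cen.lev M (b1_S2 M) (Cen.triv (b1_S3 M) (Cen.lev M (b1_S4 M) (Cen.triv (b1_S5 M) (Cen.triv (b1_S6 M) (Cen.bot) (b1n0_t M)) (forced (b1_S5 M) (b1h_act M) (t1_act M) _ _ d1_f5)) (b1n1_t M) (t1_act M) (d1e_act M) (fun _ _ => trivial) d1c4_ok d1_f4) (forced (b1_S3 M) (b1h_act M) (t1_act M) _ _ d1_f3)) (b1n2_t M) (t1_act M) (d1e_act M) (fun _ _ => trivial) d1c2_ok d1_f2) (forced (b1_S1 M) (b1h_act M) (t1_act M) _ _ d1_f1)) (b1n4_t M) (t1_act M) (d1e_act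 M) (fun _ _ => trivial) d1c0_ok d1_f0
theorem d1_card {G Ω : Type*} [Group G] [MulAction G Ω] {g : ℕ → G} {pt : ℕ → Ω}
    (M : Md g pt H15.MM24.P 24 11 H15.MM24.B 244823040) : Nat.card (Subgroup.centralizer {(wds g t1_W) 0}) = 7680 :=
  (d1 M).card_cent1 M.inj d1_c.1
theorem d1_eq {G Ω : Type*} [Group G] [MulAction G Ω] {g : ℕ → G} {pt : ℕ → Ω}
    (M : Md g pt H15.MM24.P 24 11 H15.MM24.B 244823040) : Subgroup.centralizer (gen (wds g t1_W) 1) = gen (wds g d1e_W) 5 ∧ Nat.card (gen (wds g d1e_W) 5) = 7680 :=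
  d1_c.1 ▸ d1_c.2 ▸ ⟨(d1 M).cent, (d1 M).card M.inj⟩
theorem q1_act {G Ω : Type*} [Group G] [MulAction G Ω] {g : ℕ → G} {pt : ℕ → Ω}
    (M : Md g pt H15.MM24.P 24 11 H15.MM24.B 244823040) : Act (wds g q1_W) pt q1_P 24 6 :=
  M.wact q1_lt
theorem u1h_act {G Ω : Type*} [Group G] [MulAction G Ω] {g : ℕ → G} {pt : ℕ → Ω}
    (M : Md g pt H15.MM24.P 24 11 H15.MM24.B 244823040) : Act (wds g u1h_W) pt u1h_P 24 18 :=
  M.wact u1h_lt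
theorem u1l0_e : ∀ i < 23, (dent u1l0 u1h_P (nat_lit 24)) i = 0 := allZ_sound0 u1l0_e_0
theorem u1l0_ok : DOK u1l0 u1h_P 24 := ⟨u1l0_h, u1l0_e⟩
theorem u1l1_e : ∀ i < 22, (dent u1l1 u1h_P (nat_lit 24)) i = 0 := allZ_sound0 u1l1_e_0
theorem u1l1_ok : DOK u1l1 u1h_P 24 := ⟨u1l1_h, u1l1_e⟩
theorem u1l2_e : ∀ i < 21, (dent u1l2 u1h_P (nat_lit 24)) i = 0 := allZ_sound0 u1l2_e_0
theorem u1l2_ok : DOK u1l2 u1h_P 24 := ⟨u1l2_h, u1l2_e⟩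
theorem u1l3_e : ∀ i < 20, (dent u1l3 u1h_P (nat_lit 24)) i = 0 := allZ_sound0 u1l3_e_0
theorem u1l3_ok : DOK u1l3 u1h_P 24 := ⟨u1l3_h, u1l3_e⟩
theorem u1l4_e : ∀ i < 19, (dent u1l4 u1h_P (nat_lit 24)) i = 0 := allZ_sound0 u1l4_e_0
theorem u1l4_ok : DOK u1l4 u1h_P 24 := ⟨u1l4_h, u1l4_e⟩
theorem u1l5_e : ∀ i < 2, (dent u1l5 u1h_P (nat_lit 24)) i = 0 := allZ_sound0 u1l5_e_0
theorem u1l5_ok : DOK u1l5 u1h_P 24 := ⟨u1l5_h, u1l5_e⟩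
theorem u1l6_e : ∀ i < 15, (dent u1l6 u1h_P (nat_lit 24)) i = 0 := allZ_sound0 u1l6_e_0
theorem u1l6_ok : DOK u1l6 u1h_P 24 := ⟨u1l6_h, u1l6_e⟩
theorem u1_low {G Ω : Type*} [Group G] [MulAction G Ω] {g : ℕ → G} {pt : ℕ → Ω}
    (M : Md g pt H15.MM24.P 24 11 H15.MM24.B 244823040) : SLow (gi (wds g u1h_W)) pt 24 [u1l0, u1l1, u1l2, u1l3, u1l4, u1l5, u1l6] :=
  (((((((SLow.nil).cons u1l6_ok (u1h_act M) u1_f6).cons u1l5_ok (u1h_act M) u1_f5).cons u1l4_ok (u1h_act M) u1_f4).cons u1l3_ok (u1h_act M) u1_f3).cons u1l2_ok (u1h_act M) u1_f2).cons u1l1_ok (u1h_act M) u1_f1).cons u1l0_ok (u1h_act M) u1_f0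
theorem u1_S0 {G Ω : Type*} [Group G] [MulAction G Ω] {g : ℕ → G} {pt : ℕ → Ω}
    (M : Md g pt H15.MM24.P 24 11 H15.MM24.B 244823040) : Stage ⊤ (wds g u1h_W) pt 24 [u1l0, u1l1, u1l2, u1l3, u1l4, u1l5, u1l6] [] :=
  M.stage (u1_low M) u1_c
theorem u1_S1 {G Ω : Type*} [Group G] [MulAction G Ω] {g : ℕ → G} {pt : ℕ → Ω}
    (M : Md g pt H15.MM24.P 24 11 H15.MM24.B 244823040) : Stage ⊤ (wds g u1h_W) pt 24 [u1l1, u1l2, u1l3, u1l4, u1l5, u1l6] [u1l0.Pt 0] :=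
  (u1_S0 M).next
theorem u1_S2 {G Ω : Type*} [Group G] [MulAction G Ω] {g : ℕ → G} {pt : ℕ → Ω}
    (M : Md g pt H15.MM24.P 24 11 H15.MM24.B 244823040) : Stage ⊤ (wds g u1h_W) pt 24 [u1l2, u1l3, u1l4, u1l5, u1l6] [u1l1.Pt 0, u1l0.Pt 0] :=
  (u1_S1 M).next
theorem u1_S3 {G Ω : Type*} [Group G] [MulAction G Ω] {g : ℕ → G} {pt : ℕ → Ω}
    (M : Md g pt H15.MM24.P 24 11 H15.MM24.B 244823040) : Stage ⊤ (wds g u1h_W) pt 24 [u1l3, u1l4, u1l5, u1l6] [u1l2.Pt 0, u1l1.Pt 0, u1l0.Pt 0] :=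
  (u1_S2 M).next
theorem u1_S4 {G Ω : Type*} [Group G] [MulAction G Ω] {g : ℕ → G} {pt : ℕ → Ω}
    (M : Md g pt H15.MM24.P 24 11 H15.MM24.B 244823040) : Stage ⊤ (wds g u1h_W) pt 24 [u1l4, u1l5, u1l6] [u1l3.Pt 0, u1l2.Pt 0, u1l1.Pt 0, u1l0.Pt 0] :=
  (u1_S3 M).next
theorem u1_S5 {G Ω : Type*} [Group G] [MulAction G Ω] {g : ℕ → G} {pt : ℕ → Ω}
    (M : Md g pt H15.MM24.P 24 11 H15.MM24.B 244823040) : Stage ⊤ (wds g u1h_W) pt 24 [u1l5, u1l6] [u1l4.Pt 0, u1l3.Pt 0, u1l2.Pt 0, u1l1.Pt 0, u1l0.Pt 0] :=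
  (u1_S4 M).next
theorem u1_S6 {G Ω : Type*} [Group G] [MulAction G Ω] {g : ℕ → G} {pt : ℕ → Ω}
    (M : Md g pt H15.MM24.P 24 11 H15.MM24.B 244823040) : Stage ⊤ (wds g u1h_W) pt 24 [u1l6] [u1l5.Pt 0, u1l4.Pt 0, u1l3.Pt 0, u1l2.Pt 0, u1l1.Pt 0, u1l0.Pt 0] :=
  (u1_S5 M).next
theorem u1_S7 {G Ω : Type*} [Group G] [MulAction G Ω] {g : ℕ → G} {pt : ℕ → Ω}
    (M : Md g pt H15.MM24.P 24 11 H15.MM24.B 244823040) : Stage ⊤ (wds g u1h_W) pt 24 [] [u1l6.Pt 0, u1l5.Pt 0, u1l4.Pt 0, u1l3.Pt 0, u1l2.Pt 0, u1l1.Pt 0, u1l0.Pt 0] :=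
  (u1_S6 M).next
theorem f1e_act {G Ω : Type*} [Group G] [MulAction G Ω] {g : ℕ → G} {pt : ℕ → Ω}
    (M : Md g pt H15.MM24.P 24 11 H15.MM24.B 244823040) : Act (wds g f1e_W) pt f1e_P 24 7 :=
  M.wact f1e_lt
theorem f1c6_e : ∀ i < 3, (dent f1c6 f1e_P (nat_lit 24)) i = 0 := allZ_sound0 f1c6_e_0
theorem f1c6_ok : DOK f1c6 f1e_P 24 := ⟨f1c6_h, f1c6_e⟩
theorem u1n0_1 : ∀ i < 16, (u1n0.ent H15.MM24.P u1h_P q1_P q1_P f1e_P (nat_lit 11) (nat_lit 6) H15.MM24.B u1l6 [] (memO f1c6)) i = 0 := allZ_sound0 u1n0_1_0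
theorem u1n0_t {G Ω : Type*} [Group G] [MulAction G Ω] {g : ℕ → G} {pt : ℕ → Ω}
    (M : Md g pt H15.MM24.P 24 11 H15.MM24.B 244823040) : TrO (gen (wds g u1h_W) u1l6.K) (wds g q1_W) (wds g q1_W) 6 pt 24 (u1l6.Pt 0) (memO f1c6) :=
  node M (u1_S6 M) (u1h_act M) (q1_act M) (q1_act M) u1n0 ((f1e_act M).mono (by decide)) (fun _ _ => trivial) u1n0_0 u1n0_1 (List.forall_mem_nil _)
theorem f1c4_e : ∀ i < 3, (dent f1c4 f1e_P (nat_lit 24)) i = 0 := allZ_sound0 f1c4_e_0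
theorem f1c4_ok : DOK f1c4 f1e_P 24 := ⟨f1c4_h, f1c4_e⟩
theorem u1n1_1 : ∀ i < 20, (u1n1.ent H15.MM24.P u1h_P q1_P q1_P f1e_P (nat_lit 11) (nat_lit 6) H15.MM24.B u1l4 [u1l5, u1l6] (memO f1c4)) i = 0 := allZ_sound0 u1n1_1_0
theorem u1n1_t {G Ω : Type*} [Group G] [MulAction G Ω] {g : ℕ → G} {pt : ℕ → Ω}
    (M : Md g pt H15.MM24.P 24 11 H15.MM24.B 244823040) : TrO (gen (wds g u1h_W) u1l4.K) (wds g q1_W) (wds g q1_W) 6 pt 24 (u1l4.Pt 0) (memO f1c4) :=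
  node M (u1_S4 M) (u1h_act M) (q1_act M) (q1_act M) u1n1 ((f1e_act M).mono (by decide)) (fun _ _ => trivial) u1n1_0 u1n1_1 (List.forall_mem_nil _)
theorem f1c0_e : ∀ i < 3, (dent f1c0 f1e_P (nat_lit 24)) i = 0 := allZ_sound0 f1c0_e_0
theorem f1c0_ok : DOK f1c0 f1e_P 24 := ⟨f1c0_h, f1c0_e⟩
theorem u1n2_1 : ∀ i < 24, (u1n2.ent H15.MM24.P u1h_P q1_P q1_P f1e_P (nat_lit 11) (nat_lit 6) H15.MM24.B u1l0 [u1l1, u1l2, u1l3, u1l4, u1l5, u1l6] (memO f1c0)) i = 0 := allZ_sound0 u1n2_1_0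
theorem u1n2_t {G Ω : Type*} [Group G] [MulAction G Ω] {g : ℕ → G} {pt : ℕ → Ω}
    (M : Md g pt H15.MM24.P 24 11 H15.MM24.B 244823040) : TrO (gen (wds g u1h_W) u1l0.K) (wds g q1_W) (wds g q1_W) 6 pt 24 (u1l0.Pt 0) (memO f1c0) :=
  node M (u1_S0 M) (u1h_act M) (q1_act M) (q1_act M) u1n2 ((f1e_act M).mono (by decide)) (fun _ _ => trivial) u1n2_0 u1n2_1 (List.forall_mem_nil _)
theorem f1 {G Ω : Type*} [Group G] [MulAction G Ω] {g : ℕ → G} {pt : ℕ → Ω}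
    (M : Md g pt H15.MM24.P 24 11 H15.MM24.B 244823040) : Cen ⊤ (wds g q1_W) 6 (wds g f1e_W) pt 24 [f1c0, f1c4, f1c6] :=
  (u1_S0 M).top ▸ Cen.lev M (u1_S0 M) (Cen.triv (u1_S1 M) (Cen.triv (u1_S2 M) (Cen.triv (u1_S3 M) (Cen.lev M (u1_S4 M) (Cen.triv (u1_S5 M) (Cen.lev M (u1_S6 M) (Cen.bot) (u1n0_t M) (q1_act M) (f1e_act M) (fun _ _ => trivial) f1c6_ok f1_f6) (forced (u1_S5 M) (u1h_act M) (q1_act M) _ _ f1_f5)) (u1n1_t M) (q1_act M) (f1e_act M) (fun _ _ => trivial) f1c4_ok f1_f4) (forced (u1_S3 M) (u1h_act M) (q1_act M) _ _ f1_f3)) (forced (u1_S2 M) (u1h_act M) (q1_act M) _ _ f1_f2)) (forced (u1_S1 M) (u1h_act M) (q1_act M) _ _ f1_f1)) (u1n2_t M) (q1_act M) (f1e_act M) (fun _ _ => trivial) f1c0_ok f1_f0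
theorem f1_eq {G Ω : Type*} [Group G] [MulAction G Ω] {g : ℕ → G} {pt : ℕ → Ω}
    (M : Md g pt H15.MM24.P 24 11 H15.MM24.B 244823040) : Subgroup.centralizer (gen (wds g q1_W) 6) = gen (wds g f1e_W) 7 ∧ Nat.card (gen (wds g f1e_W) 7) = 64 :=
  f1_c.1 ▸ f1_c.2 ▸ ⟨(f1 M).cent, (f1 M).card M.inj⟩
theorem con1 {G Ω : Type*} [Group G] [MulAction G Ω] {g : ℕ → G} {pt : ℕ → Ω}
    (M : Md g pt H15.MM24.P 24 11 H15.MM24.B 244823040) : H7.One.Con 2 ((wds g cov2r_W) 1) :=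
  (congrArg (fun W => H7.One.Con 2 (evA g W)) n1_e.2).mp
  (H7.One.con (t := (wds g t1_W)) M (d1e_act M) (q1_act M) Nat.prime_two (d1_eq M) (congrArg (evA g) n1_e.1) (by decide) (k' := 6) (f1_eq M) n1_c n1_k)
theorem con {G Ω : Type*} [Group G] [MulAction G Ω] {g : ℕ → G} {pt : ℕ → Ω}
    (M : Md g pt H15.MM24.P 24 11 H15.MM24.B 244823040) {y : G} (hy : orderOf y = 2) : H7.One.Con 2 y :=
  by
    have h2 : y ^ 2 = 1 := hy ▸ pow_orderOf_eq_one y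
    rcases cov2 M (e := 1) h2 h2 with rfl | ⟨r, hr, h⟩
    · simp at hy
    · exact match r, hr with | 0, _ => (con0 M).conj h | 1, _ => (con1 M).conj h

end H7.OneB
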