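import Cfsg.Agent.H7.PA4
import Cfsg.Agent.H24.Miller

/-! Product action wreath products, part 5: no Steiner system on a square grid; arithmetic. -/

set_option autoImplicit false

namespace H7.PA

open Equiv Equiv.Perm Subgroup

variable {Ω : Type*} [Fintype Ω] [DecidableEq Ω] {G : Subgroup (Perm Ω)}
variable {A : Type*} [Fintype A] [DecidableEq A]

theorem Stein.inv {h t : ℕ} (S : Stein G h t) {B X : Finset Ω} (hB : SJ G B) (e : B.card = h)
    (hX : X.card = t) (x1 : X ⊆ B) {g : Perm Ω} (hg : g ∈ G) (x2 : ∀ x ∈ X, g x ∈ B) :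
    ∀ y ∈ B, g y ∈ B := fun y hy => by
  have := S.un _ _ (hB.image hg) (by rw [card_img, e]) hB e (by
    rw [← hX, ← card_img X g]
    exact Finset.card_le_card (Finset.subset_inter (Finset.image_subset_image x1)
      (Finset.image_subset_iff.2 x2)))
  rw [← this]
  exact Finset.mem_image_of_mem _ hy

/-- a column -/
def col (e : A × A ≃ Ω) (a : A) : Finset Ω := Finset.univ.image fun b => e (a, b)

omit [Fintype Ω] [DecidableEq A] in
theorem mem_col {e : A × A ≃ Ω} {a x y : A} : e (x, y) ∈ col e a ↔ x = a := by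
  simp [col, eq_comm]

omit [Fintype Ω] [DecidableEq A] in
theorem card_col (e : A × A ≃ Ω) (a : A) : (col e a).card = Fintype.card A := by
  rw [col, Finset.card_image_of_injective _ fun b b' h => by simpa using h, Finset.card_univ]

/-- the configuration of `t` points -/
def cfg (e : A × A ≃ Ω) (a c l : A) (U : Finset A) : Finset Ω :=
  insert (e (c, l)) (U.image fun u => e (a, u))

omit [Fintype Ω] [Fintype A] [DecidableEq A] in
theorem mem_cfg {e : A × A ≃ Ω} {a c l x y : A} {U : Finset A} :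
    e (x, y) ∈ cfg e a c l U ↔ (x = c ∧ y = l) ∨ (x = a ∧ y ∈ U) := by
  simp only [cfg, Finset.mem_insert, Finset.mem_image, EmbeddingLike.apply_eq_iff_eq,
    Prod.mk.injEq]
  constructor
  · rintro (h | ⟨u, hu, rfl, rfl⟩)
    · exact Or.inl h
    · exact Or.inr ⟨rfl, hu⟩
  · rintro (h | ⟨rfl, h⟩)
    · exact Or.inl h
    · exact Or.inr ⟨y, h, rfl, rfl⟩

omit [Fintype Ω] [Fintype A] [DecidableEq A] in
theorem card_cfg {e : A × A ≃ Ω} {a c l : A} (hac : a ≠ c) (U : Finset A) :
    (cfg e a c l U).card = U.card + 1 := by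
  rw [cfg, Finset.card_insert_of_notMem (by simp [hac]),
    Finset.card_image_of_injective _ fun b b' h => by simpa using h]

theorem two_cols {t : ℕ} (hm : 5 ≤ Fintype.card A) (S : Stein G (Fintype.card A) t)
    (e : A × A ≃ Ω)
    (h1 : ∀ σ : Perm A, sign σ = 1 → ∃ g ∈ G, ∀ a b, g (e (a, b)) = e (σ a, b))
    (hr : ∀ b, SJ G (col ((prodComm A A).trans e) b)) {a c l : A} (hac : a ≠ c) {U : Finset A}
    (hU : U.card + 1 = t) (h2 : t = 2 → l ∉ U) {B : Finset Ω} (hB : SJ G B)
    (hc : B.card = Fintype.card A) (hX : cfg e a c l U ⊆ B) {x y : A} (hx : e (x, y) ∈ B) :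
    x = a ∨ x = c := by
  by_contra hn
  have hn' : x ∉ ({a, c} : Finset A) := by simpa using hn
  have cX : (cfg e a c l U).card = t := by rw [card_cfg hac, hU]
  let Y : Finset Ω := (({a, c} : Finset A)ᶜ).image fun z => e (z, y)
  have cY : Y.card = Fintype.card A - 2 := by
    rw [Finset.card_image_of_injective _ fun b b' h => by simpa using h, Finset.card_compl,
      Finset.card_pair hac]
  have sY : Y ⊆ B := Finset.image_subset_iff.2 fun z hz => by
    obtain ⟨σ, s1, s2, s3⟩ := even_move ({a, c} : Finset A) (by rw [Finset.card_pair hac]; omega)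
      hn' (Finset.mem_compl.1 hz)
    obtain ⟨g, hg, k⟩ := h1 σ s1
    have := S.inv hB hc cX hX hg (fun ω hω => by
      obtain ⟨⟨p, q⟩, rfl⟩ := e.surjective ω
      rw [k, s2 p (by rcases mem_cfg.1 hω with h | h <;> simp [h.1])]
      exact hX hω) _ hx
    rwa [k, s3] at this
  have dj : Disjoint (cfg e a c l U) Y := Finset.disjoint_left.2 fun ω h1 h2 => by
    obtain ⟨z, hz, rfl⟩ := Finset.mem_image.1 h2
    rcases mem_cfg.1 h1 with h | h <;> simp [h.1] at hz
  have k := Finset.card_le_card (Finset.union_subset hX sY)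
  rw [Finset.card_union_of_disjoint dj] at k
  have t2 := S.t2
  have k2 := S.un _ _ hB hc (hr y) (card_col _ _) (by
    refine le_trans (by omega : t ≤ Y.card) (Finset.card_le_card (Finset.subset_inter sY
      (Finset.image_subset_iff.2 fun z _ => ?_)))
    exact (mem_col (e := (prodComm A A).trans e) (x := y) (y := z)).2 rfl)
  obtain ⟨u, hu⟩ : U.Nonempty := Finset.card_pos.1 (by omega)
  have k3 := (mem_col (e := (prodComm A A).trans e) (x := u) (y := a)).1
    (k2 ▸ hX (mem_cfg.2 (Or.inr ⟨rfl, hu⟩)))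
  have k4 := (mem_col (e := (prodComm A A).trans e) (x := l) (y := c)).1
    (k2 ▸ hX (mem_cfg.2 (Or.inl ⟨rfl, rfl⟩)))
  exact h2 (by omega) (by rw [k4, ← k3]; exact hu)

omit [Fintype A] in
theorem swap_pres {U : Finset A} {p q : A} (h : p ∈ U ↔ q ∈ U) {y : A} (hy : y ∈ U) :
    swap p q y ∈ U := by
  rw [swap_apply_def]
  split_ifs with h1 h2
  · exact h.1 (h1 ▸ hy)
  · exact h.2 (h2 ▸ hy)
  · exact hy

theorem Stein.rect {t : ℕ} (hm : 5 ≤ Fintype.card A) (S : Stein G (Fintype.card A) t)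
    (e : A × A ≃ Ω)
    (h1 : ∀ σ : Perm A, sign σ = 1 → ∃ g ∈ G, ∀ a b, g (e (a, b)) = e (σ a, b))
    (h2 : ∀ σ : Perm A, sign σ = 1 → ∃ g ∈ G, ∀ a b, g (e (a, b)) = e (a, σ b))
    (hr : ∀ b, SJ G (col ((prodComm A A).trans e) b)) (hc : ∀ a, SJ G (col e a)) (h3 : 3 ≤ t)
    {a c : A} (hac : a ≠ c) {U : Finset A} (hU : U.card + 1 = t) :
    Fintype.card A = 2 * U.card ∧ ∃ B, SJ G B ∧ B.card = Fintype.card A ∧
      (∀ y, e (a, y) ∈ B ↔ y ∈ U) ∧ ∀ y ∈ U, e (c, y) ∈ B := by
  have th := S.th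
  obtain ⟨l, hl⟩ : U.Nonempty := Finset.card_pos.1 (by omega)
  have cX : (cfg e a c l U).card = t := by rw [card_cfg hac, hU]
  obtain ⟨B, hB, cB, hX⟩ := S.ex _ cX
  have i1 : B ∩ col e a = U.image fun u => e (a, u) :=
    S.inter (hc a) (card_col _ _) hB cB (hX (Finset.mem_insert_self _ _))
      (fun h => hac (mem_col.1 h).symm) ((Finset.subset_insert _ _).trans hX)
      (Finset.image_subset_iff.2 fun u _ => mem_col.2 rfl)
      (by rw [Finset.card_image_of_injective _ fun b b' h => by simpa using h, hU])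
  have i2 : ∀ y, e (a, y) ∈ B ↔ y ∈ U := fun y => by
    have : e (a, y) ∈ B ∩ col e a ↔ y ∈ U := by rw [i1]; simp
    rw [← this]; simp [mem_col]
  let D : Finset A := Finset.univ.filter fun y => e (c, y) ∈ B
  have mD : ∀ y, y ∈ D ↔ e (c, y) ∈ B := fun y => by simp [D]
  have cD : U.card + D.card = Fintype.card A := by
    have : B = (U.image fun u => e (a, u)) ∪ D.image fun u => e (c, u) := by
      ext ω
      obtain ⟨⟨x, y⟩, rfl⟩ := e.surjective ω
      simp only [Finset.mem_union, Finset.mem_image, EmbeddingLike.apply_eq_iff_eq, Prod.mk.injEq]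
      constructor
      · intro h
        rcases two_cols hm S e h1 hr hac hU (by omega) hB cB hX h with rfl | rfl
        · exact Or.inl ⟨y, (i2 y).1 h, rfl, rfl⟩
        · exact Or.inr ⟨y, (mD y).2 h, rfl, rfl⟩
      · rintro (⟨u, hu, rfl, rfl⟩ | ⟨u, hu, rfl, rfl⟩)
        · exact (i2 u).2 hu
        · exact (mD u).1 hu
    rw [← cB, this, Finset.card_union_of_disjoint (Finset.disjoint_left.2 fun ω k1 k2 => by
      obtain ⟨u, -, rfl⟩ := Finset.mem_image.1 k1
      obtain ⟨v, -, k⟩ := Finset.mem_image.1 k2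
      exact hac (congrArg Prod.fst (e.injective k)).symm),
      Finset.card_image_of_injective _ fun b b' h => by simpa using h,
      Finset.card_image_of_injective _ fun b b' h => by simpa using h]
  have lD : l ∈ D := (mD l).2 (hX (Finset.mem_insert_self _ _))
  have iv : ∀ σ : Perm A, sign σ = 1 → σ l = l → (∀ u ∈ U, σ u ∈ U) → ∀ y ∈ D, σ y ∈ D :=
    fun σ s1 s2 s3 y hy => by
      obtain ⟨g, hg, k⟩ := h2 σ s1
      rw [mD, ← k]
      refine S.inv hB cB cX hX hg (fun ω hω => ?_) _ ((mD y).1 hy)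
      obtain ⟨⟨p, q⟩, rfl⟩ := e.surjective ω
      rw [k]
      rcases mem_cfg.1 hω with ⟨rfl, rfl⟩ | ⟨rfl, h⟩
      · rw [s2]; exact hX hω
      · exact (i2 _).2 (s3 q h)
  have dsw : ∀ p q r s : A, p ≠ q → r ≠ s → l ≠ p → l ≠ q → l ≠ r → l ≠ s → q ≠ r → q ≠ s →
      (p ∈ U ↔ q ∈ U) → (r ∈ U ↔ s ∈ U) → p ∈ D → q ∈ D :=
    fun p q r s a1 a2 a3 a4 a5 a6 a7 a8 a9 a10 hp => by
      have := iv (swap r s * swap p q) (by
        rw [Perm.sign_mul, sign_swap a1, sign_swap a2]; simp) (by
        rw [Perm.mul_apply, swap_apply_of_ne_of_ne a3 a4, swap_apply_of_ne_of_ne a5 a6])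
        (fun u hu => swap_pres a10 (swap_pres a9 hu)) p hp
      rwa [Perm.mul_apply, swap_apply_left, swap_apply_of_ne_of_ne a7 a8] at this
  have cU : Uᶜ.card = D.card := by rw [Finset.card_compl]; omega
  have DU : D ⊆ U := fun y hy => by
    by_contra hn
    obtain ⟨y', k1, k2⟩ := Finset.exists_mem_notMem_of_card_lt_card (s := D.erase l) (t := Uᶜ)
      (by rw [Finset.card_erase_of_mem lD]; omega)
    rw [Finset.mem_compl] at k1
    have k3 : l ≠ y' := ne_of_mem_of_not_mem hl k1
    have k4 : y' ∉ D := fun h => k2 (Finset.mem_erase.2 ⟨k3.symm, h⟩)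
    by_cases k5 : U.card + 3 ≤ Fintype.card A
    · obtain ⟨σ, s1, s2, s3⟩ := even_move U k5 hn k1
      exact k4 (s3 ▸ iv σ s1 (s2 l hl) (fun u hu => by rw [s2 u hu]; exact hu) y hy)
    · obtain ⟨r, hr, s, hs, hrs⟩ := Finset.one_lt_card.1 (show 1 < (U.erase l).card by
        rw [Finset.card_erase_of_mem hl]; omega)
      rw [Finset.mem_erase] at hr hs
      exact k4 (dsw y y' r s (ne_of_mem_of_not_mem hy k4) hrs (ne_of_mem_of_not_mem hl hn) k3
        hr.1.symm hs.1.symm (ne_of_mem_of_not_mem hr.2 k1).symm (ne_of_mem_of_not_mem hs.2 k1).symm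
        (by tauto) (by tauto) hy)
  have UD : U ⊆ D := fun y hy => by
    by_contra hn
    obtain ⟨y', k1⟩ : (D.erase l).Nonempty := Finset.card_pos.1 (by
      rw [Finset.card_erase_of_mem lD]; omega)
    rw [Finset.mem_erase] at k1
    obtain ⟨r, hr, s, hs, hrs⟩ := Finset.one_lt_card.1 (show 1 < Uᶜ.card by omega)
    rw [Finset.mem_compl] at hr hs
    have := DU k1.2
    exact hn (dsw y' y r s (ne_of_mem_of_not_mem k1.2 hn) hrs k1.1.symm
      (ne_of_mem_of_not_mem lD hn) (ne_of_mem_of_not_mem hl hr) (ne_of_mem_of_not_mem hl hs)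
      (ne_of_mem_of_not_mem hy hr) (ne_of_mem_of_not_mem hy hs) (by tauto) (by tauto) k1.2)
  have := Finset.card_le_card DU
  have := Finset.card_le_card UD
  exact ⟨by omega, B, hB, cB, i2, fun y hy => (mD y).1 (UD hy)⟩

theorem Stein.grid {t : ℕ} (hm : 5 ≤ Fintype.card A) (S : Stein G (Fintype.card A) t)
    (e : A × A ≃ Ω)
    (h1 : ∀ σ : Perm A, sign σ = 1 → ∃ g ∈ G, ∀ a b, g (e (a, b)) = e (σ a, b))
    (h2 : ∀ σ : Perm A, sign σ = 1 → ∃ g ∈ G, ∀ a b, g (e (a, b)) = e (a, σ b))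
    (hr : ∀ b, SJ G (col ((prodComm A A).trans e) b)) (hc : ∀ a, SJ G (col e a)) : False := by
  have th := S.th
  have t2 := S.t2
  obtain ⟨a, c, hac⟩ := Fintype.one_lt_card_iff.1 (show 1 < Fintype.card A by omega)
  rcases Nat.eq_or_lt_of_le t2 with h3 | h3
  · obtain ⟨B, hB, cB, hX⟩ := S.ex (cfg e a c c {a}) (by rw [card_cfg hac, ← h3]; simp)
    have hs : B ⊆ (({a, c} : Finset A) ×ˢ ({a, c} : Finset A)).image e := fun ω hω => by
      obtain ⟨⟨x, y⟩, rfl⟩ := e.surjective ω
      have k1 := two_cols hm S e h1 hr hac (U := {a}) (l := c) (by rw [← h3]; simp)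
        (fun _ => by simpa using hac.symm) hB cB hX hω
      have k2 := two_cols hm S ((prodComm A A).trans e) (fun σ hσ => by
          obtain ⟨g, hg, k⟩ := h2 σ hσ
          exact ⟨g, hg, fun a b => k b a⟩) hc hac (U := {a}) (l := c) (by rw [← h3]; simp)
        (fun _ => by simpa using hac.symm) hB cB (by simpa [cfg] using hX) (x := y) (y := x) hω
      exact Finset.mem_image_of_mem _ (by simp [k1, k2])
    have := (Finset.card_le_card hs).trans Finset.card_image_le
    rw [Finset.card_product, Finset.card_pair hac] at this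
    omega
  obtain ⟨U, -, cU⟩ := Finset.exists_subset_card_eq (s := (Finset.univ : Finset A)) (n := t - 1)
    (by rw [Finset.card_univ]; omega)
  obtain ⟨u, hu⟩ : U.Nonempty := Finset.card_pos.1 (by omega)
  obtain ⟨p, hp⟩ := ex_avoid U (by omega)
  have c1 := Finset.card_erase_of_mem hu
  have c2 : (insert p (U.erase u)).card + 1 = t := by
    rw [Finset.card_insert_of_notMem fun h => hp (Finset.mem_of_mem_erase h)]; omega
  obtain ⟨m1, B, b1, b2, b3, b4⟩ := S.rect hm e h1 h2 hr hc h3 hac (U := U) (by omega)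
  obtain ⟨-, B', b5, b6, b7, b8⟩ := S.rect hm e h1 h2 hr hc h3 hac c2
  have := S.un _ _ b1 b2 b5 b6 (by
    have hs : (({a, c} : Finset A) ×ˢ U.erase u).image e ⊆ B ∩ B' :=
      Finset.image_subset_iff.2 fun ⟨x, y⟩ h => by
        rw [Finset.mem_product] at h
        have k1 := Finset.mem_of_mem_erase h.2
        have k2 : y ∈ insert p (U.erase u) := Finset.mem_insert_of_mem h.2
        rcases Finset.mem_insert.1 h.1 with k | k
        · obtain rfl : x = a := k
          exact Finset.mem_inter.2 ⟨(b3 y).2 k1, (b7 y).2 k2⟩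
        · obtain rfl : x = c := Finset.mem_singleton.1 k
          exact Finset.mem_inter.2 ⟨b4 y k1, b8 y k2⟩
    have k := Finset.card_le_card hs
    rw [Finset.card_image_of_injective _ e.injective, Finset.card_product,
      Finset.card_pair hac] at k
    omega)
  exact hp ((b3 p).1 (this ▸ (b7 p).2 (Finset.mem_insert_self _ _)))

theorem Tr.miller {t : ℕ} (h : Tr G t) (q p r : ℕ) (hp : p.Prime)
    (hn : Fintype.card Ω = q * p + r) (h1 : 1 ≤ q) (h2 : q < p) (h3 : q < r) (h4 : 3 ≤ r)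
    (h5 : r + 1 ≤ t) : alternatingGroup Ω ≤ G :=
  H24.miller G hp hn h1 h2 h3 h4 (h.mono h5).mt

theorem Tr.finish {t m k : ℕ} (h : Tr G t) (hm : 5 ≤ m) (hn : Fintype.card Ω = m ^ (k + 2))
    (ht : m ^ (k + 1) + 1 ≤ t ∨ (1 ≤ k ∧ m ^ (k + 1) + 2 ≤ 2 * t)) {x : Perm Ω} (hx : x ∈ G)
    (h1 : x ≠ 1) (hs : x.support.card ≤ 3 * m ^ (k + 1)) : alternatingGroup Ω ≤ G := by
  by_contra hA
  have hh : m ≤ m ^ (k + 1) := Nat.le_self_pow (by omega) m
  have hn' : Fintype.card Ω = m * m ^ (k + 1) := by rw [hn]; ring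
  by_cases h10 : 10 ≤ m
  · obtain ⟨μ, a1, a2, a3⟩ := (h.mono (show 3 ≤ t by omega)).bochert hA hx h1 (by nlinarith)
    generalize m ^ (k + 1) = H at *
    obtain ⟨ν, rfl⟩ : ∃ ν, μ = ν + 4 := ⟨μ - 4, by omega⟩
    have b1 : 10 * H - 2 ≤ Fintype.card Ω - 2 := by
      have : 10 * H ≤ m * H := Nat.mul_le_mul_right _ h10
      omega
    have b2 := (Nat.mul_le_mul_left (ν + 4 - 3) b1).trans a3
    obtain ⟨J, rfl⟩ : ∃ J, H = J + 10 := ⟨H - 10, by omega⟩
    rw [show ν + 4 - 3 = ν + 1 by omega, show ν + 4 - 2 = ν + 2 by omega,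
      show ν + 4 - 1 = ν + 3 by omega, show 10 * (J + 10) - 2 = 10 * J + 98 by omega] at b2
    nlinarith
  apply hA
  rcases (show k = 0 ∨ k = 1 ∨ k = 2 ∨ 3 ≤ k by omega) with rfl | rfl | rfl | hk
  · rcases (show m = 5 ∨ m = 6 ∨ m = 7 ∨ m = 8 ∨ m = 9 by omega) with rfl | rfl | rfl | rfl | rfl
    · exact h.miller 2 11 3 (by norm_num) hn (by omega) (by omega) (by omega) (by omega) (by omega)
    · exact h.miller 1 31 5 (by norm_num) hn (by omega) (by omega) (by omega) (by omega) (by omega)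
    · exact h.miller 1 43 6 (by norm_num) hn (by omega) (by omega) (by omega) (by omega) (by omega)
    · exact h.miller 1 61 3 (by norm_num) hn (by omega) (by omega) (by omega) (by omega) (by omega)
    · exact h.miller 1 73 8 (by norm_num) hn (by omega) (by omega) (by omega) (by omega) (by omega)
  · rcases (show m = 5 ∨ m = 6 ∨ m = 7 ∨ m = 8 ∨ m = 9 by omega) with rfl | rfl | rfl | rfl | rfl
    · exact h.miller 1 113 12 (by norm_num) hn (by omega) (by omega) (by omega) (by omega) (by omega)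
    · exact h.miller 1 211 5 (by norm_num) hn (by omega) (by omega) (by omega) (by omega) (by omega)
    · exact h.miller 1 337 6 (by norm_num) hn (by omega) (by omega) (by omega) (by omega) (by omega)
    · exact h.miller 1 509 3 (by norm_num) hn (by omega) (by omega) (by omega) (by omega) (by omega)
    · exact h.miller 1 719 10 (by norm_num) hn (by omega) (by omega) (by omega) (by omega) (by omega)
  · rcases (show m = 5 ∨ m = 6 ∨ m = 7 ∨ m = 8 ∨ m = 9 by omega) with rfl | rfl | rfl | rfl | rfl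
    · exact h.miller 1 619 6 (by norm_num) hn (by omega) (by omega) (by omega) (by omega) (by omega)
    · exact h.miller 1 1291 5 (by norm_num) hn (by omega) (by omega) (by omega) (by omega) (by omega)
    · exact h.miller 1 2393 8 (by norm_num) hn (by omega) (by omega) (by omega) (by omega) (by omega)
    · exact h.miller 1 4093 3 (by norm_num) hn (by omega) (by omega) (by omega) (by omega) (by omega)
    · exact h.miller 1 6553 8 (by norm_num) hn (by omega) (by omega) (by omega) (by omega) (by omega)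
  have b1 : 625 ≤ m ^ (k + 1) :=
    (Nat.pow_le_pow_left hm 4).trans (Nat.pow_le_pow_right (by omega) (by omega))
  generalize m ^ (k + 1) = H at *
  obtain ⟨p, hp, p1, p2⟩ := Nat.exists_prime_lt_and_le_two_mul (H / 8) (by omega)
  have b2 : 5 * H ≤ Fintype.card Ω := hn' ▸ Nat.mul_le_mul_right _ hm
  have b3 : Fintype.card Ω ≤ 9 * H := hn' ▸ Nat.mul_le_mul_right _ (by omega)
  set N := Fintype.card Ω - (H / 2 - p + 1) with hN
  have d1 := Nat.div_add_mod N p
  have d2 := Nat.mod_lt N hp.pos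
  have d3 : N / p < 72 := by
    rw [Nat.div_lt_iff_lt_mul hp.pos]; omega
  have d4 : 1 ≤ N / p := by
    rw [Nat.le_div_iff_mul_le hp.pos]; omega
  refine h.miller (N / p) p (N % p + (H / 2 - p + 1)) hp ?_ d4 (by omega) (by omega) (by omega)
    (by omega)
  rw [mul_comm]; omega

end H7.PA
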