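import Cfsg.Agent.H7.PA3
import Cfsg.Agent.H7.PA5

/-! Product action wreath products, part 6: the wreath product. -/

set_option autoImplicit false

namespace H7.PA

open Equiv Equiv.Perm Subgroup

variable {ι A : Type}

/-- an element of the wreath product -/
def wp (π : Perm ι) (τ : ι → Perm A) : Perm (ι → A) where
  toFun f i := τ i (f (π.symm i))
  invFun f i := (τ (π i)).symm (f (π i))
  left_inv f := by ext i; simp
  right_inv f := by ext i; simp

theorem wp_apply (π : Perm ι) (τ : ι → Perm A) (f : ι → A) (i : ι) :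
    wp π τ f i = τ i (f (π.symm i)) := rfl

theorem wp_apply' (π : Perm ι) (τ : ι → Perm A) (f : ι → A) (i : ι) :
    wp π τ f (π i) = τ (π i) (f i) := by simp [wp_apply]

variable (ι A) in
/-- the wreath product in product action -/
def W : Subgroup (Perm (ι → A)) where
  carrier := {g | ∃ (π : Perm ι) (τ : ι → Perm A), ∀ f i, g f i = τ i (f (π.symm i))}
  one_mem' := ⟨1, fun _ => 1, fun _ _ => rfl⟩
  mul_mem' := by
    rintro a b ⟨π, τ, h⟩ ⟨π', τ', h'⟩
    exact ⟨π * π', fun i => τ i * τ' (π.symm i), fun f i => by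
      rw [Perm.mul_apply, h, h']; rfl⟩
  inv_mem' := by
    rintro a ⟨π, τ, h⟩
    refine ⟨π⁻¹, fun i => (τ (π i))⁻¹, fun f i => ?_⟩
    have := h (a⁻¹ f) (π i)
    simp only [Perm.coe_inv, apply_symm_apply, symm_apply_apply] at this
    show a.symm f i = (τ (π i)).symm (f (π i))
    rw [this]; simp

theorem wp_mem (π : Perm ι) (τ : ι → Perm A) : wp π τ ∈ W ι A := ⟨π, τ, fun _ _ => rfl⟩

theorem mem_W {g : Perm (ι → A)} (h : g ∈ W ι A) : ∃ π τ, g = wp π τ := by
  obtain ⟨π, τ, h⟩ := h
  exact ⟨π, τ, Equiv.ext fun f => funext fun i => h f i⟩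

/-- the base group -/
def bs : (ι → Perm A) →* Perm (ι → A) where
  toFun τ := wp 1 τ
  map_one' := by ext f i; rfl
  map_mul' a b := by ext f i; rfl

theorem bs_apply (τ : ι → Perm A) (f : ι → A) (i : ι) : bs τ f i = τ i (f i) := rfl

variable [DecidableEq ι]

/-- a permutation of one coordinate -/
def cx (i : ι) (σ : Perm A) : Perm (ι → A) := bs (Pi.mulSingle i σ)

theorem cx_mem (i : ι) (σ : Perm A) : cx i σ ∈ W ι A := wp_mem _ _

theorem cx_self (i : ι) (σ : Perm A) (f : ι → A) : cx i σ f i = σ (f i) := by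
  simp [cx, bs_apply]

theorem cx_ne {i j : ι} (h : j ≠ i) (σ : Perm A) (f : ι → A) : cx i σ f j = f j := by
  simp [cx, bs_apply, h]

theorem cx_apply (i : ι) (σ : Perm A) (f : ι → A) :
    cx i σ f = Function.update f i (σ (f i)) := by
  ext j
  by_cases h : j = i
  · subst h; simp [cx_self]
  · simp [cx_ne h, h]

theorem cx_fix {i : ι} {σ : Perm A} {f : ι → A} : cx i σ f = f ↔ σ (f i) = f i := by
  rw [cx_apply, Function.update_eq_self_iff]

theorem cx_conj (π : Perm ι) (τ : ι → Perm A) (j : ι) (σ : Perm A) :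
    wp π τ * cx j σ * (wp π τ)⁻¹ = cx (π j) (τ (π j) * σ * (τ (π j))⁻¹) := by
  rw [mul_inv_eq_iff_eq_mul]
  ext f i
  obtain ⟨i, rfl⟩ := π.surjective i
  rw [Perm.mul_apply, Perm.mul_apply, wp_apply']
  by_cases h : i = j
  · subst h
    rw [cx_self, cx_self, wp_apply']; simp
  · rw [cx_ne h, cx_ne (by simpa using h), wp_apply']

theorem cx_mul (i : ι) (σ τ : Perm A) : cx i (σ * τ) = cx i σ * cx i τ := by
  rw [cx, Pi.mulSingle_mul, map_mul]; rfl

theorem cx_pow (i : ι) (σ : Perm A) (n : ℕ) : cx i σ ^ n = cx i (σ ^ n) := by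
  rw [cx, ← map_pow, ← Pi.mulSingle_pow]; rfl

theorem cx_one (i : ι) : cx i (1 : Perm A) = 1 := by
  rw [cx, Pi.mulSingle_one, map_one]

/-- splitting off a coordinate -/
def sp (i : ι) : A × ({j // j ≠ i} → A) ≃ (ι → A) where
  toFun p j := if h : j = i then p.1 else p.2 ⟨j, h⟩
  invFun f := (f i, fun j => f j)
  left_inv := by
    rintro ⟨a, l⟩
    refine Prod.ext (by simp) (funext fun j => ?_)
    simp [j.2]
  right_inv f := by
    ext j
    by_cases h : j = i <;> simp [h]

theorem sp_self (i : ι) (p : A × ({j // j ≠ i} → A)) : sp i p i = p.1 := by simp [sp]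

theorem sp_ne (i : ι) (p : A × ({j // j ≠ i} → A)) (j : {j // j ≠ i}) : sp i p j = p.2 j := by
  simp [sp, j.2]

theorem sp_symm (i : ι) (f : ι → A) : (sp i).symm f = (f i, fun j : {j // j ≠ i} => f j) := rfl

theorem sp_eta (i : ι) (f : ι → A) : sp i (f i, fun j : {j // j ≠ i} => f j) = f :=
  (sp i).apply_symm_apply f

/-- transport of permutations -/
def tr (i : ι) : Perm (A × ({j // j ≠ i} → A)) ≃* Perm (ι → A) := (sp i).permCongrHom

theorem tr_apply (i : ι) (g : Perm (A × ({j // j ≠ i} → A))) (p : A × ({j // j ≠ i} → A)) :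
    tr i g (sp i p) = sp i (g p) := by
  simp [tr, Equiv.permCongrHom]

theorem tr_cx (i : ι) (σ : Perm A) : tr i (pr σ 1) = cx i σ := by
  ext f j
  obtain ⟨⟨a, l⟩, rfl⟩ := (sp i).surjective f
  rw [tr_apply, pr_apply]
  by_cases h : j = i
  · subst h; rw [cx_self, sp_self, sp_self]
  · rw [cx_ne h]
    exact (sp_ne i _ ⟨j, h⟩).trans (sp_ne i (a, l) ⟨j, h⟩).symm

theorem tr_mem (i : ι) (σ : Perm A) {w : Perm ({j // j ≠ i} → A)} (hw : w ∈ W {j // j ≠ i} A) :
    tr i (pr σ w) ∈ W ι A := by
  obtain ⟨π, τ, h⟩ := hw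
  refine ⟨Perm.ofSubtype π, fun j => if h : j = i then σ else τ ⟨j, h⟩, fun f j => ?_⟩
  obtain ⟨⟨a, l⟩, rfl⟩ := (sp i).surjective f
  rw [tr_apply, pr_apply]
  have e : (Perm.ofSubtype π).symm = Perm.ofSubtype π⁻¹ := (map_inv Perm.ofSubtype π).symm
  by_cases hj : j = i
  · subst hj
    rw [e, Perm.ofSubtype_apply_of_not_mem _ (by simp), sp_self, sp_self]; simp
  · rw [e, Perm.ofSubtype_apply_of_mem (p := fun j => j ≠ i) _ hj, sp_ne]
    refine (sp_ne i _ ⟨j, hj⟩).trans ?_
    simp only [hj, dite_false]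
    exact h l _

variable [Fintype ι] [Fintype A] [DecidableEq A]

theorem sign_pr {L : Type*} [Fintype L] [DecidableEq L] (σ : Perm A) (w : Perm L) :
    sign (pr σ w) = sign σ ^ Fintype.card L * sign w ^ Fintype.card A := by
  have e : pr σ w = prodCongrLeft (fun _ : L => σ) * prodCongrRight (fun _ : A => w) := by
    ext ⟨a, l⟩ <;> rfl
  rw [e, Perm.sign_mul, sign_prodCongrLeft, sign_prodCongrRight]
  simp

theorem sign_tr (i : ι) (g : Perm (A × ({j // j ≠ i} → A))) : sign (tr i g) = sign g :=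
  sign_permCongr _ _

theorem card_supp_tr (i : ι) (g : Perm (A × ({j // j ≠ i} → A))) :
    (tr i g).support.card = g.support.card := by
  symm
  refine Finset.card_bij (fun p _ => sp i p) (fun p hp => ?_) (fun p _ q _ h => by simpa using h)
    (fun f hf => ?_)
  · rw [mem_support, tr_apply]; simpa using hp
  · obtain ⟨p, rfl⟩ := (sp i).surjective f
    refine ⟨p, ?_, rfl⟩
    rw [mem_support, tr_apply] at hf; simpa using hf

omit [DecidableEq A] in
theorem card_L (i : ι) : Fintype.card ({j // j ≠ i} → A) = Fintype.card A ^ (Fintype.card ι - 1) := by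
  simp [Fintype.card_subtype_compl]

theorem sign_cx (i : ι) (σ : Perm A) :
    sign (cx i σ) = sign σ ^ Fintype.card A ^ (Fintype.card ι - 1) := by
  rw [← tr_cx, sign_tr, sign_pr, card_L]; simp

theorem card_supp_cx (i : ι) (σ : Perm A) :
    (cx i σ).support.card = σ.support.card * Fintype.card A ^ (Fintype.card ι - 1) := by
  rw [← tr_cx, card_supp_tr, ← card_L i]
  have : (pr σ (1 : Perm ({j // j ≠ i} → A))).support = σ.support ×ˢ Finset.univ := by
    ext ⟨a, l⟩; simp
  rw [this, Finset.card_product, Finset.card_univ]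

omit [Fintype A] [DecidableEq A] in
theorem card_succ (i : ι) : Fintype.card ι = Fintype.card ι - 1 + 1 := by
  have : 0 < Fintype.card ι := Fintype.card_pos_iff.2 ⟨i⟩
  omega

/-- hyperplanes -/
def Hp (i : ι) (a : A) : Finset (ι → A) := Finset.univ.filter fun f => f i = a

theorem mem_Hp {i : ι} {a : A} {f : ι → A} : f ∈ Hp i a ↔ f i = a := by simp [Hp]

theorem card_Hp (i : ι) (a : A) : (Hp i a).card = Fintype.card A ^ (Fintype.card ι - 1) := by
  rw [← card_L i, ← Finset.card_univ]
  symm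
  refine Finset.card_bij (fun l _ => sp i (a, l)) (fun l _ => mem_Hp.2 (sp_self _ _))
    (fun p _ q _ h => by simpa using h) (fun f hf => ⟨fun j => f j, by simp, ?_⟩)
  rw [← mem_Hp.1 hf, sp_eta]

theorem img_Hp (π : Perm ι) (τ : ι → Perm A) (i : ι) (a : A) :
    (Hp i a).image (wp π τ) = Hp (π i) (τ (π i) a) := by
  ext f
  obtain ⟨f, rfl⟩ := (wp π τ).surjective f
  rw [mem_img, mem_Hp, mem_Hp, wp_apply']; simp

omit [DecidableEq ι] [Fintype A] in
theorem W_dist {g : Perm (ι → A)} (hg : g ∈ W ι A) (f f' : ι → A) :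
    hammingDist (g f) (g f') = hammingDist f f' := by
  obtain ⟨π, τ, rfl⟩ := mem_W hg
  unfold hammingDist
  symm
  refine Finset.card_bij (fun i _ => π i) (fun i hi => ?_) (fun p _ q _ h => by simpa using h)
    (fun j hj => ?_)
  · simpa [wp_apply'] using hi
  · obtain ⟨i, rfl⟩ := π.surjective j
    exact ⟨i, by simpa [wp_apply'] using hj, rfl⟩

omit [Fintype A] in
theorem dist_update {o : ι → A} {j : ι} {b : A} (hb : b ≠ o j) (f : ι → A) :
    hammingDist f (Function.update o j b) + 1 = hammingDist f o ↔ f j = b := by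
  have key : ∀ u : ι → A, hammingDist f u =
      ((Finset.univ.erase j).filter fun i => f i ≠ u i).card + if f j = u j then 0 else 1 := by
    intro u
    unfold hammingDist
    rw [← Finset.insert_erase (Finset.mem_univ j), Finset.filter_insert, Finset.insert_erase
      (Finset.mem_univ j)]
    by_cases h1 : f j = u j
    · simp [h1]
    · rw [if_pos h1, if_neg h1, Finset.card_insert_of_notMem (by simp)]
  rw [key, key o]
  have e : ((Finset.univ.erase j).filter fun i => f i ≠ Function.update o j b i) =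
      (Finset.univ.erase j).filter fun i => f i ≠ o i :=
    Finset.filter_congr fun i hi => by rw [Function.update_of_ne (Finset.ne_of_mem_erase hi)]
  rw [e, Function.update_self]
  by_cases h1 : f j = b
  · simp [h1, hb]
  · simp only [h1, if_false, iff_false]
    split_ifs <;> omega

omit [Fintype A] in
theorem dist_one {u o : ι → A} (h : hammingDist u o = 1) :
    ∃ j b, b ≠ o j ∧ u = Function.update o j b := by
  obtain ⟨j, hj⟩ := Finset.card_eq_one.1 h
  have k : ∀ i, u i ≠ o i ↔ i = j := fun i => by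
    rw [← Finset.mem_singleton, ← hj]; simp
  refine ⟨j, u j, (k j).2 rfl, funext fun i => ?_⟩
  by_cases e : i = j
  · subst e; simp
  · rw [Function.update_of_ne e]
    by_contra hn
    exact e ((k i).1 hn)

omit [Fintype A] in
theorem dist_upd {o : ι → A} {j : ι} {b : A} (hb : b ≠ o j) :
    hammingDist (Function.update o j b) o = 1 := by
  have := (dist_update hb (Function.update o j b)).2 (by simp)
  simpa using this.symm

/-- the standing hypotheses on an overgroup of the even part of the wreath product -/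
structure Hy (G : Subgroup (Perm (ι → A))) : Prop where
  hm : 5 ≤ Fintype.card A
  ev : ∀ g ∈ W ι A, sign g = 1 → g ∈ G
  tr : ∀ i j : ι, ∃ π τ, wp π τ ∈ G ∧ π i = j

variable {G : Subgroup (Perm (ι → A))}

theorem Hy.of_le (hm : 5 ≤ Fintype.card A) (h : W ι A ≤ G) : Hy G :=
  ⟨hm, fun _ hg _ => h hg, fun i j => ⟨swap i j, fun _ => 1, h (wp_mem _ _), swap_apply_left _ _⟩⟩

theorem Hy.cx (H : Hy G) (i : ι) {σ : Perm A} (h : sign σ = 1) : cx i σ ∈ G :=
  H.ev _ (cx_mem _ _) (by rw [sign_cx, h, one_pow])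

theorem Hy.bs (H : Hy G) (τ : ι → Perm A) (h : ∀ i, sign (τ i) = 1) : bs τ ∈ G :=
  Subgroup.pi_mem_of_mulSingle_mem (H := G.comap PA.bs) τ fun i => H.cx i (h i)

theorem Hy.move (H : Hy G) (f f' : ι → A) : ∃ g ∈ G, g f = f' := by
  have hm := H.hm
  choose τ h1 _ h3 using fun i => even_move (∅ : Finset A) (by simp; omega) (b := f i) (c := f' i)
    (by simp) (by simp)
  exact ⟨_, H.bs τ h1, funext h3⟩

theorem Hy.prim (H : Hy G) (r : (ι → A) → (ι → A) → Prop) (hr : Equivalence r)
    (hG : ∀ w ∈ G, ∀ l l', r l l' → r (w l) (w l')) :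
    (∀ l l', r l l' → l = l') ∨ (∀ l l', r l l') := by
  have hm := H.hm
  by_cases h0 : ∀ l l', r l l' → l = l'
  · exact Or.inl h0
  right
  push Not at h0
  obtain ⟨f, f', hf, hne⟩ := h0
  obtain ⟨i, hi⟩ := Function.ne_iff.1 hne
  have s1 : ∀ b, b ≠ f' i → r f (Function.update f i b) := fun b hb => by
    obtain ⟨σ, h1, h2, h3⟩ := even_move ({f' i} : Finset A) (by simp; omega) (b := f i) (c := b)
      (by simpa using hi) (by simpa using hb)
    have := hG _ (H.cx i h1) _ _ hf
    rw [cx_fix.2 (h2 (f' i) (by simp)), cx_apply, h3] at this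
    exact hr.trans hf (hr.symm this)
  have s2 : ∀ b, r f (Function.update f i b) := fun b => by
    by_cases hb : b = f' i
    · obtain ⟨c, hc⟩ := ex_avoid ({f i, f' i} : Finset A) (by
        have := Finset.card_le_two (a := f i) (b := f' i); omega)
      simp only [Finset.mem_insert, Finset.mem_singleton, not_or] at hc
      obtain ⟨σ, h1, h2, h3⟩ := even_move ({f i} : Finset A) (by simp; omega) (b := c) (c := b)
        (by simpa using hc.1) (by simpa [hb] using Ne.symm hi)
      have := hG _ (H.cx i h1) _ _ (s1 c hc.2)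
      rwa [cx_fix.2 (h2 (f i) (by simp)), cx_apply, Function.update_self, h3,
        Function.update_idem] at this
    · exact s1 b hb
  have s3 : ∀ (u : ι → A) b, r u (Function.update u i b) := fun u b => by
    choose τ h1 _ h3 using fun i => even_move (∅ : Finset A) (by simp; omega) (b := f i) (c := u i)
      (by simp) (by simp)
    have := hG _ (H.bs τ h1) _ _ (s2 ((τ i)⁻¹ b))
    have e1 : PA.bs τ f = u := funext h3
    have e2 : PA.bs τ (Function.update f i ((τ i)⁻¹ b)) = Function.update u i b := by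
      ext j
      by_cases e : j = i
      · subst e; simp [bs_apply]
      · simp [bs_apply, e, h3]
    rwa [e1, e2] at this
  have s4 : ∀ j (u : ι → A) b, r u (Function.update u j b) := fun j u b => by
    obtain ⟨π, τ, h1, rfl⟩ := H.tr i j
    obtain ⟨u, rfl⟩ := (wp π τ).surjective u
    have := hG _ h1 _ _ (s3 u ((τ (π i))⁻¹ b))
    have e2 : wp π τ (Function.update u i ((τ (π i))⁻¹ b)) =
        Function.update (wp π τ u) (π i) b := by
      ext j
      obtain ⟨j, rfl⟩ := π.surjective j
      by_cases e : j = i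
      · subst e; simp [wp_apply']
      · simp [wp_apply', e]
    rwa [e2] at this
  intro l l'
  have s5 : ∀ s : Finset ι, r l (s.piecewise l' l) := fun s => by
    induction s using Finset.induction_on with
    | empty => simpa using hr.refl l
    | insert j s _ ih =>
      rw [Finset.piecewise_insert]
      exact hr.trans ih (s4 _ _ _)
  simpa using s5 Finset.univ

theorem Hy.no3 (H : Hy G) (hA : ¬ alternatingGroup (ι → A) ≤ G) :
    ∀ g ∈ G, ¬ g.IsThreeCycle := fun g hg h3 => by
  refine hA (alternatingGroup_le_of_isPreprimitive_of_isThreeCycle_mem ?_ h3 hg)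
  haveI : MulAction.IsPretransitive G (ι → A) := ⟨fun f f' => by
    obtain ⟨g, hg, e⟩ := H.move f f'
    exact ⟨⟨g, hg⟩, e⟩⟩
  refine ⟨fun {B} hB => ?_⟩
  rcases H.prim (fun x y => ∀ g : G, g • x ∈ B ↔ g • y ∈ B)
    ⟨fun _ _ => Iff.rfl, fun h g => (h g).symm, fun h h' g => (h g).trans (h' g)⟩
    (fun w hw l l' h g => h (g * ⟨w, hw⟩)) with h | h
  · left
    intro x hx y hy
    refine h x y fun g => ⟨fun k => ?_, fun k => ?_⟩
    · rw [← hB.smul_eq_of_mem hx k]; exact Set.smul_mem_smul_set hy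
    · rw [← hB.smul_eq_of_mem hy k]; exact Set.smul_mem_smul_set hx
  · rcases B.eq_empty_or_nonempty with e | ⟨x, hx⟩
    · left; rw [e]; exact Set.subsingleton_empty
    · right
      exact Set.eq_univ_of_forall fun y => by simpa [hx] using h x y 1

theorem Hy.ctx (H : Hy G) (hA : ¬ alternatingGroup (ι → A) ≤ G) (i : ι) :
    Ctx (G.comap (PA.tr i).toMonoidHom) (W {j // j ≠ i} A) := by
  have hm := H.hm
  refine ⟨hm, fun σ h => ?_, fun w hw => ?_, (Hy.of_le hm le_rfl).prim, fun g hg h3 => ?_⟩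
  · show PA.tr i _ ∈ G
    rw [tr_cx]; exact H.cx i h
  · obtain ⟨a, b, hab⟩ := Fintype.one_lt_card_iff.1 (show 1 < Fintype.card A by omega)
    by_cases e : sign (pr (1 : Perm A) w) = 1
    · exact ⟨1, H.ev _ (tr_mem i _ hw) ((sign_tr i _).trans e)⟩
    · refine ⟨swap a b, H.ev _ (tr_mem i _ hw) ((sign_tr i _).trans ?_)⟩
      rw [sign_pr, sign_swap hab]
      rw [sign_pr, Perm.sign_one, one_pow, one_mul] at e
      have e' := (Int.units_eq_one_or _).resolve_left e
      have ho : Odd (Fintype.card A) := by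
        by_contra hn
        exact e (Int.units_pow_eq_pow_mod_two _ _ ▸ by
          rw [Nat.even_iff.1 (Nat.not_odd_iff_even.1 hn), pow_zero])
      rw [e', card_L, ho.pow.neg_one_pow]; simp
  · refine H.no3 hA (PA.tr i g) hg ?_
    rw [← card_support_eq_three_iff] at h3 ⊢
    rw [card_supp_tr, h3]

end H7.PA
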