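import Cfsg.Agent.H7.PA6

/-! Product action wreath products, part 7: overgroups. -/

set_option autoImplicit false

namespace H7.PA

open Equiv Equiv.Perm Subgroup

theorem cnt_mod {K : Type*} [Group K] [Finite K] (G M : Subgroup K) (P : K → Prop)
    (hP : ∀ g, ∀ w ∈ M, P g → P (g * w)) {x g₀ : K} (hx : x ∈ G) (h3 : x ^ 3 = 1)
    (hxP : ∀ g, P g → P (x * g)) (h0 : g₀ ∈ G) (hf : ∀ g ∈ G, g⁻¹ * x * g ∈ M ↔ g⁻¹ * g₀ ∈ M) :
    (P g₀ → Nat.card {q : K ⧸ M // ∃ g ∈ G, P g ∧ (g : K ⧸ M) = q} % 3 = 1) ∧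
    (¬ P g₀ → Nat.card {q : K ⧸ M // ∃ g ∈ G, P g ∧ (g : K ⧸ M) = q} % 3 = 0) := by
  classical
  let S := {q : K ⧸ M // ∃ g ∈ G, P g ∧ (g : K ⧸ M) = q}
  haveI : Fintype S := Fintype.ofFinite _
  let f : Function.End S := fun q => ⟨x • q.1, by
    obtain ⟨g, a, b, c⟩ := q.2
    exact ⟨x * g, mul_mem hx a, hxP g b, by rw [← c]; rfl⟩⟩
  have hf3 : f ^ 3 ^ 1 = 1 := by
    funext q
    apply Subtype.ext
    show x • x • x • q.1 = q.1
    rw [smul_smul, smul_smul, show x * x * x = x ^ 3 by simp [pow_succ], h3, one_smul]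
  haveI : Fact (Nat.Prime 3) := ⟨by norm_num⟩
  have key := Equiv.Perm.card_fixedPoints_modEq hf3
  have fx : ∀ q : S, q ∈ f.fixedPoints ↔ q.1 = (g₀ : K ⧸ M) := fun q => by
    obtain ⟨q, g, a, b, rfl⟩ := q
    rw [Function.mem_fixedPoints_iff, Subtype.ext_iff]
    show ((x * g : K) : K ⧸ M) = g ↔ ((g : K) : K ⧸ M) = g₀
    rw [eq_comm, QuotientGroup.eq, QuotientGroup.eq, ← mul_assoc]
    exact hf g a
  rw [Nat.card_eq_fintype_card]
  refine ⟨fun h => ?_, fun h => ?_⟩
  · have : Fintype.card f.fixedPoints = 1 := Fintype.card_eq_one_iff.2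
      ⟨⟨⟨g₀, g₀, h0, h, rfl⟩, (fx _).2 rfl⟩, fun q => Subtype.ext (Subtype.ext ((fx _).1 q.2))⟩
    rw [this] at key
    exact key
  · have : Fintype.card f.fixedPoints = 0 := Fintype.card_eq_zero_iff.2 ⟨fun q => by
      obtain ⟨⟨q, g, a, b, rfl⟩, hq⟩ := q
      have := hP g _ (QuotientGroup.eq.1 ((fx _).1 hq)) b
      rw [mul_inv_cancel_left] at this
      exact h this⟩
    rw [this] at key
    exact key

variable {ι A : Type} [DecidableEq ι] [Fintype ι] [Fintype A] [DecidableEq A]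

omit [Fintype A] [DecidableEq A] in
theorem W_top (h : Fintype.card ι ≤ 1) : W ι A = ⊤ := by
  rw [eq_top_iff]
  rintro g -
  haveI := Fintype.card_le_one_iff_subsingleton.1 h
  rcases isEmpty_or_nonempty ι with hι | ⟨⟨i⟩⟩
  · exact ⟨1, fun _ => 1, fun _ i => hι.elim i⟩
  · haveI : Unique ι := uniqueOfSubsingleton i
    refine ⟨1, fun _ => (Equiv.funUnique ι A).permCongr g, fun f j => ?_⟩
    have e : j = default := Subsingleton.elim _ _
    subst e
    have : (Equiv.funUnique ι A).symm (f default) = f := (Equiv.funUnique ι A).symm_apply_apply f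
    show _ = (Equiv.funUnique ι A) (g ((Equiv.funUnique ι A).symm (f default)))
    rw [this]; rfl

omit [Fintype ι] [Fintype A] [DecidableEq A] in
theorem cx_ne_one (i : ι) {σ : Perm A} (h : σ ≠ 1) : cx i σ ≠ 1 := fun e => h (by
  ext a
  exact (cx_fix (i := i) (f := fun _ => a)).1 (by rw [e]; rfl))

theorem W_small (hm : 5 ≤ Fintype.card A) (i : ι) :
    ∃ σ ∈ W ι A, σ ≠ 1 ∧ 2 * σ.support.card < Fintype.card (ι → A) := by
  obtain ⟨a, b, hab⟩ := Fintype.one_lt_card_iff.1 (show 1 < Fintype.card A by omega)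
  refine ⟨cx i (swap a b), cx_mem _ _, cx_ne_one i (by simpa using hab), ?_⟩
  rw [card_supp_cx, card_support_swap hab, Fintype.card_fun]
  conv_rhs => rw [card_succ i, pow_succ]
  have : 0 < Fintype.card A ^ (Fintype.card ι - 1) := by positivity
  nlinarith

theorem W_cent (hm : 5 ≤ Fintype.card A) (π : Perm (ι → A))
    (h : ∀ w ∈ W ι A, sign w = 1 → π * w = w * π) : π = 1 := by
  ext f j
  by_contra hn
  have hn' : π f j ≠ f j := hn
  obtain ⟨c, hc⟩ := ex_avoid ({f j, π f j} : Finset A) (by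
    have := Finset.card_le_two (a := f j) (b := π f j); omega)
  simp only [Finset.mem_insert, Finset.mem_singleton, not_or] at hc
  obtain ⟨σ, h1, h2, h3⟩ := even_move ({f j} : Finset A) (by simp; omega) (b := π f j) (c := c)
    (by simpa using hn') (by simpa using hc.1)
  have := congrArg (fun u : Perm (ι → A) => u f)
    (h _ (cx_mem j σ) (by rw [sign_cx, h1, one_pow]))
  simp only [Perm.mul_apply] at this
  rw [cx_fix.2 (h2 (f j) (by simp))] at this
  exact hc.2 (h3.symm.trans (cx_fix.1 this.symm))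

theorem W_ev (hm : 5 ≤ Fintype.card A) (i : ι) : ∃ w ∈ W ι A, sign w = 1 ∧ w ≠ 1 := by
  obtain ⟨c, hc, -⟩ := ex_three (∅ : Finset A) (by simp; omega)
  exact ⟨cx i c, cx_mem _ _, by rw [sign_cx, hc.sign, one_pow], cx_ne_one i hc.ne_one⟩

theorem not_two_trans (hm : 5 ≤ Fintype.card A) (h : 2 ≤ Fintype.card ι) :
    ∃ l₀ l₁ l₂ : ι → A, l₀ ≠ l₁ ∧ l₀ ≠ l₂ ∧ ∀ w ∈ W ι A, w l₀ = l₀ → w l₁ ≠ l₂ := by
  obtain ⟨a, b, hab⟩ := Fintype.one_lt_card_iff.1 (show 1 < Fintype.card A by omega)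
  obtain ⟨i, j, hij⟩ := Fintype.one_lt_card_iff.1 (show 1 < Fintype.card ι by omega)
  refine ⟨fun _ => a, Function.update (fun _ => a) i b, fun _ => b, fun e => hab ?_,
    fun e => hab (congrFun e i), fun w hw h1 h2 => ?_⟩
  · simpa using congrFun e i
  · have := W_dist hw (Function.update (fun _ => a) i b) (fun _ => a)
    rw [h1, h2, dist_upd hab.symm] at this
    simp [hammingDist, hab.symm] at this
    omega

variable {G : Subgroup (Perm (ι → A))}

/-- the group induced on a hyperplane -/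
def Ind (G : Subgroup (Perm (ι → A))) (i : ι) (a : A) : Subgroup (Perm ({j // j ≠ i} → A)) where
  carrier := {w | ∃ g ∈ G, ∀ l, g (sp i (a, l)) = sp i (a, w l)}
  one_mem' := ⟨1, one_mem _, fun _ => rfl⟩
  mul_mem' := by
    rintro v w ⟨g, hg, e⟩ ⟨g', hg', e'⟩
    exact ⟨g * g', mul_mem hg hg', fun l => by rw [Perm.mul_apply, e', e]; rfl⟩
  inv_mem' := by
    rintro w ⟨g, hg, e⟩
    exact ⟨g⁻¹, inv_mem hg, fun l => by rw [Perm.inv_eq_iff_eq, e]; simp⟩

theorem ex_Ind {i : ι} {a : A} {g : Perm (ι → A)} (hg : g ∈ G)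
    (h : (Hp i a).image g = Hp i a) :
    ∃ w ∈ Ind G i a, ∀ l, g (sp i (a, l)) = sp i (a, w l) := by
  have k : ∀ l, g (sp i (a, l)) = sp i (a, fun j => g (sp i (a, l)) j) := fun l => by
    have : g (sp i (a, l)) i = a := by
      rw [← mem_Hp, ← h]
      exact Finset.mem_image_of_mem _ (mem_Hp.2 (sp_self _ _))
    conv_lhs => rw [← sp_eta i (g (sp i (a, l))), this]
  let w : Perm ({j // j ≠ i} → A) := Equiv.ofBijective (fun l j => g (sp i (a, l)) j)
    (Finite.injective_iff_bijective.1 fun l l' e => by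
      have : g (sp i (a, l)) = g (sp i (a, l')) := by
        rw [k l, k l']; exact congrArg (fun u => sp i (a, u)) e
      simpa using this)
  exact ⟨w, ⟨g, hg, k⟩, k⟩

theorem Hy.le_Ind (H : Hy G) (hA : ¬ alternatingGroup (ι → A) ≤ G) (i : ι) (a : A) :
    W {j // j ≠ i} A ≤ Ind G i a := fun w hw => by
  have hm := H.hm
  obtain ⟨b, hb⟩ := ex_avoid ({a} : Finset A) (by simp; omega)
  obtain ⟨c, hc⟩ := ex_avoid ({a, b} : Finset A) (by
    have := Finset.card_le_two (a := a) (b := b); omega)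
  simp only [Finset.mem_insert, Finset.mem_singleton, not_or] at hb hc
  rcases (H.ctx hA i).h2' hw hc.2 with h | h
  · exact ⟨_, h, fun l => tr_apply _ _ _⟩
  · refine ⟨_, h, fun l => (tr_apply _ _ _).trans ?_⟩
    rw [pr_apply, swap_apply_of_ne_of_ne (Ne.symm hc.1) (Ne.symm hb)]

theorem Hy.all_JC (H : Hy G) {i : ι} {a : A} (h : JC G (Hp i a)) (j : ι) (b : A) :
    JC G (Hp j b) := by
  have hm := H.hm
  obtain ⟨π, τ, h1, rfl⟩ := H.tr i j
  have h2 := h.image h1
  rw [img_Hp] at h2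
  obtain ⟨σ, s1, -, s3⟩ := even_move (∅ : Finset A) (by simp; omega) (b := τ (π i) a) (c := b)
    (by simp) (by simp)
  have h3 := h2.image (H.cx (π i) s1)
  erw [img_Hp] at h3
  simpa [s3] using h3

theorem Hy.tr_two (H : Hy G) (h : ∀ j b, JC G (Hp j b)) : Tr G 2 := fun X hX p q hp hq => by
  have hm := H.hm
  rcases X.eq_empty_or_nonempty with rfl | ⟨α, hα⟩
  · obtain ⟨g, hg, e⟩ := H.move p q
    exact ⟨g, hg, by simp, e⟩
  have e : X = {α} := Finset.eq_singleton_iff_unique_mem.2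
    ⟨hα, fun y hy => Finset.card_le_one.1 (by omega) y hy α hα⟩
  subst e
  choose z hz using fun j => ex_avoid ({α j} : Finset A) (by simp; omega)
  have key : ∀ p, p ∉ ({α} : Finset (ι → A)) → ∃ g ∈ G, g α = α ∧ g p = z := fun p hp => by
    obtain ⟨j, hj⟩ := Function.ne_iff.1 (by simpa using hp : p ≠ α)
    obtain ⟨g, hg, k1, k2⟩ := h j (α j) p z (by rwa [mem_Hp]) (by simpa [mem_Hp] using hz j)
    exact ⟨g, hg, k1 α (mem_Hp.2 rfl), k2⟩
  obtain ⟨g, hg, k1, k2⟩ := key p hp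
  obtain ⟨g', hg', k1', k2'⟩ := key q hq
  refine ⟨g'⁻¹ * g, mul_mem (inv_mem hg') hg, fun ω hω => ?_, ?_⟩
  · rw [Finset.mem_singleton.1 hω, Perm.mul_apply, k1, Perm.inv_eq_iff_eq, k1']
  · rw [Perm.mul_apply, k2, Perm.inv_eq_iff_eq, k2']

theorem Hy.SJ (H : Hy G) {j : ι} {b : A} (h : JC G (Hp j b)) : SJ G (Hp j b) := by
  have hm := H.hm
  refine ⟨h, ?_⟩
  rw [card_Hp, Fintype.card_fun]
  conv_rhs => rw [card_succ j, pow_succ]
  have : 0 < Fintype.card A ^ (Fintype.card ι - 1) := by positivity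
  nlinarith

theorem Hy.no_grid (H : Hy G) (h2 : Fintype.card ι = 2) (h : ∀ j b, JC G (Hp j b)) {t : ℕ}
    (S : Stein G (Fintype.card A) t) : False := by
  obtain ⟨i, j, hij⟩ := Fintype.one_lt_card_iff.1 (show 1 < Fintype.card ι by omega)
  have hall : ∀ x, x ≠ i → x = j := fun x hx => by
    by_contra hn
    have := Finset.card_le_univ ({i, j, x} : Finset ι)
    rw [Finset.card_eq_three.2 ⟨i, j, x, hij, Ne.symm hx, Ne.symm hn, rfl⟩] at this
    omega
  let e : A × A ≃ (ι → A) :=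
    { toFun := fun p x => if x = i then p.1 else p.2
      invFun := fun f => (f i, f j)
      left_inv := fun p => by simp [hij.symm]
      right_inv := fun f => funext fun x => by
        by_cases hx : x = i
        · simp [hx]
        · simp [hall x hx, hij.symm] }
  have e1 : ∀ a b, e (a, b) i = a := fun a b => by simp [e]
  have e2 : ∀ a b, e (a, b) j = b := fun a b => by simp [e, hij.symm]
  have ext : ∀ f f' : ι → A, f i = f' i → f j = f' j → f = f' := fun f f' k1 k2 =>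
    funext fun x => by
      by_cases hx : x = i
      · rw [hx, k1]
      · rw [hall x hx, k2]
  refine S.grid H.hm e (fun σ hσ => ⟨_, H.cx i hσ, fun a b => ext _ _ ?_ ?_⟩)
    (fun σ hσ => ⟨_, H.cx j hσ, fun a b => ext _ _ ?_ ?_⟩) (fun b => ?_) (fun a => ?_)
  · rw [cx_self, e1, e1]
  · rw [cx_ne hij.symm, e2, e2]
  · rw [cx_ne hij, e1, e1]
  · rw [cx_self, e2, e2]
  · have : col ((prodComm A A).trans e) b = Hp j b := by
      ext f
      obtain ⟨⟨x, y⟩, rfl⟩ := ((prodComm A A).trans e).surjective f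
      rw [mem_col, mem_Hp]
      exact (e2 y x).symm ▸ Iff.rfl
    rw [this]; exact H.SJ (h _ _)
  · have : col e a = Hp i a := by
      ext f
      obtain ⟨⟨x, y⟩, rfl⟩ := e.surjective f
      rw [mem_col, mem_Hp, e1]
    rw [this]; exact H.SJ (h _ _)

omit [Fintype A] [DecidableEq A] in
theorem card_sub (i : ι) : Fintype.card {j // j ≠ i} = Fintype.card ι - 1 := by
  simp [Fintype.card_subtype_compl]

theorem Hy.not_JC (H : Hy G) (hA : ¬ alternatingGroup (ι → A) ≤ G) (h2 : 2 ≤ Fintype.card ι)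
    {i : ι} (IH : ∀ Y : Subgroup (Perm ({j // j ≠ i} → A)), W {j // j ≠ i} A ≤ Y →
      Y ≤ W {j // j ≠ i} A ∨ alternatingGroup _ ≤ Y) (a : A) : ¬ JC G (Hp i a) := fun hJ => by
  have hm := H.hm
  have hall := H.all_JC hJ
  have t2 := H.tr_two hall
  have hS := H.SJ hJ
  have hY : alternatingGroup _ ≤ Ind G i a := by
    by_cases h3 : Fintype.card ι = 2
    · have := H.le_Ind hA i a
      rw [W_top (by rw [card_sub]; omega)] at this
      exact le_top.trans this
    refine (IH _ (H.le_Ind hA i a)).resolve_left fun hle => ?_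
    obtain ⟨l₀, l₁, l₂, k1, k2, k3⟩ := not_two_trans (ι := {j // j ≠ i}) hm
      (by rw [card_sub]; omega)
    have m : ∀ l, sp i (a, l) ∈ Hp i a := fun l => mem_Hp.2 (sp_self _ _)
    obtain ⟨g, hg, q1, q2, q3⟩ := hS.two_trans t2 (m l₀) (m l₁) (m l₀) (m l₂) (by simpa using k1)
      (by simpa using k2)
    obtain ⟨w, hw, e⟩ := ex_Ind hg q1
    rw [e] at q2 q3
    exact k3 w (hle hw) (by simpa using q2) (by simpa using q3)
  have hH : ∀ x ∈ Hp i a, ∃ l, x = sp i (a, l) := fun x hx =>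
    ⟨_, by rw [← mem_Hp.1 hx, sp_eta]⟩
  have inj : Function.Injective fun l => sp i (a, l) := fun l l' e => by simpa using e
  obtain ⟨s, hs, -⟩ := ex_three (∅ : Finset A) (by simp; omega)
  obtain ⟨k, hk⟩ : ∃ k, Fintype.card ι = k + 2 := ⟨_, (Nat.sub_add_cancel h2).symm⟩
  have hc : (Hp i a).card = Fintype.card A ^ (k + 1) := by rw [card_Hp, hk]; rfl
  have fin : ∀ t, Tr G t → (Fintype.card A ^ (k + 1) + 1 ≤ t ∨
      (1 ≤ k ∧ Fintype.card A ^ (k + 1) + 2 ≤ 2 * t)) → False := fun t ht h =>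
    hA (ht.finish hm (by rw [Fintype.card_fun, hk]) h (H.cx i hs.sign) (cx_ne_one i hs.ne_one)
      (by rw [card_supp_cx, hs.card_support, hk]; rfl))
  rcases hS.steiner t2 (fun x₁ h1 x₂ h2 y h3 e h4 n1 n2 => by
    obtain ⟨x₁, rfl⟩ := hH _ h1
    obtain ⟨x₂, rfl⟩ := hH _ h2
    obtain ⟨y, rfl⟩ := hH _ h3
    obtain ⟨e, rfl⟩ := hH _ h4
    obtain ⟨g, hg, k⟩ := hY (show swap x₁ x₂ * swap y e ∈ alternatingGroup _ by
      rw [mem_alternatingGroup, Perm.sign_mul, sign_swap (fun h => n1 (by rw [h])),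
        sign_swap (fun h => n2 (by rw [h]))]; simp)
    refine ⟨g, hg, fun ω hω => ?_⟩
    obtain ⟨l, rfl⟩ := hH _ hω
    rw [k, Perm.mul_apply, Perm.mul_apply, ← inj.map_swap, ← inj.map_swap]) with h | ⟨t, S⟩
  · exact fin _ h (Or.inl (by rw [hc]))
  · rcases Nat.eq_zero_or_pos k with k0 | k0
    · subst k0
      rw [hc, zero_add, pow_one] at S
      exact H.no_grid hk hall S
    · have hb := S.bound hS rfl
      have th := S.th
      refine fin _ S.tr (Or.inr ⟨k0, ?_⟩)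
      rw [Fintype.card_fun, hk, pow_succ, ← hc] at hb
      have h5 : 5 * Fintype.card A ≤ (Hp i a).card := by
        rw [hc, pow_succ]
        exact Nat.mul_le_mul_right _ (hm.trans (Nat.le_self_pow (by omega) _))
      rw [← hc]
      by_contra hn
      obtain ⟨d, hd⟩ : ∃ d, (Hp i a).card = t + d := ⟨_, (Nat.add_sub_of_le th.le).symm⟩
      rw [hd] at hb h5 hn
      rw [Nat.add_sub_cancel_left] at hb
      nlinarith

end H7.PA
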