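import Cfsg.Agent.H7.PA7

/-! Product action wreath products, part 8: the main theorem. -/

set_option autoImplicit false

namespace H7.PA

open Equiv Equiv.Perm Subgroup

variable {ι A : Type} [DecidableEq ι] [Fintype ι] [Fintype A] [DecidableEq A]
variable {G : Subgroup (Perm (ι → A))}

/-- no hyperplane is a Jordan complement -/
def NJ (G : Subgroup (Perm (ι → A))) : Prop :=
  ∀ i a, ∀ g ∈ G, (∀ f, f i = a → g f = f) → ∃ σ, g = cx i σ

/-- the induction hypothesis -/
def IHs (ι A : Type) [DecidableEq ι] [Fintype ι] [Fintype A] [DecidableEq A] : Prop :=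
  ∀ i : ι, ∀ Y : Subgroup (Perm ({j // j ≠ i} → A)), W {j // j ≠ i} A ≤ Y →
      Y ≤ W {j // j ≠ i} A ∨ alternatingGroup _ ≤ Y

theorem Hy.nj' (H : Hy G) (hA : ¬ alternatingGroup (ι → A) ≤ G) (h2 : 2 ≤ Fintype.card ι)
    (IH : IHs ι A) (i : ι) (a : A) : ∀ g ∈ G.comap (PA.tr i).toMonoidHom,
      (∀ l, g (a, l) = (a, l)) → ∃ σ : Perm A, g = pr σ 1 := by
  refine ((H.ctx hA i).dich a).resolve_left fun h => H.not_JC hA h2 (IH i) a fun p q hp hq => ?_
  obtain ⟨p, rfl⟩ := (sp i).surjective p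
  obtain ⟨q, rfl⟩ := (sp i).surjective q
  rw [mem_Hp, sp_self] at hp hq
  obtain ⟨g, hg, k1, k2⟩ := h p q hp hq
  refine ⟨PA.tr i g, hg, fun ω hω => ?_, by rw [tr_apply, k2]⟩
  rw [← sp_eta i ω, tr_apply, mem_Hp.1 hω, k1]

theorem Hy.nj (H : Hy G) (hA : ¬ alternatingGroup (ι → A) ≤ G) (h2 : 2 ≤ Fintype.card ι)
    (IH : IHs ι A) : NJ G := fun i a g hg h => by
  obtain ⟨g, rfl⟩ := (PA.tr i).surjective g
  obtain ⟨σ, rfl⟩ := H.nj' hA h2 IH i a g hg fun l => by
    have := h (sp i (a, l)) (sp_self _ _)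
    rw [tr_apply] at this
    simpa using this
  exact ⟨σ, tr_cx _ _⟩

theorem Hy.cent (H : Hy G) (hA : ¬ alternatingGroup (ι → A) ≤ G) (h2 : 2 ≤ Fintype.card ι)
    (IH : IHs ι A) (i : ι) {s : Perm A} (hs : s.IsThreeCycle) {g : Perm (ι → A)} (hg : g ∈ G)
    (hc : g * PA.cx i s = PA.cx i s * g) : g ∈ W ι A := by
  have hm := H.hm
  obtain ⟨j₀, hj₀⟩ := Fintype.exists_ne_of_one_lt_card (show 1 < Fintype.card ι by omega) i
  have hL : W {j // j ≠ i} A = ⊤ ∨ 2 ≤ Fintype.card {j // j ≠ i} := by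
    by_cases h : Fintype.card {j // j ≠ i} ≤ 1
    · exact Or.inl (W_top h)
    · right; omega
  rcases (H.ctx hA i).norm (H.nj' hA h2 IH i) (W_small hm ⟨j₀, hj₀⟩)
    (fun h => by rw [card_L, h]; exact dvd_pow_self _ (by omega)) (IH i) (W_cent hm)
    (W_ev hm ⟨j₀, hj₀⟩) (hL.imp_right fun h => by
      rw [Fintype.card_fun]
      calc 7 ≤ 5 ^ 2 := by norm_num
        _ ≤ Fintype.card A ^ 2 := Nat.pow_le_pow_left hm _
        _ ≤ _ := Nat.pow_le_pow_right (by omega) h) hs with h | ⟨h1, h⟩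
  · obtain ⟨g, rfl⟩ := (PA.tr i).surjective g
    obtain ⟨τ, w, hw, rfl⟩ := h g hg ((PA.tr i).injective (by rw [map_mul, map_mul, tr_cx, hc]))
    exact tr_mem i τ hw
  exfalso
  have h3 := hL.resolve_left h1
  obtain ⟨j₂, j₃, hj⟩ := Fintype.one_lt_card_iff.1 (show 1 < Fintype.card {j // j ≠ i} by omega)
  obtain ⟨a₀, a₁, a₂, n1, n2, n3⟩ := Fintype.two_lt_card_iff.1 (show 2 < Fintype.card A by omega)
  obtain ⟨b, hb⟩ := ex_avoid ({a₀, a₁, a₂} : Finset A) (by
    have := Finset.card_le_three (a := a₀) (b := a₁) (c := a₂); omega)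
  simp only [Finset.mem_insert, Finset.mem_singleton, not_or] at hb
  let u : A → ({j // j ≠ i} → A) := fun a => Function.update (fun _ => a₀) j₂ a
  have u1 : ∀ a, u a j₂ = a := fun a => by simp [u]
  have u2 : ∀ a, u a j₃ = a₀ := fun a => by simp [u, hj.symm]
  have ui : ∀ a a', a ≠ a' → u a ≠ u a' := fun a a' h e => h (by rw [← u1 a, e, u1])
  obtain ⟨x, hx, x1, x2⟩ := h (swap (u a₀) (u a₁) * swap (u a₀) (u a₂))
    (isThreeCycle_swap_mul_swap_same (ui _ _ n1) (ui _ _ n2) (ui _ _ n3))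
  have x3 : ∀ f : ι → A, (∀ a ∈ ({a₀, a₁, a₂} : Finset A), (fun j : {j // j ≠ i} => f j) ≠ u a) →
      PA.tr i x f = f := fun f hf => by
    rw [← sp_eta i f, tr_apply, x2]
    rw [Perm.mul_apply, swap_apply_of_ne_of_ne (hf _ (by simp)) (hf _ (by simp)),
      swap_apply_of_ne_of_ne (hf _ (by simp)) (hf _ (by simp))]
  obtain ⟨σ, hσ⟩ := H.nj hA h2 IH j₂ b (PA.tr i x) hx fun f hf => x3 f fun a ha e => by
    have : f j₂ = a := (congrFun e j₂).trans (u1 a)
    simp only [Finset.mem_insert, Finset.mem_singleton] at ha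
    rw [hf] at this
    rw [← this] at ha
    exact ha.elim hb.1 fun h => h.elim hb.2.1 hb.2.2
  refine x1 ((PA.tr i).injective ?_)
  rw [map_one, hσ]
  suffices σ = 1 by rw [this, cx_one]
  ext c
  have := x3 (Function.update (fun _ => b) j₂ c) fun a _ e => by
    have := (congrFun e j₃).trans (u2 a)
    rw [Function.update_of_ne (fun h => hj.symm (Subtype.ext h))] at this
    exact hb.1 this
  rw [hσ, cx_fix] at this
  simpa using this

theorem three_le_supp {τ : Perm A} (h : τ ≠ 1) (h3 : τ ^ 3 = 1) : 3 ≤ τ.support.card := by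
  by_contra hn
  have h2 := two_le_card_support_of_ne_one h
  obtain ⟨x, y, hxy, rfl⟩ := card_support_eq_two.1 (show τ.support.card = 2 by omega)
  rw [pow_succ, pow_two, swap_mul_self, one_mul] at h3
  exact h h3

theorem recog (hm : 5 ≤ Fintype.card A) {y : Perm (ι → A)} (hy : y ∈ W ι A) (h3 : y ^ 3 = 1)
    (hs : y.support.card = 3 * Fintype.card A ^ (Fintype.card ι - 1)) :
    ∃ j, ∃ s : Perm A, s.IsThreeCycle ∧ y = cx j s := by
  have hpos : 0 < Fintype.card A ^ (Fintype.card ι - 1) := by positivity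
  obtain ⟨π, τ, rfl⟩ := mem_W hy
  have hπ : π = 1 := by
    by_contra hn
    obtain ⟨j, hj⟩ : ∃ j, π.symm j ≠ j := by
      by_contra hh
      push Not at hh
      exact hn (inv_eq_one.1 (Equiv.ext hh))
    have hc : (wp π τ).supportᶜ.card ≤ Fintype.card A ^ (Fintype.card ι - 1) := by
      rw [← card_L j, ← Finset.card_univ]
      refine Finset.card_le_card_of_injOn (fun f (x : {x // x ≠ j}) => f x) (by simp)
        fun f hf f' hf' e => funext fun x => ?_
      simp only [Finset.coe_compl, Set.mem_compl_iff, Finset.mem_coe, notMem_support] at hf hf'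
      by_cases hx : x = j
      · subst hx
        rw [← hf, ← hf', wp_apply, wp_apply]
        exact congrArg _ (congrFun e ⟨_, hj⟩)
      · exact congrFun e ⟨x, hx⟩
    rw [Finset.card_compl, hs, Fintype.card_fun] at hc
    have : Fintype.card A ^ Fintype.card ι =
      Fintype.card A ^ (Fintype.card ι - 1) * Fintype.card A := by
      conv_lhs => rw [card_succ j, pow_succ]
    rw [this] at hc
    have := Nat.mul_le_mul_left (Fintype.card A ^ (Fintype.card ι - 1)) hm
    omega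
  subst hπ
  change (bs τ) ^ 3 = 1 at h3
  change (bs τ).support.card = _ at hs
  obtain ⟨j, hj⟩ : ∃ j, τ j ≠ 1 := by
    by_contra hh
    push Not at hh
    rw [show τ = 1 from funext hh, map_one, support_one, Finset.card_empty] at hs
    omega
  have t3 : τ j ^ 3 = 1 := by
    ext a
    rw [← map_pow] at h3
    have := congrFun (congrArg (fun u : Perm (ι → A) => u fun _ => a) h3) j
    exact this
  have l3 := three_le_supp hj t3
  have sub : (cx j (τ j)).support ⊆ (bs τ).support := fun f hf => by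
    rw [mem_support] at hf ⊢
    exact fun e => hf (cx_fix.2 (congrFun e j))
  have c1 := Finset.card_le_card sub
  rw [card_supp_cx, hs] at c1
  have e3 : (τ j).support.card = 3 := le_antisymm (Nat.le_of_mul_le_mul_right c1 hpos) l3
  have eq := Finset.eq_of_subset_of_card_le sub (by rw [card_supp_cx, hs, e3])
  refine ⟨j, τ j, card_support_eq_three_iff.1 e3, ?_⟩
  show bs τ = bs _
  congr 1
  ext1 x
  by_cases hx : x = j
  · subst hx; simp
  · rw [Pi.mulSingle_eq_of_ne hx]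
    ext a
    obtain ⟨b, hb⟩ := ex_avoid (τ j).support (by omega)
    have : Function.update (fun _ => a) j b ∉ (bs τ).support := by
      rw [← eq, notMem_support, cx_fix]
      simpa using hb
    rw [notMem_support] at this
    simpa [bs_apply, hx] using congrFun this x

omit [DecidableEq ι] [Fintype ι] [Fintype A] in
theorem card_supp_conj {Ω : Type*} [Fintype Ω] [DecidableEq Ω] (g x : Perm Ω) :
    (g * x * g⁻¹).support.card = x.support.card := by
  rw [support_conj, Finset.card_map]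

theorem Hy.fusion (H : Hy G) (hA : ¬ alternatingGroup (ι → A) ≤ G) (h2 : 2 ≤ Fintype.card ι)
    (IH : IHs ι A) (i : ι) {s : Perm A} (hs : s.IsThreeCycle) {g : Perm (ι → A)} (hg : g ∈ G)
    (hc : g * PA.cx i s * g⁻¹ ∈ W ι A) : g ∈ W ι A := by
  have hm := H.hm
  obtain ⟨j, s', hs', e⟩ := recog hm hc (by rw [conj_pow, cx_pow, three_pow hs, cx_one]; simp)
    (by rw [card_supp_conj, card_supp_cx, hs.card_support])
  obtain ⟨π, τ, h1, rfl⟩ := H.tr j i
  have h3 : (τ (π j) * s' * (τ (π j))⁻¹).IsThreeCycle := by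
    rw [← card_support_eq_three_iff, card_supp_conj, hs'.card_support]
  obtain ⟨⟨c, hc'⟩, k⟩ := isConj_iff.1 (alternatingGroup.isThreeCycle_isConj (α := A)
    (by simpa using hm) (σ := ⟨_, h3.mem_alternatingGroup⟩) (τ := ⟨_, hs.mem_alternatingGroup⟩)
    h3 hs)
  have k' : c * (τ (π j) * s' * (τ (π j))⁻¹) * c⁻¹ = s := congrArg Subtype.val k
  have hu : PA.cx (π j) c * wp π τ * g ∈ W ι A := by
    refine H.cent hA h2 IH (π j) hs (mul_mem (mul_mem (H.cx _ (mem_alternatingGroup.1 hc')) h1) hg)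
      ?_
    have a1 := cx_conj π τ j s'
    have a2 : PA.cx (π j) c * PA.cx (π j) (τ (π j) * s' * (τ (π j))⁻¹) =
        PA.cx (π j) s * PA.cx (π j) c := by
      rw [← cx_mul, ← cx_mul, ← k']; simp
    rw [← a1, ← e] at a2
    calc _ = PA.cx (π j) c * (wp π τ * (g * PA.cx (π j) s * g⁻¹) * (wp π τ)⁻¹) * (wp π τ * g) := by
          group
      _ = _ := by rw [a2]; group
  have := mul_mem (inv_mem (mul_mem (cx_mem (π j) c) (wp_mem π τ))) hu
  rwa [inv_mul_cancel_left] at this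

theorem Hy.iso (H : Hy G) (hA : ¬ alternatingGroup (ι → A) ≤ G) (h2 : 2 ≤ Fintype.card ι)
    (IH : IHs ι A) {g : Perm (ι → A)} (hg : g ∈ G)
    (hd : ∀ f f', hammingDist (g f) (g f') = hammingDist f f') : g ∈ W ι A := by
  have hm := H.hm
  obtain ⟨i⟩ := Fintype.card_pos_iff.1 (show 0 < Fintype.card ι by omega)
  obtain ⟨a, o, hao⟩ := Fintype.one_lt_card_iff.1 (show 1 < Fintype.card A by omega)
  obtain ⟨s, hs, hs'⟩ := ex_three ({a} : Finset A) (by simp; omega)
  have h1 : a ≠ (fun _ : ι => o) i := hao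
  obtain ⟨j, b, hb, e⟩ := dist_one ((hd _ _).trans (dist_upd (o := fun _ => o) (j := i) h1))
  obtain ⟨σ, hσ⟩ := H.nj hA h2 IH j b (g * PA.cx i s * g⁻¹)
    (mul_mem (mul_mem hg (H.cx i hs.sign)) (inv_mem hg)) fun f hf => by
      obtain ⟨f, rfl⟩ := g.surjective f
      rw [← dist_update hb, ← e, hd, hd, dist_update (o := fun _ => o) (j := i) h1] at hf
      rw [Perm.mul_apply, Perm.mul_apply, Perm.inv_eq_iff_eq.2 rfl, cx_fix.2 (hs' _ (by simp [hf]))]
  exact H.fusion hA h2 IH i hs hg (hσ ▸ cx_mem _ _)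

theorem Hy.step (H : Hy G) (hA : ¬ alternatingGroup (ι → A) ≤ G) (h2 : 2 ≤ Fintype.card ι)
    (IH : IHs ι A) : G ≤ W ι A := fun g₀ h0 => by
  have hm := H.hm
  by_contra hn
  obtain ⟨i⟩ := Fintype.card_pos_iff.1 (show 0 < Fintype.card ι by omega)
  obtain ⟨α, β, hd⟩ : ∃ α β, hammingDist (g₀⁻¹ α) (g₀⁻¹ β) ≠ hammingDist α β := by
    by_contra hh
    push Not at hh
    exact hn ((W ι A).inv_mem_iff.1 (H.iso hA h2 IH (inv_mem h0) hh))
  have key : ∀ g₁ ∈ G, ∃ x ∈ G, x ^ 3 = 1 ∧ x α = α ∧ x β = β ∧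
      ∀ g ∈ G, g⁻¹ * x * g ∈ W ι A ↔ g⁻¹ * g₁ ∈ W ι A := fun g₁ h1 => by
    obtain ⟨s, hs, hs'⟩ := ex_three ({g₁⁻¹ α i, g₁⁻¹ β i} : Finset A) (by
      have := Finset.card_le_two (a := g₁⁻¹ α i) (b := g₁⁻¹ β i); omega)
    refine ⟨g₁ * PA.cx i s * g₁⁻¹, mul_mem (mul_mem h1 (H.cx i hs.sign)) (inv_mem h1),
      by rw [conj_pow, cx_pow, three_pow hs, cx_one]; simp, ?_, ?_, fun g hg => ⟨fun h => ?_,
      fun h => ?_⟩⟩
    · rw [Perm.mul_apply, Perm.mul_apply, cx_fix.2 (hs' _ (by simp))]; simp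
    · rw [Perm.mul_apply, Perm.mul_apply, cx_fix.2 (hs' _ (by simp))]; simp
    · refine H.fusion hA h2 IH i hs (mul_mem (inv_mem hg) h1) ?_
      convert h using 1; group
    · convert mul_mem (mul_mem h (cx_mem i s)) (inv_mem h) using 1; group
  let P : Perm (ι → A) → Prop := fun g => hammingDist (g⁻¹ α) (g⁻¹ β) = hammingDist α β
  have hP : ∀ g, ∀ w ∈ W ι A, P g → P (g * w) := fun g w hw h => by
    simp only [P, mul_inv_rev, Perm.mul_apply] at h ⊢
    rw [W_dist (inv_mem hw), h]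
  have hx : ∀ x : Perm (ι → A), x α = α → x β = β → ∀ g, P g → P (x * g) := fun x a b g h => by
    simp only [P, mul_inv_rev, Perm.mul_apply] at h ⊢
    rw [Perm.inv_eq_iff_eq.2 a.symm, Perm.inv_eq_iff_eq.2 b.symm, h]
  obtain ⟨x, a1, a2, a3, a4, a5⟩ := key 1 (one_mem _)
  obtain ⟨y, b1, b2, b3, b4, b5⟩ := key g₀ h0
  have c1 := (cnt_mod G (W ι A) P hP a1 a2 (hx x a3 a4) (one_mem _) a5).1 rfl
  have c2 := (cnt_mod G (W ι A) P hP b1 b2 (hx y b3 b4) h0 b5).2 hd
  omega

theorem main_aux (A : Type) [Fintype A] [DecidableEq A] (n : ℕ) :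
    ∀ (ι : Type) [DecidableEq ι] [Fintype ι], Fintype.card ι ≤ n →
      ∀ G : Subgroup (Perm (ι → A)), Hy G → G ≤ W ι A ∨ alternatingGroup _ ≤ G := by
  induction n with
  | zero => exact fun ι _ _ h G _ => Or.inl (by rw [W_top (by omega)]; exact le_top)
  | succ n ih =>
    intro ι _ _ h G H
    by_cases h2 : Fintype.card ι ≤ 1
    · exact Or.inl (by rw [W_top h2]; exact le_top)
    by_cases hA : alternatingGroup _ ≤ G
    · exact Or.inr hA
    exact Or.inl (H.step hA (by omega) fun i Y hY =>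
      ih _ (by rw [card_sub]; omega) Y (Hy.of_le H.hm hY))

theorem Hy.main (H : Hy G) : G ≤ W ι A ∨ alternatingGroup _ ≤ G := main_aux A _ ι le_rfl G H

end H7.PA
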