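import Cfsg.Agent.H7.PA8

/-! Product action wreath products, part 9: maximality. -/

set_option autoImplicit false

namespace H7.PA

open Equiv Equiv.Perm Subgroup

variable {ι A : Type} [DecidableEq ι] [Fintype ι] [Fintype A] [DecidableEq A]

theorem not_alt_le (hm : 5 ≤ Fintype.card A) (h : 2 ≤ Fintype.card ι) :
    ¬ alternatingGroup (ι → A) ≤ W ι A := fun hle => by
  obtain ⟨l₀, l₁, l₂, k1, k2, k3⟩ := not_two_trans hm h
  obtain ⟨σ, s1, s2, s3⟩ := even_move ({l₀} : Finset (ι → A)) (by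
    rw [Fintype.card_fun, Finset.card_singleton]
    exact le_trans (by omega) (Nat.le_self_pow (by omega) _)) (b := l₁) (c := l₂)
    (by simpa using k1.symm) (by simpa using k2.symm)
  exact k3 σ (hle (mem_alternatingGroup.2 s1)) (s2 _ (by simp)) s3

theorem coatom_sym (hm : 5 ≤ Fintype.card A) (h : 2 ≤ Fintype.card ι) {σ : Perm (ι → A)}
    (h1 : sign σ = -1) (h2 : σ ∈ W ι A) : IsCoatom (W ι A) := by
  refine ⟨fun e => not_alt_le hm h (e ▸ le_top), fun b hb => ?_⟩
  rcases (Hy.of_le hm hb.le).main with k | k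
  · exact absurd k hb.not_ge
  · rw [eq_top_iff]
    rintro g -
    rcases Int.units_eq_one_or (sign g) with e | e
    · exact k (mem_alternatingGroup.2 e)
    · have := mul_mem (k (mem_alternatingGroup.2 (show sign (g * σ⁻¹) = 1 by simp [e, h1])))
        (hb.le h2)
      rwa [inv_mul_cancel_right] at this

theorem sign_sw {i j : ι} (hij : i ≠ j) (h4 : 4 ∣ Fintype.card A ^ (Fintype.card ι - 1)) :
    sign (wp (swap i j) (fun _ => (1 : Perm A))) = 1 := by
  rw [sign_of_pow_two_eq_one (by ext f x; simp [pow_two, wp_apply])]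
  have : Fintype.card (Function.fixedPoints (wp (swap i j) (fun _ => (1 : Perm A)))) =
      Fintype.card A ^ (Fintype.card ι - 1) := by
    rw [← card_L j]
    refine Fintype.card_congr
      { toFun := fun f x => f.1 x
        invFun := fun l => ⟨sp j (l ⟨i, hij⟩, l), funext fun x => ?_⟩
        left_inv := fun f => Subtype.ext ?_
        right_inv := fun l => funext fun x => sp_ne _ _ _ }
    · have e : sp j (l ⟨i, hij⟩, l) i = sp j (l ⟨i, hij⟩, l) j :=
        (sp_ne j _ ⟨i, hij⟩).trans (sp_self j (l ⟨i, hij⟩, l)).symm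
      simp only [wp_apply, symm_swap, Perm.coe_one, id]
      rw [swap_apply_def]
      split_ifs with a b
      · rw [a, e]
      · rw [b, e]
      · rfl
    · have e : f.1 i = f.1 j := by simpa [wp_apply] using congrFun f.2 j
      simp only [e]
      exact sp_eta _ _
  rw [this, Fintype.card_fun]
  obtain ⟨c, hc⟩ := h4
  have e : Fintype.card A ^ Fintype.card ι = 4 * c * Fintype.card A := by
    rw [← hc]; conv_lhs => rw [card_succ j, pow_succ]
  rw [e, hc, ← Nat.mul_sub_one, show 4 * c * (Fintype.card A - 1) =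
    2 * (2 * (c * (Fintype.card A - 1))) by ring, Nat.mul_div_cancel_left _ (by norm_num), pow_mul]
  simp

theorem ev_tr (hm : 5 ≤ Fintype.card A) (h : 2 ≤ Fintype.card ι)
    (h' : ¬ (Fintype.card ι = 2 ∧ Fintype.card A % 4 = 2)) (i j : ι) :
    ∃ π, ∃ τ : ι → Perm A, sign (wp π τ) = 1 ∧ π i = j := by
  by_cases hij : i = j
  · exact ⟨1, 1, by rw [show wp 1 1 = 1 from map_one bs, Perm.sign_one], hij⟩
  by_cases e : sign (wp (swap i j) (fun _ => (1 : Perm A))) = 1
  · exact ⟨_, _, e, swap_apply_left _ _⟩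
  have ho : Odd (Fintype.card A) := by
    by_contra hn
    obtain ⟨c, hc⟩ := Nat.not_odd_iff_even.1 hn
    refine e (sign_sw hij ?_)
    by_cases h2 : Fintype.card ι = 2
    · rw [h2]; simp only [h2, true_and] at h'
      simp only [Nat.add_one_sub_one, pow_one]; omega
    · obtain ⟨d, hd⟩ : ∃ d, Fintype.card ι - 1 = d + 2 := ⟨Fintype.card ι - 3, by omega⟩
      rw [hd, hc]
      exact ⟨(c + c) ^ d * c ^ 2, by ring⟩
  obtain ⟨a, b, hab⟩ := Fintype.one_lt_card_iff.1 (show 1 < Fintype.card A by omega)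
  refine ⟨swap i j, Pi.mulSingle i (swap a b), ?_, swap_apply_left _ _⟩
  have : wp (swap i j) (Pi.mulSingle i (swap a b)) =
    cx i (swap a b) * wp (swap i j) (fun _ => (1 : Perm A)) := by ext f x; rfl
  rw [this, Perm.sign_mul, (Int.units_eq_one_or _).resolve_left e, sign_cx, sign_swap hab,
    ho.pow.neg_one_pow]
  simp

theorem coatom_alt (hm : 5 ≤ Fintype.card A) (h : 2 ≤ Fintype.card ι)
    (h' : ¬ (Fintype.card ι = 2 ∧ Fintype.card A % 4 = 2)) :
    IsCoatom ((W ι A).subgroupOf (alternatingGroup (ι → A))) := by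
  refine ⟨fun e => not_alt_le hm h (subgroupOf_eq_top.1 e), fun b hb => ?_⟩
  have ev : ∀ g ∈ W ι A, sign g = 1 → g ∈ b.map (alternatingGroup (ι → A)).subtype :=
    fun g hg e => ⟨⟨g, mem_alternatingGroup.2 e⟩, hb.le hg, rfl⟩
  have H : Hy (b.map (alternatingGroup (ι → A)).subtype) := ⟨hm, ev, fun i j => by
    obtain ⟨π, τ, a1, a2⟩ := ev_tr hm h h' i j
    exact ⟨π, τ, ev _ (wp_mem _ _) a1, a2⟩⟩
  rcases H.main with k | k
  · exact absurd (fun g hg => k ⟨g, hg, rfl⟩) hb.not_ge
  · rw [eq_top_iff]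
    rintro g -
    obtain ⟨u, hu, e⟩ := k g.2
    rwa [← show u = g from Subtype.ext e]

end H7.PA
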