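/-
Fusion systems on a Sylow `p`-subgroup of `PSU₄(q)`, part 3: images of automizers, rigidity, invariants.
-/
import Cfsg.Agent.H7.PV2

set_option autoImplicit false
set_option linter.unusedSectionVars false

namespace H7.PV
open Subgroup H25 H8.PU Cu
universe u v
variable {K : Type v} [Field K] [Finite K] {σ : K →+* K} [IV σ] {Γ : Type u} [Group Γ] [Finite Γ] {p : ℕ} [Fact p.Prime]
  {S P A X Y H : Subgroup Γ} {ev : Cu σ →* Γ} {g g' k β γ τ M1 M2 : Γ} {r b r' b' a ν : K} {φ φ' : K ≃+* K} {c x : Cu σ}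
  {f f' : A1 K} {j j' : A2 σ} {G G0 G1 : Subgroup (A1 K)} {J : Subgroup (A2 σ)}

theorem syl_im {M : Type*} [Group M] {U : Subgroup Γ} {U' : Subgroup M} (π : A →* M) (h1 : U' ≤ π.range)
    (h2 : ∀ g : A, g.1 ∈ U → π g ∈ U') (hs : Syl p U A) : Syl p U' π.range :=
  ⟨h1, fun c => hs.2 (c.trans (by
    rw [π.range_eq_map, ← relIndex_comap, relIndex_top_right]
    exact index_dvd_of_le fun g hg => h2 g (mem_subgroupOf.1 hg)))⟩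

/-- the action on the layers -/
def La (f : A1 K) (r b : K) (φ : K ≃+* K) : Prop := (∀ v, (f v).1 = r * φ v.1) ∧ ∀ s, (f (0, s)).2 = r * b * φ s
def Lb (j : A2 σ) (r b : K) (φ : K ≃+* K) : Prop := (∀ x, (j x).u = b * φ x.u) ∧ ∀ x, x.u = 0 → (j x).s = r * b * φ x.s
theorem D1.la (h : D1 f r b φ) : La f r b φ := ⟨fun v => by rw [h], fun s => by rw [h]⟩
theorem D2.lb (h : D2 j r b φ) : Lb j r b φ := ⟨fun x => (h x).1, fun x _ => (h x).2.1⟩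
theorem La.u (h : La f r b φ) (x : Cu σ) : La (u1 x * f) r b φ :=
  ⟨fun v => h.1 v, fun s => by simp [u1_ap, h.1, h.2]⟩
theorem Lb.u (h : Lb j r b φ) (c : Cu σ) : Lb (u2 c * j) r b φ :=
  ⟨fun x => h.1 x, fun x k => by simp [u2_s, h.1, h.2 x k, k]⟩
theorem La.eq (h : La f r b φ) (h' : La f r' b' φ') (h0 : r ≠ 0) : r = r' ∧ b = b' ∧ φ = φ' := by
  obtain rfl : r = r' := by simpa using (h.1 (1, 0)).symm.trans (h'.1 (1, 0))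
  exact ⟨rfl, by simpa [h0] using (h.2 1).symm.trans (h'.2 1),
    RingEquiv.ext fun t => mul_left_cancel₀ h0 ((h.1 (t, 0)).symm.trans (h'.1 (t, 0)))⟩
theorem Lb.eq (h : Lb j r b φ) (h' : Lb j r' b' φ') (h0 : r ≠ 0) (h1 : b ≠ 0) : r = r' ∧ b = b' ∧ φ = φ' := by
  obtain rfl : b = b' := by
    simpa using (h.1 (jv 1 0 0 (map_one σ) (map_zero σ))).symm.trans (h'.1 (jv 1 0 0 (map_one σ) (map_zero σ)))
  have k := fun s => (h.2 (jv 0 s 0 (map_zero σ) (map_zero σ)) rfl).symm.trans (h'.2 (jv 0 s 0 (map_zero σ) (map_zero σ)) rfl)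
  obtain rfl : r = r' := by simpa [h1] using k 1
  exact ⟨rfl, rfl, RingEquiv.ext fun s => mul_left_cancel₀ (mul_ne_zero h0 h1) (k s)⟩
theorem La.b1 (h : La f r b φ) : B1 f := fun s => by simp [h.1]
theorem D2.b2 (h : D2 j r b φ) : B2 j := fun x h1 h2 => by simp [(h x).1, (h x).2.1, h1, h2]

theorem nz_b1 (h : f ∈ nz (u1 (σ := σ)).range) : B1 f := fun s => by
  obtain ⟨y, e⟩ := conj_mem_of_mem_nz' h ⟨xu 1 (map_one σ), rfl⟩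
  have := congrArg (fun g : A1 K => (f (g (0, s))).2) e
  simp only [← H24.SP.mul_ap, ← mul_assoc, mul_inv_cancel, one_mul] at this
  simp only [H24.SP.mul_ap, u1_ap, xu_u, mul_zero, sub_zero] at this
  linear_combination this
theorem P5.mono (h : P5 σ G) (k : G ≤ G0) : P5 σ G0 := let ⟨g, a, b⟩ := h; ⟨g, k a, b⟩
theorem ND.mono (h : ND G) (k : G ≤ G0) : ND G0 := let ⟨g, a, b⟩ := h; ⟨g, k a, b⟩
theorem IJ.mono (h : IJ G) (k : G ≤ G0) : IJ G0 := let ⟨g, a, b⟩ := h; ⟨g, k a, b⟩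
theorem b1_ap (h : B1 f) (s : K) : f (0, s) = (0, (f (0, s)).2) := Prod.ext (h s) rfl
theorem B1.mul (h : B1 f) (h' : B1 f') : B1 (f * f') := fun s => by rw [H24.SP.mul_ap, b1_ap h']; exact h _
theorem B1.inv (h : B1 f) : B1 f⁻¹ := sgp_inv (P := B1) (fun _ => rfl) (fun _ _ => B1.mul) h
theorem B2.mul (h : B2 j) (h' : B2 j') : B2 (j * j') := fun x a b => h _ (h' x a b).1 (h' x a b).2
theorem B2.inv (h : B2 j) : B2 j⁻¹ := sgp_inv (P := B2) (fun _ a b => ⟨a, b⟩) (fun _ _ => B2.mul) h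
theorem nd_of {g f f' : A1 K} (h : B1 f) (h' : B1 f') (k : ¬ B1 g ∧ ∃ s, s ≠ 0 ∧ (g (0, s)).1 = 0) :
    ¬ B1 (f * g * f') ∧ ∃ s, s ≠ 0 ∧ ((f * g * f') (0, s)).1 = 0 := by
  obtain ⟨k1, s, k2, k3⟩ := k
  refine ⟨fun c => k1 (by simpa [mul_assoc] using (h.inv.mul c).mul h'.inv), (f'⁻¹ (0, s)).2, fun c => k2 ?_, ?_⟩
  · have := b1_ap h'.inv s
    rw [c, ← Prod.zero_eq_mk, map_eq_zero_iff _ (f'⁻¹).injective] at this
    exact congrArg Prod.snd this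
  · rw [← b1_ap h'.inv, ← H24.SP.mul_ap, mul_inv_cancel_right, H24.SP.mul_ap, show g (0, s) = (0, (g (0, s)).2) from Prod.ext k3 rfl]
    exact h _
theorem P5.cj (h : P5 σ G) (n : f ∈ nz (u1 (σ := σ)).range) : P5 σ (cj f G) := by
  obtain ⟨g, a, x, y, e⟩ := h
  obtain ⟨x', ex⟩ := conj_mem_of_mem_nz n ⟨x, rfl⟩
  obtain ⟨y', ey⟩ := conj_mem_of_mem_nz n ⟨y, rfl⟩
  refine ⟨_, conj_mem_cj f a, x', y', fun c => e ?_⟩
  rw [ex, ey, show f * u1 x * f⁻¹ * (f * g * f⁻¹ * (f * u1 y * f⁻¹) * (f * g * f⁻¹)⁻¹) =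
    f * (u1 x * (g * u1 y * g⁻¹)) * f⁻¹ by group, conj_pow] at c
  simpa [mul_inv_eq_iff_eq_mul] using c
theorem ND.cj (h : ND G) (n : B1 f) : ND (cj f G) := let ⟨_, a, b⟩ := h; ⟨_, conj_mem_cj f a, nd_of n n.inv b⟩
theorem IJ.cj (h : IJ G) (n : B1 f) : IJ (cj f G) := by
  obtain ⟨g, a, b1, b2⟩ := h
  refine ⟨_, conj_mem_cj f a, fun v => ?_, fun s => ?_⟩
  · have : g (f⁻¹ v) = f⁻¹ v + (0, (g (f⁻¹ v)).2 - (f⁻¹ v).2) := Prod.ext (by simp [b1]) (by simp)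
    rw [H24.SP.mul_ap, H24.SP.mul_ap, this, map_add, ← H24.SP.mul_ap, mul_inv_cancel, Prod.fst_add, n, add_zero]; rfl
  · rw [H24.SP.mul_ap, H24.SP.mul_ap, b1_ap n.inv, b2, show ((0 : K), -(f⁻¹ (0, s)).2) = -f⁻¹ (0, s) by
      rw [b1_ap n.inv]; simp, map_neg, ← H24.SP.mul_ap, mul_inv_cancel]; simp
theorem inv_cj (n : f ∈ nz (u1 (σ := σ)).range) : P5 σ (cj f G) = P5 σ G ∧ ND (cj f G) = ND G ∧ IJ (cj f G) = IJ G :=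
  ⟨propext ⟨fun h => by simpa using h.cj (inv_mem n), (·.cj n)⟩, propext ⟨fun h => by simpa using h.cj (nz_b1 n).inv,
    (·.cj (nz_b1 n))⟩, propext ⟨fun h => by simpa using h.cj (nz_b1 n).inv, (·.cj (nz_b1 n))⟩⟩
theorem pU [CharP K p] : IsPGroup p (u1 (σ := σ)).range := by
  rintro ⟨_, x, rfl⟩
  refine ⟨1, Subtype.ext (LinearEquiv.ext fun v => ?_)⟩
  have := pw_add (p := p) Cu.u (X := ⊤) (fun _ _ _ _ => rfl) (mem_top x)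
  simp [← map_pow, u1_ap, this]
theorem frat [CharP K p] (hs : Syl p (u1 (σ := σ)).range G1) (h0 : (u1 (σ := σ)).range ≤ G0) (h1 : G0 ≤ G1) (h2 : G1 ≤ nz G0) :
    (P5 σ G1 → P5 σ G0) ∧ (ND G1 → ND G0) := by
  have k : ∀ g ∈ G1, ∃ a ∈ G0, a⁻¹ * g ∈ nz (u1 (σ := σ)).range := fun g hg =>
    let ⟨a, ha, e⟩ := (hs.mono_right h0 h1).exists_cj_le (isPGroup_cj g pU) (cj_le_n h0 (h2 hg))
    ⟨a⁻¹, inv_mem ha, mem_nz_of_le (by rwa [inv_inv, ← cj_cj])⟩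
  refine ⟨fun ⟨g, hg, x, y, e⟩ => ?_, fun ⟨g, hg, e⟩ => ?_⟩ <;> obtain ⟨a, ha, n⟩ := k g hg
  · obtain ⟨y', ey⟩ := conj_mem_of_mem_nz n ⟨y, rfl⟩
    exact ⟨a, ha, x, y', by rwa [ey, ← cj_mul2, mul_inv_cancel_left]⟩
  · exact ⟨a, ha, by simpa using nd_of (f := 1) (fun _ => rfl) (nz_b1 n).inv e⟩
theorem Ej.mono {J' : Subgroup (A2 σ)} (h : Ej J a) (k : J ≤ J') : Ej J' a := let ⟨a0, g, a1, b⟩ := h; ⟨a0, g, k a1, b⟩
theorem sv_of (h : ∀ a, ¬ Ej J a) : SV J := fun g hg x h1 h2 h3 => by_contra fun c => h _ ⟨c, g, hg, x, h1, h2, h3, rfl⟩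
theorem SV.ne (h : SV J) : ¬ Ej J a := fun ⟨a0, g, hg, x, h1, h2, h3, h4⟩ => a0 (h4 ▸ h g hg x h1 h2 h3)
theorem Ej.cj (h : Ej J a) (h1 : B2 j) (h2 : ∀ x, x.u = 0 → (j x).u = 0) :
    Ej (cj j J) (j (jv 0 a 0 (map_zero σ) (map_zero σ))).s := by
  obtain ⟨a0, g, hg, x, k1, k2, k3, k4⟩ := h
  have e : (j (g x)).s = (j (jv 0 a 0 (map_zero σ) (map_zero σ))).s := by
    have := (h1 (g x - jv 0 a 0 (map_zero σ) (map_zero σ)) (by simp [k3]) (by simp [k4])).2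
    rwa [map_sub, Jv.sub_s, sub_eq_zero] at this
  have e2 : (j * g * j⁻¹) (j x) = j (g x) := by rw [← H24.SP.mul_ap, inv_mul_cancel_right]; rfl
  refine ⟨fun c => a0 ?_, _, conj_mem_cj j hg, j x, (h1 x k1 k2).1, (h1 x k1 k2).2, e2 ▸ h2 _ k3, e2 ▸ e⟩
  simpa [← H24.SP.mul_ap] using (h1.inv _ (h2 _ rfl) c).2

theorem im1_mono (h : A ≤ H) : im1 ev A ≤ im1 ev H := fun _ ⟨g, a, b⟩ => ⟨g, h a, b⟩
theorem im2_mono (h : A ≤ H) : im2 ev A ≤ im2 ev H := fun _ ⟨g, a, b⟩ => ⟨g, h a, b⟩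
theorem im1_ai : im1 ev (ai H ((Q1 σ).map ev)) = im1 ev H :=
  le_antisymm (fun _ ⟨_, ⟨_, k, a, e⟩, b⟩ => ⟨k, a, b.ag e.symm⟩) fun _ ⟨g, a, b⟩ => ⟨g, mem_ai_of_mem a b.nz, b⟩
theorem im2_ai : im2 ev (ai H ((Q2 σ).map ev)) = im2 ev H :=
  le_antisymm (fun _ ⟨_, ⟨_, k, a, e⟩, b⟩ => ⟨k, a, b.ag e.symm⟩) fun _ ⟨g, a, b⟩ => ⟨g, mem_ai_of_mem a b.nz, b⟩
theorem im2_cj (k : Aj ev γ j) : im2 ev (cj γ A) = cj j (im2 ev A) :=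
  le_antisymm (fun _ ⟨_, ⟨g, a, rfl⟩, b⟩ => mem_cj.2 ⟨g, a, by simpa [mul_assoc] using (k.inv.mul b).mul k⟩)
    (cj_le.2 fun _ ⟨g, a, b⟩ => ⟨_, conj_mem_cj γ a, (k.mul b).mul k.inv⟩)

namespace Cv
variable (h : Cv S ev)
include h
theorem im1_cj (k : Ac1 ev γ f) : im1 ev (cj γ A) = cj f (im1 ev A) :=
  le_antisymm (fun _ ⟨_, ⟨g, a, rfl⟩, b⟩ => mem_cj.2 ⟨g, a, by simpa [mul_assoc] using ((h.inv1 k).mul b).mul k⟩)
    (cj_le.2 fun _ ⟨g, a, b⟩ => ⟨_, conj_mem_cj γ a, (k.mul b).mul (h.inv1 k)⟩)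
theorem im1_nz (k : H ≤ nz A) : im1 ev H ≤ nz (im1 ev A) := fun _ ⟨g, a, b⟩ => mem_nz.2 (by rw [← h.im1_cj b, mem_nz.1 (k a)])
theorem nzU (k : Ac1 ev γ f) (n : γ ∈ nz S) : f ∈ nz (u1 (σ := σ)).range := mem_nz_of_conj_mem (by
  rintro _ ⟨x, rfl⟩
  obtain ⟨y, -, e⟩ := h.ex (conj_mem_of_mem_nz n (h.mS x))
  exact ⟨y, h.uq (acU y) (e ▸ (k.mul (acU x)).mul (h.inv1 k))⟩)
theorem syl1 (e : Au p S ((Q1 σ).map ev) A) : Syl p (u1 (σ := σ)).range (im1 ev A) := by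
  choose π0 k using fun g : A => h.ex1 (e.An g.2)
  let π : A →* A1 K := .mk' π0 fun g g' => h.uq (k _) ((k g).mul (k g'))
  have r : π.range = im1 ev A := le_antisymm (by rintro _ ⟨g, rfl⟩; exact ⟨g, g.2, k g⟩) fun _ ⟨g, a, b⟩ => ⟨⟨g, a⟩, h.uq (k _) b⟩
  refine r ▸ syl_im π (r ▸ ?_) (fun g hg => ?_) e.syl
  · rintro _ ⟨x, rfl⟩; exact ⟨_, e.mA (h.mS x) (h.nQ1 (h.mS x)), acU x⟩
  · obtain ⟨-, _, hu, a⟩ := mem_ai.1 hg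
    obtain ⟨x, -, rfl⟩ := h.ex hu
    exact ⟨x, h.uq ((acU x).ag a) (k g)⟩
theorem syl2 (e : Au p S ((Q2 σ).map ev) A) : Syl p (u2 (σ := σ)).range (im2 ev A) := by
  choose π0 k using fun g : A => h.ex2 (e.An g.2)
  let π : A →* A2 σ := .mk' π0 fun g g' => h.uq2 (k _) ((k g).mul (k g'))
  have r : π.range = im2 ev A := le_antisymm (by rintro _ ⟨g, rfl⟩; exact ⟨g, g.2, k g⟩) fun _ ⟨g, a, b⟩ => ⟨⟨g, a⟩, h.uq2 (k _) b⟩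
  refine r ▸ syl_im π (r ▸ ?_) (fun g hg => ?_) e.syl
  · rintro _ ⟨x, rfl⟩; exact ⟨_, e.mA (h.mS x) (h.nQ2 (h.mS x)), ajU x⟩
  · obtain ⟨-, _, hu, a⟩ := mem_ai.1 hg
    obtain ⟨x, -, rfl⟩ := h.ex hu
    exact ⟨x, h.uq2 ((ajU x).ag a) (k g)⟩
theorem se (e : Es p S ((Q2 σ).map ev) A) : SE (im2 ev A) := by
  obtain ⟨X, y⟩ := e.ti
  have m : ∀ {g j}, Aj ev g j → j ∈ im2 ev X → g ∈ X := fun k ⟨_, a, b⟩ =>
    (k.agr b).mem_of_cz_le ((cz_le_ai _ _).trans y.le) a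
  have mS : ∀ c, ev c ∈ ai S ((Q2 σ).map ev) := fun c => mem_ai_of_mem (h.mS c) (h.nQ2 (h.mS c))
  refine ⟨im2 ev X, by rintro _ ⟨c, rfl⟩; exact ⟨_, y.le (mS c), ajU c⟩, im2_mono y.XA, fun c => y.ne fun g hg =>
    let ⟨_, k⟩ := h.ex2 (e.An hg); m k (c ⟨g, hg, k⟩), ?_⟩
  rintro j ⟨g, hg, k⟩ _ ⟨c, rfl⟩ n ⟨d, e1⟩
  refine ⟨g, y.ti g hg _ (mS c) (fun q => n (h.uq2 (ajU c) (aj_one.ag ?_))) (((k.mul (ajU c)).mul k.inv).agr (e1 ▸ ajU d) |>.mem_ai (mS d)), k⟩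
  exact agree_one_iff.2 (h.c22.cz (e.mem (h.mS c) q))
theorem la (w : Wu ev k r b φ) (e : Agree ((Q1 σ).map ev) g (ev x * k)) (q : Ac1 ev g f) : La f r b φ :=
  let ⟨_, k'⟩ := h.ex1 (h.wQ1 w)
  h.uq (((acU x).mul k').ag e) q ▸ (h.dg1 w k').la.u x
theorem lb (w : Wu ev k r b φ) (e : Agree ((Q2 σ).map ev) g (ev x * k)) (q : Aj ev g j) : Lb j r b φ :=
  let ⟨_, k'⟩ := h.ex2 (h.wQ2 w)
  h.uq2 (((ajU x).mul k').ag e) q ▸ (h.dg2 w k').lb.u x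
theorem h1_of [CharP K p] (e : Au p S ((Q1 σ).map ev) A) (n : N1 ev A) (hB : ∀ g ∈ A, g ∈ nz ((Z2 σ).map ev) →
    ∃ x k r b φ, Wu ev k r b φ ∧ Agree ((Q1 σ).map ev) g (ev x * k)) : H1 σ p (im1 ev A) :=
  ⟨h.syl1 e, fun _ ⟨_, _, k⟩ => h.fm k, fun q _ ⟨_, _, k⟩ => h.sq (by subst q; exact CharTwo.two_eq_zero) k,
    fun _ ⟨g, hg, q⟩ b =>
      let ⟨x, _, r, b, φ, w, a⟩ := hB g hg (q.bo b)
      let ⟨_, k'⟩ := h.ex1 (h.wQ1 w)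
      ⟨x, r, b, φ, w.r0, w.b0, w.hb, by rw [h.uq q (((acU x).mul k').ag a), inv_mul_cancel_left]; exact h.dg1 w k'⟩,
    let ⟨g, hg, n1, n2⟩ := n; let ⟨f, k⟩ := h.ex1 n1; ⟨f, ⟨g, hg, k⟩, fun b => n2 (k.bo b)⟩⟩
/-- elements of the automizer trivial on `Q₁ / Z` are inner -/
theorem in1 (e : Au p S ((Q1 σ).map ev) A) (hg : g ∈ A) (q : Ac1 ev g 1) : g ∈ ai ((Q1 σ).map ev) ((Q1 σ).map ev) := by
  have c : ∀ Y, (Z σ).map ev ≤ Y → ∀ P ≤ (Q1 σ).map ev, Cm g P Y := fun Y hY P hP y hy => by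
    obtain ⟨c, hc, rfl⟩ := hP hy
    obtain ⟨c', h1, e1, e2⟩ := q c hc
    rw [H24.SP.one_ap, Prod.mk.injEq] at e2
    refine hY ?_
    us h [] at hc
    us h [e1, e2, h1, hc]; ring
  obtain ⟨-, s, hs, a⟩ := (h.kk1 e).ge ⟨hg, kk_mem (by simpa using q.bo fun _ => rfl) q.nz
    ⟨c _ (by ul h) _ le_rfl, c _ (h.fr1 e.pg) _ (by ul h)⟩⟩
  obtain ⟨x, -, rfl⟩ := h.ex hs
  have := congrArg (fun f : A1 K => (f (1, 0)).2) (h.uq ((acU x).ag a) q)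
  exact a.mem_ai (le_ai_self _ (h.mm.2 (by simpa [u1_ap, mQ1] using this)))
theorem th0 (q : Ac1 ev β 1) : ∃ θ : K → K → K, (∀ t s, σ (θ t s) = θ t s) ∧ (∀ t s t' s', θ (t + t') (s + s') = θ t s + θ t' s') ∧
    ∀ c : Cu σ, c.u = 0 → ∃ c', β * ev c * β⁻¹ = ev c' ∧ c'.t = c.t ∧ c'.u = 0 ∧ c'.s = c.s ∧ c'.v = c.v + θ c.t c.s := by
  choose! F m e1 e2 using q
  simp only [H24.SP.one_ap, Prod.mk.injEq] at e2
  have a : ∀ c c' : Cu σ, c.u = 0 → c'.u = 0 → (F (c * c')).v - (c * c').v = (F c).v - c.v + ((F c').v - c'.v) := fun c c' hc hc' => by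
    have := e1 (c * c') (by simp [hc, hc'])
    rw [map_mul, cj_mul', e1 c hc, e1 c' hc', ← map_mul] at this
    rw [← h.inj this]; simp [m _ hc', hc', e2 c hc, e2 c' hc']; ring
  have z : ∀ v hv, (F (xv v hv)).v = v := fun v hv => by
    obtain ⟨s, e⟩ := ex_ts hv (one_ne_zero (α := K))
    have e3 := a (xt 1) (xs s) rfl rfl
    rw [show xt 1 * xs s = xv v hv * (xs s * xt 1) by ext <;> simp [← e], a _ _ rfl (by simp), a _ _ rfl rfl] at e3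
    simp only [xv_v] at e3
    linear_combination e3
  have d : ∀ c : Cu σ, c.u = 0 → (F c).v = c.v + (F (el c.t c.s)).v := fun c hc => by
    have := a (xv c.v c.sv) (el c.t c.s) rfl rfl
    rw [show xv c.v c.sv * el c.t c.s = c by ext <;> simp [hc], z] at this
    simp only [xv_v, el_v] at this
    linear_combination this
  refine ⟨fun t s => (F (el t s)).v, fun _ _ => Cu.sv _, fun t s t' s' => ?_, fun c hc => ⟨_, e1 c hc, (e2 c hc).1, m c hc, (e2 c hc).2, d c hc⟩⟩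
  have := a (el t s) (el t' s') rfl rfl
  rw [d _ (by simp)] at this
  simpa using this
theorem inn_of {θ : K → K → K} {a d : K} (e : ∀ c : Cu σ, c.u = 0 → ∃ c', β * ev c * β⁻¹ = ev c' ∧ c'.t = c.t ∧ c'.u = 0 ∧
    c'.s = c.s ∧ c'.v = c.v + θ c.t c.s) (q : ∀ t s, θ t s = bf σ (a, d) (t, s)) : β ∈ ai ((Q1 σ).map ev) ((Q1 σ).map ev) :=
  Agree.mem_ai (h := ev (el a d)) (by
    rintro _ ⟨c, hc, rfl⟩
    obtain ⟨c', e1, e2, e3, e4, e5⟩ := e c hc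
    us h [] at hc
    us h [e1, e2, e3, e4, e5, q, bf, hc]; cg) (le_ai_self _ (h.mm.2 rfl))
theorem pr_in (hp : Pr σ) (q : Ac1 ev β 1) : β ∈ ai ((Q1 σ).map ev) ((Q1 σ).map ev) := by
  obtain ⟨θ, h0, h1, e⟩ := h.th0 q
  have a1 : ∀ x y, θ (x + y) 0 = θ x 0 + θ y 0 := fun x y => by rw [← h1, add_zero]
  have a2 : ∀ x y, θ 0 (x + y) = θ 0 x + θ 0 y := fun x y => by rw [← h1, add_zero]
  obtain ⟨d, k1⟩ := lin_fn (θ · 0) (h0 · 0) a1 fun l x => hp.lin (θ · 0) a1 l x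
  obtain ⟨a, k2⟩ := lin_fn (θ 0) (h0 0) a2 fun l x => hp.lin _ a2 l x
  refine h.inn_of (a := a) (d := -d) e fun t s => ?_
  have := h1 t 0 0 s
  rw [add_zero, zero_add, k1, k2] at this
  simp only [this, bf, map_neg]; ring
theorem tor_in (q : Ac1 ev β 1) (w : Wu ev τ ν⁻¹ (ν ^ 2) (.refl K)) (h1 : σ ν = ν) (h2 : ν ≠ 1) (hx : x.u = 0)
    (e : Agree ((Q1 σ).map ev) (β * τ) (ev x * τ * β)) : β ∈ ai ((Q1 σ).map ev) ((Q1 σ).map ev) := by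
  obtain ⟨θ, -, a, k⟩ := h.th0 q
  have n0 : ν ≠ 0 := fun c => w.r0 (by simp [c])
  have n1 := sub_ne_zero.2 h2
  refine h.inn_of (a := x.t * ν / (ν - 1)) (d := -x.s / (ν - 1)) k fun t s => ?_
  have e3 := e _ (h.mm.2 (show el (-ν * t / (ν - 1)) (s / (ν - 1)) ∈ Q1 σ from rfl))
  obtain ⟨c1, k1, k2, k3, k4, k5⟩ := k (el (-ν * t / (ν - 1)) (s / (ν - 1))) rfl
  obtain ⟨c2, l1, l2, l3, l4, l5⟩ := k (sc ν⁻¹ (ν ^ 2) w.hb (.refl K) (el (-ν * t / (ν - 1)) (s / (ν - 1)))) (by simp)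
  rw [cj_mul2, cj_mul2, cj_mul2, w.cj, l1, k1, w.cj] at e3
  have e4 := a (-ν * t / (ν - 1)) (s / (ν - 1)) t s
  rw [show -ν * t / (ν - 1) + t = ν⁻¹ * (-ν * t / (ν - 1)) by field_simp; ring,
    show s / (ν - 1) + s = ν⁻¹ * ν ^ 2 * (s / (ν - 1)) by field_simp; ring] at e4
  us h [k2, k3, k4, k5, l2, l3, l4, l5, hx, e4, map_div₀, map_inv₀, map_pow, h1] at e3
  simp only [bf, map_div₀, map_mul, map_sub, map_one, map_neg, h1]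
  have e5 := e3.2.2
  field_simp at e5 ⊢
  linear_combination e5
theorem m1_mem (y : Wl ev M1 M2) (e : Au p S ((Q1 σ).map ev) A) (hw : w1 ∈ im1 ev A) (t : Pr σ ∨ ∃ ν, ∃ a ∈ A, ∃ b ∈ A,
    σ ν = ν ∧ ν ≠ 1 ∧ Wu ev a ν⁻¹ (ν ^ 2) (.refl K) ∧ Wu ev b ν (ν⁻¹ ^ 2) (.refl K)) : M1 ∈ A := by
  obtain ⟨n, hn, kn⟩ := hw
  have kβ : Ac1 ev (M1⁻¹ * n) 1 := by simpa using (h.inv1 (acM y)).mul kn
  suffices M1⁻¹ * n ∈ ai ((Q1 σ).map ev) ((Q1 σ).map ev) by simpa using mul_mem hn (inv_mem (e.PA this))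
  rcases t with t | ⟨ν, a, ha, b, hb, h1, h2, wa, wb⟩
  · exact h.pr_in t kβ
  have n0 := wb.r0
  have ag : Agree ((Q1 σ).map ev) (M1 * a) (b * M1) := by
    rintro _ ⟨c, hc, rfl⟩
    rw [cj_mul2, cj_mul2, wa.cj, y.f1 c hc, wb.cj, y.f1 _ (by simp [mQ1.1 hc])]
    us h [map_inv₀, map_pow, h1]
    refine ⟨?_, ?_, ?_⟩ <;> field_simp
  obtain ⟨fa, ka⟩ := h.ex1 (e.An ha)
  obtain ⟨fb, kb⟩ := h.ex1 (e.An hb)
  obtain ⟨-, u0, hu, x2⟩ := mem_ai.1 (h.in1 e (mul_mem (mul_mem hn ha) (inv_mem (mul_mem hb hn))) (by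
    simpa [h.uq ((acM y).mul ka) ((kb.mul (acM y)).ag ag)] using (kn.mul ka).mul (h.inv1 (kb.mul kn))))
  obtain ⟨u, hu', eu⟩ := conj_mem_of_mem_nz' (acM y).nz hu
  refine h.tor_in kβ wa h1 h2 hu' fun w hw => ?_
  have e1 := x2 _ (conj_mem_of_mem_nz (e.An (mul_mem hb hn)) hw)
  have e2 := ag _ (conj_mem_of_mem_nz kβ.nz hw)
  calc _ = M1⁻¹ * (n * a * (b * n)⁻¹ * (b * n * w * (b * n)⁻¹) * (n * a * (b * n)⁻¹)⁻¹) * M1 := by group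
    _ = M1⁻¹ * (u0 * (b * M1 * (M1⁻¹ * n * w * (M1⁻¹ * n)⁻¹) * (b * M1)⁻¹) * u0⁻¹) * M1 := by rw [e1]; group
    _ = _ := by rw [← e2, eu]; group
end Cv

end H7.PV
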