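/-
Fusion systems on a Sylow `p`-subgroup of `PSU₄(q)`, part 4: normal forms and the generic case.
-/
import Cfsg.Agent.H7.PV3
import Cfsg.Agent.H8.PU4

set_option autoImplicit false
set_option linter.unusedSectionVars false

namespace H7.PV
open Cfsg Subgroup H25 H25.FS H8.PU Cu
universe u v
variable {K : Type v} [Field K] [Finite K] {σ : K →+* K} [IV σ] {Γ : Type u} [Group Γ] [Finite Γ] {p : ℕ} [hp : Fact p.Prime]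
  [CharP K p] {S P A L C0 : Subgroup Γ} {ev : Cu σ →* Γ} {g k γ τ M1 M2 : Γ} {r b l ν a : K} {φ : K ≃+* K} {F F' : FS Γ}
  {f : A1 K} {j : A2 σ}

variable (σ Γ p) in
/-- the chunks -/
structure Kk : Prop where
  xe : XE σ Γ p
  xc : XC σ Γ
  xq : XQ σ Γ p
  j0 : J0 σ p
  jt : JT σ p
  j2 : J2 σ p
  j3 : J3 σ p
  qc : QC σ p
  l1 : L1 σ p
  c3 : C3 σ p
/-- all automorphisms of `S` are induced by the ambient group -/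
def Ho (ev : Cu σ →* Γ) : Prop := ∀ α : MulAut (Cu σ), ∃ γ, ∀ c, γ * ev c * γ⁻¹ = ev (α c)
/-- saturated on `S` -/
structure Sa (p : ℕ) (S : Subgroup Γ) (F : FS Γ) : Prop where
  sat : F.Sat p
  eS : F.S = S
/-- the automizer of `S` is diagonal -/
structure Nf (p : ℕ) (S C0 : Subgroup Γ) (F : FS Γ) : Prop extends Sa p S F where
  hA : F.A S ≤ C0 ⊔ ai S S
/-- standard points -/
def Sd (S Y : Subgroup Γ) (M : Γ) (A : Subgroup Γ) : Prop := M ∈ A ∧ ∀ g ∈ A, g ∈ nz Y ∨ ∃ s ∈ S, M * s * g ∈ nz Y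

theorem Sa.cj (n : Sa p S F) (hγ : γ ∈ nz S) : Sa p S (cjs γ F) := ⟨n.sat.cjs γ, by rw [cjs_S, n.eS, mem_nz.1 hγ]⟩
theorem cjs_A' (hγ : γ ∈ nz P) : (cjs γ F).A P = cj γ (F.A P) := by rw [← cjs_A, mem_nz.1 hγ]
theorem Nf.cj (n : Nf p S C0 F) (hC : C0 ≤ nz S) (hγ : γ ∈ nz S) (h : ∀ k ∈ C0 ⊓ F.A S, γ * k * γ⁻¹ ∈ C0 ⊔ ai S S) :
    Nf p S C0 (cjs γ F) := ⟨n.toSa.cj hγ, by
  rw [cjs_A' hγ, cj_le]
  intro a ha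
  obtain ⟨y, hy, k, hk, rfl⟩ := (mem_sup_of_le_nz_left (hC.trans (nz_le_nz_ai_self S))).1 (sup_comm C0 _ ▸ n.hA ha)
  rw [cj_mul']
  exact mul_mem (mem_sup_right (conj_mem_of_mem_nz (nz_le_nz_ai_self S hγ) hy))
    (h k ⟨hk, (mul_mem_cancel_left (ai_self_le_A n.eS.ge hy)).1 ha⟩)⟩
theorem Sa.cn (n : Sa p S F) (h6 : S ⊓ cz P ≤ P) (hP : P ≤ S) (hn : F.A S ≤ nz P) (k : ∀ X, F.Ess X → P ≤ X ∧ F.A X ≤ nz P) :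
    F.Constr p := by
  obtain ⟨hF, rfl⟩ := n
  have := hF.nm_iff_ess.2 (fun X hX => hX.elim (fun c => c ▸ ⟨hP, hn⟩) (k X) : ∀ X, X = F.S ∨ F.Ess X → P ≤ X ∧ F.A X ≤ nz P)
  exact ⟨hF, P, this, this.wc.centric h6⟩
theorem Sa.es (n : Sa p S F) (h : F.Ess P) : Es p S P (F.A P) := n.eS ▸ es_of n.sat h
theorem Sa.mA (n : Sa p S F) (h : g ∈ S) (h' : g ∈ nz P) : g ∈ F.A P := F.N_le_A P ⟨n.eS.ge h, h'⟩
theorem Sa.res (n : Sa p S F) (hP : P ≤ S) (h : g ∈ F.A S) (h' : g ∈ nz P) : g ∈ F.A P := mem_A_of_le n.eS.ge h hP h'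
theorem Sa.auS (n : Sa p S F) : Au p S S (F.A S) := au_of n.sat n.eS le_rfl (le_nz_self S) inf_le_left
theorem sa_of {H : Subgroup Γ} (h : IsPGroup p S) (s : Syl p S H) : Sa p S (ofSub H S) := ⟨sat_ofSub h s, rfl⟩
theorem Sa.le_A (n : Sa p S F) (n' : Sa p S F') (h1 : F.A S ≤ F'.A S) (hP : P ≤ S) (hn : S ≤ nz P) {Y : Subgroup Γ} {M : Γ}
    (s : Sd S Y M (F.A P)) (m : M ∈ F'.A P) (ex : ∀ g ∈ F.A P, g ∈ nz Y → ∃ k ∈ F.A S, Agree P k g) : F.A P ≤ F'.A P := by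
  have k : ∀ a ∈ F.A P, a ∈ nz Y → a ∈ F'.A P := fun a ha c =>
    let ⟨k, hk, c'⟩ := ex a ha c
    c'.symm.mem_A (n'.res hP (h1 hk) (c'.mem_nz (F.A_le_nz P ha)))
  refine fun a ha => (s.2 a ha).elim (k a ha) fun ⟨u, hu, c⟩ => ?_
  have := k _ (mul_mem (mul_mem s.1 (n.mA hu (hn hu))) ha) c
  rwa [mul_mem_cancel_left (mul_mem m (n'.mA hu (hn hu)))] at this
theorem Sa.le (n : Sa p S F) (n' : Sa p S F') (h1 : F.A S ≤ F'.A S) (h : ∀ P, F.Ess P → F.A P ≤ F'.A P) : F ≤ F' :=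
  n.sat.le_of_ess fun P hP a ha => by
    rcases hP with rfl | hP
    · exact T_of_mem_A (n.eS.trans n'.eS.symm).le (n.eS ▸ h1 (n.eS ▸ ha))
    · exact T_of_mem_A (hP.le.trans (n.eS.trans n'.eS.symm).le) (h P hP ha)

namespace Cv
variable (h : Cv S ev)
include h
theorem hoS {α : MulAut (Cu σ)} (e : ∀ c, γ * ev c * γ⁻¹ = ev (α c)) : γ ∈ nz S := mem_nz_of_conj_mem fun y hy => by
  obtain ⟨c, -, rfl⟩ := h.ex hy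
  exact e c ▸ h.mS _
theorem au1 (n : Sa p S F) : Au p S ((Q1 σ).map ev) (F.A ((Q1 σ).map ev)) := au_of n.sat n.eS (h.le _) h.nQ1 h.cen1
theorem au2 (n : Sa p S F) : Au p S ((Q2 σ).map ev) (F.A ((Q2 σ).map ev)) := au_of n.sat n.eS (h.le _) h.nQ2 h.cen2
theorem ext1 (n : Sa p S F) (hg : g ∈ F.A ((Q1 σ).map ev)) (k : g ∈ nz ((Z2 σ).map ev)) :
    ∃ k ∈ F.A S, Agree ((Q1 σ).map ev) k g := ext_of n.sat n.eS (h.le _) h.nQ1 hg (h.bor1 (h.au1 n) hg k)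
theorem sd2 (y : Wl ev M1 M2) (hA : cz ((Q2 σ).map ev) ≤ A) (hn : A ≤ nz ((Q2 σ).map ev)) (s : St2 (im2 ev A)) :
    Sd S ((Z σ).map ev) M2 A :=
  ⟨let ⟨_, a, b⟩ := s.1; ((ajM y).agr b).mem_of_cz_le hA a, fun g hg => let ⟨_, k⟩ := h.ex2 (hn hg)
    (s.2.2 _ ⟨g, hg, k⟩).imp k.bo fun ⟨c, b⟩ => ⟨_, h.mS c, (((ajM y).mul (ajU c)).mul k).bo b⟩⟩
theorem sv (y : Wl ev M1 M2) (s : Sd S ((Z σ).map ev) M2 A) : SV (im2 ev A) := by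
  rintro j ⟨g, hg, k⟩ x h1 h2 h3
  rcases s.2 g hg with c | ⟨_, hs, c⟩
  · exact (h.bo2 k c x h1 h2).2
  obtain ⟨c', -, rfl⟩ := h.ex hs
  simpa [w2_ap, u2_s, h3] using (h.bo2 (((ajM y).mul (ajU c')).mul k) c x h1 h2).2
variable (x : Kk σ Γ p)
include x
theorem ess (e : Es p S P A) : P = (Q1 σ).map ev ∨ P = (Q2 σ).map ev ∨ F2 σ ∧ ∃ a, a ≠ 0 ∧ P = (C1 σ a).map ev :=
  let ⟨_, e, g⟩ := e.gen; x.xe _ _ _ _ h e g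
theorem bor2' (e : Au p S ((Q2 σ).map ev) A) (hg : g ∈ A) (k : g ∈ nz ((Z σ).map ev)) : g ∈ nz (ai S ((Q2 σ).map ev)) := by
  obtain ⟨j, q⟩ := h.ex2 (e.An hg)
  refine h.bor2 e hg k (mem_nz_of_conj_mem ?_)
  rintro _ ⟨c, hc, rfl⟩
  exact ⟨_, ⟨rfl, (x.j0 _ (h.syl2 e) j ⟨g, hg, q⟩ (h.bo2 q k)).2 (pj c) hc.2⟩, (q.ap hc.1).symm⟩
theorem ext2 (n : Sa p S F) (hg : g ∈ F.A ((Q2 σ).map ev)) (k : g ∈ nz ((Z σ).map ev)) :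
    ∃ k ∈ F.A S, Agree ((Q2 σ).map ev) k g := ext_of n.sat n.eS (h.le _) h.nQ2 hg (h.bor2' x (h.au2 n) hg k)
theorem cA (n : Sa p S F) (h2 : F2 σ) (ha : a ≠ 0) : F.A ((C1 σ a).map ev) ≤ F.A ((Q2 σ).map ev) := fun _ hg =>
  mem_A_of_le ((h.le _).trans n.eS.ge) hg (by ul h) ((x.xq h2 S ev a h ha).1 (F.A_le_nz _ hg)).1
theorem ej (n : Sa p S F) (h2 : F2 σ) (ha : a ≠ 0) (e : F.Ess ((C1 σ a).map ev)) : Ej (im2 ev (F.A ((Q2 σ).map ev))) a :=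
  ((x.xq h2 S ev a h ha).2.2.2.1 _ (n.es e)).mono (im2_mono (h.cA x n h2 ha))
theorem ess' (n : Sa p S F) (s : SV (im2 ev (F.A ((Q2 σ).map ev)))) (e : F.Ess P) : P = (Q1 σ).map ev ∨ P = (Q2 σ).map ev :=
  (h.ess x (n.es e)).imp_right (·.resolve_right fun ⟨h2, _, ha, c⟩ => s.ne (h.ej x n h2 ha (c ▸ e)))
theorem cases (n : Sa p S F) : F.Constr p ∨ N1 ev (F.A ((Q1 σ).map ev)) ∧ N2 ev (F.A ((Q2 σ).map ev)) := by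
  by_cases q : N1 ev (F.A ((Q1 σ).map ev))
  · refine or_iff_not_imp_right.2 fun r => n.cn h.cen1 (h.le _) (fun g hg => (x.xc _ _ h g (F.A_le_nz _ hg)).2.2.1) fun X c => ?_
    have r : ∀ g ∈ F.A ((Q2 σ).map ev), g ∈ nz ((Z σ).map ev) := fun g hg => by_contra fun c => r ⟨q, g, hg, F.A_le_nz _ hg, c⟩
    rcases h.ess' x n (fun _ ⟨g, hg, k⟩ y h1 h2 _ => (h.bo2 k (r g hg) y h1 h2).2) c with rfl | rfl
    · exact ⟨le_rfl, F.A_le_nz _⟩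
    · exact ((n.es c).not_nz fun g hg => h.bor2' x (h.au2 n) hg (r g hg)).elim
  · refine .inl (n.cn h.cen2 (h.le _) (fun g hg => (x.xc _ _ h g (F.A_le_nz _ hg)).2.2.2.1) fun X c => ?_)
    rcases h.ess x (n.es c) with rfl | rfl | ⟨h2, a, ha, rfl⟩
    · exact ((n.es c).not_nz fun g hg => h.bor1 (h.au1 n) hg (by_contra fun c => q ⟨g, hg, F.A_le_nz _ hg, c⟩)).elim
    · exact ⟨le_rfl, F.A_le_nz _⟩
    · exact ⟨by ul h, (h.cA x n h2 ha).trans (F.A_le_nz _)⟩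
theorem n1cj (hγ : γ ∈ nz S) (q : N1 ev (F.A ((Q1 σ).map ev))) : N1 ev ((cjs γ F).A ((Q1 σ).map ev)) := by
  obtain ⟨-, z, q1, -⟩ := x.xc _ _ h γ hγ
  obtain ⟨g, a, b, c⟩ := q
  exact ⟨_, cjs_A' q1 ▸ conj_mem_cj γ a, mul_mem (mul_mem q1 b) (inv_mem q1),
    fun e => c ((mul_mem_cancel_left z).1 ((mul_mem_cancel_right (inv_mem z)).1 e))⟩
theorem n2cj (hγ : γ ∈ nz S) (q : N2 ev (F.A ((Q2 σ).map ev))) : N2 ev ((cjs γ F).A ((Q2 σ).map ev)) := by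
  obtain ⟨z, -, -, q1, -⟩ := x.xc _ _ h γ hγ
  obtain ⟨g, a, b, c⟩ := q
  exact ⟨_, cjs_A' q1 ▸ conj_mem_cj γ a, mul_mem (mul_mem q1 b) (inv_mem q1),
    fun e => c ((mul_mem_cancel_left z).1 ((mul_mem_cancel_right (inv_mem z)).1 e))⟩
theorem le_gen (y : Wl ev M1 M2) (n : Sa p S F) (n' : Sa p S F') (h1 : F.A S ≤ F'.A S)
    (s1 : F.A ((Q1 σ).map ev) ≤ F'.A ((Q1 σ).map ev)) (s2 : Sd S ((Z σ).map ev) M2 (F.A ((Q2 σ).map ev)))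
    (m2 : M2 ∈ F'.A ((Q2 σ).map ev)) : F ≤ F' := n.le n' h1 fun P e => by
  rcases h.ess' x n (h.sv y s2) e with rfl | rfl
  exacts [s1, n.le_A n' h1 (h.le _) h.nQ2 s2 m2 fun _ => h.ext2 x n]
end Cv

namespace Mu
variable (m : Mu p S ev L C0 M1 M2)
include m
theorem CS : C0 ≤ nz S := fun k hk => let ⟨_, _, _, w⟩ := m.wt k hk; m.wS w
theorem cjA (x : Kk σ Γ p) (n : Sa p S F) : ∃ γ ∈ nz S, Nf p S C0 (cjs γ F) := by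
  have h1 := F.A_le_nz S
  obtain ⟨k, hk, e⟩ := sz0 (p := p) (X := stab S ((Z2 σ).map ev)) (A := C0) (fun g hg => nz_le_nz_ai_self S hg.1)
    (m.CS.trans (nz_le_nz_ai_self S)) (h1.trans (nz_le_nz_ai_self S))
    (fun g hg => mem_nz_stab (m.CS hg) (mem_nz_inf (m.CS hg) (x.xc _ _ m.toCv g (m.CS hg)).2.1)) (fun g hg => by
      obtain ⟨-, -, -, -, r, t, φ, r0, t0, hb, e⟩ := x.xc _ _ m.toCv g (h1 hg)
      obtain ⟨k, hk, w⟩ := m.ex' r t φ r0 t0 hb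
      have : g * k⁻¹ ∈ stab S ((Z2 σ).map ev) := mem_stab'.2 ⟨mul_mem (h1 hg) (inv_mem (m.CS hk)), fun y hy => by
        obtain ⟨c, -, e1⟩ := m.ex (conj_mem_of_mem_nz' (m.CS hk) hy)
        obtain ⟨c', -, e2⟩ := m.ex (conj_mem_of_mem_nz (h1 hg) (m.mS c))
        have e3 : y = ev (sc r t hb φ c) := by rw [← w.cj, e1]; group
        rw [cj_mul2, inv_inv, ← e1, ← e2, e3]
        us m.toCv [e c c' e2.symm]⟩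
      simpa using mul_mem_sup this hk)
    (fun k hk => (kk_pel (l := []) m.pg (by simp) (stab_mono (m.frS m.pg) hk)).mono (cz_le_ai _ _)) n.auS.syl.2
  exact ⟨k⁻¹, inv_mem hk.1, n.cj (inv_mem hk.1), by
    rw [cjs_A' (inv_mem hk.1)]; exact cj_le.2 fun a ha => by rw [inv_inv]; exact e a ha⟩
variable (n : Nf p S C0 F)
include n
theorem dec (ha : g ∈ F.A S) : ∃ c, ∃ k ∈ C0 ⊓ F.A S, ∃ r b φ, Wu ev k r b φ ∧ Agree S g (ev c * k) := by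
  obtain ⟨y, hy, k, hk, rfl⟩ := (mem_sup_of_le_nz_left (m.CS.trans (nz_le_nz_ai_self S))).1 (sup_comm C0 _ ▸ n.hA ha)
  obtain ⟨-, u, hu, e⟩ := mem_ai.1 hy
  obtain ⟨r, t, φ, w⟩ := m.wt k hk
  obtain ⟨c, -, rfl⟩ := m.ex hu
  exact ⟨c, k, ⟨hk, (mul_mem_cancel_left (ai_self_le_A n.eS.ge hy)).1 ha⟩, r, t, φ, w,
    Agree.mul_right (by rwa [mem_nz.1 (m.CS hk)])⟩
theorem dec1 (hg : g ∈ F.A ((Q1 σ).map ev)) (k : g ∈ nz ((Z2 σ).map ev)) :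
    ∃ c, ∃ k ∈ C0 ⊓ F.A S, ∃ r b φ, Wu ev k r b φ ∧ Agree ((Q1 σ).map ev) g (ev c * k) :=
  let ⟨_, ha, e1⟩ := m.ext1 n.toSa hg k
  let ⟨c, k, hk, r, b, φ, w, e2⟩ := m.dec n ha
  ⟨c, k, hk, r, b, φ, w, e1.symm.trans (e2.mono (m.le _))⟩
theorem wt1 (hf : f ∈ im1 ev (F.A ((Q1 σ).map ev))) (q : La f r b φ) : ∃ k ∈ C0 ⊓ F.A S, Wu ev k r b φ :=
  let ⟨_, hg, a⟩ := hf
  let ⟨_, k, hk, _, _, _, w, e⟩ := m.dec1 n hg (a.bo q.b1)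
  let ⟨e1, e2, e3⟩ := (m.la w e a).eq q w.r0
  ⟨k, hk, w.cg e1 e2 e3⟩
theorem r1 (hk : k ∈ F.A S) (w : Wu ev k r b φ) : ∃ f ∈ im1 ev (F.A ((Q1 σ).map ev)), D1 f r b φ :=
  let ⟨f, a⟩ := m.ex1 (m.wQ1 w); ⟨f, ⟨k, n.res (m.le _) hk a.nz, a⟩, m.dg1 w a⟩
theorem r2 (hk : k ∈ F.A S) (w : Wu ev k r b φ) : ∃ j ∈ im2 ev (F.A ((Q2 σ).map ev)), D2 j r b φ :=
  let ⟨f, a⟩ := m.ex2 (m.wQ2 w); ⟨f, ⟨k, n.res (m.le _) hk a.nz, a⟩, m.dg2 w a⟩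
theorem h1 (q : N1 ev (F.A ((Q1 σ).map ev))) : H1 σ p (im1 ev (F.A ((Q1 σ).map ev))) :=
  m.h1_of (m.au1 n.toSa) q fun _ hg k => let ⟨c, k, _, r, b, φ, w, e⟩ := m.dec1 n hg k; ⟨c, k, r, b, φ, w, e⟩
theorem tor (s : St1 σ (im1 ev (F.A ((Q1 σ).map ev)))) (h1 : σ ν = ν) (h0 : ν ≠ 0) :
    ∃ k ∈ C0 ⊓ F.A S, Wu ev k ν⁻¹ (ν ^ 2) (.refl K) := let ⟨_, hf, d⟩ := s.2.1 ν h1 h0; m.wt1 n hf d.la
theorem sd1 (s : St1 σ (im1 ev (F.A ((Q1 σ).map ev)))) : Sd S ((Z2 σ).map ev) M1 (F.A ((Q1 σ).map ev)) := by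
  refine ⟨m.m1_mem m.toWl (m.au1 n.toSa) s.1 ?_, fun g hg => let ⟨_, k⟩ := m.ex1 (F.A_le_nz _ hg)
    (s.2.2 _ ⟨g, hg, k⟩).imp k.bo fun ⟨c, b⟩ => ⟨_, m.mS c, (((acM m.toWl).mul (acU c)).mul k).bo b⟩⟩
  rcases tri σ with t | t | ⟨ν, h1, h2, h3⟩
  exacts [.inl t.pr, .inl t.pr,
    let ⟨a, ha, wa⟩ := m.tor n s h1 h2
    let ⟨b, hb, wb⟩ := m.tor n s (by rw [map_inv₀, h1]) (inv_ne_zero h2)
    .inr ⟨ν, a, n.res (m.le _) ha.2 (m.wQ1 wa), b, n.res (m.le _) hb.2 (m.wQ1 wb), h1, fun e => h3 (by simp [e]), wa,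
      wb.cg (inv_inv ν) rfl rfl⟩]
variable (x : Kk σ Γ p)
include x
theorem wt2 (hj : j ∈ im2 ev (F.A ((Q2 σ).map ev))) (q : D2 j r b φ) : ∃ k ∈ C0 ⊓ F.A S, Wu ev k r b φ :=
  let ⟨_, hg, a⟩ := hj
  let ⟨_, ha, e1⟩ := m.ext2 x n.toSa hg (a.bo q.b2)
  let ⟨_, k, hk, _, _, _, w, e⟩ := m.dec n ha
  let ⟨e1, e2, e3⟩ := (m.lb w (e1.symm.trans (e.mono (m.le _))) a).eq q.lb w.r0 w.b0
  ⟨k, hk, w.cg e1 e2 e3⟩
omit x in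
theorem nfa (o : Ho ev) {c : K} (hc : σ c = c) (e : ∀ k ∈ F.A S, ∀ r b φ, Wu ev k r b φ → r * σ r * φ c = c) :
    ∃ γ ∈ nz S ⊓ cz ((Q1 σ).map ev), Aj ev γ (t2 c hc) ∧ Nf p S C0 (cjs γ F) := by
  obtain ⟨γ, hγ⟩ := o (ta c hc)
  refine ⟨γ, ⟨m.hoS hγ, mem_cz.2 ?_⟩, fun y => hγ _, n.cj m.CS (m.hoS hγ) fun k hk => ?_⟩
  · rintro _ ⟨y, hy, rfl⟩
    us m.toCv [] at hy
    us m.toCv [hγ, hy]
  obtain ⟨r, b, φ, w⟩ := m.wt k hk.1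
  refine Agree.mem_of_cz_le (h := k) (agree_iff.2 (mem_cz.2 fun y hy => ?_)) (le_sup_of_le_right (cz_le_ai _ _)) (mem_sup_left hk.1)
  obtain ⟨y', -, rfl⟩ := m.ex hy
  obtain ⟨y, rfl⟩ := (ta c hc).surjective y'
  have : γ * k * ev y * (γ * k)⁻¹ = k * γ * ev y * (k * γ)⁻¹ := by
    rw [cj_mul2, cj_mul2, w.cj, hγ, hγ, w.cj]
    us m.toCv [map_add, map_mul]
    linear_combination -b * φ y.u * e k hk.2 r b φ w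
  rw [← hγ]
  calc _ = k⁻¹ * (γ * k * ev y * (γ * k)⁻¹) * k := by group
    _ = _ := by rw [this]; group
/-- normalization of the automizer of `Q₂` -/
theorem jn (o : Ho ev) (q : N2 ev (F.A ((Q2 σ).map ev))) (sv : SV (im2 ev (F.A ((Q2 σ).map ev))))
    (t : Pr σ ∨ St1 σ (im1 ev (F.A ((Q1 σ).map ev)))) : ∃ γ ∈ nz S ⊓ cz ((Q1 σ).map ev), Nf p S C0 (cjs γ F) ∧
      Sd S ((Z σ).map ev) M2 ((cjs γ F).A ((Q2 σ).map ev)) ∧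
      ∀ l, l ≠ 0 → ∃ k ∈ C0 ⊓ (cjs γ F).A S, Wu ev k (l ^ 2) (l * σ l)⁻¹ (.refl K) := by
  have s := m.syl2 (m.au2 n.toSa)
  obtain ⟨c, hc, e, st⟩ := x.j3 _ s sv (x.j2 _ s sv).1 (x.j2 _ s sv).2
    (let ⟨g, a, b, c⟩ := q; let ⟨j, k⟩ := m.ex2 b; ⟨j, ⟨g, a, k⟩, fun e => c (k.bo e)⟩) (by
      rcases t with t | t
      · exact .inl t
      rcases tri σ with t | t | ⟨ν, h1, h2, h3⟩
      exacts [.inl t.pr, .inl t.pr, let ⟨_, hk, w⟩ := m.tor n t h1 h2; let ⟨j, a, d⟩ := m.r2 n hk.2 w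
        .inr ⟨j, a, ν, h1, h2, h3, d⟩])
  obtain ⟨γ, hγ, a, n'⟩ := m.nfa n o hc fun k hk r b φ w => let ⟨j, a, d⟩ := m.r2 n hk w; e j a r b φ d
  rw [← im2_cj a, ← cjs_A' a.nz] at st
  exact ⟨γ, hγ, n', m.sd2 m.toWl (cz_le_A _ _) (A_le_nz _ _) st, fun l hl => let ⟨_, a, d⟩ := st.2.1 l hl; m.wt2 n' x a d⟩
omit x in
theorem one (hk : k ∈ C0 ⊓ F.A S) (o : PEl p (ai S S) k) : k = 1 := by
  have a := n.auS
  obtain ⟨-, u, hu, e⟩ := mem_ai.1 (a.syl.mem_of_pel a.An' hk.2 o)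
  obtain ⟨r, t, φ, w⟩ := m.wt k hk.1
  obtain ⟨u, -, rfl⟩ := m.ex hu
  obtain ⟨e1, e2, e3⟩ := (m.la w (x := u⁻¹) (g := 1) (by simpa using (e.mono (m.le _)).symm.mul_left (ev u)⁻¹) ac_one).eq
    (r' := 1) (b' := 1) (φ' := .refl K) ⟨fun _ => by simp, fun _ => by simp⟩ w.r0
  exact m.fa k hk.1 (w.cg e1 e2 e3)
/-- the generic case -/
theorem rl0 (s1 : St1 σ (im1 ev (F.A ((Q1 σ).map ev))))
    (s2 : Sd S ((Z σ).map ev) M2 (F.A ((Q2 σ).map ev)))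
    (t2 : ∀ l, l ≠ 0 → ∃ k ∈ C0 ⊓ F.A S, Wu ev k (l ^ 2) (l * σ l)⁻¹ (.refl K)) : Rl p F := by
  have hT : ∀ l ν, l ≠ 0 → ν ≠ 0 → σ ν = ν → ∃ τ ∈ F.A S, Wz ev τ l ν := fun l ν hl hν h1 =>
    let ⟨_, ha, w⟩ := t2 l hl
    let ⟨_, hb, w'⟩ := m.tor n s1 h1 hν
    ⟨_, mul_mem ha.2 hb.2, (w.mul1 w').cg (div_eq_mul_inv _ _).symm (by rw [div_eq_mul_inv, mul_comm]) rfl⟩
  have s1 := m.sd1 n s1
  have DL : C0 ⊓ F.A S ≤ nz L := inf_le_left.trans m.CL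
  have SG : S ≤ L ⊔ C0 ⊓ F.A S := m.syl.1.trans le_sup_left
  have sy : Syl p S (L ⊔ C0 ⊓ F.A S) := m.syl.trans ⟨le_sup_left, fun c => by
    rw [relIndex_eq_of_cover (H := C0 ⊓ F.A S) le_sup_right fun a ha => by
      obtain ⟨b, hb, c, hc, rfl⟩ := (mem_sup_of_le_nz_right DL).1 (sup_comm L _ ▸ ha)
      exact ⟨b, hb, by simpa using hc⟩] at c
    obtain ⟨⟨k, hk⟩, o⟩ := exists_prime_orderOf_dvd_card' p (c.trans (relIndex_dvd_card _ _))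
    rw [orderOf_mk] at o
    rw [m.one n hk ⟨1, by rw [pow_one, ← o, pow_orderOf_eq_one]; exact one_mem _⟩, orderOf_one] at o
    exact hp.out.one_lt.ne o⟩
  have n' := sa_of m.pg sy
  have e : F.A S = (ofSub (L ⊔ C0 ⊓ F.A S) S).A S := by
    rw [ofSub_A SG le_rfl]
    refine le_antisymm (fun a ha => ?_) (ai_le (fun g hg => ?_) (F.cz_le_A S))
    · obtain ⟨u, k, hk, -, -, -, -, e⟩ := m.dec n ha
      exact e.mem_ai (mem_ai_of_mem (mul_mem (SG (m.mS u)) (mem_sup_right hk)) (mul_mem (le_nz_self S (m.mS u)) (m.CS hk.1)))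
    · obtain ⟨l, hl, b, hb, rfl⟩ := (mem_sup_of_le_nz_left DL).1 hg.1
      obtain ⟨s, hs, τ, l, ν, l0, n0, n1, w, rfl⟩ := m.nl l hl ((mul_mem_cancel_right (F.A_le_nz S hb.2)).1 (mem_inf.1 hg).2)
      obtain ⟨τ', h1, w'⟩ := hT l ν l0 n0 n1
      exact mul_mem (mul_mem (n.mA hs (le_nz_self S hs)) ((m.agW w w').mem_A h1)) hb.2
  have sd : ∀ P Y M, P ≤ S → Y ≤ P → M ∈ L → M ∈ nz P → C0 ≤ nz P → C0 ≤ nz Y →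
      (∀ g ∈ L, g ∈ nz P → g ∈ nz Y ∨ ∃ s ∈ S, M * s * g ∈ nz Y) → Sd S Y M ((ofSub (L ⊔ C0 ⊓ F.A S) S).A P) :=
    fun P Y M h1 h2 h3 h4 h5 h6 h7 => by
      rw [ofSub_A SG h1]
      refine ⟨mem_ai_of_mem (mem_sup_left h3) h4, fun g hg => ?_⟩
      obtain ⟨g', hg', a⟩ := mem_ai'.1 hg
      obtain ⟨l, hl, b, hb, rfl⟩ := (mem_sup_of_le_nz_left DL).1 hg'.1
      exact (h7 l hl ((mul_mem_cancel_right (h5 hb.1)).1 (mem_inf.1 hg').2)).imp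
        (fun c => (a.mono h2).mem_nz (mul_mem c (h6 hb.1))) fun ⟨s, hs, c⟩ =>
          ⟨s, hs, ((a.mono h2).mul_left _).mem_nz (mul_assoc (M * s) l b ▸ mul_mem c (h6 hb.1))⟩
  have s1' := sd _ _ _ (m.le _) (by ul m.toCv) m.l1 (acM m.toWl).nz (fun k hk => let ⟨_, _, _, w⟩ := m.wt k hk; m.wQ1 w)
    (fun k hk => let ⟨_, _, _, w⟩ := m.wt k hk; m.wZ2 w) m.b1
  have s2' := sd _ _ _ (m.le _) (by ul m.toCv) m.l2 (ajM m.toWl).nz (fun k hk => let ⟨_, _, _, w⟩ := m.wt k hk; m.wQ2 w)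
    (fun k hk => let ⟨_, _, _, w⟩ := m.wt k hk; m.wZ w) m.b2
  exact .inr (n.eS.symm ▸ ⟨_, sy, le_antisymm
    (m.le_gen x m.toWl n.toSa n' e.le (n.le_A n' e.le (m.le _) m.nQ1 s1 s1'.1 fun _ => m.ext1 n.toSa) s2 s2'.1)
    (m.le_gen x m.toWl n' n.toSa e.ge (n'.le_A n.toSa e.ge (m.le _) m.nQ1 s1' s1.1 fun _ => m.ext1 n') s2' s2.1)⟩)
theorem rl1 (o : Ho ev) (q : N2 ev (F.A ((Q2 σ).map ev))) (sv : SV (im2 ev (F.A ((Q2 σ).map ev))))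
    (s1 : St1 σ (im1 ev (F.A ((Q1 σ).map ev)))) : Rl p F :=
  let ⟨γ, hγ, n', s2, t2⟩ := m.jn n x o q sv (.inr s1)
  .of_cjs γ (m.rl0 n' x (by rwa [cjs_A' (cz_le_nz _ hγ.2), cj_eq_of_mem (F.cz_le_A _ hγ.2)]) s2 t2)
end Mu

end H7.PV
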