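/-
Fusion systems on a Sylow `p`-subgroup of `PSU₄(q)`, part 5: the case `q = 3`.
-/
import Cfsg.Agent.H7.PV4

set_option autoImplicit false
set_option linter.unusedSectionVars false

namespace H7.PV
open Cfsg Subgroup H25 H25.FS H8.PU Cu
universe u v
variable {K : Type v} [Field K] [Finite K] {σ : K →+* K} [IV σ] {Γ : Type u} [Group Γ] [Finite Γ] {p : ℕ} [hp : Fact p.Prime]
  [CharP K p] {S P A L C0 H : Subgroup Γ} {ev : Cu σ →* Γ} {g k k' γ τ M1 M2 : Γ} {r b r' b' l ν a : K} {φ φ' : K ≃+* K}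
  {F F' : FS Γ} {f : A1 K} {j : A2 σ} {X : Prop → Prop → Prop → Subgroup (A1 K)}

theorem two_dvd (h1 : A ≤ H) (h2 : H ≤ nz A) (h3 : k ∈ H) (h4 : k ∉ A) (h5 : k * k ∈ A) : 2 ∣ A.relIndex H :=
  by_contra fun c => h4 (Syl.mem_of_pel (p := 2) ⟨h1, c⟩ h2 h3 ⟨1, by simpa [pow_two] using h5⟩)
theorem F3.sq (h : F3 σ) (φ : K ≃+* K) : φ.trans φ = .refl K := by
  obtain ⟨i, h1, -, h2⟩ := h.ex
  have e : φ i * φ i = i * i := by rw [← map_mul, h1, map_neg, map_one]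
  have e' : φ (φ i) = i := by rcases mul_self_eq_mul_self_iff.1 e with c | c <;> simp [c]
  exact RingEquiv.ext fun x => by obtain ⟨a, b, rfl⟩ := h2 x; simp [e']
theorem Cv.wuq (h : Cv S ev) (w : Wu ev k r b φ) (w' : Wu ev k r' b' φ') : r = r' ∧ b = b' ∧ φ = φ' :=
  let ⟨_, q⟩ := h.ex1 (h.wQ1 w); (h.dg1 w q).la.eq (h.dg1 w' q).la w.r0
theorem Cv.wcj (h : Cv S ev) (w' : Wu ev k' r' b' φ) (w : Wu ev k r b (.refl K)) : Wu ev (k' * k * k'⁻¹) (φ r) (φ b) (.refl K) :=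
  ⟨(map_ne_zero φ).2 w.r0, (map_ne_zero φ).2 w.b0, by rw [IV.cm, w.hb], fun c => by
    obtain ⟨d, -, e⟩ := h.ex (conj_mem_of_mem_nz' (h.wS w') (h.mS c))
    obtain rfl : c = sc r' b' w'.hb φ d := h.inj (by rw [← w'.cj, e]; group)
    rw [cj_mul2, cj_mul2, inv_inv, ← e, w.cj, w'.cj]
    us h [map_mul, IV.cm]; cg⟩
theorem wu_one : Wu ev 1 1 1 (.refl K) := ⟨one_ne_zero, one_ne_zero, map_one σ, fun c => by simp; congr 1; ext <;> simp⟩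
/-- diagonal elements with prescribed weights -/
def dp (ev : Cu σ →* Γ) (D : Subgroup Γ) (Q : K → K → Prop) (h1 : Q 1 1) (h2 : ∀ r b r' b', Q r b → Q r' b' → Q (r * r') (b * b')) :
    Subgroup Γ where
  carrier := {k | k ∈ D ∧ ∃ r b, Wu ev k r b (.refl K) ∧ Q r b}
  one_mem' := ⟨one_mem _, 1, 1, wu_one, h1⟩
  mul_mem' := fun ⟨a, _, _, w, q⟩ ⟨a', _, _, w', q'⟩ => ⟨mul_mem a a', _, _, w.mul1 w', h2 _ _ _ _ q q'⟩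
  inv_mem' := sgp_inv (P := fun k => k ∈ D ∧ ∃ r b, Wu ev k r b (.refl K) ∧ Q r b) ⟨one_mem _, 1, 1, wu_one, h1⟩
    fun _ _ ⟨a, _, _, w, q⟩ ⟨a', _, _, w', q'⟩ => ⟨mul_mem a a', _, _, w.mul1 w', h2 _ _ _ _ q q'⟩
theorem u1_pow (x : Cu σ) : u1 x ^ p = 1 := LinearEquiv.ext fun v => by
  have := pw_add (p := p) Cu.u (X := ⊤) (fun _ _ _ _ => rfl) (mem_top x)
  simp [← map_pow, u1_ap, this]
theorem F3.p3 (h : F3 σ) : p = 3 :=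
  (Nat.prime_dvd_prime_iff_eq hp.out Nat.prime_three).1 ((CharP.cast_eq_zero_iff K p 3).1 (by exact_mod_cast h.1))
theorem Cv.n1_of (h : Cv S ev) (h3 : F3 σ) (e : Au p S ((Q1 σ).map ev) A) (q : P5 σ (im1 ev A) ∨ ND (im1 ev A)) : N1 ev A := by
  rcases q with ⟨f, ⟨g, hg, a⟩, x, y, c⟩ | ⟨f, ⟨g, hg, a⟩, c, -⟩ <;> refine ⟨g, hg, a.nz, fun n => c ?_⟩
  · obtain ⟨-, _, hs, e1⟩ := mem_ai.1 (conj_mem_of_mem_nz (h.bor1 e hg n) (mem_ai_of_mem (h.mS y) (h.nQ1 (h.mS y))))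
    obtain ⟨z, -, rfl⟩ := h.ex hs
    rw [h.uq ((a.mul (acU y)).mul (h.inv1 a)) ((acU z).ag e1), ← map_mul, show 12 = p * 4 by rw [h3.p3 (p := p)], pow_mul,
      u1_pow, one_pow]
  · exact h.bo1 a n

variable (σ p X) in
/-- the classification of the linear groups -/
def HX : Prop := ∀ G, H1 σ p G → (∀ l, l ≠ 0 → ∃ g ∈ G, D1 g (l ^ 2) (l * σ l)⁻¹ (.refl K)) →
  ∃ β k r b φ, r ≠ 0 ∧ b ≠ 0 ∧ σ b = b ∧ D1 k r b φ ∧ (∀ g ∈ G, ∀ r b φ, D1 g r b φ → r * b * φ β = β * σ r) ∧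
    (¬ P5 σ G ∧ ¬ ND G ∧ St1 σ (cj (k * t1 σ β) G) ∨ (P5 σ G ∨ ND G) ∧ cj (k * t1 σ β) G = X (P5 σ G) (ND G) (IJ G) ∧
      (P5 σ G → ND G → IJ G) ∧ ∃ g ∈ G, ∃ r b φ, D1 g r b φ ∧ φ ≠ .refl K)
/-- exceptional normal form -/
structure E3 (p : ℕ) (S C0 : Subgroup Γ) (ev : Cu σ →* Γ) (M2 : Γ) (Y : Subgroup (A1 K)) (F : FS Γ) : Prop extends Nf p S C0 F where
  s2 : Sd S ((Z σ).map ev) M2 (F.A ((Q2 σ).map ev))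
  eX : im1 ev (F.A ((Q1 σ).map ev)) = Y
/-- the classification -/
def Cl (p : ℕ) (S C0 : Subgroup Γ) (ev : Cu σ →* Γ) (M2 : Γ) (X : Prop → Prop → Prop → Subgroup (A1 K)) (F : FS Γ)
    (a b c : Prop) : Prop :=
  (c → ∃ g ∈ F.A ((Q2 σ).map ev), ∀ w ∈ (Q2 σ).map ev, g * w * g⁻¹ = w⁻¹) ∧ (¬ a ∧ ¬ b ∧ Rl p F ∨ (a ∨ b) ∧ (a → b → c) ∧
    (c → 16 ∣ (ai S S).relIndex (F.A S)) ∧ ∃ γ ∈ nz S, E3 p S C0 ev M2 (X a b c) (cjs γ F))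

namespace Mu
variable (m : Mu p S ev L C0 M1 M2) (h3 : F3 σ)
include m h3
theorem d16 (n : Nf p S C0 F) (t2 : ∀ l, l ≠ 0 → ∃ k ∈ C0 ⊓ F.A S, Wu ev k (l ^ 2) (l * σ l)⁻¹ (.refl K))
    (e : ∃ k ∈ C0 ⊓ F.A S, Wu ev k 1 (-1) (.refl K)) (d : ∃ k ∈ C0 ⊓ F.A S, ∃ r b φ, Wu ev k r b φ ∧ φ ≠ .refl K) :
    16 ∣ (ai S S).relIndex (F.A S) := by
  obtain ⟨i, i1, i2, -⟩ := h3.ex
  have n2 : (1 : K) ≠ -1 := fun c => one_ne_zero (α := K) (by linear_combination h3.1 - c)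
  obtain ⟨k1, a1, w1⟩ := t2 i fun c => by simp [c] at i1
  obtain ⟨k2, a2, w2⟩ := t2 (1 + i) fun c => n2 (by linear_combination (1 - i) * c + i1)
  obtain ⟨k3, a3, w3⟩ := e
  obtain ⟨k4, a4, r, b, φ, w4, n4⟩ := d
  replace w1 := w1.cg (r' := -1) (b' := 1) (by rw [pow_two, i1]) (by rw [i2, mul_neg, i1]; simp) rfl
  replace w2 := w2.cg (r' := -i) (b' := -1) (by linear_combination i1 + i * h3.1)
    (inv_eq_of_mul_eq_one_right (by rw [map_add, map_one, i2]; linear_combination i1 - h3.1)) rfl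
  let D := C0 ⊓ F.A S
  let D1 := dp ev D (fun _ _ => True) trivial fun _ _ _ _ _ _ => trivial
  let D2 := dp ev D (fun r b => r * r = b) (mul_one 1) fun _ _ _ _ a b => by rw [← a, ← b]; ring
  let D3 := dp ev D (fun r b => r * r = 1 ∧ b = 1) ⟨mul_one 1, rfl⟩ fun r _ r' _ a b =>
    ⟨by linear_combination r' * r' * a.1 + b.1, by rw [a.2, b.2, mul_one]⟩
  have nm : ∀ Q h1 h2, (∀ (φ : K ≃+* K) r b, Q r b → Q (φ r) (φ b)) → D ≤ nz (dp ev D Q h1 h2) := fun Q h1 h2 q =>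
    le_nz_iff.2 fun g hg x ⟨hx, _, _, w, e⟩ => let ⟨_, _, φ, w'⟩ := m.wt g hg.1
      ⟨mul_mem (mul_mem hg hx) (inv_mem hg), _, _, m.wcj w' w, q φ _ _ e⟩
  have l1 : D1 ≤ D := fun _ h => h.1
  have l2 : D2 ≤ D1 := fun _ ⟨a, r, b, w, _⟩ => ⟨a, r, b, w, trivial⟩
  have l3 : D3 ≤ D2 := fun _ ⟨a, r, b, w, q⟩ => ⟨a, r, b, w, q.1.trans q.2.symm⟩
  have e1 := two_dvd l1 (nm _ _ _ fun _ _ _ _ => trivial) a4 (fun ⟨_, _, _, w, _⟩ => n4 (m.wuq w4 w).2.2)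
    ⟨mul_mem a4 a4, _, _, (w4.mul w4).cg rfl rfl (h3.sq φ), trivial⟩
  have e2 := two_dvd l2 (l1.trans (nm _ _ _ fun φ r b q => by rw [← map_mul, q])) ⟨a3, _, _, w3, trivial⟩
    (fun ⟨_, _, _, w, q⟩ => n2 (by simpa [← (m.wuq w3 w).1, ← (m.wuq w3 w).2.1] using q)) ⟨mul_mem a3 a3, _, _, w3.mul1 w3, by simp⟩
  have e3 := two_dvd l3 (l2.trans (l1.trans (nm _ _ _ fun φ r b q => ⟨by rw [← map_mul, q.1, map_one], by rw [q.2, map_one]⟩)))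
    ⟨a2, _, _, w2, (neg_mul_neg i i).trans i1⟩ (fun ⟨_, _, _, w, q⟩ => n2 ((m.wuq w2 w).2.1.trans q.2).symm)
    ⟨mul_mem a2 a2, _, _, w2.mul1 w2, by simp [i1], by simp⟩
  have e4 := two_dvd (bot_le (a := D3)) (fun g _ => nz_bot g) ⟨a1, _, _, w1, by simp, rfl⟩
    (fun c => n2 (m.wuq wu_one (mem_bot.1 c ▸ w1)).1) (mem_bot.2 (m.fa _ (mul_mem a1.1 a1.1) ((w1.mul1 w1).cg (by simp) (by simp) rfl)))
  rw [relIndex_eq_of_cover (H := D) inf_le_right fun g hg => by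
      obtain ⟨y, hy, k, hk, rfl⟩ := (mem_sup_of_le_nz_right (m.CS.trans (nz_le_nz_ai_self S))).1 (n.hA hg)
      exact ⟨y, ⟨hy, (mul_mem_cancel_right (ai_self_le_A n.eS.ge hk)).1 hg⟩, by simpa using hk⟩, ← inf_relIndex_right,
    show ai S S ⊓ D = ⊥ from eq_bot_iff.2 fun k hk => m.one n hk.2 (.of_mem hk.1),
    ← relIndex_mul_relIndex ⊥ D1 D bot_le l1, ← relIndex_mul_relIndex ⊥ D2 D1 bot_le l2, ← relIndex_mul_relIndex ⊥ D3 D2 bot_le l3]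
  exact mul_dvd_mul (mul_dvd_mul (mul_dvd_mul e4 e3) e2) e1
variable (x : Kk σ Γ p) (o : Ho ev) (hX : HX σ p X)
include x o hX
theorem cl0 (n : Nf p S C0 F) (q1 : N1 ev (F.A ((Q1 σ).map ev))) (q2 : N2 ev (F.A ((Q2 σ).map ev)))
    (t2 : ∀ l, l ≠ 0 → ∃ k ∈ C0 ⊓ F.A S, Wu ev k (l ^ 2) (l * σ l)⁻¹ (.refl K)) : Cl p S C0 ev M2 X F
      (P5 σ (im1 ev (F.A ((Q1 σ).map ev)))) (ND (im1 ev (F.A ((Q1 σ).map ev)))) (IJ (im1 ev (F.A ((Q1 σ).map ev)))) := by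
  have ij : IJ (im1 ev (F.A ((Q1 σ).map ev))) → ∃ k ∈ C0 ⊓ F.A S, Wu ev k 1 (-1) (.refl K) := fun ⟨g, hg, a, b⟩ =>
    m.wt1 n hg ⟨fun v => by simp [a], fun s => by simp [b]⟩
  refine ⟨fun c => let ⟨k, hk, w⟩ := ij c; ⟨k, n.res (m.le _) hk.2 (m.wQ2 w), by
    rintro _ ⟨c, hc, rfl⟩
    us m.toCv [] at hc
    us m.toCv [w.cj, hc]; cg⟩, ?_⟩
  obtain ⟨β, k, r, b, φ, r0, b0, hb, d, e, z⟩ := hX _ (m.h1 n q1) fun l hl => let ⟨_, a, w⟩ := t2 l hl; m.r1 n a.2 w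
  obtain ⟨κ, hκ, w⟩ := m.ex' r b φ r0 b0 hb
  obtain ⟨γ, hγ⟩ := o (tb h3.1 β)
  have a1 : Ac1 ev γ (t1 σ β) := fun c hc => ⟨tb h3.1 β c, hc, hγ c, rfl⟩
  have a2 : Ac1 ev κ k := let ⟨_, q⟩ := m.ex1 (m.wQ1 w)
    (LinearEquiv.ext fun v => (m.dg1 w q v).trans (d v).symm : _ = k) ▸ q
  have n1 : Nf p S C0 (cjs γ F) := n.cj m.CS (m.hoS hγ) fun k hk => by
    obtain ⟨r, b, φ, w⟩ := m.wt k hk.1
    obtain ⟨g, hg, d⟩ := m.r1 n hk.2 w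
    have e := e g hg r b φ d
    have e' := congrArg σ e
    simp only [map_mul, ss, IV.cm, w.hb] at e'
    refine Agree.mem_of_cz_le (h := k) (agree_iff.2 (mem_cz.2 fun y hy => ?_)) (le_sup_of_le_right (cz_le_ai _ _)) (mem_sup_left hk.1)
    obtain ⟨y', -, rfl⟩ := m.ex hy
    obtain ⟨y, rfl⟩ := (Cu.tb (σ := σ) h3.1 β).surjective y'
    have : γ * k * ev y * (γ * k)⁻¹ = k * γ * ev y * (k * γ)⁻¹ := by
      rw [cj_mul2, cj_mul2, w.cj, hγ, hγ, w.cj]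
      us m.toCv [map_add, map_mul, map_sub, map_pow, IV.cm]
      exact ⟨by linear_combination -φ (σ y.t) * e, by linear_combination r * φ y.t ^ 2 * e' + σ r * φ (σ y.t) ^ 2 * e⟩
    rw [← hγ]
    calc _ = k⁻¹ * (γ * k * ev y * (γ * k)⁻¹) * k := by group
      _ = _ := by rw [this]; group
  have n2 := n1.cj m.CS (m.CS hκ) fun k hk => mem_sup_left (mul_mem (mul_mem hκ hk.1) (inv_mem hκ))
  rw [cjs_cjs] at n2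
  have g := mul_mem (m.CS hκ) (m.hoS hγ)
  have sv := x.jt (fun h => h.n3 h3) _ (m.syl2 (m.au2 n2.toSa))
  have i1 := m.im1_cj (A := F.A ((Q1 σ).map ev)) (a2.mul a1)
  rw [← cjs_A' (a2.mul a1).nz] at i1
  rcases z with ⟨z1, z2, z3⟩ | ⟨z1, z2, z3, g', hg', r', b', φ', d', z4⟩
  · exact .inl ⟨z1, z2, .of_cjs _ (m.rl1 n2 x o (m.n2cj x g q2) sv (i1 ▸ z3))⟩
  obtain ⟨δ, hδ, n3, s, -⟩ := m.jn n2 x o (m.n2cj x g q2) sv (.inl h3.pr)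
  refine .inr ⟨z1, z3, fun c => m.d16 h3 n t2 (ij c) (let ⟨k, a, w⟩ := m.wt1 n hg' d'.la; ⟨k, a, _, _, _, w, z4⟩),
    _, mul_mem hδ.1 g, cjs_cjs δ _ F ▸ ⟨n3, s, ?_⟩⟩
  rw [cjs_A' (cz_le_nz _ hδ.2), cj_eq_of_mem (cz_le_A _ _ hδ.2), i1, z2]
omit h3 o hX in
theorem clc {a b c : Prop} (hγ : γ ∈ nz S) (h : Cl p S C0 ev M2 X (cjs γ F) a b c) : Cl p S C0 ev M2 X F a b c := by
  have q := (x.xc _ _ m.toCv γ hγ).2.2.2.1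
  refine ⟨fun c => let ⟨g, a, e⟩ := h.1 c; ⟨_, mem_cj.1 (cjs_A' q ▸ a), fun w hw => ?_⟩, h.2.imp (fun ⟨a, b, c⟩ => ⟨a, b, .of_cjs γ c⟩)
    fun ⟨a, b, c, δ, d, e⟩ => ⟨a, b, fun z => ?_, _, mul_mem d hγ, cjs_cjs δ γ F ▸ e⟩⟩
  · have := e _ (conj_mem_of_mem_nz q hw)
    calc _ = γ⁻¹ * (g * (γ * w * γ⁻¹) * g⁻¹) * γ := by group
      _ = _ := by rw [this]; group
  · have := c z
    rwa [cjs_A' hγ, ← mem_nz.1 (nz_le_nz_ai_self S hγ), relIndex_cj] at this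
theorem cl (n : Sa p S F) (q1 : N1 ev (F.A ((Q1 σ).map ev))) (q2 : N2 ev (F.A ((Q2 σ).map ev))) : Cl p S C0 ev M2 X F
    (P5 σ (im1 ev (F.A ((Q1 σ).map ev)))) (ND (im1 ev (F.A ((Q1 σ).map ev)))) (IJ (im1 ev (F.A ((Q1 σ).map ev)))) := by
  obtain ⟨γ, hγ, n1⟩ := m.cjA x n
  obtain ⟨δ, hδ, n2, -, t2⟩ := m.jn n1 x o (m.n2cj x hγ q2) (x.jt (fun h => h.n3 h3) _ (m.syl2 (m.au2 n1.toSa))) (.inl h3.pr)
  rw [cjs_cjs] at n2 t2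
  have g := mul_mem hδ.1 hγ
  have := m.cl0 h3 x o hX n2 (m.n1cj x g q1) (m.n2cj x g q2) t2
  obtain ⟨f, a⟩ := m.ex1 (x.xc _ _ m.toCv _ g).2.2.1
  have i := inv_cj (G := im1 ev (F.A ((Q1 σ).map ev))) (m.nzU a g)
  rw [cjs_A' a.nz, m.im1_cj a, i.1, i.2.1, i.2.2] at this
  exact m.clc x g this
omit o hX in
theorem le3 {Y : Subgroup (A1 K)} (e : E3 p S C0 ev M2 Y F) (e' : E3 p S C0 ev M2 Y F') : F ≤ F' := by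
  have s : F.A ((Q1 σ).map ev) ≤ F'.A ((Q1 σ).map ev) := fun g hg => by
    obtain ⟨f, a⟩ := m.ex1 (F.A_le_nz _ hg)
    obtain ⟨g', hg', a'⟩ : f ∈ im1 ev (F'.A ((Q1 σ).map ev)) := e'.eX ▸ e.eX ▸ ⟨g, hg, a⟩
    exact (mul_mem_cancel_left (inv_mem hg')).1 ((m.au1 e'.toSa).PA (m.pr_in h3.pr (by simpa using (m.inv1 a').mul a)))
  refine m.le_gen x m.toWl e.toSa e'.toSa (fun g hg => ?_) s e.s2 e'.s2.1
  obtain ⟨c, k, hk, r, b, φ, w, a⟩ := m.dec e.toNf hg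
  obtain ⟨f, q⟩ := m.ex1 (m.wQ1 w)
  obtain ⟨k', hk', w'⟩ := m.wt1 e'.toNf ⟨k, s (e.res (m.le _) hk.2 q.nz), q⟩ (m.dg1 w q).la
  exact a.mem_A (mul_mem (e'.mA (m.mS c) (le_nz_self S (m.mS c))) ((m.agW w w').mem_A hk'.2))
/-- comparison with a model -/
theorem md3 (s : Syl p S H) (q2 : N2 ev H) (q : P5 σ (im1 ev H) ∨ ND (im1 ev H)) :
    (IJ (im1 ev H) → ∃ g ∈ H, ∀ w ∈ (Q2 σ).map ev, g * w * g⁻¹ = w⁻¹) ∧ (P5 σ (im1 ev H) → ND (im1 ev H) → IJ (im1 ev H)) ∧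
    (IJ (im1 ev H) → 16 ∣ S.relIndex (H ⊓ nz S)) ∧
    ∀ F, E3 p S C0 ev M2 (X (P5 σ (im1 ev H)) (ND (im1 ev H)) (IJ (im1 ev H))) F → Rl p F := by
  have n := sa_of m.pg s
  have i : im1 ev ((ofSub H S).A ((Q1 σ).map ev)) = im1 ev H := by rw [ofSub_A s.1 (m.le _), im1_ai]
  obtain ⟨c1, c2⟩ := m.cl h3 x o hX n (m.n1_of h3 (m.au1 n) (i ▸ q))
    (let ⟨g, a, b, c⟩ := q2; ⟨g, ofSub_A s.1 (m.le (Q2 σ)) ▸ mem_ai_of_mem a b, b, c⟩)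
  rw [i] at c1 c2
  obtain ⟨-, c2, c3, γ, hγ, e⟩ := c2.resolve_left fun c => q.elim c.1 c.2.1
  refine ⟨fun c => ?_, c2, fun c => (c3 c).trans ?_, fun F e' => .inr (e'.eS.symm ▸ ⟨cj γ H, mem_nz.1 hγ ▸ s.cj γ, ?_⟩)⟩
  · obtain ⟨g, a, b⟩ := c1 c
    obtain ⟨-, g', a', b'⟩ := mem_ai.1 (ofSub_A s.1 (m.le (Q2 σ)) ▸ a)
    exact ⟨g', a', fun w hw => (b' w hw).symm.trans (b w hw)⟩
  · rw [ofSub_A s.1 le_rfl, relIndex_eq_of_cover (H := H ⊓ nz S) (fun g hg => mem_ai_of_mem hg.1 hg.2) fun g hg =>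
      let ⟨k, a, b⟩ := mem_ai'.1 hg; ⟨k, a, cz_le_ai _ _ (agree_iff.1 b)⟩]
    exact relIndex_dvd_of_le_left _ (le_ai_self S)
  · rw [le_antisymm (m.le3 h3 x e' e) (m.le3 h3 x e e'), cjs_ofSub, mem_nz.1 hγ]
end Mu

/-- the models for `q = 3` -/
def Mc (S : Subgroup Γ) (ev : Cu σ →* Γ) : Prop := ∃ G0 G1 G2 : Subgroup Γ, S ≤ G0 ∧ G0 ≤ G1 ∧ G1 ≤ nz G0 ∧ G0 ≤ G2 ∧
  Syl 3 S G1 ∧ Syl 3 S G2 ∧ N2 ev G0 ∧ P5 σ (im1 ev G0) ∧ ¬ 16 ∣ S.relIndex (G0 ⊓ nz S) ∧ IJ (im1 ev G1) ∧ ND (im1 ev G2)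
def Mv (S : Subgroup Γ) (ev : Cu σ →* Γ) : Prop := ∃ G0 G1 : Subgroup Γ, S ≤ G0 ∧ G0 ≤ G1 ∧ G1 ≤ nz G0 ∧ Syl 3 S G1 ∧
  N2 ev G0 ∧ ND (im1 ev G0) ∧ (∀ g ∈ G0, ∃ w ∈ (Q2 σ).map ev, g * w * g⁻¹ ≠ w⁻¹) ∧ IJ (im1 ev G1)

theorem Mu.rl3 (m : Mu p S ev L C0 M1 M2) (h3 : F3 σ) (x : Kk σ Γ p) (o : Ho ev) (m1 : Mc S ev) (m2 : Mv S ev) (n : Sa p S F)
    (q1 : N1 ev (F.A ((Q1 σ).map ev))) (q2 : N2 ev (F.A ((Q2 σ).map ev))) : Rl p F := by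
  obtain ⟨X, hX⟩ := x.c3 h3
  obtain rfl := h3.p3 (p := p)
  rcases (m.cl h3 x o hX n q1 q2).2 with c | ⟨c1, c2, -, γ, -, e⟩
  · exact c.2.2
  refine .of_cjs γ ?_
  have fr : ∀ G0 G1, S ≤ G0 → G0 ≤ G1 → G1 ≤ nz G0 → Syl 3 S G1 → _ := fun G0 G1 h0 h1 h2 s => frat (p := 3) (σ := σ)
    (by have := m.syl1 (m.au1 (sa_of m.pg s)); rwa [ofSub_A s.1 (m.le _), im1_ai] at this)
    (by rintro _ ⟨y, rfl⟩; exact ⟨_, h0 (m.mS y), acU y⟩) (im1_mono (ev := ev) h1) (m.im1_nz h2)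
  have k : ∀ H, Syl 3 S H → N2 ev H → (P5 σ (im1 ev H) ↔ P5 σ (im1 ev (F.A ((Q1 σ).map ev)))) →
      (ND (im1 ev H) ↔ ND (im1 ev (F.A ((Q1 σ).map ev)))) → (IJ (im1 ev H) ↔ IJ (im1 ev (F.A ((Q1 σ).map ev)))) →
      Rl 3 (cjs γ F) := fun H s q a b c => (m.md3 h3 x o hX s q (by rwa [a, b])).2.2.2 _ (by rwa [a, b, c])
  have mo : ∀ {G0 G1 : Subgroup Γ}, G0 ≤ G1 → N2 ev G0 → N2 ev G1 := fun l ⟨g, a, b⟩ => ⟨g, l a, b⟩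
  obtain ⟨G0, G1, G2, l0, l1, l2, l3, s1, s2, a1, a2, a3, a4, a5⟩ := m1
  obtain ⟨U0, U1, j0, j1, j2, t1, b1, b2, b3, b4⟩ := m2
  have y := m.md3 h3 x o hX (s1.mono_right l0 l1) a1 (.inl a2)
  have z := m.md3 h3 x o hX (t1.mono_right j0 j1) b1 (.inr b2)
  have y1 : ¬ IJ (im1 ev G0) := fun c => a3 (y.2.2.1 c)
  have z1 : ¬ IJ (im1 ev U0) := fun c => let ⟨g, a, b⟩ := z.1 c; let ⟨w, c, d⟩ := b3 g a; d (b w c)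
  have y2 : ¬ ND (im1 ev G0) := fun c => y1 (y.2.1 a2 c)
  have z2 : ¬ P5 σ (im1 ev U0) := fun c => z1 (z.2.1 c b2)
  by_cases a : P5 σ (im1 ev (F.A ((Q1 σ).map ev))) <;> by_cases b : ND (im1 ev (F.A ((Q1 σ).map ev)))
  · have a6 := a2.mono (im1_mono l3)
    exact k G2 s2 (mo l3 a1) (iff_of_true a6 a) (iff_of_true a5 b)
      (iff_of_true ((m.md3 h3 x o hX s2 (mo l3 a1) (.inr a5)).2.1 a6 a5) (c2 a b))
  · by_cases c : IJ (im1 ev (F.A ((Q1 σ).map ev)))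
    · exact k G1 s1 (mo l1 a1) (iff_of_true (a2.mono (im1_mono l1)) a) (iff_of_false (mt (fr _ _ l0 l1 l2 s1).2 y2) b) (iff_of_true a4 c)
    · exact k G0 (s1.mono_right l0 l1) a1 (iff_of_true a2 a) (iff_of_false y2 b) (iff_of_false y1 c)
  · by_cases c : IJ (im1 ev (F.A ((Q1 σ).map ev)))
    · exact k U1 t1 (mo j1 b1) (iff_of_false (mt (fr _ _ j0 j1 j2 t1).1 z2) a) (iff_of_true (b2.mono (im1_mono j1)) b) (iff_of_true b4 c)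
    · exact k U0 (t1.mono_right j0 j1) b1 (iff_of_false z2 a) (iff_of_true b2 b) (iff_of_false z1 c)
  · exact (c1.elim a b).elim

end H7.PV
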