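/-
Fusion systems on a Sylow `p`-subgroup of `PSU₄(q)`, part 6: the case `q = 2` and the assembly.
-/
import Cfsg.Agent.H7.PV5

set_option autoImplicit false
set_option linter.unusedSectionVars false

namespace H7.PV
open Cfsg Subgroup H25 H25.FS H8.PU Cu
universe u v
variable {K : Type v} [Field K] [Finite K] {σ : K →+* K} [IV σ] {Γ : Type u} [Group Γ] [Finite Γ] {p : ℕ} [hp : Fact p.Prime]
  [CharP K p] {S P A L C0 H : Subgroup Γ} {ev : Cu σ →* Γ} {g k k' γ τ M1 M2 : Γ} {r b r' b' l ν a : K} {φ φ' : K ≃+* K}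
  {F F' : FS Γ} {f : A1 K} {j : A2 σ} {J : Subgroup (A2 σ)} {Y : K → Subgroup (A2 σ)}

def Two (J : Subgroup (A2 σ)) : Prop := ∃ a a', a ≠ a' ∧ Ej J a ∧ Ej J a'
theorem Two.cj (h : Two J) (h1 : B2 j) (h2 : ∀ x, x.u = 0 → (j x).u = 0) : Two (cj j J) := by
  obtain ⟨a, a', n, e, e'⟩ := h
  refine ⟨_, _, fun c => n ?_, e.cj h1 h2, e'.cj h1 h2⟩
  have := (h1.inv (j (jv 0 a 0 (map_zero σ) (map_zero σ)) - j (jv 0 a' 0 (map_zero σ) (map_zero σ))) (by rw [Jv.sub_u, h2 _ rfl, h2 _ rfl, sub_zero])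
    (by simp [c])).2
  rwa [← map_sub, ← H24.SP.mul_ap, inv_mul_cancel, H24.SP.one_ap, Jv.sub_s, sub_eq_zero] at this
theorem F2.sq (h : F2 σ) (φ : K ≃+* K) : φ.trans φ = .refl K := by
  obtain ⟨ω, h1, -, h2⟩ := h.ex
  have t := h.two
  have e : φ ω * φ ω = φ ω + 1 := by rw [← map_mul, h1, map_add, map_one]
  have e' : φ (φ ω) = ω := by
    rcases h2 (φ ω) with c | c | c | c
    · simp [c] at e
    · rw [c] at e; simp at e
    · rw [c, c]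
    · rw [c, map_add, c, map_one]; linear_combination t
  exact RingEquiv.ext fun x => by rcases h2 x with rfl | rfl | rfl | rfl <;> simp [e']
theorem F2.p2 (h : F2 σ) : p = 2 :=
  (Nat.prime_dvd_prime_iff_eq hp.out Nat.prime_two).1 ((CharP.cast_eq_zero_iff K p 2).1 (by exact_mod_cast h.two))
theorem F2.b1 (h : F2 σ) (w : Wu ev k r b φ) : b = 1 := (h b w.hb).resolve_left w.b0
theorem Cv.ejw (h : Cv S ev) (w : Wu ev k r b φ) (e : Ej (im2 ev A) a) : Ej (im2 ev (cj k A)) (r * b * φ a) := by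
  obtain ⟨j, q⟩ := h.ex2 (h.wQ2 w)
  have d := h.dg2 w q
  have := e.cj d.b2 fun x c => by simp [(d x).1, c]
  rwa [(d _).2.1, ← im2_cj q] at this
theorem Cv.two (h : Cv S ev) (x : Kk σ Γ p) (hγ : γ ∈ nz S) (t : Two (im2 ev (F.A ((Q2 σ).map ev)))) :
    Two (im2 ev ((cjs γ F).A ((Q2 σ).map ev))) := by
  obtain ⟨z, z2, -, q, -⟩ := x.xc _ _ h γ hγ
  obtain ⟨j, a⟩ := h.ex2 q
  rw [cjs_A' q, im2_cj a]
  refine t.cj (h.bo2 a z) fun y c => ?_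
  have := conj_mem_of_mem_nz z2 (h.mm.2 (show nj y ∈ Z2 σ from ⟨rfl, c⟩))
  rw [a y, h.mm] at this
  exact this.2

variable (σ p Y) in
/-- the classification of the linear groups -/
def HY : Prop := ∀ G : Subgroup (A2 σ), Syl p (u2 (σ := σ)).range G → ¬ Ej G 1 → ∀ a a', a ≠ a' → Ej G a →
  Ej G a' → ∃ c, ∃ hc : σ c = c, ∀ a, Ej G a → cj (t2 c hc) G ⊓ cz (zpowers (u2 (xt a))) = Y a
/-- exceptional normal form -/
structure Ex (p : ℕ) (S C0 : Subgroup Γ) (ev : Cu σ →* Γ) (Y : K → Subgroup (A2 σ)) (F : FS Γ) : Prop extends Nf p S C0 F where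
  s1 : St1 σ (im1 ev (F.A ((Q1 σ).map ev)))
  n1 : ¬ Ej (im2 ev (F.A ((Q2 σ).map ev))) 1
  ej : ∀ a, a ≠ 0 → a ≠ 1 → Ej (im2 ev (F.A ((Q2 σ).map ev))) a ∧
    im2 ev (F.A ((Q2 σ).map ev)) ⊓ cz (zpowers (u2 (xt a))) = Y a
/-- the model for `q = 2` -/
def Mf (S : Subgroup Γ) (ev : Cu σ →* Γ) : Prop := ∃ H, Syl 2 S H ∧ N1 ev H ∧ Two (im2 ev H)

namespace Mu
variable (m : Mu p S ev L C0 M1 M2) (h2 : F2 σ) (x : Kk σ Γ p)
include m h2 x
omit x in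
theorem ejk (n : Sa p S F) (hk : k ∈ F.A S) (w : Wu ev k r b φ) (e : Ej (im2 ev (F.A ((Q2 σ).map ev))) a) :
    Ej (im2 ev (F.A ((Q2 σ).map ev))) (r * φ a) := by
  have := m.ejw w e
  rwa [cj_eq_of_mem (n.res (m.le _) hk (m.wQ2 w)), h2.b1 w, mul_one] at this
theorem cls2 (o : Ho ev) (hY : HY σ p Y) (n : Sa p S F) (q : N1 ev (F.A ((Q1 σ).map ev)))
    (t : Two (im2 ev (F.A ((Q2 σ).map ev)))) : ∃ γ ∈ nz S, Ex p S C0 ev Y (cjs γ F) := by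
  obtain ⟨γ, hγ, n1⟩ := m.cjA x n
  obtain ⟨a0, h0, e0⟩ := ((x.qc h2).1 _ (m.syl2 (m.au2 n1.toSa))).1
  obtain ⟨κ, hκ, w⟩ := m.ex' a0 1 (.refl K) h0 one_ne_zero (map_one σ)
  have n2 := n1.cj m.CS (inv_mem (m.CS hκ)) fun k hk => mem_sup_left (mul_mem (mul_mem (inv_mem hκ) hk.1) (inv_mem (inv_mem hκ)))
  have e1 : ¬ Ej (im2 ev ((cjs κ⁻¹ (cjs γ F)).A ((Q2 σ).map ev))) 1 := fun c => e0 (by
    have := m.ejw w c
    rw [cjs_A' (inv_mem (m.wQ2 w)), cj_cj_inv] at this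
    simpa using this)
  rw [cjs_cjs] at n2 e1
  have g := mul_mem (inv_mem (m.CS hκ)) hγ
  obtain ⟨a, a', na, ea, ea'⟩ := m.two x g t
  obtain ⟨c, hc, e⟩ := hY _ (m.syl2 (m.au2 n2.toSa)) e1 a a' na ea ea'
  obtain ⟨δ, hδ, aj, n3⟩ := m.nfa n2 o hc fun k _ r b φ w => by
    rw [(h2 (r * σ r) (by rw [map_mul, ss, mul_comm])).resolve_left (mul_ne_zero w.r0 (sn w.r0))]
    rcases h2 c hc with rfl | rfl <;> simp
  have i := im2_cj (A := (cjs (κ⁻¹ * γ) F).A ((Q2 σ).map ev)) aj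
  rw [← cjs_A' aj.nz] at i
  have b : B2 (t2 c hc) := fun _ a b => ⟨a, b⟩
  refine ⟨_, mul_mem hδ.1 g, cjs_cjs δ _ F ▸ ⟨n3, x.l1 h2.n3 _ (m.h1 n3 (m.n1cj x hδ.1 (m.n1cj x g q))), fun c => e1 ?_,
    fun y y0 y1 => ?_⟩⟩
  · have := (i ▸ c).cj b.inv fun _ a => a
    rwa [cj_inv_cj] at this
  · have : Ej (im2 ev ((cjs (κ⁻¹ * γ) F).A ((Q2 σ).map ev))) y := by
      obtain ⟨ω, -, -, k⟩ := h2.ex
      have := ea.1
      have := ea'.1
      have : a ≠ 1 := fun c => e1 (c ▸ ea)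
      have : a' ≠ 1 := fun c => e1 (c ▸ ea')
      have : y = a ∨ y = a' := by have := k a; have := k a'; have := k y; grind
      rcases this with rfl | rfl <;> assumption
    exact i ▸ ⟨this.cj b fun _ a => a, e y this⟩
theorem le2 (e : Ex p S C0 ev Y F) (e' : Ex p S C0 ev Y F') : F ≤ F' := by
  have hS : F.A S ≤ F'.A S := fun g hg => by
    obtain ⟨c, k, hk, r, b, φ, w, a⟩ := m.dec e.toNf hg
    obtain rfl := h2.b1 w
    obtain rfl : r = 1 := by_contra fun c => e.n1 (by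
      simpa [w.r0] using m.ejk h2 e.toSa hk.2 w (e.ej (φ.symm r⁻¹) (by simpa using w.r0) fun q =>
        c (by simpa [RingEquiv.symm_apply_eq] using q)).1)
    obtain rfl := m.one e.toNf hk ⟨1, by
      rw [h2.p2 (p := p), pow_one, pow_two, m.fa _ (mul_mem hk.1 hk.1) ((w.mul w).cg (by simp) (by simp) (h2.sq φ))]
      exact one_mem _⟩
    exact a.mem_A (by simpa using e'.mA (m.mS c) (le_nz_self S (m.mS c)))
  refine e.le e'.toSa hS fun P q => ?_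
  obtain ⟨ω, -, h1, -⟩ := h2.ex
  rcases m.ess x (e.es q) with rfl | rfl | ⟨-, a, ha, rfl⟩
  · exact e.le_A e'.toSa hS (m.le _) m.nQ1 (m.sd1 e.toNf e.s1) (m.sd1 e'.toNf e'.s1).1 fun _ => m.ext1 e.toSa
  · exact ((((x.qc h2).1 _ (m.syl2 (m.au2 e.toSa))).2 (m.se (e.es q))).ne (e.ej ω (fun c => by simp [c] at h1) fun c => by
      simp [c] at h1).1).elim
  intro g hg
  obtain ⟨-, x2, x3, -⟩ := x.xq h2 S ev a m.toCv ha
  have a1 : a ≠ 1 := fun c => e.n1 (c ▸ m.ej x e.toSa h2 ha q)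
  have n := F.A_le_nz _ hg
  have gJ := m.cA x e.toSa h2 ha hg
  obtain ⟨j, k⟩ := m.ex2 (F.A_le_nz _ gJ)
  obtain ⟨⟨g', hg', k'⟩, -⟩ : j ∈ im2 ev (F'.A ((Q2 σ).map ev)) ⊓ cz (zpowers (u2 (xt a))) := by
    rw [(e'.ej a ha a1).2, ← (e.ej a ha a1).2]
    refine ⟨⟨g, gJ, k⟩, mem_cz'.2 ?_⟩
    rintro _ ⟨i, rfl⟩
    exact (Commute.zpow_right (m.uq2 (k.mul (ajU _)) (((ajU _).mul k).ag (x2 g n))) i).eq.symm
  have l : (Q2 σ).map ev ≤ (C1 σ a).map ev := by ul m.toCv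
  obtain ⟨u, hu, v⟩ := (e'.sat.rec_fn (FN_of_le_nz ((m.le _).trans e'.eS.ge) (e'.eS ▸ m.nQ2))).ext_A ((k.agr k').mem_A hg') l
    (by rw [FS.C, e'.eS]; exact m.cen2.trans l) (by rw [FS.N, e'.eS]; exact le_inf (m.le _) ((m.le _).trans m.nQ2))
    (by rw [mem_nz.1 n]; exact fun y hy => mem_ai_of_mem hy (m.nQ2 (m.le _ hy)))
  exact (mul_mem_cancel_left (inv_mem hu)).1 (ai_self_le_A ((m.le _).trans e'.eS.ge)
    (x3 (mem_inf.2 ⟨mul_mem (inv_mem (F'.A_le_nz _ hu)) n, agree_iff.1 v.symm⟩)))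
theorem rl2 (o : Ho ev) (m4 : Mf S ev) (n : Nf p S C0 F) (q1 : N1 ev (F.A ((Q1 σ).map ev)))
    (q2 : N2 ev (F.A ((Q2 σ).map ev))) : Rl p F := by
  have s1 := x.l1 h2.n3 _ (m.h1 n q1)
  by_cases t : Two (im2 ev (F.A ((Q2 σ).map ev)))
  · obtain ⟨-, Y, hY⟩ := x.qc h2
    obtain ⟨H, s, a, b⟩ := m4
    rw [← h2.p2 (p := p)] at s
    obtain ⟨γ, -, e⟩ := m.cls2 h2 x o hY n.toSa q1 t
    obtain ⟨δ, hδ, e'⟩ := m.cls2 h2 x o hY (sa_of m.pg s)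
      (let ⟨g, a, b, c⟩ := a; ⟨g, ofSub_A s.1 (m.le (Q1 σ)) ▸ mem_ai_of_mem a b, b, c⟩) (by rwa [ofSub_A s.1 (m.le _), im2_ai])
    refine .of_cjs γ (.inr (e.eS.symm ▸ ⟨cj δ H, mem_nz.1 hδ ▸ s.cj δ, ?_⟩))
    rw [le_antisymm (m.le2 h2 x e e') (m.le2 h2 x e' e), cjs_ofSub, mem_nz.1 hδ]
  by_cases t' : ∀ a, ¬ Ej (im2 ev (F.A ((Q2 σ).map ev))) a
  · exact m.rl1 n x o q2 (sv_of t') s1
  push Not at t'
  obtain ⟨a, ea⟩ := t'
  have u : ∀ a', Ej (im2 ev (F.A ((Q2 σ).map ev))) a' → a' = a := fun a' e => by_contra fun c => t ⟨_, _, c, e, ea⟩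
  obtain ⟨x1, -, -, -, x5, x6, x7⟩ := x.xq h2 S ev a m.toCv ea.1
  have hS : F.A S ≤ nz ((V8 σ a).map ev) := fun g hg => by
    obtain ⟨c, k, hk, r, b, φ, w, e⟩ := m.dec n hg
    have e1 := u _ (m.ejk h2 n.toSa hk.2 w ea)
    have e2 := congrArg σ e1
    obtain rfl := h2.b1 w
    refine (e.mono (m.le _)).mem_nz (mul_mem (x6 (m.mS c)) (m.wn w fun c hc => ?_))
    have k1 := congrArg φ hc.2.1
    have k2 := congrArg φ hc.2.2
    have k3 : c.u = 0 := hc.1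
    simp only [map_mul, IV.cm] at e2 k1 k2
    us m.toCv [k3, map_zero, IV.cm]
    exact ⟨by linear_combination r * σ r * k1 - r * φ c.t * e2 + σ r * φ (σ c.t) * e1,
      by linear_combination r * σ r * k2 - r * φ c.s * e2 + σ r * φ (σ c.s) * e1⟩
  have l : (V8 σ a).map ev ≤ (Q1 σ).map ev := by ul m.toCv
  refine .inl (n.cn x5 (m.le _) hS fun X c => ?_)
  rcases m.ess x (n.es c) with rfl | rfl | ⟨-, a', ha, rfl⟩
  · have k : ∀ g ∈ F.A ((Q1 σ).map ev), g ∈ nz ((Z2 σ).map ev) → g ∈ nz ((V8 σ a).map ev) := fun g hg c =>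
      let ⟨_, hk, e⟩ := m.ext1 n.toSa hg c
      (e.symm.mono l).mem_nz (hS hk)
    have s := m.sd1 n s1
    refine ⟨l, fun g hg => (s.2 g hg).elim (k g hg) fun ⟨y, hy, c⟩ => ?_⟩
    exact (mul_mem_cancel_left (mul_mem (x7 _ _ m.toWl) (x6 hy))).1 (k _ (mul_mem (mul_mem s.1 (n.mA hy (m.nQ1 hy))) hg) c)
  · exact ((((x.qc h2).1 _ (m.syl2 (m.au2 n.toSa))).2 (m.se (n.es c))).ne ea).elim
  · obtain rfl := u _ (m.ej x n.toSa h2 ha c)
    exact ⟨by ul m.toCv, fun g hg => (x1 (F.A_le_nz _ hg)).2⟩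
omit h2 in
theorem rl (o : Ho ev) (m3 : F3 σ → Mc S ev) (m6 : F3 σ → Mv S ev) (m4 : F2 σ → Mf S ev) (n : Sa p S F) : Rl p F := by
  rcases m.cases x n with c | ⟨q1, q2⟩
  · exact .inl c
  by_cases h3 : F3 σ
  · exact m.rl3 h3 x o (m3 h3) (m6 h3) n q1 q2
  obtain ⟨γ, hγ, n1⟩ := m.cjA x n
  refine .of_cjs γ ?_
  by_cases h2 : F2 σ
  · exact m.rl2 h2 x o (m4 h2) n1 (m.n1cj x hγ q1) (m.n2cj x hγ q2)
  · exact m.rl1 n1 x o (m.n2cj x hγ q2) (x.jt h2 _ (m.syl2 (m.au2 n1.toSa))) (x.l1 h3 _ (m.h1 n1 (m.n1cj x hγ q1)))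
end Mu

/-! ### transport along embeddings -/
section map
variable {G : Type*} [Group G] [Finite G] {ev : Cu σ →* G} {i : G →* Γ} (hi : Function.Injective i) {X H H' : Subgroup G} {g : G}
include hi
theorem cj_map {u u' : Cu σ} : i g * i.comp ev u * (i g)⁻¹ = i.comp ev u' ↔ g * ev u * g⁻¹ = ev u' := by
  simp [← hi.eq_iff]
theorem nz_map : i g ∈ nz (X.map i) ↔ g ∈ nz X := ⟨fun h => mem_nz_of_conj_mem fun y hy =>
    (mem_map_iff_mem hi).1 (by simpa using conj_mem_of_mem_nz h (mem_map_of_mem i hy)), fun h => mem_nz_of_conj_mem (by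
      rintro _ ⟨y, hy, rfl⟩
      simpa using mem_map_of_mem i (conj_mem_of_mem_nz h hy))⟩
theorem nz_map' {X : Subgroup (Cu σ)} : i g ∈ nz (X.map (i.comp ev)) ↔ g ∈ nz (X.map ev) := by rw [← map_map, nz_map hi]
theorem nz_le (h : H ≤ nz X) : H.map i ≤ nz (X.map i) := by rintro _ ⟨k, hk, rfl⟩; exact (nz_map hi).2 (h hk)
theorem im1_map : im1 (i.comp ev) (H.map i) = im1 ev H := by
  ext f; simp only [mem_im1, mem_map, exists_exists_and_eq_and, Ac1, cj_map hi]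
theorem im2_map : im2 (i.comp ev) (H.map i) = im2 ev H := by
  ext f; simp only [mem_im2, mem_map, exists_exists_and_eq_and, Aj, cj_map hi]
theorem N1.map (h : N1 ev H) : N1 (i.comp ev) (H.map i) :=
  let ⟨_, a, b, c⟩ := h; ⟨_, mem_map_of_mem i a, (nz_map' hi).2 b, mt (nz_map' hi).1 c⟩
theorem N2.map (h : N2 ev H) : N2 (i.comp ev) (H.map i) :=
  let ⟨_, a, b, c⟩ := h; ⟨_, mem_map_of_mem i a, (nz_map' hi).2 b, mt (nz_map' hi).1 c⟩
theorem syl_map {p : ℕ} (h : Syl p ev.range H) : Syl p (i.comp ev).range (H.map i) := by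
  rw [MonoidHom.range_comp]; exact ⟨map_mono h.1, by rw [relIndex_map_map_of_injective _ _ hi]; exact h.2⟩
omit hi in
theorem le_map (h : ev.range ≤ H) : (i.comp ev).range ≤ H.map i := MonoidHom.range_comp i ev ▸ map_mono h
theorem Mu.map {L C0 : Subgroup G} {M1 M2 : G} (m : Mu p ev.range ev L C0 M1 M2) :
    Mu p (i.comp ev).range (i.comp ev) (L.map i) (C0.map i) (i M1) (i M2) := by
  have w : ∀ {k r t φ}, Wu ev k r t φ → Wu (i.comp ev) (i k) r t φ := fun w => ⟨w.r0, w.b0, w.hb, fun u => (cj_map hi).2 (w.cj u)⟩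
  have b : ∀ {X Y : Subgroup (Cu σ)} {M}, (∀ g ∈ L, g ∈ nz (X.map ev) → g ∈ nz (Y.map ev) ∨ ∃ s ∈ ev.range, M * s * g ∈ nz (Y.map ev)) →
      ∀ g ∈ L.map i, g ∈ nz (X.map (i.comp ev)) → g ∈ nz (Y.map (i.comp ev)) ∨
        ∃ s ∈ (i.comp ev).range, i M * s * g ∈ nz (Y.map (i.comp ev)) := fun h => by
    rintro _ ⟨g, hg, rfl⟩ e
    exact (h g hg ((nz_map' hi).1 e)).imp (nz_map' hi).2 fun ⟨_, ⟨c, rfl⟩, e⟩ =>
      ⟨_, ⟨c, rfl⟩, by simpa using (nz_map' hi).2 e⟩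
  refine ⟨cv_range (hi.comp m.inj), ⟨fun u h => (cj_map hi).2 (m.f1 u h), fun u h => (cj_map hi).2 (m.f2 u h)⟩,
    MonoidHom.range_comp i ev ▸ m.pg.map i, syl_map hi m.syl, nz_le hi m.CL, ?_,
    fun r t φ h1 h2 h3 => let ⟨k, hk, e⟩ := m.ex' r t φ h1 h2 h3; ⟨_, mem_map_of_mem i hk, w e⟩, ?_, ?_,
    mem_map_of_mem i m.l1, mem_map_of_mem i m.l2, b m.b1, b m.b2⟩
  · rintro _ ⟨k, hk, rfl⟩
    exact let ⟨r, t, φ, e⟩ := m.wt k hk; ⟨r, t, φ, w e⟩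
  · rintro _ ⟨k, hk, rfl⟩ e
    rw [m.fa k hk ⟨e.r0, e.b0, e.hb, fun u => (cj_map hi).1 (e.cj u)⟩, map_one]
  · rintro _ ⟨g, hg, rfl⟩ e
    rw [MonoidHom.range_comp] at e ⊢
    obtain ⟨s, hs, τ, l, ν, h1, h2, h3, h4, rfl⟩ := m.nl g hg ((nz_map hi).1 e)
    exact ⟨_, mem_map_of_mem i hs, _, l, ν, h1, h2, h3, w h4, map_mul ..⟩
end map

/-- a property of all good embeddings into suitable symmetric groups -/
def Em (R : ∀ N, (Cu σ →* Univ N) → Prop) : Prop :=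
  ∃ m, 0 < m ∧ ∀ N, 0 < N → m ∣ N → ∀ ev : Cu σ →* Univ N, Function.Injective ev → Good ev.range → R N ev
section
variable {R R' : ∀ N, (Cu σ →* Univ N) → Prop}
theorem em_of {G : Type*} [Group G] [Finite G] {ev : Cu σ →* G} (h : Function.Injective ev)
    (k : ∀ N (i : G →* Univ N), Function.Injective i → R N (i.comp ev)) : Em R :=
  ⟨_, Nat.card_pos, fun N h0 h1 f h2 h3 => let ⟨i, a, _, b⟩ := exists_good_extend h0 h1 f h2 h3 ev h
    (MonoidHom.ext b : i.comp ev = f) ▸ k N i a⟩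
theorem Em.and (h : Em R) (h' : Em R') : Em fun N ev => R N ev ∧ R' N ev :=
  let ⟨_, a, b⟩ := h; let ⟨_, c, d⟩ := h'
  ⟨_, mul_pos a c, fun N h0 h1 f h2 h3 => ⟨b N h0 (dvd_of_mul_right_dvd h1) f h2 h3, d N h0 (dvd_of_mul_left_dvd h1) f h2 h3⟩⟩
theorem em_imp {c : Prop} (h : c → Em R) : Em fun N ev => c → R N ev := by
  by_cases q : c
  · exact let ⟨m, a, b⟩ := h q; ⟨m, a, fun N h0 h1 f h2 h3 _ => b N h0 h1 f h2 h3⟩
  · exact ⟨1, one_pos, fun _ _ _ _ _ _ => (q · |>.elim)⟩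
end

theorem fin (x : ∀ N, Kk σ (Univ N) p) (mu : MU σ p) (mc : MC σ) (m6 : M6 σ) (m4 : M4 σ) {Ω : Type*} [Group Ω]
    {S : Subgroup Ω} [Finite S] (hS : IsPGroup p S) (F : FusionSystem S) (hF : F.IsSaturated p) (e : S ≃* Cu σ) :
    F.IsRealizable p := by
  have e1 : Em fun _ (ev : Cu σ →* _) => ∃ L C0 M1 M2, Mu p ev.range ev L C0 M1 M2 :=
    let ⟨_, _, _, _, _, _, _, _, m⟩ := mu; em_of m.inj fun _ _ hi => ⟨_, _, _, _, m.map hi⟩
  have e2 : Em fun _ (ev : Cu σ →* _) => F3 σ → Mc ev.range ev := em_imp fun h =>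
    let ⟨_, _, _, ev, G0, G1, G2, a, b, c, d, e, f, g, h, k, l, n, o⟩ := mc h
    em_of a fun _ i hi => ⟨G0.map i, G1.map i, G2.map i, le_map b, map_mono c, nz_le hi d, map_mono e, syl_map hi f, syl_map hi g,
      h.map hi, by rwa [im1_map hi], by
        rwa [MonoidHom.range_comp, show G0.map i ⊓ nz (ev.range.map i) = (G0 ⊓ nz ev.range).map i from le_antisymm (by
          rintro _ ⟨⟨y, hy, rfl⟩, q⟩
          exact mem_map_of_mem i ⟨hy, (nz_map hi).1 q⟩) (le_inf (map_mono inf_le_left) (nz_le hi inf_le_right)),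
          relIndex_map_map_of_injective _ _ hi], by rwa [im1_map hi], by rwa [im1_map hi]⟩
  have e3 : Em fun _ (ev : Cu σ →* _) => F3 σ → Mv ev.range ev := em_imp fun h =>
    let ⟨_, _, _, ev, G0, G1, a, b, c, d, e, f, g, h, k⟩ := m6 h
    em_of a fun _ i hi => ⟨G0.map i, G1.map i, le_map b, map_mono c, nz_le hi d, syl_map hi e, f.map hi, by rwa [im1_map hi], by
      rintro _ ⟨y, hy, rfl⟩
      obtain ⟨_, ⟨w, hw, rfl⟩, q⟩ := h y hy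
      exact ⟨_, ⟨w, hw, rfl⟩, fun c => q (hi (by simpa using c))⟩, by rwa [im1_map hi]⟩
  have e4 : Em fun _ (ev : Cu σ →* _) => F2 σ → Mf ev.range ev := em_imp fun h =>
    let ⟨_, _, _, _, H, a, b, c, d⟩ := m4 h
    em_of a fun _ i hi => ⟨H.map i, syl_map hi b, c.map hi, by rwa [im2_map hi]⟩
  obtain ⟨m, m0, k⟩ := e1.and (e2.and (e3.and e4))
  obtain ⟨N, θ, h1, h2, h3⟩ := exists_big_embed S m m0
  have r : (θ.comp e.symm.toMonoidHom).range = θ.range := by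
    rw [MonoidHom.range_comp, MonoidHom.range_eq_top.2 e.symm.surjective, ← MonoidHom.range_eq_map]
  have i : Function.Injective (θ.comp e.symm.toMonoidHom) := h2.comp e.symm.injective
  obtain ⟨⟨_, _, _, _, m⟩, a, b, c⟩ := k N h3.pos h1 _ i (r ▸ h3.good)
  have R := URep.rep ⟨h2, h3⟩ le_rfl F
  rcases m.rl (x N) (fun α => (exists_conj_of_good _ ((θ.comp e.symm.toMonoidHom).comp α.toMonoidHom) i
      (i.comp α.injective) (r ▸ h3.good) (h3.good.mono fun _ ⟨_, e⟩ => ⟨_, e⟩)).imp fun _ e c => (e c).symm)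
    a b c ⟨R.sat hS hF, by rw [fs_S, im_self, r]⟩ with c | ⟨H, c1, c2⟩
  · exact H4.realizable_of_constr R hS c
  · exact H4.Rz.realizable (G := H) ⟨H.subtype, subtype_injective _, by rwa [range_subtype], by rwa [range_subtype]⟩ R hS

end H7.PV
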