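/-
Fusion systems on a Sylow `p`-subgroup of `PSU₄(q)`, part 7: generators and relations for `q = 3`.
-/
import Cfsg.Agent.H7.PV2

set_option autoImplicit false
set_option linter.unusedSectionVars false

namespace H7.PV
open Subgroup H25 H8.PU Cu
universe u v
variable {K : Type v} [Field K] {σ : K →+* K} [IV σ] {i : K} {G : Type*} [Group G] {g g' y : G}

theorem F3.sp (h : F3 σ) (h1 : i * i = -1) (x : K) : ∃ a b : ℕ, x = a + b * i := by
  obtain ⟨j, e, -, k⟩ := h.ex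
  obtain ⟨a, b, rfl⟩ := k x
  have n : ∀ a : ℤ, ∃ n : ℕ, (a : K) = n := fun a => ⟨(a % 3).toNat, by
    rw [← Int.cast_natCast, Int.toNat_of_nonneg (by omega), Int.emod_def]; simp [h.1]⟩
  obtain ⟨c, hc⟩ := n a
  rcases mul_self_eq_mul_self_iff.1 (e.trans h1.symm) with rfl | rfl
  · exact let ⟨d, hd⟩ := n b; ⟨c, d, by rw [hc, hd]⟩
  · exact let ⟨d, hd⟩ := n (-b); ⟨c, d, by rw [hc, ← hd]; simp⟩
theorem F3.ind (h : F3 σ) (h1 : i * i = -1) {P : K → Prop} (p0 : P 0) (p1 : ∀ x, P x → P (x + 1)) (p2 : ∀ x, P x → P (x + i))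
    (x : K) : P x := by
  obtain ⟨a, b, rfl⟩ := h.sp h1 x
  induction b with
  | zero => induction a with
    | zero => simpa using p0
    | succ a ih => simpa using p1 a (by simpa using ih)
  | succ b ih => simpa [add_mul, add_assoc] using p2 _ ih
theorem F3.ind' (h : F3 σ) {P : ∀ x, σ x = x → Prop} (p0 : P 0 (map_zero σ)) (p1 : P 1 (map_one σ))
    (p : ∀ x hx y hy, P x hx → P y hy → P (x + y) (by rw [map_add, hx, hy])) (x : K) (hx : σ x = x) : P x hx := by
  rcases h.2 x hx with rfl | rfl | e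
  exacts [p0, p1, by obtain rfl : x = 1 + 1 := (by linear_combination e - h.1); exact p _ _ _ _ p1 p1]
/-- generators of the pattern subgroups -/
theorem F3.mem (h : F3 σ) (h1 : i * i = -1) {X : Subgroup (Cu σ)} (c : Cu σ) (hv : xv 1 (map_one σ) ∈ X) (hs : xs 1 ∈ X)
    (hs' : xs i ∈ X) (hu : c.u = 0 ∨ xu 1 (map_one σ) ∈ X) (ht : c.t = 0 ∨ xt 1 ∈ X ∧ xt i ∈ X) : c ∈ X := by
  rw [show c = xv c.v c.sv * xs c.s * xu c.u c.su * xt c.t by ext <;> simp]
  refine mul_mem (mul_mem (mul_mem (h.ind' (P := fun x hx => xv x hx ∈ X) X.one_mem hv (fun _ _ _ _ a b => ?_) _ _)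
    (h.ind h1 (P := (xs · ∈ X)) X.one_mem (fun _ a => ?_) (fun _ a => ?_) _)) (hu.elim (fun e => ?_) fun hu =>
      h.ind' (P := fun x hx => xu x hx ∈ X) X.one_mem hu (fun _ _ _ _ a b => ?_) _ _)) (ht.elim (fun e => e ▸ X.one_mem) fun ht =>
        h.ind h1 (P := (xt · ∈ X)) X.one_mem (fun _ a => ?_) (fun _ a => ?_) _)
  · convert mul_mem a b using 1; ext <;> simp
  · convert mul_mem a hs using 1; ext <;> simp
  · convert mul_mem a hs' using 1; ext <;> simp
  · convert X.one_mem using 1; ext <;> simp [e]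
  · convert mul_mem a b using 1; ext <;> simp
  · convert mul_mem a ht.1 using 1; ext <;> simp
  · convert mul_mem a ht.2 using 1; ext <;> simp
theorem F3.i0 (h1 : i * i = -1) : i ≠ 0 := fun c => by simp [c] at h1
theorem F3.n2 (h : F3 σ) : (2 : K) ≠ 0 := fun c => one_ne_zero (α := K) (by linear_combination h.1 - c)
theorem F3.hom (h : F3 σ) (h1 : i * i = -1) (h2 : σ i = -i) : ∃ f : G → G → K → G, (∀ g g' y, Commute y g → Commute y g' → ∀ x,
    Commute y (f g g' x)) ∧ ∀ g g', g ^ 3 = 1 → g' ^ 3 = 1 → Commute g g' → f g g' 1 = g ∧ f g g' i = g' ∧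
      ∀ x y, f g g' (x + y) = f g g' x * f g g' y := by
  choose a b e using h.sp h1
  have : CharP K 3 := (CharP.charP_iff_prime_eq_zero Nat.prime_three).2 (by exact_mod_cast h.1)
  have u : ∀ m n m' n' : ℕ, (m : K) + n * i = m' + n' * i → ∀ g g' : G, g ^ 3 = 1 → g' ^ 3 = 1 → g ^ m * g' ^ n = g ^ m' * g' ^ n' :=
    fun m n m' n' q g g' k k' => by
      have q' := congrArg σ q
      simp only [map_add, map_mul, map_natCast, h2] at q'
      rw [pow_eq_pow_mod m k, pow_eq_pow_mod n k', pow_eq_pow_mod m' k, pow_eq_pow_mod n' k',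
        (CharP.natCast_eq_natCast K 3).1 (mul_left_cancel₀ h.n2 (by linear_combination q + q') : (m : K) = m'),
        (CharP.natCast_eq_natCast K 3).1 (mul_left_cancel₀ (mul_ne_zero h.n2 (F3.i0 h1)) (by linear_combination q - q') : (n : K) = n')]
  refine ⟨fun g g' x => g ^ a x * g' ^ b x, fun g g' y k k' x => (k.pow_right _).mul_right (k'.pow_right _), fun g g' k k' c =>
    ⟨by simpa using u _ _ 1 0 (by simp [← e]) g g' k k', by simpa using u _ _ 0 1 (by simp [← e]) g g' k k', fun x y => ?_⟩⟩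
  simp only
  rw [u _ _ (a x + a y) (b x + b y) (by push_cast; linear_combination e x + e y - e (x + y)) g g' k k', pow_add, pow_add,
    (c.pow_pow _ _).mul_mul_mul_comm]

theorem r3 : R3 σ := by
  intro h i h1 h2 G _ a b w c d z a3 b3 w3 c3 d3 z3 z1 ab wc wd wz cd cz dz aw ac ad az bw bc bd bz
  obtain ⟨f, cm, hf⟩ := h.hom (G := G) h1 h2
  obtain ⟨A1, Ai, A⟩ := hf a b a3 b3 ab
  obtain ⟨W1, -, W⟩ := hf w 1 w3 (one_pow 3) (.one_right w)
  obtain ⟨C1, Ci, C⟩ := hf c d c3 d3 cd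
  obtain ⟨Z1, -, Z⟩ := hf z 1 z3 (one_pow 3) (.one_right z)
  have A0 : f a b 0 = 1 := by simpa using A 0 0
  have W0 : f w 1 0 = 1 := by simpa using W 0 0
  have C0 : f c d 0 = 1 := by simpa using C 0 0
  have Z0 : f z 1 0 = 1 := by simpa using Z 0 0
  have k1 := fun x y => (cm _ _ _ (cm _ _ _ wc wd x).symm (.one_right _) y).symm
  have k2 := fun x y => cm _ _ _ (cm _ _ _ wz.symm (.one_right _) x).symm (.one_right _) y
  have k3 := fun x y => cm _ _ _ (cm _ _ _ cz.symm dz.symm x).symm (.one_right _) y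
  let N : Jv σ → G := fun x => f w 1 x.u * f c d x.s * f z 1 x.v
  have ad' : ∀ x y, N (x + y) = N x * N y := fun x y => by
    simp only [N, Jv.add_u, Jv.add_s, Jv.add_v, W, C, Z]
    rw [(k1 _ _).mul_mul_mul_comm, ((k2 _ _).mul_left (k3 _ _)).mul_mul_mul_comm]
  have R : ∀ g t, g * w = w * f c d t * f z 1 (t * σ t) * g → g * c = c * f z 1 (t + σ t) * g →
      g * d = d * f z 1 (t * σ i + σ t * i) * g → Commute g z → ∀ x, g * N x = N (xj t x) * g := fun g t e1 e2 e3 e4 x => by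
    let P : Jv σ → Prop := fun x => g * N x = N (xj t x) * g
    have p : ∀ x y, P x → P y → P (x + y) := fun x y a b => by
      simp only [P] at a b ⊢
      rw [ad', ← mul_assoc, a, mul_assoc, b, ← mul_assoc, ← ad']
      exact congrArg (N · * g) (map_add (u2 (xt t)) x y).symm
    have p0 : P 0 := by simp [P, N, xj, W0, C0, Z0]
    have z0 := map_zero σ
    rw [show x = jv x.u 0 0 x.su z0 + jv 0 x.s 0 z0 z0 + jv 0 0 x.v z0 x.sv by ext <;> simp]
    refine p _ _ (p _ _ (h.ind' (P := fun u hu => P (jv u 0 0 hu z0)) p0 ?_ (fun _ _ _ _ a b => ?_) _ _)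
      (h.ind h1 (P := fun s => P (jv 0 s 0 z0 z0)) p0 (fun _ a => ?_) (fun _ a => ?_) _))
      (h.ind' (P := fun u hu => P (jv 0 0 u z0 hu)) p0 ?_ (fun _ _ _ _ a b => ?_) _ _)
    · simpa [P, N, xj, W0, C0, Z0, W1] using e1
    · convert p _ _ a b using 1; ext <;> simp
    · convert p _ (jv 0 1 0 z0 z0) a (by simpa [P, N, xj, W0, C0, Z0, C1] using e2) using 1; ext <;> simp
    · convert p _ (jv 0 i 0 z0 z0) a (by simpa [P, N, xj, W0, C0, Z0, Ci] using e3) using 1; ext <;> simp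
    · simpa [P, N, xj, W0, C0, Z0, Z1] using e4.eq
    · convert p _ _ a b using 1; ext <;> simp
  have Z2 : f z 1 (1 + 1) = z ^ 2 := by rw [Z, Z1, pow_two]
  have Ra := R a 1 (by simpa [C1, Z1] using aw) (by simpa [Z2] using ac) (by simpa [h2, Z0] using ad.eq) az
  have Rb := R b i (by simpa [Ci, Z1, h2, h1] using bw) (by simpa [h2, Z0] using bc.eq)
    (by rwa [show i * σ i + σ i * i = 1 + 1 by rw [h2]; linear_combination -2 * h1, Z2]) bz
  have m : ∀ g g' t t', (∀ x, g * N x = N (xj t x) * g) → (∀ x, g' * N x = N (xj t' x) * g') →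
      ∀ x, g * g' * N x = N (xj (t + t') x) * (g * g') := fun g g' t t' a b x => by
    rw [mul_assoc, b, ← mul_assoc, a, mul_assoc]
    congr 2; ext <;> simp [xj, x.su] <;> ring
  have RA := h.ind h1 (P := fun t => ∀ x, f a b t * N x = N (xj t x) * f a b t) (fun x => by simp [A0, xj]; rfl)
    (fun t q => by rw [A, A1]; exact m _ _ _ _ q Ra) fun t q => by rw [A, Ai]; exact m _ _ _ _ q Rb
  let ev : Cu σ →* G := .mk' (fun x => N (pj x) * f a b x.t) fun x y => by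
    rw [mul_t, A, mul_assoc (N (pj x)), ← mul_assoc (f a b x.t), RA, mul_assoc (N (xj _ _)), ← mul_assoc (N (pj x)), ← ad']
    congr 2; ext <;> simp [pj, xj] <;> ring
  have ez : ev (xv 1 (map_one σ)) = z := by simp [ev, N, pj, A0, W0, C0, Z1]
  refine ⟨ev, (injective_iff_map_eq_one _).2 fun x hx => ?_, by simp [ev, N, pj, A1, W0, C0, Z0], by simp [ev, N, pj, Ai, W0, C0, Z0],
    by simp [ev, N, pj, A0, W1, C0, Z0], by simp [ev, N, pj, A0, W0, C1, Z0], by simp [ev, N, pj, A0, W0, Ci, Z0], ez⟩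
  have n : ∀ x y, ev x = 1 → ev (y * x * y⁻¹ * x⁻¹) = 1 := fun x y e => by simp [e]
  have nz : ∀ x, ev x = 1 → x ≠ xv 1 (map_one σ) := fun x e c => z1 (by rw [← ez, ← c, e])
  have t0 : ∀ x, ev x = 1 → x.t = 0 := fun x e => by_contra fun c => let ⟨s, q⟩ := ex_ts (map_one σ) c
    nz _ (n x (xs (-s)) e) (by ext <;> simp [x.su]; linear_combination q)
  have s0 : ∀ x, ev x = 1 → x.u = 0 → x.s = 0 := fun x e e' => by_contra fun c => let ⟨s, q⟩ := ex_ts (map_one σ) c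
    nz _ (n x (xt s) e) (by ext <;> simp [e', t0 x e]; linear_combination q)
  have u0 : x.u = 0 := by simpa [t0 x hx] using s0 _ (n x (xt 1) hx) (by simp)
  have e := fun q => nz x hx (Cu.ext (t0 x hx) u0 (s0 x hx u0) q)
  have e' := fun q => nz x⁻¹ (by simp [hx]) (Cu.ext (by simp [t0 x hx]) (by simp [u0]) (by simp [u0, s0 x hx u0]) q)
  refine Cu.ext (t0 x hx) u0 (s0 x hx u0) ?_
  rcases h.2 _ x.sv with q | q | q
  exacts [q, (e q).elim, (e' (by simp [t0 x hx, q])).elim]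

/-! ### kit for the models -/
variable [Finite K] [Finite G] {S H : Subgroup G} {ev : Cu σ →* G} {f : A1 K} {c c' : Cu σ}
theorem card_cu : Nat.card (Cu σ) = Nat.card (Fx σ) ^ 6 := by
  rw [Nat.card_congr (show Cu σ ≃ K × Fx σ × K × Fx σ from ⟨fun c => (c.t, ⟨c.u, c.su⟩, c.s, ⟨c.v, c.sv⟩),
    fun x => ⟨x.1, x.2.1.1, x.2.2.1, x.2.2.2.1, x.2.1.2, x.2.2.2.2⟩, fun _ => rfl, fun _ => rfl⟩)]
  simp only [Nat.card_prod, card_K σ]; ring
theorem F3.card (h : F3 σ) (hi : Function.Injective ev) : Nat.card ev.range = 729 := by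
  have n : (1 : K) ≠ -1 := fun c => h.n2 (by linear_combination c)
  rw [← Nat.card_congr (MonoidHom.ofInjective hi).toEquiv, card_cu, show Nat.card (Fx σ) = 3 from (Set.ncard_eq_three (s := {r | σ r = r})).2
    ⟨0, 1, -1, zero_ne_one, by simp, n, Set.ext fun x => ⟨h.2 x, by rintro (rfl | rfl | rfl) <;> simp⟩⟩]
  rfl
theorem F3.le (h : F3 σ) (h1 : i * i = -1) (k : ∀ c ∈ [xt 1, xt i, xu 1 (map_one σ), xs 1, xs i, xv 1 (map_one σ)], ev c ∈ H) :
    ev.range ≤ H := by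
  rintro _ ⟨c, rfl⟩
  simp only [List.forall_mem_cons] at k
  exact h.mem h1 (X := H.comap ev) c k.2.2.2.2.2.1 k.2.2.2.1 k.2.2.2.2.1 (.inr k.2.2.1) (.inr ⟨k.1, k.2.1⟩)
theorem F3.nz1 (h : F3 σ) (h1 : i * i = -1) (k : ∀ c ∈ [xt 1, xt i, xs 1, xs i, xv 1 (map_one σ)],
    g * ev c * g⁻¹ ∈ (Q1 σ).map ev) : g ∈ nz ((Q1 σ).map ev) := mem_nz_of_conj_mem (by
  rintro _ ⟨c, hc, rfl⟩
  simp only [List.forall_mem_cons] at k
  exact h.mem h1 (X := (((Q1 σ).map ev).comap (MulAut.conj g).toMonoidHom).comap ev) c k.2.2.2.2.1 k.2.2.1 k.2.2.2.1 (.inl hc)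
    (.inr ⟨k.1, k.2.1⟩))
theorem F3.nz2 (h : F3 σ) (h1 : i * i = -1) (k : ∀ c ∈ [xu 1 (map_one σ), xs 1, xs i, xv 1 (map_one σ)],
    g * ev c * g⁻¹ ∈ (Q2 σ).map ev) : g ∈ nz ((Q2 σ).map ev) := mem_nz_of_conj_mem (by
  rintro _ ⟨c, hc, rfl⟩
  simp only [List.forall_mem_cons] at k
  exact h.mem h1 (X := (((Q2 σ).map ev).comap (MulAut.conj g).toMonoidHom).comap ev) c k.2.2.2.1 k.2.1 k.2.2.1 (.inr k.1) (.inl hc))
theorem Cv.val (h : Cv S ev) (k : Ac1 ev g f) (hc : c.u = 0) (e : g * ev c * g⁻¹ = ev c') : f (c.t, c.s) = (c'.t, c'.s) :=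
  let ⟨_, _, e1, e2⟩ := k c hc
  h.inj (e1.symm.trans e) ▸ e2.symm
/-- an element centralizing `x_t` and inverting `Z₂` -/
theorem F3.ij (h : F3 σ) (h1 : i * i = -1) (v : Cv S ev) (hg : g ∈ H) (a : g * ev (xt 1) * g⁻¹ = ev (xt 1))
    (b : g * ev (xt i) * g⁻¹ = ev (xt i)) (c : g * ev (xs 1) * g⁻¹ = (ev (xs 1))⁻¹) (d : g * ev (xs i) * g⁻¹ = (ev (xs i))⁻¹)
    (z : g * ev (xv 1 (map_one σ)) * g⁻¹ = (ev (xv 1 (map_one σ)))⁻¹) : IJ (im1 ev H) := by
  obtain ⟨f, k⟩ := v.ex1 (h.nz1 h1 (g := g) (by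
    simp only [List.forall_mem_cons, a, b, c, d, z, inv_mem_iff, v.mm, mQ1]; simp))
  have e : ∀ s, f (0, s) = (0, -s) := h.ind h1 (by simp [← Prod.zero_eq_mk]) (fun s q => by
      have := v.val k rfl (c.trans (v.inv _))
      simp only [xs_t, xs_s] at this
      rw [← add_zero (0 : K), ← Prod.mk_add_mk, map_add, q, this]; simp [add_comm]) fun s q => by
      have := v.val k rfl (d.trans (v.inv _))
      simp only [xs_t, xs_s] at this
      rw [← add_zero (0 : K), ← Prod.mk_add_mk, map_add, q, this]; simp [add_comm]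
  have e' : ∀ t, f (t, 0) = (t, 0) := h.ind h1 (map_zero f) (fun s q => by
      rw [← add_zero (0 : K), ← Prod.mk_add_mk, map_add, q]; exact congrArg _ (v.val k rfl a)) fun s q => by
      rw [← add_zero (0 : K), ← Prod.mk_add_mk, map_add, q]; exact congrArg _ (v.val k rfl b)
  exact ⟨f, ⟨g, hg, k⟩, fun x => by rw [show x = (x.1, 0) + (0, x.2) by simp, map_add, e, e']; simp, e⟩
theorem syl_mod {p : ℕ} [Fact p.Prime] (hS : IsPGroup p S) (h : Syl p S H) : (nz S).relIndex H ≡ 1 [MOD p] := by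
  have := card_sylow_modEq_one p H
  rw [Sylow.card_eq_index_normalizer ((hS.comap_subtype (K := H)).toSylow h.2)] at this
  exact .trans (congrArg (index · % p) (subgroupOf_normalizer_eq h.1)) this

end H7.PV
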