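/-
Fusion systems on a Sylow `p`-subgroup of `PSU₄(q)`, part 9: the models `McL`, `McL.2`, `Co₂`.
-/
import Cfsg.Agent.H7.PV7
import Cfsg.Agent.H7.PV8

set_option autoImplicit false
set_option linter.unusedSectionVars false

namespace H7.PV
open Subgroup H25 H8.PU Cu MulAction
universe u v
variable {K : Type v} [Field K] [Finite K] {σ : K →+* K} [IV σ] {G : Type*} [Group G] [Finite G] {ev : Cu σ →* G}

theorem Ac1.pow {g : G} {f : A1 K} (k : Ac1 ev g f) (n : ℕ) : Ac1 ev (g ^ n) (f ^ n) := by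
  induction n with
  | zero => simpa using ac_one
  | succ n ih => rw [pow_succ, pow_succ]; exact ih.mul k
theorem n16 {X : Type*} [MulAction G X] {S H : Subgroup G} {Ω : Set X} {x y : X} {m : G} (hS : IsPGroup 3 S)
    (hΩ : ∀ g ∈ H, ∀ z ∈ Ω, g • z ∈ Ω) (hx : x ∈ Ω) (hy : y ∈ Ω) (hf : ∀ z ∈ Ω, (∀ s ∈ S, s • z = z) → z = x ∨ z = y)
    (l : S ≤ H ⊓ stabilizer G x ⊓ stabilizer G y) (e : S.relIndex (H ⊓ stabilizer G x ⊓ stabilizer G y) = 40)
    (m1 : m ∈ H ⊓ stabilizer G x ⊓ stabilizer G y) (m2 : m ∉ nz S) : ¬ 16 ∣ S.relIndex (H ⊓ nz S) := fun c => by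
  have k : ∀ g ∈ H ⊓ nz S, ∀ z ∈ Ω, (∀ s ∈ S, s • z = z) → g • z = x ∨ g • z = y := fun g hg z hz q =>
    hf _ (hΩ g hg.1 z hz) fun s hs => by simpa [mul_smul, inv_smul_eq_iff] using q _ (conj_mem_of_mem_nz' hg.2 hs)
  have kx := fun g hg => k g hg x hx fun s hs => (l hs).1.2
  have ky := fun g hg => k g hg y hy fun s hs => (l hs).2
  have p : ∀ g ∈ H ⊓ nz S, g • x = x → g ∈ H ⊓ stabilizer G x ⊓ stabilizer G y := fun g hg q =>
    ⟨⟨hg.1, q⟩, (ky g hg).elim (fun r => by have := smul_left_cancel g (r.trans q.symm); subst this; exact r) id⟩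
  have d : (H ⊓ stabilizer G x ⊓ stabilizer G y).relIndex (H ⊓ nz S) ∣ 2 := relIndex_dvd_two_iff.2 (by
    by_cases q : ∃ a ∈ H ⊓ nz S, a • x ≠ x
    · obtain ⟨a, ha, q⟩ := q
      refine ⟨a, ha, fun b hb => or_iff_not_imp_right.2 fun r => p _ (mul_mem hb ha) ?_⟩
      have r1 := mt (p b hb) r
      rw [mul_smul, (kx a ha).resolve_left q]
      exact (ky b hb).resolve_right fun s => r1 (by
        have := smul_left_cancel b (s.trans ((kx b hb).resolve_left r1).symm); subst this; exact s)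
    · push Not at q
      exact ⟨1, one_mem _, fun b hb => .inr (p b hb (q b hb))⟩)
  generalize hP : H ⊓ stabilizer G x ⊓ stabilizer G y = P at *
  have l' : S ≤ nz S ⊓ P := le_inf (le_nz_self S) l
  have PH : P ≤ H := hP ▸ inf_le_left.trans inf_le_left
  have h3 := syl_mod hS (H := P) ⟨l, by rw [e]; decide⟩
  rw [← relIndex_mul_relIndex S _ _ l' inf_le_right, inf_relIndex_right] at e
  rw [← relIndex_mul_relIndex S _ _ l' (le_inf (inf_le_right.trans PH) inf_le_left),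
    show nz S ⊓ P = P ⊓ (H ⊓ nz S) by rw [← inf_assoc, inf_of_le_left PH, inf_comm], inf_relIndex_right,
    ← show nz S ⊓ P = P ⊓ (H ⊓ nz S) by rw [← inf_assoc, inf_of_le_left PH, inf_comm]] at c
  obtain ⟨j, hj⟩ : 8 ∣ S.relIndex (nz S ⊓ P) := Nat.dvd_of_mul_dvd_mul_right two_pos (c.trans (mul_dvd_mul_left _ d))
  rw [hj, mul_assoc] at e
  rcases (Nat.dvd_prime Nat.prime_five).1 (Dvd.intro_left j (by omega : j * (nz S).relIndex P = 5)) with q | q
  · exact m2 (relIndex_eq_one.1 q m1)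
  · rw [q] at h3; exact absurd h3 (by decide)

open Co H15 in
theorem mc : MC σ := fun h3 => by
  have : Finite Cfsg.Co0 := Nat.finite_of_card_ne_zero (card_Co0 ▸ by decide)
  obtain ⟨i, i1, i2, -⟩ := h3.ex
  have r := rel
  simp only [Rs, List.forall_mem_cons, H16.evA_cons, H16.evA_nil, one_mul] at r
  obtain ⟨a3, b3, w3, c3, d3, z3, ab, wc, wd, wz, cd, cz, dz, aw, ac, ad, az, bw, bc, bd, bz, mw, mc, md, mz, ga, gb, gc, gd, gz,
    yg, ya, ta, tb, tc, td, tz, tt, na, nb, nc, nd, nz', -⟩ := r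
  obtain ⟨ev, hi, e0, e1, e2, e3, e4, e5⟩ := r3 h3 i i1 i2 _ (h 0) (h 1) (h 2) (h 3) (h 4) (h 5) (by rwa [pow_three'])
    (by rwa [pow_three']) (by rwa [pow_three']) (by rwa [pow_three']) (by rwa [pow_three']) (by rwa [pow_three']) z1 ab wc wd wz cd
    cz dz aw (by rwa [pow_two, ← mul_assoc]) ad az bw bc (by rwa [pow_two, ← mul_assoc]) bz
  have v := cv_range hi
  have lP := h3.le i1 (ev := ev) (H := sMcL ⊓ stabilizer _ x275 ⊓ stabilizer _ x1) (by
    simp only [List.forall_mem_cons, e0, e1, e2, e3, e4, e5]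
    exact ⟨fx2 0 (by decide), fx2 1 (by decide), fx2 2 (by decide), fx2 3 (by decide), fx2 4 (by decide), fx2 5 (by decide), by simp⟩)
  have l0 : ev.range ≤ sMcL := lP.trans (inf_le_left.trans inf_le_left)
  have cS := h3.card hi
  have c0 := relIndex_mul_relIndex ⊥ _ _ bot_le l0
  have c2 := relIndex_mul_relIndex ⊥ _ sCo2 bot_le (l0.trans inf_le_right)
  rw [relIndex_bot_left, relIndex_bot_left, cS] at c0 c2
  rw [card_sMcL] at c0
  rw [card_sCo2] at c2
  have f6 := fx2 6 (by decide)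
  have f7 := fx 7 (by decide)
  have fi : ∀ y ∈ Sh2 lV lU (-24) 16, (∀ s ∈ ev.range, s • y = y) → y = x275 ∨ y = x1 := fun y hy k => fix y hy fun j hj => by
    interval_cases j
    exacts [k _ ⟨_, e0⟩, k _ ⟨_, e1⟩, k _ ⟨_, e2⟩, k _ ⟨_, e3⟩, k _ ⟨_, e4⟩, k _ ⟨_, e5⟩]
  have nt : h 9 ∈ nz sMcL := mem_nz_of_conj_mem fun g hg => by
    rw [← stab_VU] at hg ⊢
    rw [inv_eq_of_mul_eq_one_right tt]
    exact ⟨show _ • _ = _ by rw [mul_smul, mul_smul, t9.1, mem_stabilizer_iff.1 hg.2, t9.2],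
      show _ • _ = _ by rw [mul_smul, mul_smul, t9.2, mem_stabilizer_iff.1 hg.1, t9.1]⟩
  have n9 := n10
  generalize h 6 = m at *
  generalize h 7 = g at *
  generalize h 8 = y at *
  generalize h 9 = t at *
  generalize h 10 = n at *
  rw [← e0, ← e1, ← e2, ← e3, ← e4, ← e5] at *
  replace mw := mul_inv_eq_of_eq_mul mw
  replace mz := mul_inv_eq_of_eq_mul mz
  have iv : ∀ {t c : Cfsg.Co0}, c * t * c = t → t * c * t⁻¹ = c⁻¹ := fun {t c} e => by rw [← e]; group; rw [e]; group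
  refine ⟨_, inferInstance, this, ev, sMcL, sMcL ⊔ zpowers t, sCo2, hi, l0, le_sup_left, sup_le (le_nz_self _) (zpowers_le.2 nt),
    inf_le_right, .trans ⟨l0, by omega⟩ ⟨le_sup_left, fun c => ?_⟩, ⟨l0.trans inf_le_right, by omega⟩,
    ⟨m, f6.1.1, h3.nz2 i1 ?_, fun c => ?_⟩, ?_, n16 (IsPGroup.of_card (n := 6) cS) (x := x275) (y := x1)
      (fun g hg z hz => Sh2.smul hg.1 hg.2 hz)
      (mx 0 (by decide)) (mx 44 (by decide)) fi lP ?_ f6 fun c => ?_, h3.ij i1 v (mem_sup_right (mem_zpowers t))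
      (mul_inv_eq_of_eq_mul ta) (mul_inv_eq_of_eq_mul tb) (iv tc) (iv td) (iv tz), ?_⟩
  · rw [relIndex_eq_of_cover (H := zpowers t) le_sup_right fun a ha => by
      obtain ⟨b, hb, c, hc, rfl⟩ := (mem_sup_of_le_nz_right (zpowers_le.2 nt)).1 (sup_comm sMcL _ ▸ ha)
      exact ⟨b, hb, by simpa using hc⟩] at c
    exact absurd ((c.trans (relIndex_dvd_card _ _)).trans (Nat.card_zpowers t ▸ orderOf_dvd_of_pow_eq_one ((pow_two t).trans tt))) (by decide)
  · simp only [List.forall_mem_cons, mw, mz, iv mc, mul_inv_eq_of_eq_mul md]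
    us v []; simp
  · simpa [mz, v.mm, mZ] using conj_mem_of_mem_nz c (v.mm.2 (show xv 1 (map_one σ) ∈ Z σ from ⟨rfl, rfl, rfl⟩))
  · obtain ⟨f, k⟩ := v.ex1 (h3.nz1 i1 (g := g) (by
      simp only [List.forall_mem_cons, mul_inv_eq_of_eq_mul ga, mul_inv_eq_of_eq_mul gb, mul_inv_eq_of_eq_mul gc,
        mul_inv_eq_of_eq_mul gd, mul_inv_eq_of_eq_mul gz]
      us v []; simp))
    refine ⟨f, ⟨g, f7, k⟩, xu 1 (map_one σ), xu 1 (map_one σ), fun c => ?_⟩
    have q := ((acU (xu 1 (map_one σ))).mul ((k.mul (acU (xu 1 (map_one σ)))).mul (v.inv1 k))).pow 12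
    rw [c, ← mul_assoc, ← mul_assoc, ← yg, mul_inv_cancel_right] at q
    have := v.val q (c := xt 1) (c' := xs 1 * xs 1 * xs i * xv 1 (map_one σ)) rfl
      (mul_inv_eq_of_eq_mul (by simpa only [pow_succ, pow_zero, one_mul, map_mul, ← mul_assoc] using ya))
    simp at this
  · rw [← relIndex_mul_relIndex _ _ _ (lP.trans inf_le_left) inf_le_left, ← relIndex_mul_relIndex _ _ _ lP inf_le_left, Co.i1, Co.i2] at c0
    omega
  · obtain ⟨c, -, e⟩ := v.ex (conj_mem_of_mem_nz' c (v.mS (xt 1)))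
    have q : ev (xv 1 (map_one σ)) * ev c = ev c * ev (xv 1 (map_one σ)) := by us v []; ring
    have : ev (xu 1 (map_one σ)) * ev (xt 1) = ev (xt 1) * ev (xu 1 (map_one σ)) := by
      have := congrArg (m * · * m⁻¹) q
      simp only [cj_mul', mz, e] at this
      simpa [mul_assoc] using this
    us v [] at this
    simp at this
  · replace nc := mul_inv_eq_of_eq_mul nc
    replace nd := mul_inv_eq_of_eq_mul nd
    obtain ⟨f, k⟩ := v.ex1 (h3.nz1 i1 (g := n) (by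
      simp only [List.forall_mem_cons, mul_inv_eq_of_eq_mul na, mul_inv_eq_of_eq_mul nb, nc, nd, mul_inv_eq_of_eq_mul nz']
      us v []; simp))
    simp only [← map_mul] at nd
    refine ⟨f, ⟨n, n9, k⟩, fun c => ?_, 1, one_ne_zero, congrArg Prod.fst (v.val k rfl nc)⟩
    have := (congrArg Prod.fst (v.val k rfl nd)).symm.trans (c i)
    simp [← two_mul, h3.n2, F3.i0 i1] at this

end H7.PV
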