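import Cfsg.Agent.H7.RE1
import Cfsg.Agent.H23.CjJR
import Cfsg.Agent.H5.L2C

/-! Real characters of even degree in simple groups with abelian Sylow `2`-subgroups. -/

set_option autoImplicit false
open Cfsg
open H5 H8 H28

namespace H7.RE

local notation "C" u:max => Subgroup.centralizer ({u} : Set _)

universe u
variable {G : Type u} [Group G] [Finite G] {M : Ideal AlgInt}

theorem l2pm_real (h : H17.GS.IsL2pm G) :
    ∃ x : G, x ≠ 1 ∧ IsConj x x⁻¹ ∧ ¬ 2 ∣ Nat.card (C x) := by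
  obtain ⟨F, _, _, h8, h5, ⟨e⟩⟩ := h
  have hc := H17.GS.card_psl_odd (F := F) (Nat.odd_iff.2 (by omega))
  rw [← Nat.card_congr e.toEquiv] at hc
  have hL : L2 (Fintype.card F) G := ⟨F, _, _, rfl, ⟨e⟩⟩
  generalize Fintype.card F = q at *
  obtain ⟨k, rfl⟩ : ∃ k, q = 2 * k + 1 := ⟨q / 2, by omega⟩
  have hG : Nat.card G = (2 * k + 1) * (k * (k + 1)) * 2 := by
    rw [show (2 * k + 1) ^ 2 - 1 = 4 * (k * (k + 1)) from Nat.sub_eq_of_eq_add (by ring)] at hc
    nlinarith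
  obtain ⟨n, hn, n2, n1⟩ : ∃ n, (n = k ∨ n = k + 1) ∧ ¬ 2 ∣ n ∧ n ≠ 1 := by
    by_cases h : 2 ∣ k
    exacts [⟨k + 1, .inr rfl, by omega, by omega⟩, ⟨k, .inl rfl, h, by omega⟩]
  obtain ⟨r, hr, rn⟩ := Nat.exists_prime_and_dvd n1
  obtain ⟨p, hp, pq⟩ := Nat.exists_prime_and_dvd (show 2 * k + 1 ≠ 1 by omega)
  haveI := Fact.mk hr
  have nb : ¬ (r ∣ k ∧ r ∣ k + 1) := fun h => hr.not_dvd_one ((Nat.dvd_add_right h.1).1 h.2)
  obtain ⟨c, hc⟩ := exists_prime_orderOf_dvd_card' (G := G) r (by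
    rw [hG]
    refine Dvd.dvd.mul_right (Dvd.dvd.mul_left (rn.trans ?_) _) _
    rcases hn with rfl | rfl
    exacts [Dvd.intro _ rfl, Dvd.intro_left _ rfl])
  have key : ∀ m : ℕ, m.Prime → c ^ m = 1 → m = r := fun m hm h =>
    ((Nat.prime_dvd_prime_iff_eq hr hm).1 (hc ▸ orderOf_dvd_of_pow_eq_one h)).symm
  obtain ⟨a, s, hT, ha⟩ := hL.exists_tor hp pq (c := c) fun h => by
    obtain rfl := key p hp h
    rcases hn with rfl | rfl
    · exact hp.not_dvd_one ((Nat.dvd_add_right (rn.mul_left 2)).1 pq)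
    · exact hp.not_dvd_one ((Nat.dvd_add_right pq).1 (rn.mul_left 2))
  have ra : r ∣ orderOf a := hc ▸ orderOf_dvd_of_mem_zpowers ha
  have oa : orderOf a = n := by
    have := hT.ord
    rw [Nat.add_sub_cancel, Nat.gcd_mul_right_right] at this
    rcases hn with rfl | rfl <;> rcases this with h | h
    · omega
    · exact absurd ⟨rn, by rwa [h, show (2 * n + 1 + 1) / 2 = n + 1 by omega] at ra⟩ nb
    · exact absurd ⟨by rwa [h, show 2 * k / 2 = k by omega] at ra, rn⟩ nb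
    · omega
  refine ⟨c, by rintro rfl; exact hr.ne_one (by simp [← hc]),
    isConj_iff.2 ⟨s, hT.inv' ha (by rw [hT.sq]; exact one_mem _)⟩, fun h => n2 ?_⟩
  rw [← oa, ← Nat.card_zpowers]
  exact h.trans (Subgroup.card_dvd_of_le (hT.cent ha fun h0 =>
    n2 (key 2 Nat.prime_two (by rw [sq, h0]) ▸ rn)))

theorem jr_even {t : G} {S K : Subgroup G} (h : H23.JD t S K ⊤) :
    ∃ χ : IrrCharacter G, irrStar χ = χ ∧ 2 ∣ charDegree χ.1 := by
  obtain ⟨M, hM⟩ := exists_isPModular Nat.prime_two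
  obtain ⟨x, x1, xr, xo⟩ := l2pm_real h.l2
  have hS := syl_iff_isSylowIn.1 h.syl
  have hab : S ≤ 𝐂 S := le_centralizer_self_iff.2 h.el.ab.1
  have hSt : S ≤ C t := hab.trans (cent_le_cent1 h.mem)
  have h8 : Nat.card S = 8 := h.el.card
  have tt : t * t = 1 := by rw [← sq, ← h.t2, pow_orderOf_eq_one]
  have ox : ¬ 2 ∣ orderOf (x : G) := fun h0 => xo (h0.trans (by
    rw [Subgroup.orderOf_coe, ← Nat.card_zpowers]
    exact Subgroup.card_dvd_of_le (Subgroup.zpowers_le.2 (self_mem_centralizer x))))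
  obtain ⟨s, hs, s1⟩ := ((S ⊓ K).bot_or_exists_ne_one).resolve_left fun e => by
    have := h.four
    simp [e] at this
  have s2 : orderOf s = 2 := orderOf_eq_prime (h.el.ab.2 s hs.1) s1
  have st' : s ≠ t := fun e => h.out (e ▸ hs.2)
  have cx : Commute t x := (Subgroup.mem_centralizer_singleton_iff.1 (h.nl.1 x.2)).symm
  have hle : C (t * x) ≤ C t := fun g hg => by
    obtain ⟨n, hn⟩ := isPPart_exists_pow (isPPart_mk cx (⟨1, h.t2⟩ : IsPElt 2 t) ox)
    exact Subgroup.mem_centralizer_singleton_iff.2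
      (hn ▸ (Commute.pow_right (Subgroup.mem_centralizer_singleton_iff.1 hg) n).eq)
  obtain ⟨m, hm⟩ : 2 ∣ Nat.card (C (t * x)) := by
    rw [← h.t2, ← Nat.card_zpowers]
    exact Subgroup.card_dvd_of_le (Subgroup.zpowers_le.2
      (Subgroup.mem_centralizer_singleton_iff.2 ((Commute.refl t).mul_right cx)))
  have m2 : ¬ 2 ∣ m := fun h0 => by
    obtain ⟨U, hU⟩ := Sylow.exists_subgroup_card_pow_prime (G := C (t * x)) 2 (n := 2)
      (hm ▸ Nat.mul_dvd_mul_left 2 h0)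
    rw [← Subgroup.card_map_of_injective (Subgroup.subtype_injective _)] at hU
    have h1 : U.map (C (t * x)).subtype ≤ C (t * x) := Subgroup.map_subtype_le U
    generalize U.map (C (t * x)).subtype = U at hU h1
    have h2 := H19.card_sup_of_disjoint (A := K) (B := U) (h1.trans (hle.trans h.nl.2)) (by
      refine (Subgroup.eq_bot_iff_forall _).2 fun y hy => by_contra fun y1 => xo ?_
      have h3 : (⟨y, hy.1⟩ : K) ∈ C x := Subgroup.mem_centralizer_singleton_iff.2 (Subtype.ext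
        (mul_left_cancel (a := t) (by
          have := Subgroup.mem_centralizer_singleton_iff.1 (h1 hy.2)
          have h4 := Subgroup.mem_centralizer_singleton_iff.1 (hle (h1 hy.2))
          change t * (y * x) = t * (x * y)
          rw [← mul_assoc, ← h4, mul_assoc, this, mul_assoc])))
      refine Dvd.dvd.trans ?_ ((C x).orderOf_dvd_natCard h3)
      obtain ⟨i, -, hi⟩ := (Nat.dvd_prime_pow Nat.prime_two).1 (hU ▸ U.orderOf_dvd_natCard hy.2)
      rw [← Subgroup.orderOf_coe, hi]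
      exact dvd_pow_self 2 (by rintro rfl; exact y1 (orderOf_eq_one_iff.1 hi)))
    have h3 := h.syl.dvd (n := 2 ^ 4) (H19.PiN.prime_pow Nat.prime_two 4) (Dvd.dvd.trans (by
      rw [h2, hU]
      exact Nat.mul_dvd_mul_right (h.four ▸ Subgroup.card_dvd_of_le inf_le_right) 4)
      (Subgroup.card_dvd_of_le (le_top : K ⊔ U ≤ ⊤)))
    rw [h8] at h3
    omega
  have hP : IsSylowIn 2 (S.subgroupOf (C t)) ⊤ := (hS.mono hSt le_top).subgroupOf_top
  have hP8 : Nat.card (S.subgroupOf (C t)) = 8 :=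
    (Nat.card_congr (Subgroup.subgroupOfEquivOfLe hSt).toEquiv).trans h8
  have hPa : S.subgroupOf (C t) ≤ 𝐂 (S.subgroupOf (C t)) := fun a ha =>
    mem_centralizer'.2 fun b hb => Subtype.ext (mem_centralizer'.1 (hab ha) b hb)
  have hz : HZ 2 M (C t) := hz_le_sixteen hM hP hPa (by omega) (u := ⟨s, hSt hs.1⟩) hs.1
    (st_eq_one_iff.2 fun g hg => by_contra fun h0 => by
      have h1 := card_inf_cent_le hP hPa hg.1 h0
      have h2 : Subgroup.zpowers (⟨t, self_mem_centralizer t⟩ : C t) ≤ S.subgroupOf (C t) ⊓ C g :=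
        Subgroup.zpowers_le.2 ⟨h.mem, Subgroup.mem_centralizer_singleton_iff.2
          (Subtype.ext (Subgroup.mem_centralizer_singleton_iff.1 g.2).symm)⟩
      have h3 := (Subgroup.eq_of_le_of_card_ge h2 (by
        rw [Nat.card_zpowers, ← Subgroup.orderOf_coe, h.t2]; omega)).ge (x := ⟨s, hSt hs.1⟩)
        ⟨hs.1, Subgroup.mem_centralizer_singleton_iff.2
          (Subgroup.mem_centralizer_singleton_iff.1 hg.2).symm⟩
      rcases (H17.GS.mem_zp (Subtype.ext tt)).1 h3 with h4 | h4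
      exacts [s1 (congrArg Subtype.val h4), st' (congrArg Subtype.val h4)])
  obtain ⟨χ, h1, h2⟩ := exists_real_not_principal hM h.t2 hz (x := ⟨x, h.nl.1 x.2⟩)
    (s := ⟨s, hSt hs.1⟩) (by rwa [← Subgroup.orderOf_coe])
    ((Subgroup.inclusion h.nl.1).map_isConj xr) (by rwa [← Subgroup.orderOf_coe]) st' m2 hm
  exact ⟨χ, h2, by_contra fun h3 => h1 (mem_principal_of_star hM
    (Nat.odd_iff.2 (Nat.two_dvd_ne_zero.1 h3)) (by rw [h2]; exact sameBlock_refl hM _))⟩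

theorem main [IsSimpleGroup G] (hna : ¬ IsMulCommutative G) {P : Subgroup G}
    (hP : IsSylowIn 2 P ⊤) (hab : IsMulCommutative P) : (∀ x ∈ P, x * x = 1) ∧
      (∃ t : G, orderOf t = 2) ∧ ∃ χ : IrrCharacter G, irrStar χ = χ ∧ 2 ∣ charDegree χ.1 := by
  have h1 : H17.GS.AbS (⊤ : Subgroup G) := H17.GS.AbS.of_syl (syl_iff_isSylowIn.2 hP) hab
  have hs : H17.GS.Sim (⊤ : Subgroup G) := ⟨Subgroup.topEquiv.isSimpleGroup, fun h =>
    hna ⟨⟨fun a b => congrArg Subtype.val (h.1.1 ⟨a, trivial⟩ ⟨b, trivial⟩)⟩⟩⟩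
  have inv : ∀ {S : Subgroup G} {n}, H19.El 2 (n + 1) S ⊤ → ∃ t : G, orderOf t = 2 := fun h =>
    exists_prime_orderOf_dvd_card' 2 ((dvd_pow_self 2 (Nat.succ_ne_zero _)).trans
      (h.card ▸ Subgroup.card_subgroup_dvd_card _))
  rcases H17.GS.ab_gt' hs h1 with ⟨Y, k⟩ | ⟨V, k1, k2⟩ | k
  · obtain ⟨q, k2⟩ := l2e_of_isL2 (k.l2 hs h1)
    replace k2 := k2.of_equiv Subgroup.topEquiv.symm
    obtain ⟨h2, ⟨⟨χ, h3⟩⟩⟩ := Nat.card_eq_one_iff_unique.1 k2.st
    refine ⟨k2.sq_sylow hP, k2.exists_invol, χ, congrArg Subtype.val (h2.elim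
      ⟨irrStar χ, by rw [irrStar_apply', inv_one, h3]⟩ ⟨χ, h3⟩), ?_⟩
    obtain ⟨n, rfl⟩ := k2.pow
    rw [irr_apply_one, Nat.cast_inj] at h3
    exact h3 ▸ dvd_pow_self 2 (by rintro rfl; exact absurd k2.four (by omega))
  · obtain ⟨F, _, _, h8, h5, ⟨e⟩⟩ := H17.GS.l2pm_of_four hs k1 k2
    obtain ⟨x, x1, xr, xo⟩ := l2pm_real (G := G) ⟨F, _, _, h8, h5, ⟨Subgroup.topEquiv.symm.trans e⟩⟩
    exact ⟨sq_of_sylow hP (syl_iff_isSylowIn.1 k2) k1.ab.2, inv k1,
      exists_even_of_odd_cent x1 xr xo⟩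
  · obtain ⟨t, S, K, h⟩ := H23.exists_jd k (by simp)
    exact ⟨sq_of_sylow hP (syl_iff_isSylowIn.1 h.syl) h.el.ab.2, ⟨t, h.t2⟩, jr_even h⟩

end H7.RE
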