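import Mathlib

/-! Beta-numbers, cores, and the Heisenberg relations on antisymmetric Laurent polynomials. -/

set_option autoImplicit false
open Finset Equiv Function

namespace H7.Sn

variable {ι : Type*} [Fintype ι] {p : ℕ} {γ γ' κ : ι → ℤ} {i j : ι}

section Core

/-- number of smaller beads on the same runner -/
def rk (p : ℕ) (γ : ι → ℤ) (i : ι) : ℕ := #{j | γ j < γ i ∧ γ j % p = γ i % p}

/-- all beads pushed down on their runners -/
def core (p : ℕ) (γ : ι → ℤ) (i : ι) : ℤ := p * rk p γ i + γ i % p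

/-- distinct nonnegative beads -/
structure Good (γ : ι → ℤ) : Prop where
  inj : Injective γ
  nn : ∀ i, 0 ≤ γ i

theorem core_mod (γ : ι → ℤ) (i : ι) : core p γ i % p = γ i % p := by
  simp [core]

theorem rk_lt_rk (h : γ j % p = γ i % p) (h' : γ j < γ i) : rk p γ j < rk p γ i :=
  card_lt_card ⟨fun k hk => by
    simp only [mem_filter, mem_univ, true_and] at hk ⊢
    exact ⟨hk.1.trans h', hk.2.trans h⟩, fun e => by simpa using e (by simp [h, h'] : j ∈ _)⟩

theorem rk_lt_rk_iff (hγ : Injective γ) (h : γ j % p = γ i % p) :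
    rk p γ j < rk p γ i ↔ γ j < γ i := by
  refine ⟨fun h1 => ?_, rk_lt_rk h⟩
  rcases lt_trichotomy (γ j) (γ i) with e | e | e
  · exact e
  · simp [hγ e] at h1
  · exact absurd h1 (rk_lt_rk h.symm e).not_gt

theorem eq_of_rk (hγ : Injective γ) (h : γ j % p = γ i % p) (h' : rk p γ j = rk p γ i) : j = i := by
  rcases lt_trichotomy (γ j) (γ i) with e | e | e
  · exact absurd h' (rk_lt_rk h e).ne
  · exact hγ e
  · exact absurd h' (rk_lt_rk h.symm e).ne'

theorem rk_lt_card (γ : ι → ℤ) (i : ι) : rk p γ i < #{j | γ j % p = γ i % p} :=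
  card_lt_card ⟨fun k hk => by simp_all, fun e => by simpa using e (by simp : i ∈ _)⟩

theorem exists_rk (hγ : Injective γ) {r : ℤ} {t : ℕ} (ht : t < #{j | γ j % p = r}) :
    ∃ j, γ j % p = r ∧ rk p γ j = t := by
  classical
  have h := surj_on_of_inj_on_of_card_le (s := {j | γ j % p = r}) (t := range #{j | γ j % p = r})
    (fun j _ => rk p γ j) (fun j hj => mem_range.2 ((mem_filter.1 hj).2 ▸ rk_lt_card γ j))
    (fun a b ha hb e => eq_of_rk hγ ((mem_filter.1 ha).2.trans (mem_filter.1 hb).2.symm) e)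
    (by simp) t (mem_range.2 ht)
  obtain ⟨j, hj, e⟩ := h
  exact ⟨j, (mem_filter.1 hj).2, e.symm⟩

variable (hp : 0 < p)
include hp

theorem core_lt_iff (hγ : Injective γ) (h : γ j % p = γ i % p) :
    core p γ j < core p γ i ↔ γ j < γ i := by
  rw [core, core, h, add_lt_add_iff_right, mul_lt_mul_iff_right₀ (by exact_mod_cast hp), Nat.cast_lt,
    rk_lt_rk_iff hγ h]

theorem good_core (hγ : Injective γ) : Good (core p γ) := by
  refine ⟨fun i j e => ?_, fun i => add_nonneg (by positivity)
    (Int.emod_nonneg _ (by exact_mod_cast hp.ne'))⟩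
  have h := (core_mod γ i).symm.trans ((congrArg (· % (p : ℤ)) e).trans (core_mod γ j))
  rw [core, core, h, add_left_inj, mul_right_inj' (by exact_mod_cast hp.ne'), Nat.cast_inj] at e
  exact eq_of_rk hγ h e

theorem rk_core (hγ : Injective γ) : rk p (core p γ) = rk p γ := funext fun i =>
  congrArg card (filter_congr fun j _ => by
    rw [core_mod, core_mod]
    exact and_congr_left (core_lt_iff hp hγ))

theorem core_core (hγ : Injective γ) : core p (core p γ) = core p γ := funext fun i => by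
  rw [core, rk_core hp hγ, core_mod, core]

theorem rk_le (hγ : Good γ) (i : ι) : (rk p γ i : ℤ) ≤ γ i / p := by
  have hp' : (0 : ℤ) < p := by exact_mod_cast hp
  have h := card_le_card_of_injOn (s := {j | γ j < γ i ∧ γ j % p = γ i % p})
    (t := Ico 0 (γ i / p)) (fun j => γ j / p) (fun j hj => by
      simp only [coe_filter, mem_univ, true_and, Set.mem_ofPred_eq, coe_Ico, Set.mem_Ico] at hj ⊢
      refine ⟨Int.ediv_nonneg (hγ.nn j) hp'.le, lt_of_mul_lt_mul_left (a := (p : ℤ)) ?_ hp'.le⟩
      linarith [Int.mul_ediv_add_emod (γ j) p, Int.mul_ediv_add_emod (γ i) p])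
    fun a ha b hb e => hγ.inj (by
      simp only [coe_filter, mem_univ, true_and, Set.mem_ofPred_eq] at ha hb e
      rw [← Int.mul_ediv_add_emod (γ a) p, e, ha.2, ← hb.2, Int.mul_ediv_add_emod])
  rw [Int.card_Ico, sub_zero] at h
  exact (Int.le_toNat (Int.ediv_nonneg (hγ.nn i) hp'.le)).1 h

theorem core_le (hγ : Good γ) (i : ι) : core p γ i ≤ γ i := by
  have := mul_le_mul_of_nonneg_left (rk_le hp hγ i) (Nat.cast_nonneg (α := ℤ) p)
  linarith [Int.mul_ediv_add_emod (γ i) p, show core p γ i = p * rk p γ i + γ i % p from rfl]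

theorem exists_perm_core (hγ : Injective γ) (hγ' : Injective γ') (h : ∀ i, γ' i % p = γ i % p) :
    ∃ σ : Perm ι, core p γ' = core p γ ∘ σ := by
  choose f h1 h2 using fun i => exists_rk hγ (r := γ i % p) (t := rk p γ' i)
    (by simpa only [h] using rk_lt_card (p := p) γ' i)
  have h3 : core p γ' = core p γ ∘ f := funext fun i => by simp [core, h1, h2, h]
  exact ⟨ofBijective f (Finite.injective_iff_bijective.1
    (Injective.of_comp (h3 ▸ (good_core hp hγ').inj))), h3⟩

theorem sum_core_eq (hγ : Injective γ) (hγ' : Injective γ') (h : ∀ i, γ' i % p = γ i % p) :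
    ∑ i, core p γ' i = ∑ i, core p γ i := by
  obtain ⟨σ, e⟩ := exists_perm_core hp hγ hγ' h
  rw [e]; exact Equiv.sum_comp σ _

theorem sum_core_le (hγ : Injective γ) (hγ' : Good γ') (h : ∀ i, γ' i % p = γ i % p) :
    ∑ i, core p γ i ≤ ∑ i, γ' i :=
  sum_core_eq hp hγ hγ'.inj h ▸ sum_le_sum fun i _ => core_le hp hγ' i

theorem exists_perm_of_sum (hγ : Injective γ) (hγ' : Good γ') (h : ∀ i, γ' i % p = γ i % p)
    (hs : ∑ i, γ' i = ∑ i, core p γ i) : ∃ σ : Perm ι, γ' = core p γ ∘ σ := by
  obtain ⟨σ, e⟩ := exists_perm_core hp hγ hγ'.inj h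
  refine ⟨σ, e ▸ funext fun i => ((sum_eq_sum_iff_of_le fun i _ => core_le hp hγ' i).1
    ((sum_core_eq hp hγ hγ'.inj h).trans hs.symm) i (mem_univ i)).symm⟩

omit hp in
theorem rk_comp (γ : ι → ℤ) (σ : Perm ι) (i : ι) : rk p (γ ∘ σ) i = rk p γ (σ i) :=
  card_equiv σ fun j => by simp

omit hp in
theorem core_comp (γ : ι → ℤ) (σ : Perm ι) : core p (γ ∘ σ) = core p γ ∘ σ :=
  funext fun i => by simp [core, rk_comp]

omit hp [Fintype ι] in
theorem Good.comp (h : Good γ) (σ : Perm ι) : Good (γ ∘ σ) := ⟨h.inj.comp σ.injective, fun _ => h.nn _⟩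

end Core

variable (ι) in
/-- the vacuum -/
noncomputable def dl : ι → ℤ := core 1 fun i => (Fintype.equivFin ι i : ℤ)

theorem inj_equivFin : Injective fun i => ((Fintype.equivFin ι i : ℕ) : ℤ) := fun _ _ e =>
  (Fintype.equivFin ι).injective (Fin.ext (Nat.cast_injective (R := ℤ) e))

theorem good_dl : Good (dl ι) := good_core one_pos inj_equivFin

theorem core_dl : core 1 (dl ι) = dl ι := core_core one_pos inj_equivFin

theorem sum_dl_le (h : Good γ) : ∑ i, dl ι i ≤ ∑ i, γ i :=
  sum_core_le one_pos inj_equivFin h (by simp)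

theorem exists_eq_of_lt (h : Good γ) {m a : ℕ} (hs : ∑ i, γ i = ∑ i, dl ι i + m)
    (ha : a + m < Fintype.card ι) : ∃ j, γ j = a := by
  classical
  by_contra! e
  have h1 := sum_dl_le (γ := fun i => γ i - if a < γ i then 1 else 0) ⟨fun i j e' => h.inj (by
    have := e i; have := e j
    beta_reduce at e'
    split_ifs at e' <;> omega), fun i => by have := h.nn i; split_ifs <;> omega⟩
  have h2 := card_le_card_of_injOn (s := {i | ¬ a < γ i}) (t := Ico (0 : ℤ) a) γ (fun i hi => by
    have := h.nn i; have := e i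
    simp only [coe_filter, mem_univ, true_and, Set.mem_ofPred_eq, coe_Ico, Set.mem_Ico] at hi ⊢
    omega) h.inj.injOn
  have h3 := card_filter_add_card_filter_not (s := univ) fun i => (a : ℤ) < γ i
  rw [sum_sub_distrib, sum_boole] at h1
  simp only [Int.card_Ico, sub_zero, Int.toNat_natCast, card_univ] at h2 h3
  omega

variable [DecidableEq ι]

/-- Laurent polynomials -/
abbrev L (ι : Type*) := AddMonoidAlgebra ℤ (ι → ℤ)

/-- power sums -/
noncomputable def ps (k : ℕ) : L ι := ∑ i, .single (Pi.single i k) 1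

/-- products of power sums -/
noncomputable def pm (μ : Multiset ℕ) : L ι := (μ.map ps).prod

/-- alternants -/
noncomputable def alt (κ : ι → ℤ) : L ι := ∑ σ : Perm ι, .single (κ ∘ σ) (Perm.sign σ : ℤ)

@[simp] theorem pm_zero : (pm 0 : L ι) = 1 := rfl

theorem pm_cons (k : ℕ) (μ : Multiset ℕ) : (pm (k ::ₘ μ) : L ι) = ps k * pm μ := by simp [pm]

theorem pm_add (μ ν : Multiset ℕ) : (pm (μ + ν) : L ι) = pm μ * pm ν := by simp [pm]

theorem coeff_ps_mul (k : ℕ) (F : L ι) (γ : ι → ℤ) :
    (ps k * F).coeff γ = ∑ i, F.coeff (γ - Pi.single i k) := by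
  simp [ps, sum_mul, neg_add_eq_sub]

theorem coeff_alt (κ γ : ι → ℤ) :
    (alt κ).coeff γ = ∑ σ : Perm ι, if κ ∘ σ = γ then (Perm.sign σ : ℤ) else 0 := by
  simp [alt, Finsupp.single_apply]

theorem coeff_alt_comp (hκ : Injective κ) (σ : Perm ι) : (alt κ).coeff (κ ∘ σ) = Perm.sign σ := by
  rw [coeff_alt]
  refine (sum_eq_single σ (fun τ _ h => if_neg fun e => h (Equiv.ext fun i =>
    hκ (congrFun e i))) (by simp)).trans (if_pos rfl)

theorem exists_of_coeff_alt (h : (alt κ).coeff γ ≠ 0) : ∃ σ : Perm ι, γ = κ ∘ σ := by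
  obtain ⟨σ, -, e⟩ := exists_ne_zero_of_sum_ne_zero (coeff_alt κ γ ▸ h)
  exact ⟨σ, (ite_ne_right_iff.1 e).1.symm⟩

/-- antisymmetric functions -/
def AS {R : Type*} [Ring R] (v : (ι → ℤ) → R) : Prop :=
  ∀ (σ : Perm ι) γ, v (γ ∘ σ) = (Perm.sign σ : ℤ) * v γ

theorem AS.inj {R : Type*} [Ring R] [CharZero R] [NoZeroDivisors R] {v : (ι → ℤ) → R} (h : AS v)
    (h0 : v γ ≠ 0) : Injective γ := fun i j e => by
  by_contra hij
  have := h (swap i j) γ
  rw [show γ ∘ swap i j = γ from funext fun k => by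
    simp only [comp, swap_apply_def]; split_ifs <;> simp_all, Perm.sign_swap hij] at this
  exact h0 (by simpa [eq_neg_iff_add_eq_zero, ← two_mul] using this)

theorem add_single_comp (γ : ι → ℤ) (σ : Perm ι) (i : ι) (k : ℤ) :
    γ ∘ σ + Pi.single i k = (γ + Pi.single (σ i) k : ι → ℤ) ∘ σ := funext fun j => by
  simp [Pi.single_apply]

theorem AS.shift {R : Type*} [Ring R] {v : (ι → ℤ) → R} (h : AS v) (k : ℤ) :
    AS fun γ => ∑ i, v (γ + Pi.single i k) := fun σ γ => by
  simp only [add_single_comp, h σ, ← mul_sum]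
  exact congrArg _ (Equiv.sum_comp σ fun i => v (γ + Pi.single i k))

theorem as_alt (κ : ι → ℤ) : AS (alt κ).coeff := fun σ γ => by
  rw [coeff_alt, coeff_alt, mul_sum, ← Equiv.sum_comp (Equiv.mulRight σ)]
  refine sum_congr rfl fun τ _ => ?_
  simp only [coe_mulRight, Perm.coe_mul, ← comp_assoc, σ.surjective.right_cancellable]
  split_ifs <;> simp [mul_comm]

theorem as_pm (μ : Multiset ℕ) {F : L ι} (h : AS F.coeff) : AS (pm μ * F).coeff := by
  induction μ using Multiset.induction_on with
  | empty => simpa using h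
  | cons k μ ih =>
    have := ih.shift (-k)
    intro σ γ
    simpa [pm_cons, mul_assoc, coeff_ps_mul, sub_eq_add_neg, Pi.single_neg] using this σ γ

/-- support on nonnegative vectors of given sum -/
def Hm (F : L ι) (s : ℤ) : Prop := ∀ γ, F.coeff γ ≠ 0 → (∀ i, 0 ≤ γ i) ∧ ∑ i, γ i = s

theorem hm_alt (h : ∀ i, 0 ≤ κ i) : Hm (alt κ) (∑ i, κ i) := fun γ h0 => by
  obtain ⟨σ, rfl⟩ := exists_of_coeff_alt h0
  exact ⟨fun _ => h _, Equiv.sum_comp σ _⟩

theorem Hm.pm {F : L ι} {s : ℤ} (h : Hm F s) (μ : Multiset ℕ) : Hm (pm μ * F) (s + μ.sum) := by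
  induction μ using Multiset.induction_on with
  | empty => simpa using h
  | cons k μ ih =>
    intro γ h0
    rw [pm_cons, mul_assoc, coeff_ps_mul] at h0
    obtain ⟨i, -, h1⟩ := exists_ne_zero_of_sum_ne_zero h0
    obtain ⟨h2, h3⟩ := ih _ h1
    refine ⟨fun j => (h2 j).trans (by simp [Pi.single_apply]; positivity), ?_⟩
    simp only [Pi.sub_apply, sum_sub_distrib, sum_pi_single', mem_univ, if_true] at h3
    simp only [Multiset.sum_cons, Nat.cast_add]
    linarith

variable (ι) in
/-- the state attached to a cycle type -/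
noncomputable def St (μ : Multiset ℕ) : L ι := pm μ * alt (dl ι)

theorem St_cons (k : ℕ) (μ : Multiset ℕ) : St ι (k ::ₘ μ) = ps k * St ι μ := by
  rw [St, pm_cons, mul_assoc, St]

theorem St_add (μ ν : Multiset ℕ) : St ι (μ + ν) = pm μ * St ι ν := by
  rw [St, pm_add, mul_assoc, St]

theorem as_St (μ : Multiset ℕ) : AS (St ι μ).coeff := as_pm μ (as_alt _)

theorem hm_St (μ : Multiset ℕ) : Hm (St ι μ) (∑ i, dl ι i + μ.sum) := (hm_alt good_dl.nn).pm μ

theorem good_of_St {μ : Multiset ℕ} (h : (St ι μ).coeff γ ≠ 0) : Good γ :=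
  ⟨(as_St μ).inj h, (hm_St μ γ h).1⟩

/-- Heisenberg relation -/
theorem heis {k : ℕ} (hk : 0 < k) (μ : Multiset ℕ) (hμ : μ.sum ≤ Fintype.card ι)
    (hγ : ∀ i, 0 ≤ γ i) : ∑ i, (St ι μ).coeff (γ + Pi.single i k) =
      k * μ.count k * (St ι (μ.erase k)).coeff γ := by
  induction μ using Multiset.induction_on generalizing γ with
  | empty =>
    rw [Multiset.count_zero, Nat.cast_zero, mul_zero, zero_mul]
    by_contra h
    have h1 := sum_dl_le ⟨((as_St 0).shift k).inj h, hγ⟩
    obtain ⟨i, -, h2⟩ := exists_ne_zero_of_sum_ne_zero h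
    have h3 := (hm_St 0 _ h2).2
    simp only [Pi.add_apply, sum_add_distrib, sum_pi_single', mem_univ, if_true] at h3
    simp at h3
    omega
  | cons l μ ih =>
    by_cases hinj : Injective γ
    swap
    · rw [of_not_not (mt ((as_St _).shift k).inj hinj), of_not_not (mt (as_St _).inj hinj), mul_zero]
    rw [Multiset.sum_cons] at hμ
    have key : ∀ j, ∑ i, (St ι μ).coeff (γ + Pi.single i k - Pi.single j l) =
        k * μ.count k * (St ι (μ.erase k)).coeff (γ - Pi.single j l) +
          if γ j < l ∧ k = l then (St ι μ).coeff γ else 0 := fun j => by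
      by_cases hj : γ j < l
      swap
      · rw [if_neg fun e => hj e.1, add_zero, ← ih (by omega) fun i => by
          have := hγ i
          simp only [Pi.sub_apply, Pi.single_apply]
          split_ifs with e
          · subst e; omega
          · omega]
        simp only [add_sub_right_comm]
      have z1 : (St ι (μ.erase k)).coeff (γ - Pi.single j l) = 0 := by
        by_contra e; have := (hm_St _ _ e).1 j; simp at this; omega
      have z2 : ∀ i ∈ univ, i ≠ j → (St ι μ).coeff (γ + Pi.single i k - Pi.single j l) = 0 :=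
        fun i _ hi => by
          by_contra e; have := (hm_St _ _ e).1 j; simp [hi.symm] at this; omega
      rw [z1, mul_zero, zero_add, sum_eq_single j z2 (by simp)]
      split_ifs with e
      · simp [e.2]
      by_contra h0
      obtain ⟨i, hi⟩ := exists_eq_of_lt (good_of_St h0) (hm_St _ _ h0).2 (a := (γ j).toNat)
        (by have := hγ j; omega)
      have := hγ j
      by_cases e' : i = j
      · subst e'; simp at hi; omega
      · exact e' (hinj (by simp [e'] at hi; omega))
    simp only [St_cons, coeff_ps_mul]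
    rw [sum_comm, sum_congr rfl fun j _ => key j, sum_add_distrib, ← mul_sum, ← coeff_ps_mul,
      ← St_cons]
    by_cases e : k = l
    · subst e
      have h1 : ∑ j, (if γ j < k ∧ k = k then (St ι μ).coeff γ else 0) = k * (St ι μ).coeff γ := by
        by_cases h0 : (St ι μ).coeff γ = 0
        · simp [h0]
        rw [← sum_filter, sum_const, nsmul_eq_mul, card_bij (t := range k)
          (fun j _ => (γ j).toNat) (fun j hj => by
            have := hγ j; simp only [mem_filter, mem_range] at hj ⊢; omega)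
          (fun a _ b _ e => hinj (by have := hγ a; have := hγ b; omega)) (fun a ha => by
            obtain ⟨j, hj⟩ := exists_eq_of_lt ⟨hinj, hγ⟩ (hm_St _ _ h0).2 (a := a)
              (by have := mem_range.1 ha; omega)
            exact ⟨j, by simpa [hj] using ha, by simp [hj]⟩), card_range]
      rw [h1, Multiset.erase_cons_head, Multiset.count_cons_self]
      by_cases h2 : k ∈ μ
      · rw [Multiset.cons_erase h2]; push_cast; ring
      · simp [Multiset.count_eq_zero.2 h2]
    · simp [e, Ne.symm e, Multiset.erase_cons_tail]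

end H7.Sn
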