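import Cfsg.Agent.H7.Sym1

/-! Column orthogonality, locality, positivity and determinant formulas for `St`. -/

set_option autoImplicit false
open Finset Equiv Function
open scoped Nat

namespace H7.Sn

variable {ι : Type*} [Fintype ι] [DecidableEq ι] {p : ℕ} {β γ κ : ι → ℤ}

section Pair

variable {R : Type*} [CommRing R]

/-- the pairing of a Laurent polynomial with a function -/
noncomputable def ip (F : L ι) (v : (ι → ℤ) → R) : R := F.coeff.sum fun γ c => c * v γ

omit [Fintype ι] [DecidableEq ι] in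
theorem ip_single (γ : ι → ℤ) (c : ℤ) (v : (ι → ℤ) → R) : ip (.single γ c) v = c * v γ := by
  simp [ip]

omit [Fintype ι] [DecidableEq ι] in
theorem ip_add (F F' : L ι) (v : (ι → ℤ) → R) : ip (F + F') v = ip F v + ip F' v := by
  simp only [ip, AddMonoidAlgebra.coeff_add]
  exact Finsupp.sum_add_index' (by simp) (by simp [add_mul])

omit [Fintype ι] [DecidableEq ι] in
theorem ip_sum {τ : Type*} (s : Finset τ) (F : τ → L ι) (v : (ι → ℤ) → R) :
    ip (∑ i ∈ s, F i) v = ∑ i ∈ s, ip (F i) v := by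
  classical
  induction s using Finset.induction_on with
  | empty => simp [ip]
  | insert a s h ih => rw [sum_insert h, sum_insert h, ip_add, ih]

omit [Fintype ι] [DecidableEq ι] in
theorem ip_eq_sum {F : L ι} {Γ : Finset (ι → ℤ)} (h : F.coeff.support ⊆ Γ) (v : (ι → ℤ) → R) :
    ip F v = ∑ γ ∈ Γ, F.coeff γ * v γ := Finsupp.sum_of_support_subset _ h _ (by simp)

omit [Fintype ι] [DecidableEq ι] in
theorem ip_congr {F : L ι} {v v' : (ι → ℤ) → R} {c : R} (h : ∀ γ, F.coeff γ ≠ 0 → v γ = c * v' γ) :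
    ip F v = c * ip F v' := by
  rw [ip, ip, Finsupp.sum, Finsupp.sum, mul_sum]
  exact sum_congr rfl fun γ hγ => by rw [h γ (Finsupp.mem_support_iff.1 hγ), mul_left_comm]

theorem ip_ps_mul (k : ℕ) (F : L ι) (v : (ι → ℤ) → R) :
    ip (ps k * F) v = ip F fun γ => ∑ i, v (γ + Pi.single i k) := by
  induction F using AddMonoidAlgebra.induction_linear with
  | zero => simp [ip]
  | add F F' h h' => rw [mul_add, ip_add, ip_add, h, h']
  | single γ c =>
    simp [ps, sum_mul, ip_sum, ip_single, AddMonoidAlgebra.single_mul_single, mul_sum, add_comm]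

theorem ip_alt (κ : ι → ℤ) {v : (ι → ℤ) → R} (h : AS v) : ip (alt κ) v = (Fintype.card ι)! * v κ := by
  rw [alt, ip_sum, sum_congr rfl fun σ _ => show _ = v κ by
    rw [ip_single, h σ, ← mul_assoc, ← Int.cast_mul, ← Units.val_mul, Int.units_mul_self]; simp]
  simp [Fintype.card_perm]

end Pair

/-- centralizer order attached to a cycle type -/
def zz (μ : Multiset ℕ) : ℕ := μ.prod * ∏ k ∈ μ.toFinset, (μ.count k)!

theorem zz_cons (k : ℕ) (μ : Multiset ℕ) : zz (k ::ₘ μ) = k * (μ.count k + 1) * zz μ := by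
  have h : ∀ ν : Multiset ℕ, ν.toFinset ⊆ insert k μ.toFinset → ∏ l ∈ ν.toFinset, (ν.count l)! =
      (ν.count k)! * ∏ l ∈ μ.toFinset.erase k, (ν.count l)! := fun ν h => by
    rw [← prod_insert (f := fun l => (ν.count l)!) (notMem_erase k _)]
    refine prod_subset (fun l hl => by simpa [or_iff_not_imp_left, imp_and] using h hl) fun l _ hl => ?_
    simp [Multiset.count_eq_zero.2 (mt Multiset.mem_toFinset.2 hl)]
  rw [zz, zz, h _ (by simp), h μ (subset_insert _ _), Multiset.count_cons_self, Nat.factorial_succ,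
    Multiset.prod_cons, prod_congr rfl fun l hl => by
      rw [Multiset.count_cons_of_ne (ne_of_mem_erase hl)]]
  ring

theorem coeff_alt_self (hκ : Injective κ) : (alt κ).coeff κ = 1 := by
  simpa using coeff_alt_comp hκ 1

theorem St_zero : St ι 0 = alt (dl ι) := by simp [St]

theorem sum_erase_le (k : ℕ) (ν : Multiset ℕ) : (ν.erase k).sum ≤ ν.sum := by
  obtain ⟨t, e⟩ := Multiset.le_iff_exists_add.1 (Multiset.erase_le k ν)
  rw [congrArg Multiset.sum e, Multiset.sum_add]; omega

/-- column orthogonality -/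
theorem ip_St {μ ν : Multiset ℕ} (hμ : 0 ∉ μ) (hν : 0 ∉ ν) (h : ν.sum ≤ Fintype.card ι) :
    ip (St ι μ) (St ι ν).coeff = if μ = ν then ((Fintype.card ι)! * zz μ : ℕ) else 0 := by
  induction μ using Multiset.induction_on generalizing ν with
  | empty =>
    rw [St_zero, ip_alt _ (as_St ν)]
    split_ifs with e
    · simp [← e, St_zero, coeff_alt_self good_dl.inj, zz]
    refine mul_eq_zero_of_right _ (by_contra fun h0 => ?_)
    obtain ⟨k, hk⟩ := Multiset.exists_mem_of_ne_zero (Ne.symm e)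
    have h1 := (hm_St ν _ h0).2
    have h2 := Multiset.le_sum_of_mem hk
    have h3 : k ≠ 0 := fun e => hν (e ▸ hk)
    omega
  | cons k μ ih =>
    have hk : 0 < k := Nat.pos_of_ne_zero fun e => hμ (by simp [e])
    rw [St_cons, ip_ps_mul, ip_congr fun γ hγ => heis hk ν h (hm_St _ _ hγ).1,
      ih (fun e => hμ (by simp [e])) (fun e => hν (Multiset.mem_of_mem_erase e))
        ((sum_erase_le k ν).trans h)]
    by_cases e : k ::ₘ μ = ν
    · subst e; simp [zz_cons]; ring
    rw [if_neg e]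
    by_cases e' : k ∈ ν
    · rw [if_neg fun h : μ = _ => e (h ▸ Multiset.cons_erase e')]; simp
    · simp [Multiset.count_eq_zero.2 e']

theorem sub_single_mod {k : ℕ} (hk : p ∣ k) (γ : ι → ℤ) (j i : ι) :
    (γ - Pi.single j k : ι → ℤ) i % p = γ i % p := by
  obtain ⟨c, rfl⟩ := hk
  simp only [Pi.sub_apply, Pi.single_apply]
  split_ifs <;> simp

theorem add_single_mod {k : ℕ} (hk : p ∣ k) (γ : ι → ℤ) (j i : ι) :
    (γ + Pi.single j k : ι → ℤ) i % p = γ i % p := by
  rw [← sub_single_mod hk _ j, add_sub_cancel_right]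

/-- locality -/
theorem loc {ρ : Multiset ℕ} (hρ : ∀ k ∈ ρ, p ∣ k) {F F' : L ι} {c : ℤ}
    (h : ∀ γ, (∀ i, γ i % p = κ i % p) → F.coeff γ = c * F'.coeff γ) (hβ : ∀ i, β i % p = κ i % p) :
    (pm ρ * F).coeff β = c * (pm ρ * F').coeff β := by
  induction ρ using Multiset.induction_on generalizing β with
  | empty => simpa using h β hβ
  | cons k ρ ih =>
    simp only [pm_cons, mul_assoc, coeff_ps_mul, mul_sum]
    exact sum_congr rfl fun j _ => ih (fun l hl => hρ l (by simp [hl])) fun i => by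
      rw [sub_single_mod (hρ k (by simp)), hβ]

theorem KF (hp : 0 < p) {ρ : Multiset ℕ} (hρ : ∀ k ∈ ρ, p ∣ k) {F : L ι} {s : ℤ} (h1 : AS F.coeff)
    (h2 : Hm F s) (hκ : Injective κ) (hc : core p κ = κ) (hs : s ≤ ∑ i, κ i)
    (hβ : ∀ i, β i % p = κ i % p) : (pm ρ * F).coeff β = F.coeff κ * (pm ρ * alt κ).coeff β := by
  refine loc hρ (fun γ hγ => ?_) hβ
  by_cases h : ∃ σ : Perm ι, γ = κ ∘ σ
  · obtain ⟨σ, rfl⟩ := h
    simp [h1 σ, coeff_alt_comp hκ, mul_comm]
  rw [of_not_not (mt exists_of_coeff_alt h), mul_zero]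
  by_contra h0
  have hg : Good γ := ⟨h1.inj h0, (h2 γ h0).1⟩
  have := sum_core_le hp hκ hg hγ
  exact h (hc ▸ exists_perm_of_sum hp hκ hg hγ (by rw [hc] at this ⊢; linarith [(h2 γ h0).2]))

theorem mod_gap {a b : ℤ} (h : a % p = b % p) (h' : a < b) : a + p ≤ b := by
  linarith [Int.le_of_dvd (sub_pos.2 h') (Int.ModEq.dvd h)]

theorem core_sub (hp : 0 < p) (hβ : Injective β) {j : ι}
    (h : Injective (β - Pi.single j (p : ℤ) : ι → ℤ)) :
    core p (β - Pi.single j (p : ℤ)) = core p β := funext fun i => by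
  rw [core, core, sub_single_mod dvd_rfl]
  congr 3
  refine congrArg card (filter_congr fun k _ => ?_)
  rw [sub_single_mod dvd_rfl, sub_single_mod dvd_rfl]
  refine and_congr_left fun e => ?_
  have h1 := mod_gap e
  have h2 := mod_gap e.symm
  have h3 := @hβ k i
  have h4 := @h k i
  simp only [Pi.sub_apply, Pi.single_apply] at h4 ⊢
  split_ifs at h4 ⊢ <;> grind

theorem exists_good_sub (hp : 0 < p) (hβ : Good β) (h : core p β ≠ β) :
    ∃ j, Good (β - Pi.single j (p : ℤ)) := by
  obtain ⟨i, hi, hm⟩ := exists_min_image {i | core p β i ≠ β i} β (by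
    simpa [Finset.Nonempty, funext_iff] using h)
  simp only [mem_filter, mem_univ, true_and] at hi hm
  have h1 := mod_gap (core_mod β i) ((core_le hp hβ i).lt_of_ne hi)
  have h2 : ∀ j, β j ≠ β i - p := fun j e => by
    have h3 : core p β j = β j := by by_contra h; have := hm j h; omega
    have h4 : β j % p = β i % p := by simp [e]
    have h6 : (p : ℤ) * (rk p β j + 1) ≤ p * rk p β i := by
      gcongr; exact_mod_cast rk_lt_rk h4 (by omega)
    rw [core, h4] at h3
    rw [core] at h1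
    linarith [show (0 : ℤ) < p by exact_mod_cast hp]
  refine ⟨i, fun a b e => ?_, fun a => ?_⟩
  · have := h2 a; have := h2 b; have := @hβ.inj a b
    simp only [Pi.sub_apply, Pi.single_apply] at e
    split_ifs at e <;> grind
  · have := hβ.nn a; have := (good_core hp hβ.inj).nn i
    simp only [Pi.sub_apply, Pi.single_apply]
    split_ifs <;> grind

theorem sum_sub_single (β : ι → ℤ) (j : ι) (k : ℤ) :
    ∑ i, (β - Pi.single j k : ι → ℤ) i = ∑ i, β i - k := by simp [sum_sub_distrib]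

/-- positivity of the generalized degree -/
theorem pos (hp : 0 < p) (w : ℕ) (hβ : Good β) (hs : ∑ i, β i = ∑ i, core p β i + p * w) :
    0 < (pm (.replicate w p) * alt (core p β)).coeff β := by
  induction w generalizing β with
  | zero =>
    have : core p β = β := funext fun i => (sum_eq_sum_iff_of_le fun i _ => core_le hp hβ i).1
      (by simpa using hs.symm) i (mem_univ i)
    simp [this, coeff_alt_self hβ.inj]
  | succ w ih =>
    have key : ∀ j, Good (β - Pi.single j (p : ℤ)) →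
        0 < (pm (.replicate w p) * alt (core p β)).coeff (β - Pi.single j (p : ℤ)) := fun j hj => by
      have := core_sub hp hβ.inj hj.inj
      exact this ▸ ih hj (by rw [sum_sub_single, this, hs]; push_cast; ring)
    obtain ⟨j, hj⟩ := exists_good_sub hp hβ fun e => by
      rw [e] at hs; have : 0 < p * (w + 1) := by positivity
      omega
    rw [Multiset.replicate_succ, pm_cons, mul_assoc, coeff_ps_mul]
    refine sum_pos' (fun i _ => ?_) ⟨j, mem_univ _, key j hj⟩
    by_contra h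
    have h0 := (not_le.1 h).ne
    exact h (key i ⟨(as_pm _ (as_alt _)).inj h0,
      ((hm_alt (good_core hp hβ.inj).nn).pm _ _ h0).1⟩).le

/-- reciprocal factorials -/
noncomputable def gg (p : ℕ) (d : ℤ) : ℚ := if (p : ℤ) ∣ d ∧ 0 ≤ d then ((d / p).toNat ! : ℚ)⁻¹ else 0

theorem gg_mul (hp : 0 < p) (a : ℤ) : gg p (p * a) = gg 1 a := by
  simp [gg, hp.ne', mul_nonneg_iff_of_pos_left (show (0 : ℤ) < p by exact_mod_cast hp)]

theorem gg_nat (a : ℕ) : gg 1 a = (a ! : ℚ)⁻¹ := by simp [gg]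

theorem gg_nonneg (p : ℕ) (d : ℤ) : 0 ≤ gg p d := by unfold gg; split_ifs <;> positivity

theorem gg_sub (hp : 0 < p) (d : ℤ) : p * gg p (d - p) = d * gg p d := by
  by_cases h : (p : ℤ) ∣ d
  swap
  · simp [gg, h, dvd_sub_left]
  obtain ⟨a, rfl⟩ := h
  rw [← mul_sub_one, gg_mul hp, gg_mul hp]
  rcases lt_trichotomy a 0 with h | rfl | h
  · simp [gg, h.not_ge, show ¬ 1 ≤ a by omega]
  · simp [gg]
  · obtain ⟨b, rfl⟩ : ∃ b : ℕ, a = (b + 1 : ℕ) := ⟨(a - 1).toNat, by omega⟩
    rw [gg_nat, Nat.cast_succ, add_sub_cancel_right, gg_nat, Nat.factorial_succ]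
    push_cast; field_simp

theorem coeff_pm_rep (hp : 0 < p) (w : ℕ) {d : ι → ℤ} (hd : ∑ i, d i = p * w) :
    ((pm (.replicate w p) : L ι).coeff d : ℚ) = w ! * ∏ i, gg p (d i) := by
  induction w generalizing d with
  | zero =>
    by_cases h : d = 0
    · simp [h, gg, AddMonoidAlgebra.one_def]
    have : ∃ i, d i < 0 := by
      by_contra! h'
      exact h (funext fun i => (sum_eq_zero_iff_of_nonneg fun i _ => h' i).1 (by simpa using hd) i
        (mem_univ i))
    obtain ⟨i, hi⟩ := this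
    rw [prod_eq_zero (mem_univ i) (by simp [gg, hi.not_ge])]
    simp [AddMonoidAlgebra.one_def, Finsupp.single_apply, Ne.symm h]
  | succ w ih =>
    rw [Multiset.replicate_succ, pm_cons, coeff_ps_mul, Int.cast_sum]
    refine mul_left_cancel₀ (show (p : ℚ) ≠ 0 by positivity) ?_
    rw [mul_sum, sum_congr rfl fun j _ => show _ = d j * (w ! * ∏ i, gg p (d i)) by
      rw [ih (by rw [sum_sub_single, hd]; push_cast; ring), ← mul_prod_erase _ _ (mem_univ j),
        ← mul_prod_erase _ _ (mem_univ j), prod_congr rfl fun i hi => by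
          rw [Pi.sub_apply, Pi.single_eq_of_ne (ne_of_mem_erase hi), sub_zero]]
      simp only [Pi.sub_apply, Pi.single_eq_same]
      linear_combination w ! * (∏ i ∈ univ.erase j, gg p (d i)) * gg_sub hp (d j),
      ← sum_mul, ← Int.cast_sum, hd, Nat.factorial_succ]
    push_cast; ring

theorem coeff_mul_alt (F : L ι) (κ β : ι → ℤ) :
    (F * alt κ).coeff β = ∑ σ : Perm ι, Perm.sign σ * F.coeff (β - κ ∘ σ) := by
  simp [alt, mul_sum, mul_comm, sub_eq_add_neg]

theorem coeff_det (hp : 0 < p) (w : ℕ) (hs : ∑ i, β i = ∑ i, κ i + p * w) :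
    ((pm (.replicate w p) * alt κ).coeff β : ℚ) = w ! * (Matrix.of fun i j => gg p (β j - κ i)).det := by
  rw [coeff_mul_alt, Matrix.det_apply', mul_sum, Int.cast_sum]
  refine sum_congr rfl fun σ _ => ?_
  rw [Int.cast_mul, coeff_pm_rep hp w (by
    simp only [Pi.sub_apply, comp, sum_sub_distrib, Equiv.sum_comp σ κ]; linarith), mul_left_comm]
  rfl

theorem exists_core_one (hγ : Injective γ) : ∃ σ : Perm ι, core 1 γ = dl ι ∘ σ :=
  exists_perm_core one_pos inj_equivFin hγ (by simp)

theorem St_eq (hγ : Injective γ) : ∃ ε : ℤˣ, ∀ ρ,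
    (St ι ρ).coeff γ = ε * (pm ρ * alt (core 1 γ)).coeff γ := by
  obtain ⟨σ, e⟩ := exists_core_one hγ
  refine ⟨Perm.sign σ, fun ρ => ?_⟩
  rw [St, KF one_pos (by simp) (as_alt _) (hm_alt good_dl.nn) (good_core one_pos hγ).inj
    (core_core one_pos hγ) (sum_dl_le (good_core one_pos hγ)) (by simp), e,
    coeff_alt_comp good_dl.inj]

theorem St_one_ne_zero {n : ℕ} (hγ : Good γ) (hs : ∑ i, γ i = ∑ i, dl ι i + n) :
    (St ι (.replicate n 1)).coeff γ ≠ 0 := by
  obtain ⟨ε, e⟩ := St_eq hγ.inj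
  rw [e]
  exact mul_ne_zero ε.ne_zero (pos one_pos n hγ (by
    rw [hs, sum_core_eq one_pos good_dl.inj hγ.inj (by simp), core_dl]; simp)).ne'

section Runner

variable (hp : 0 < p) {Q : ι → Prop} [DecidablePred Q] {r : ℤ} (hQ : ∀ i, Q i ↔ β i % p = r)
include hp hQ

omit [DecidableEq ι] in
theorem core_runner (i : Subtype Q) : core 1 (fun i : Subtype Q => β i / p) i = core p β i / p := by
  have hp' : (0 : ℤ) < p := by exact_mod_cast hp
  have h : ∀ j : Subtype Q, β j % p = r := fun j => (hQ j).1 j.2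
  rw [core, core, Int.mul_add_ediv_left _ _ hp'.ne', Int.ediv_eq_zero_of_lt (Int.emod_nonneg _ hp'.ne')
    (Int.emod_lt_of_pos _ hp'), Nat.cast_one, Int.emod_one, one_mul, rk, rk]
  congr 2
  refine card_bij (fun j _ => j.1) (fun j hj => ?_) (fun _ _ _ _ => Subtype.ext) fun j hj => ?_
  · simp only [mem_filter, mem_univ, true_and] at hj ⊢
    refine ⟨?_, (h j).trans (h i).symm⟩
    nlinarith [Int.mul_ediv_add_emod (β j) p, Int.mul_ediv_add_emod (β i) p, h i, h j, hj.1]
  · simp only [mem_filter, mem_univ, true_and] at hj ⊢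
    refine ⟨⟨j, (hQ j).2 (hj.2.trans (h i))⟩, ⟨lt_of_mul_lt_mul_left ?_ hp'.le, by simp⟩, rfl⟩
    linarith [Int.mul_ediv_add_emod (β j) p, Int.mul_ediv_add_emod (β i) p]

omit [Fintype ι] [DecidableEq ι] in
theorem good_runner (hβ : Good β) : Good fun i : Subtype Q => β i / p :=
  ⟨fun i j e => Subtype.ext (hβ.inj (by
    rw [← Int.mul_ediv_add_emod (β i) p, show β i / p = β j / p from e, (hQ i).1 i.2, ← (hQ j).1 j.2,
      Int.mul_ediv_add_emod])), fun _ => Int.ediv_nonneg (hβ.nn _) (by positivity)⟩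

omit [DecidableEq ι] in
theorem sum_core_runner (hβ : Good β) :
    ∑ i : Subtype Q, core p β i / p = ∑ i, dl (Subtype Q) i := by
  rw [← core_dl, ← sum_core_eq one_pos good_dl.inj (good_runner hp hQ hβ).inj (by simp)]
  simp only [core_runner hp hQ]

omit hQ [DecidableEq ι] in
theorem sub_core (i j : ι) (e : core p β i % p = β j % p) :
    β j - core p β i = p * (β j / p - core p β i / p) := by
  linarith [Int.mul_ediv_add_emod (β j) p, Int.mul_ediv_add_emod (core p β i) p]

omit [DecidableEq ι] in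
theorem runner_le {w : ℕ} (hβ : Good β) (hs : ∑ i, β i = ∑ i, core p β i + p * w) :
    ∑ i : Subtype Q, β i / p ≤ ∑ i, dl (Subtype Q) i + w := by
  have hp' : (0 : ℤ) < p := by exact_mod_cast hp
  rw [← sub_eq_iff_eq_add', ← sum_sub_distrib, sum_congr rfl fun i _ => sub_core hp i i (core_mod β i),
    ← mul_sum, mul_right_inj' hp'.ne'] at hs
  rw [← sub_le_iff_le_add', ← hs, ← sum_core_runner hp hQ hβ, ← sum_sub_distrib,
    ← sum_subtype {i | Q i} (by simp) fun i => β i / p - core p β i / p]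
  exact sum_le_univ_sum_of_nonneg fun i => sub_nonneg.2 (Int.ediv_le_ediv hp' (core_le hp hβ i))

end Runner

theorem phi_dvd (hp : 0 < p) {w : ℕ} (hβ : Good β) (hs : ∑ i, β i = ∑ i, core p β i + p * w)
    (H : ∀ r, ∀ j ≤ w, ∀ δ : {i // core p β i % p = r} → ℤ, Good δ →
      ∑ i, δ i = ∑ i, dl {i // core p β i % p = r} i + j → (St _ (.replicate j 1)).coeff δ ∣ (j ! : ℕ)) :
    (pm (.replicate w p) * alt (core p β)).coeff β ∣ ((w ! : ℕ) : ℤ) := by
  have hM : (Matrix.of fun i j => gg p (β j - core p β i)).BlockTriangular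
      fun i => core p β i % p := fun i j e => if_neg fun h => e.ne
    ((core_mod β j).trans (Int.ModEq.symm ((Int.modEq_iff_dvd).2 h.1)))
  have key : ∀ r, ∃ c : ℤ, ((Matrix.of fun i j => gg p (β j - core p β i)).toSquareBlock
      (fun i => core p β i % p) r).det * c = 1 := fun r => by
    have hQ : ∀ i, core p β i % p = r ↔ β i % p = r := fun i => by rw [core_mod]
    have hδ := good_runner hp hQ hβ
    have h4 := runner_le hp hQ hβ hs
    have h3 := sum_core_runner hp hQ hβ
    simp only [← core_runner hp hQ] at h3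
    set δ := fun i : {i // core p β i % p = r} => β i / p
    obtain ⟨j, hj⟩ := Int.eq_ofNat_of_zero_le (sub_nonneg.2 (sum_dl_le hδ))
    obtain ⟨c, hc⟩ := H r j (by zify; linarith) δ hδ (by linarith)
    obtain ⟨ε, e⟩ := St_eq hδ.inj
    have h5 := coeff_det (β := δ) (κ := core 1 δ) one_pos j (by rw [h3]; push_cast; linarith)
    refine ⟨ε * c, mul_left_cancel₀ (show (j ! : ℚ) ≠ 0 by positivity) ?_⟩
    rw [← mul_assoc, show Matrix.toSquareBlock _ _ r = .of fun i j => gg 1 (δ j - core 1 δ i) from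
      Matrix.ext fun i j => by
        simp only [Matrix.toSquareBlock_def, Matrix.of_apply]
        rw [sub_core hp _ _ (i.2.trans ((hQ j).1 j.2).symm), gg_mul hp, core_runner hp hQ],
      ← h5, mul_one, ← Int.cast_natCast (j !), hc, e]
    push_cast; ring
  choose c hc using key
  refine ⟨∏ r ∈ univ.image fun i => core p β i % p, c r, Int.cast_injective (α := ℚ) ?_⟩
  rw [Int.cast_mul, coeff_det hp w hs, hM.det, mul_assoc, Int.cast_prod, ← prod_mul_distrib,
    prod_eq_one fun r _ => hc r]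
  simp

theorem pm_supp {ρ : Multiset ℕ} (hρ : ∀ k ∈ ρ, p ∣ k) {d : ι → ℤ} (h : (pm ρ : L ι).coeff d ≠ 0)
    (i : ι) : 0 ≤ d i ∧ d i % p = 0 := by
  induction ρ using Multiset.induction_on generalizing d with
  | empty =>
    obtain rfl : 0 = d := by simpa [AddMonoidAlgebra.one_def, Finsupp.single_apply] using h
    simp
  | cons k ρ ih =>
    rw [pm_cons, coeff_ps_mul] at h
    obtain ⟨j, -, h1⟩ := exists_ne_zero_of_sum_ne_zero h
    have := ih (fun l hl => hρ l (by simp [hl])) h1
    rw [sub_single_mod (hρ k (by simp))] at this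
    exact ⟨this.1.trans (by simp [Pi.single_apply]; positivity), this.2⟩

theorem pm_nonneg (ρ : Multiset ℕ) (d : ι → ℤ) : 0 ≤ (pm ρ : L ι).coeff d := by
  induction ρ using Multiset.induction_on generalizing d with
  | empty => simp only [pm_zero, AddMonoidAlgebra.one_def, AddMonoidAlgebra.coeff_single,
      Finsupp.single_apply]; positivity
  | cons k ρ ih => rw [pm_cons, coeff_ps_mul]; exact sum_nonneg fun _ _ => ih _

theorem perm_eq_one (hκ : Injective κ) {σ : Perm ι} (h : ∀ i, κ (σ i) ≤ κ i) : σ = 1 :=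
  Equiv.ext fun i => hκ ((sum_eq_sum_iff_of_le fun i _ => h i).1 (Equiv.sum_comp σ κ) i (mem_univ i))

/-- top beads of the runners -/
def Top (p : ℕ) (κ : ι → ℤ) (i : ι) : Prop := ∀ j, κ j % p = κ i % p → κ j ≤ κ i

theorem supp_add {ρ : Multiset ℕ} (hρ : ∀ k ∈ ρ, p ∣ k) {a : ι → ℕ} {σ : Perm ι}
    (h : (pm ρ : L ι).coeff ((fun i => κ i + p * a i) - κ ∘ σ) ≠ 0) (i : ι) :
    κ (σ i) ≤ κ i + p * a i ∧ κ (σ i) % p = κ i % p := by
  have := pm_supp hρ h i
  simp only [Pi.sub_apply, comp, sub_nonneg, ← Int.emod_emod_of_dvd,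
    ← Int.emod_eq_emod_iff_emod_sub_eq_zero] at this
  exact ⟨this.1, by simpa using this.2.symm⟩

theorem coeff_top (hκ : Injective κ) {ρ : Multiset ℕ} (hρ : ∀ k ∈ ρ, p ∣ k) {a : ι → ℕ}
    (ha : ∀ i, a i ≠ 0 → Top p κ i) :
    (pm ρ * alt κ).coeff (fun i => κ i + p * a i) = (pm ρ : L ι).coeff fun i => p * a i := by
  rw [coeff_mul_alt, sum_eq_single 1 (fun σ _ h => mul_eq_zero_of_right _ (by_contra fun h0 =>
    h (perm_eq_one hκ fun i => by
      have := supp_add hρ h0 i
      by_cases e : a i = 0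
      · simpa [e] using this.1
      · exact ha i e _ this.2))) (by simp)]
  simp [funext_iff, Pi.sub_def]

theorem coeff_pm_nat (hp : 0 < p) {w : ℕ} {a : ι → ℕ} (h : ∑ i, a i = w) :
    (pm (.replicate w p) : L ι).coeff (fun i => p * a i) * ∏ i, ((a i)! : ℤ) = w ! := by
  refine Int.cast_injective (α := ℚ) ?_
  rw [Int.cast_mul, coeff_pm_rep hp w (by simp [← mul_sum, ← h]), mul_assoc, Int.cast_prod,
    ← prod_mul_distrib, prod_eq_one fun i _ => by rw [gg_mul hp, gg_nat]; simp [Nat.factorial_ne_zero]]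
  simp

theorem dvd_rep (w : ℕ) : ∀ k ∈ Multiset.replicate w p, p ∣ k := fun _ h =>
  Multiset.eq_of_mem_replicate h ▸ dvd_rfl

theorem coeff_hook' (hp : 0 < p) (hκ : Injective κ) {s t : ι} (hst : s ≠ t) (h1 : κ s + p = κ t)
    (ht : Top p κ t) (w : ℕ) {ρ : Multiset ℕ} (hρ : ∀ k ∈ ρ, p ∣ k) : (pm ρ * alt κ).coeff
      (fun i => κ i + p * (Pi.single t w + Pi.single s 1 : ι → ℕ) i) =
      (pm ρ : L ι).coeff (fun i => p * (Pi.single t w + Pi.single s 1 : ι → ℕ) i) -
        (pm ρ : L ι).coeff (fun i => p * (Pi.single t (w + 1) : ι → ℕ) i) := by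
  have hp' : (0 : ℤ) < p := by exact_mod_cast hp
  have h2 : κ s % p = κ t % p := by simp [← h1]
  have h3 : ∀ j, κ j % p = κ t % p → j ≠ t → κ j ≤ κ s := fun j e e' => by
    have := mod_gap e ((ht j e).lt_of_ne (hκ.ne e')); omega
  rw [coeff_mul_alt]
  refine (sum_eq_add_of_mem 1 (swap s t) (mem_univ _) (mem_univ _)
    (by simp [eq_comm (a := (1 : Perm ι)), hst]) fun σ _ h => mul_eq_zero_of_right _
      (by_contra fun h0 => ?_)).trans ?_
  swap
  · rw [show _ - κ ∘ (1 : Perm ι) = fun i => (p : ℤ) * (Pi.single t w + Pi.single s 1 : ι → ℕ) i by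
      simp [funext_iff], show _ - κ ∘ swap s t = fun i => (p : ℤ) * (Pi.single t (w + 1) : ι → ℕ) i from
      funext fun i => by
        simp only [Pi.sub_apply, comp, Pi.add_apply, Pi.single_apply, swap_apply_def]
        split_ifs <;> simp_all <;> linarith]
    simp [hst, sub_eq_add_neg]
  have h4 := supp_add hρ h0
  have h5 : ∀ i, i ≠ s → κ (σ i) ≤ κ i := fun i hi => by
    by_cases e : i = t
    · exact e ▸ ht _ (e ▸ (h4 i).2)
    · simpa [e, hi] using (h4 i).1
  by_cases e : σ s = t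
  · refine h.2 (mul_right_cancel (b := swap s t) ((perm_eq_one hκ fun i => ?_).trans
      (swap_mul_self s t).symm))
    simp only [Perm.coe_mul, comp, swap_apply_def]
    split_ifs with e1 e2
    · exact e1 ▸ h3 _ (h4 t).2 fun h => hst (σ.injective (e.trans h.symm))
    · rw [e, e2]
    · exact h5 i e1
  · refine h.1 (perm_eq_one hκ fun i => ?_)
    by_cases e1 : i = s
    · exact e1 ▸ h3 _ ((h4 s).2.trans h2) e
    · exact h5 i e1

theorem coeff_hook (hp : 0 < p) (hκ : Injective κ) {s t : ι} (hst : s ≠ t) (h1 : κ s + p = κ t)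
    (ht : Top p κ t) (w : ℕ) : (pm (.replicate (w + 1) p) * alt κ).coeff
      (fun i => κ i + p * (Pi.single t w + Pi.single s 1 : ι → ℕ) i) = (w : ℤ) := by
  have e1 := coeff_pm_nat (ι := ι) hp (a := Pi.single t w + Pi.single s 1) (w := w + 1)
    (by simp [sum_add_distrib])
  have e2 := coeff_pm_nat (ι := ι) hp (a := Pi.single t (w + 1)) (w := w + 1) (by simp)
  rw [prod_eq_single t (fun i _ hi => by by_cases e : i = s <;> simp [hi, e, hst]) (by simp)] at e1 e2
  rw [show (Pi.single t w + Pi.single s 1 : ι → ℕ) t = w by simp [hst.symm], Nat.factorial_succ,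
    Nat.cast_mul] at e1
  rw [Pi.single_eq_same, mul_eq_right₀ (by positivity)] at e2
  rw [coeff_hook' hp hκ hst h1 ht w (dvd_rep _), e2, mul_right_cancel₀ (by positivity) e1]
  simp

omit [DecidableEq ι] in
theorem core_add (hp : 0 < p) (hκ : Good κ) (hc : core p κ = κ) {a : ι → ℕ}
    (ha : ∀ i j, κ i % p = κ j % p → κ i < κ j → a i ≤ a j) :
    Good (fun i => κ i + p * a i) ∧ core p (fun i => κ i + p * a i) = κ := by
  have h : ∀ i j, κ i % p = κ j % p → κ i < κ j → κ i + p * a i < κ j + p * a j := fun i j e e' =>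
    add_lt_add_of_lt_of_le e' (by gcongr; exact ha i j e e')
  have h' : ∀ i j, κ i % p = κ j % p → (κ i + p * a i < κ j + p * a j ↔ κ i < κ j) := fun i j e =>
    ⟨fun h1 => by
      rcases lt_trichotomy (κ i) (κ j) with e' | e' | e'
      · exact e'
      · simp [hκ.inj e'] at h1
      · exact absurd h1 (h j i e.symm e').not_gt, h i j e⟩
  refine ⟨⟨fun i j e => ?_, fun i => add_nonneg (hκ.nn i) (by positivity)⟩, funext fun i => ?_⟩
  · have e' : κ i % p = κ j % p := by simpa using congrArg (· % (p : ℤ)) e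
    exact hκ.inj (le_antisymm (not_lt.1 (mt (h j i e'.symm) e.le.not_gt))
      (not_lt.1 (mt (h i j e') e.ge.not_gt)))
  · rw [← congrFun hc i, core, core, Int.add_mul_emod_self_left]
    congr 3
    refine congrArg card (filter_congr fun j _ => ?_)
    simp only [Int.add_mul_emod_self_left]
    exact and_congr_left (h' j i)

end H7.Sn
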