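import Cfsg.Agent.H7.Sym2
import Cfsg.Agent.H7.CharAlg
import Cfsg.Agent.H5.Integral

/-! The irreducible characters of the symmetric groups (Frobenius formula). -/

set_option autoImplicit false
open Finset Equiv Function Cfsg H5
open scoped Nat ComplexConjugate

namespace H7.Sn

variable {ι α : Type*} [Fintype ι] [DecidableEq ι] [Fintype α] [DecidableEq α] {p : ℕ}
  {β γ γ' κ : ι → ℤ} {g h : Perm α}

/-- full cycle type -/
def ct (g : Perm α) : Multiset ℕ := g.partition.parts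

theorem ct_eq (g : Perm α) : ct g = g.cycleType + .replicate (Fintype.card α - g.cycleType.sum) 1 := by
  rw [Perm.sum_cycleType]; rfl

theorem ct_sum (g : Perm α) : (ct g).sum = Fintype.card α := g.partition.parts_sum

theorem zero_notMem_ct (g : Perm α) : 0 ∉ ct g := fun h => (g.partition.parts_pos h).false

theorem ct_one : ct (1 : Perm α) = .replicate (Fintype.card α) 1 := by simp [ct_eq]

theorem isConj_iff_ct : IsConj g h ↔ ct g = ct h :=
  Perm.partition_eq_of_isConj.trans Nat.Partition.ext_iff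

theorem zz_add_rep {μ : Multiset ℕ} {k : ℕ} (h : k ∉ μ) (m : ℕ) :
    zz (μ + .replicate m k) = k ^ m * m ! * zz μ := by
  induction m with
  | zero => simp
  | succ m ih =>
    simp only [Multiset.replicate_succ, Multiset.add_cons, zz_cons, ih, Multiset.count_eq_zero.2 h,
      Nat.factorial_succ, Multiset.count_add, Multiset.count_replicate_self]
    ring

theorem card_cent (g : Perm α) : Nat.card (Subgroup.centralizer {g}) = zz (ct g) := by
  rw [Perm.nat_card_centralizer, ct_eq, zz_add_rep fun h => (Perm.one_lt_of_mem_cycleType h).false,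
    zz, mul_assoc, one_pow, one_mul]

theorem exists_ct {μ : Multiset ℕ} (h0 : 0 ∉ μ) (h : μ.sum = Fintype.card α) :
    ∃ g : Perm α, ct g = μ := by
  have h1 := Multiset.filter_add_not (2 ≤ ·) μ
  have h2 : μ.filter (¬ 2 ≤ ·) = .replicate (μ.filter (¬ 2 ≤ ·)).sum 1 := by
    have : ∀ b ∈ μ.filter (¬ 2 ≤ ·), b = 1 := fun b hb => by
      have := Multiset.mem_filter.1 hb
      have : b ≠ 0 := fun e => h0 (e ▸ this.1)
      omega
    rw [Multiset.eq_replicate_card.2 this]; simp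
  have h3 := congrArg Multiset.sum h1
  rw [Multiset.sum_add] at h3
  obtain ⟨g, hg⟩ := (Perm.exists_with_cycleType_iff α (m := μ.filter (2 ≤ ·))).2
    ⟨by omega, fun a ha => (Multiset.mem_filter.1 ha).2⟩
  exact ⟨g, by rw [ct_eq, hg, ← h, ← h3, Nat.add_sub_cancel_left, ← h2, h1]⟩

theorem dvd_orderOf_iff [hp : Fact p.Prime] : p ∣ orderOf g ↔ ∃ k ∈ ct g, p ∣ k := by
  rw [← Perm.lcm_cycleType, ct_eq]
  refine ⟨fun h => ?_, fun ⟨k, hk, h⟩ => ?_⟩
  · obtain ⟨k, hk, h⟩ := hp.out.prime.exists_mem_multiset_dvd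
      (h.trans (Multiset.lcm_dvd.2 fun _ => Multiset.dvd_prod))
    exact ⟨k, Multiset.mem_add.2 (.inl hk), h⟩
  · rcases Multiset.mem_add.1 hk with hk | hk
    · exact h.trans (Multiset.dvd_lcm hk)
    · exact absurd (Multiset.eq_of_mem_replicate hk ▸ h) hp.out.not_dvd_one

/-- content of a colouring -/
def cont (f : α → ι) : ι → ℤ := ∑ a, Pi.single (f a) 1

theorem prod_ps {Q : Type*} [Fintype Q] [DecidableEq Q] {π : α → Q} (hs : Surjective π)
    (hg : ∀ a b, π a = π b ↔ g.SameCycle a b) :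
    ∏ q, (ps #{a | π a = q} : L ι) = ∑ f : α → ι with f ∘ g = f, .single (cont f) 1 := by
  simp only [ps]
  rw [prod_univ_sum, Fintype.piFinset_univ]
  refine sum_bij (fun h _ => h ∘ π) (fun h _ => mem_filter.2 ⟨mem_univ _, funext fun a =>
    congrArg h ((hg _ _).2 (by simp [Perm.SameCycle.rfl]))⟩) (fun _ _ _ _ e => hs.injective_comp_right e)
    (fun f hf => ⟨f ∘ surjInv hs, mem_univ _, funext fun a => ?_⟩) fun h _ => ?_
  · obtain ⟨n, e⟩ := ((hg _ _).1 (surjInv_eq hs (π a))).symm.exists_nat_pow_eq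
    rw [comp, comp, ← e]
    clear e
    induction n with
    | zero => rfl
    | succ n ih => rw [pow_succ', Perm.mul_apply, ← ih]; exact congrFun (mem_filter.1 hf).2 _
  · rw [AddMonoidAlgebra.prod_single, prod_const_one, cont, ← sum_fiberwise univ π]
    refine congrArg (AddMonoidAlgebra.single · 1) (sum_congr rfl fun q _ => ?_)
    rw [sum_congr rfl fun a ha => by rw [comp, (mem_filter.1 ha).2], sum_const, ← Pi.single_smul]
    simp

theorem pm_ct (g : Perm α) : (pm (ct g) : L ι) = ∑ f : α → ι with f ∘ g = f, .single (cont f) 1 := by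
  let π : α → g.cycleFactorsFinset ⊕ (g.supportᶜ : Finset α) := fun a =>
    if h : a ∈ g.support then .inl ⟨_, Perm.cycleOf_mem_cycleFactorsFinset_iff.2 h⟩
      else .inr ⟨a, mem_compl.2 h⟩
  have h1 : ∀ a (c : g.cycleFactorsFinset), π a = .inl c ↔ a ∈ c.1.support := fun a c => by
    rw [← Perm.eq_cycleOf_of_mem_cycleFactorsFinset_iff g _ c.2]
    by_cases h : a ∈ g.support
    · rw [show π a = _ from dif_pos h, Sum.inl.injEq, Subtype.ext_iff, eq_comm]
    · simpa [show π a = _ from dif_neg h, (Perm.cycleOf_eq_one_iff g).2 (Perm.notMem_support.1 h)]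
        using (Perm.mem_cycleFactorsFinset_iff.1 c.2).1.ne_one
  have h2 : ∀ a (b : (g.supportᶜ : Finset α)), π a = .inr b ↔ a = b := fun a b => by
    by_cases h : a ∈ g.support
    · simpa [show π a = _ from dif_pos h] using fun e : a = b => mem_compl.1 b.2 (e ▸ h)
    · rw [show π a = _ from dif_neg h, Sum.inr.injEq, Subtype.ext_iff]
  rw [← prod_ps (π := π), Fintype.prod_sum_type, ct, Perm.parts_partition, pm_add]
  · simp only [h1, h2, filter_mem_eq_inter, univ_inter, filter_eq', mem_univ, if_true, card_singleton]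
    rw [prod_coe_sort _ fun c : Perm α => ps #c.support]
    rw [prod_eq_multiset_prod]
    simp [pm, Perm.cycleType_def, card_compl]
  · rintro (c | b)
    · obtain ⟨a, ha⟩ := (Perm.mem_cycleFactorsFinset_iff.1 c.2).1.nonempty_support
      exact ⟨a, (h1 a c).2 ha⟩
    · exact ⟨b, (h2 _ b).2 rfl⟩
  · intro a b
    by_cases h : b ∈ g.support
    · rw [show π b = _ from dif_pos h, h1, Perm.mem_support_cycleOf_iff, and_iff_left h,
        Perm.sameCycle_comm]
    · rw [show π b = _ from dif_neg h, h2]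
      exact ⟨fun e => e ▸ Perm.SameCycle.rfl, fun e => e.eq_of_right (Perm.notMem_support.1 h)⟩

theorem isCharacter_pm (d : ι → ℤ) :
    IsCharacter (Perm α) fun g => ((pm (ct g) : L ι).coeff d : ℂ) := by
  letI : MulAction (Perm α) {f : α → ι // cont f = d} :=
    { smul g f := ⟨f.1 ∘ g.symm, (Equiv.sum_comp g.symm fun a => Pi.single (f.1 a) 1).trans f.2⟩
      one_smul _ := rfl
      mul_smul _ _ _ := rfl }
  convert isCharacter_perm (G := Perm α) {f : α → ι // cont f = d} using 2 with g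
  rw [pm_ct, Nat.card_congr (β := ({f : α → ι | f ∘ g = f ∧ cont f = d} : Finset _))
    ⟨fun f => ⟨f.1.1, by
      simpa [f.1.2] using ((g.comp_symm_eq _ _).1 (congrArg Subtype.val f.2)).symm⟩,
    fun f => ⟨⟨f.1, (mem_filter.1 f.2).2.2⟩, Subtype.ext
      ((g.comp_symm_eq _ _).2 (mem_filter.1 f.2).2.1.symm)⟩, fun _ => rfl, fun _ => rfl⟩]
  simp [Finsupp.single_apply, filter_filter, Fintype.card_subtype]

/-- the Frobenius generalized character -/
noncomputable def X (γ : ι → ℤ) (g : Perm α) : ℂ := (St ι (ct g)).coeff γ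

theorem isGen_X (γ : ι → ℤ) : IsGeneralizedCharacter (Perm α) (X γ) := by
  convert isGeneralizedCharacter_sum univ _ fun (σ : Perm ι) _ =>
    (isCharacter_pm (α := α) (γ - dl ι ∘ σ)).isGeneralizedCharacter.intCast_smul (Perm.sign σ)
  funext g
  simp [X, St, coeff_mul_alt]

theorem X_comp (γ : ι → ℤ) (σ : Perm ι) : (X (γ ∘ σ) : Perm α → ℂ) = ((Perm.sign σ : ℤ) : ℂ) • X γ :=
  funext fun g => by simp [X, as_St _ σ γ]

theorem conj_X (γ : ι → ℤ) (g : Perm α) : conj (X γ g) = X γ g := by simp [X]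

variable (ι α) in
/-- a finite set carrying all states -/
noncomputable def Γ : Finset (ι → ℤ) := univ.biUnion fun g : Perm α => (St ι (ct g)).coeff.support

theorem supp_subset (g : Perm α) : (St ι (ct g)).coeff.support ⊆ Γ ι α :=
  subset_biUnion_of_mem (fun g : Perm α => (St ι (ct g)).coeff.support) (mem_univ g)

theorem mem_Γ : γ ∈ Γ ι α ↔ (X γ : Perm α → ℂ) ≠ 0 := by simp [Γ, X, funext_iff]

theorem good_of_X (h : (X γ : Perm α → ℂ) ≠ 0) :
    Good γ ∧ ∑ i, γ i = ∑ i, dl ι i + Fintype.card α := by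
  obtain ⟨g, hg⟩ := ne_iff.1 h
  have := Int.cast_ne_zero.1 hg
  exact ⟨good_of_St this, ct_sum g ▸ (hm_St _ _ this).2⟩

theorem X_one_ne_zero (hγ : Good γ) (hs : ∑ i, γ i = ∑ i, dl ι i + Fintype.card α) :
    X γ (1 : Perm α) ≠ 0 := Int.cast_ne_zero.2 (ct_one (α := α) ▸ St_one_ne_zero hγ hs)

omit [Fintype ι] [DecidableEq ι] in
theorem comp_inj (h : Injective γ) : Injective fun σ : Perm ι => γ ∘ σ := fun _ _ e =>
  Equiv.ext fun i => h (congrFun e i)

variable (hN : Fintype.card α ≤ Fintype.card ι)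
include hN

theorem sum_X_mul (g h : Perm α) : ∑ γ ∈ Γ ι α, X γ g * X γ h =
    (Fintype.card ι)! * ∑ χ : IrrCharacter (Perm α), χ.1 g * conj (χ.1 h) := by
  have := ip_St (ι := ι) (zero_notMem_ct g) (zero_notMem_ct h) (ct_sum h ▸ hN)
  rw [ip_eq_sum (supp_subset g)] at this
  simp only [X, sum_irr_mul_conj, isConj_iff_ct, card_cent]
  exact_mod_cast this.trans (by split_ifs <;> simp)

theorem sum_inner_smul_X (ψ : IrrCharacter (Perm α)) :
    ∑ γ ∈ Γ ι α, classInner (X γ) ψ.1 • X γ = ((Fintype.card ι)! : ℂ) • ψ.1 := funext fun h => by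
  have : ∑ γ ∈ Γ ι α, X γ h • (X γ : Perm α → ℂ) = ((Fintype.card ι)! : ℂ) •
      ∑ χ : IrrCharacter (Perm α), conj (χ.1 h) • χ.1 := funext fun g => by
    simpa [mul_comm] using sum_X_mul hN g h
  have := congrArg (fun θ => conj (classInner θ ψ.1)) this
  beta_reduce at this
  rw [classInner_smul_left, classInner_sum_irr_left] at this
  simpa [classInner_sum_left, classInner_smul_left, conj_X, conj_classInner, mul_comm,
    (isGen_X _).classInner_comm ψ.2.isGeneralizedCharacter] using this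

theorem key {ψ : IrrCharacter (Perm α)} (h : classInner (X γ) ψ.1 ≠ 0) :
    (∃ ε : ℤˣ, ψ.1 = ((ε : ℤ) : ℂ) • X γ) ∧
      ∀ γ' : ι → ℤ, classInner (X γ') ψ.1 ≠ 0 → ∃ σ : Perm ι, γ' = γ ∘ σ := by
  choose a ha using fun γ : ι → ℤ => (isGen_X (α := α) γ).exists_classInner_int
    ψ.2.isGeneralizedCharacter
  have h0 : ∀ γ, a γ ≠ 0 → γ ∈ Γ ι α := fun γ h => mem_Γ.2 fun e => h (by
    simpa [e, classInner_zero_left] using (ha γ).symm)
  have h1 : a γ ≠ 0 := by simpa [ha] using h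
  have h2 := comp_inj (good_of_X (mem_Γ.1 (h0 γ h1))).1.inj
  have h3 : ∀ σ : Perm ι, a (γ ∘ σ) = Perm.sign σ * a γ := fun σ => by
    have := ha (γ ∘ σ)
    rw [X_comp, classInner_smul_left, ha] at this
    exact_mod_cast this.symm
  have h4 : univ.image (fun σ : Perm ι => γ ∘ σ) ⊆ Γ ι α := fun _ e => by
    obtain ⟨σ, -, rfl⟩ := mem_image.1 e
    exact h0 _ (h3 σ ▸ mul_ne_zero (Units.ne_zero _) h1)
  have h5 : ∑ γ ∈ Γ ι α, a γ * a γ = (Fintype.card ι)! := by
    have := congrArg (classInner · ψ.1) (sum_inner_smul_X hN ψ)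
    simp only [classInner_sum_left, classInner_smul_left, ha, ψ.2.classInner_self] at this
    exact_mod_cast this.trans (mul_one _)
  have hs : ∀ (σ : Perm ι) (x y : ℤ), Perm.sign σ * x * (Perm.sign σ * y) = x * y := fun σ x y => by
    rcases Int.units_eq_one_or (Perm.sign σ) with e | e <;> simp [e]
  rw [← sum_sdiff h4, sum_image h2.injOn] at h5
  simp only [h3, hs, sum_const, card_univ, Fintype.card_perm, nsmul_eq_mul] at h5
  have h6 := sum_nonneg fun δ (_ : δ ∈ Γ ι α \ univ.image fun σ : Perm ι => γ ∘ σ) =>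
    mul_self_nonneg (a δ)
  have h7 : (0 : ℤ) < (Fintype.card ι)! := by positivity
  have h8 : a γ * a γ = 1 := by nlinarith [mul_self_pos.2 h1]
  have h9 : ∀ δ ∈ Γ ι α \ univ.image fun σ : Perm ι => γ ∘ σ, a δ = 0 := fun δ hδ =>
    mul_self_eq_zero.1 ((sum_eq_zero_iff_of_nonneg fun _ _ => mul_self_nonneg _).1
      (by rw [h8] at h5; linarith) δ hδ)
  refine ⟨⟨.mkOfMulEqOne _ _ h8, ?_⟩, fun δ hδ => by_contra fun e => hδ ?_⟩
  · have := sum_inner_smul_X hN ψ
    rw [← sum_sdiff h4, sum_image h2.injOn, sum_eq_zero fun δ hδ => by simp [ha, h9 δ hδ],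
      sum_congr rfl fun σ _ => show _ = (a γ : ℂ) • X γ by
        rw [ha, X_comp, h3, smul_smul, ← Int.cast_mul, mul_comm, ← mul_one (Perm.sign σ : ℤ),
          mul_comm, mul_one, ← mul_one (Perm.sign σ : ℤ), mul_assoc (Perm.sign σ : ℤ) 1, hs]; simp,
      zero_add, sum_const, card_univ, Fintype.card_perm, ← Nat.cast_smul_eq_nsmul ℂ] at this
    exact (smul_right_injective _ (by exact_mod_cast h7.ne') this).symm
  · by_cases e' : δ ∈ Γ ι α
    · simp [ha, h9 δ (by simpa [e', eq_comm] using e)]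
    · simp [ha, of_not_not (mt (h0 δ) e')]

omit hN in
/-- `ψ` is labelled by `γ` -/
def Rep (γ : ι → ℤ) (ψ : IrrCharacter (Perm α)) : Prop := ∃ ε : ℤˣ, ψ.1 = ((ε : ℤ) : ℂ) • X γ

variable {ψ χ : IrrCharacter (Perm α)}

omit hN in
theorem Rep.symm (h : Rep γ ψ) : ∃ ε : ℤˣ, X γ = ((ε : ℤ) : ℂ) • ψ.1 := by
  obtain ⟨ε, e⟩ := h
  exact ⟨ε, by rw [e, smul_smul, ← Int.cast_mul, ← Units.val_mul, Int.units_mul_self]; simp⟩

omit hN in
theorem Rep.inner_ne_zero_iff (h : Rep γ ψ) : classInner (X γ) χ.1 ≠ 0 ↔ χ = ψ := by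
  obtain ⟨ε, e⟩ := h.symm
  simp [e, classInner_smul_left, classInner_irr, eq_comm]

omit hN in
theorem Rep.eq (h : Rep γ ψ) (h' : Rep γ χ) : χ = ψ :=
  h.inner_ne_zero_iff.1 (h'.inner_ne_zero_iff.2 rfl)

omit hN in
theorem Rep.good (h : Rep γ ψ) : Good γ ∧ ∑ i, γ i = ∑ i, dl ι i + Fintype.card α :=
  good_of_X fun e => by simpa [e, classInner_zero_left] using h.inner_ne_zero_iff.2 rfl

omit hN in
theorem Rep.comp (h : Rep γ ψ) (σ : Perm ι) : Rep (γ ∘ σ) ψ := by
  obtain ⟨ε, e⟩ := h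
  refine ⟨ε * Perm.sign σ, ?_⟩
  rw [X_comp, smul_smul, ← Int.cast_mul, ← Units.val_mul, mul_assoc, Int.units_mul_self, mul_one, e]

omit hN in
theorem Rep.eq_zero_iff (h : Rep γ ψ) : ψ.1 g = 0 ↔ (St ι (ct g)).coeff γ = 0 := by
  obtain ⟨ε, e⟩ := h
  simp [e, X]

omit hN in
theorem Rep.degree (h : Rep γ ψ) :
    charDegree ψ.1 = ((St ι (.replicate (Fintype.card α) 1)).coeff γ).natAbs := by
  obtain ⟨ε, e⟩ := h
  have := irr_apply_one ψ
  rw [congrFun e 1, Pi.smul_apply, X, ct_one, smul_eq_mul, ← Int.cast_mul, ← Int.cast_natCast,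
    Int.cast_inj] at this
  simpa [Int.natAbs_mul] using (congrArg Int.natAbs this).symm

theorem exists_rep (ψ : IrrCharacter (Perm α)) : ∃ γ : ι → ℤ, Rep γ ψ := by
  by_contra! h
  have := sum_inner_smul_X hN ψ
  rw [sum_eq_zero fun γ _ => by rw [of_not_not fun e => h γ (key hN e).1, zero_smul]] at this
  exact smul_ne_zero (by exact_mod_cast Nat.factorial_ne_zero _) ψ.2.ne_zero this.symm

theorem rep_of_good (hγ : Good γ) (hs : ∑ i, γ i = ∑ i, dl ι i + Fintype.card α) :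
    ∃ ψ : IrrCharacter (Perm α), Rep γ ψ := by
  obtain ⟨ψ, h, e⟩ := (isGen_X γ).isClassFunction.exists_irr_classInner_ne_zero
    (ne_iff.2 ⟨1, X_one_ne_zero hγ hs⟩)
  exact ⟨⟨ψ, h⟩, (key (ψ := ⟨ψ, h⟩) hN e).1⟩

theorem Rep.perm (h : Rep γ ψ) (h' : Rep γ' ψ) : ∃ σ : Perm ι, γ' = γ ∘ σ :=
  (key hN (h.inner_ne_zero_iff.2 rfl)).2 _ (h'.inner_ne_zero_iff.2 rfl)

theorem Rep.sum_inner_mul (h : Rep γ ψ) {u : (ι → ℤ) → ℂ} (hu : AS u) :
    ∑ δ ∈ Γ ι α, classInner (X δ) ψ.1 * u δ = (Fintype.card ι)! * (classInner (X γ) ψ.1 * u γ) := by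
  rw [← sum_subset (s₁ := univ.image fun σ : Perm ι => γ ∘ σ) (fun δ hδ => by
      obtain ⟨σ, -, rfl⟩ := mem_image.1 hδ
      exact mem_Γ.2 (ne_iff.2 ⟨1, X_one_ne_zero (h.comp σ).good.1 (h.comp σ).good.2⟩))
    fun δ _ hδ => mul_eq_zero_of_left (by_contra fun e => hδ (by
      simpa [eq_comm] using (key hN (h.inner_ne_zero_iff.2 rfl)).2 δ e)) _,
    sum_image (comp_inj h.good.1.inj).injOn,
    sum_congr rfl fun σ _ => show _ = classInner (X γ) ψ.1 * u γ by
      rw [X_comp, classInner_smul_left, hu σ]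
      rcases Int.units_eq_one_or (Perm.sign σ) with e | e <;> simp [e]]
  simp [Fintype.card_perm]

omit hN in
theorem St_dvd {j : ℕ} (hj : j ≤ Fintype.card ι) (hγ : Good γ) (hs : ∑ i, γ i = ∑ i, dl ι i + j) :
    (St ι (.replicate j 1)).coeff γ ∣ (j ! : ℕ) := by
  obtain ⟨ψ, h⟩ := rep_of_good (α := Fin j) (by simpa) hγ (by simpa)
  have := ψ.2.dvd_card (irr_apply_one ψ)
  rw [h.degree] at this
  simpa [Int.natAbs_dvd, Fintype.card_perm, ← Int.natCast_dvd_natCast] using this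

omit hN in
/-- completeness -/
theorem eq_zero_of_shift {j : ℕ} (hj : j ≤ Fintype.card ι) (h0 : 0 < j) {u : (ι → ℤ) → ℂ} (hu : AS u)
    (h : ∀ k : ℕ, 0 < k → ∀ δ : ι → ℤ, (∀ i, 0 ≤ δ i) → ∑ i, δ i + k = ∑ i, dl ι i + j →
      ∑ i, u (δ + Pi.single i (k : ℤ)) = 0) (hγ : Good γ) (hs : ∑ i, γ i = ∑ i, dl ι i + j) :
    u γ = 0 := by
  have hN : Fintype.card (Fin j) ≤ Fintype.card ι := by simpa
  have h1 : ∀ g : Perm (Fin j), ∑ δ ∈ Γ ι (Fin j), X δ g * u δ = 0 := fun g => by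
    obtain ⟨k, hk⟩ := Multiset.exists_mem_of_ne_zero (s := ct g) fun e => by
      have := ct_sum g; simp [e] at this; omega
    obtain ⟨ν, e⟩ := Multiset.exists_cons_of_mem hk
    have h2 := ct_sum g
    rw [e, Multiset.sum_cons, Fintype.card_fin] at h2
    simp only [X]
    rw [← ip_eq_sum (supp_subset g), e, St_cons, ip_ps_mul, ip_congr (c := 0) (v' := u) fun δ hδ => by
      rw [zero_mul, h k (Nat.pos_of_ne_zero fun e => zero_notMem_ct g (e ▸ hk)) δ (hm_St _ _ hδ).1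
        (by rw [(hm_St _ _ hδ).2, ← h2]; push_cast; ring)], zero_mul]
  obtain ⟨ψ, hψ⟩ := rep_of_good hN hγ (by simpa)
  have h2 : ∑ δ ∈ Γ ι (Fin j), classInner (X δ) ψ.1 * u δ = 0 := by
    simp only [classInner_def, mul_assoc, sum_mul, ← mul_sum]
    rw [sum_comm]
    simp only [mul_left_comm (X _ _), ← mul_sum, h1, mul_zero, sum_const_zero]
  simpa [hψ.sum_inner_mul hN hu, Nat.factorial_ne_zero, hψ.inner_ne_zero_iff.2 rfl] using h2

end H7.Sn
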