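import Cfsg.Agent.H7.Sym3
import Cfsg.Agent.H21.Contrib
import Cfsg.Agent.H8.EAWr

/-! The Nakayama conjecture: blocks of symmetric groups. -/

set_option autoImplicit false
open Finset Equiv Function Cfsg H5 H8 H28 H21 MonoidAlgebra
open scoped Nat ComplexConjugate

namespace H7

section General

variable {G : Type*} [Group G] [Finite G] {p : ℕ} {M : Ideal AlgInt}

theorem sameBlock_of_sec (hM : IsPModular p M) {x : G} (hx : IsPElt p x) {H : Subgroup G}
    (hH : 𝐂 (Subgroup.zpowers x) = H) (S E : Subgroup H) [E.Normal] (hE : IsPGroup p E)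
    (hS : ∀ h, ∃ s ∈ S, ∀ t ∈ S, h * t * h⁻¹ = s * t * s⁻¹)
    (hES : ∀ c ∈ 𝐂 E, ¬ p ∣ orderOf c → c ∈ S) {χ χ' : IrrCharacter G} {c : ℂ} (hc : c ≠ 0)
    (h : ∀ s : S, χ'.1 (s * x) = c * χ.1 (s * x)) (h0 : χ.1 x ≠ 0) : SameBlock M χ.1 χ'.1 := by
  haveI := Fact.mk hM.1
  letI := Fintype.ofFinite S
  have hH' := (centralizer_zpowers x).symm.trans hH
  have hm : ∀ z ∈ Zc (kk M) G, ∀ w ∈ Zc (kk M) G, restr H (z * w) = restr H z * restr H w :=
    fun z hz w hw => by
      simpa only [restr_trunc_of_subset H (show (H : Set G) ⊆ 𝐂 (Subgroup.zpowers x) from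
        hH.ge)] using restr_br_mul (natCast_kk hM) hx.isPGroup_zpowers hH.le (Zc_le_inv _ hz)
          (Zc_le_inv _ hw)
  obtain ⟨b, hb, hb0⟩ := exists_ne_zero_of_sum_ne_zero (s := blocks S M)
    (f := fun b => ev (fun s : S => χ.1 (s * x)) (fB b)) (by simpa [← map_sum, sum_fB hM] using h0)
  rw [mem_blocks] at hb
  obtain ⟨ξ, hξ⟩ := isPBlock_nonempty hM hb
  have key : ∀ ψ : IrrCharacter G, ev (fun s : S => ψ.1 (s * x)) (fB b) ≠ 0 →
      restr H (eB M (blockOf M ψ.1)) * incl S (eB M b) = incl S (eB M b) := fun ψ hψ => by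
    have hA := isPBlock_blockOf (M := M) ψ
    set A := blockOf M ψ.1
    have e1 := restr_mem_Zc' (H := H) (eB_mem_Zc (M := M) A)
    have e2 : restr H (eB M A) * restr H (eB M A) = _ :=
      (hm _ (eB_mem_Zc A) _ (eB_mem_Zc A)).symm.trans (congrArg _ (eB_mul_self hM hA))
    have e3 : ∀ g ∉ S, (restr H (eB M A)).coeff g = 0 := fun g hg => by_contra fun h => hg (hES g
      (by_contra fun h' => h (br_idem_of_normal hM hE e1 e2 ▸ coeff_trunc_of_notMem _ h'))
      (Subgroup.orderOf_coe g ▸ not_dvd_of_coeff_eB_ne_zero hM hA h))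
    have e4 := (restr_mul_of_supp_left S e3 _).symm.trans (congrArg _ e2)
    have e5 := restr_mem_Zc' (H := S) e1
    rw [← incl_restr_of_supp S e3, ← map_mul]
    rcases lam_eq_zero_or_one ξ e5 e4 with e | e
    swap
    · rw [idem_mul_eB_of_lam_eq_one hM hb hξ e5 e4 e]
    refine absurd ?_ hψ
    have := second_main_abstract hM (fB_mem_VG hM hA) (fB_mem_Zc A) (fB_mul_self A)
      (incl_mem_VG S (fB_mem_VG hM hb)) (mem_Zc.2 fun h g => ?_) (by rw [← map_mul, fB_mul_self])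
      (by rw [redG_mul (restr_mem_VG H (fB_mem_VG hM hA)) (incl_mem_VG S (fB_mem_VG hM hb)),
        redG_restr, redG_incl, redG_fB, redG_fB, ← incl_restr_of_supp S e3, ← map_mul,
        idem_mul_eB_of_lam_eq_zero hM hb hξ e5 e4 e, map_zero]; exact .zero)
      (h := ⟨x, hH' ▸ self_mem_centralizer x⟩) (isPPart_self hM.1.ne_one hx) hH'.le ψ.2.isClassFunction
    · rw [mul_assoc, ev_fB_mul_of_mem (mem_blockOf_self hM ψ)] at this
      rw [← ev_incl (fun h : H => ψ.1 (h * x)), ← ev_incl fun g => ψ.1 (g * x), ← this]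
      letI := Fintype.ofFinite G
      rw [ev_mul_single, ev_eq_sum]
    by_cases hg : g ∈ S
    · obtain ⟨s, hs, e⟩ := hS h
      rw [e g hg]
      exact mem_inv.1 (incl_mem_inv (fB_mem_Zc b)) s hs g
    · rw [coeff_incl_of_notMem _ _ hg, coeff_incl_of_notMem _ _ fun h' => hg ?_]
      obtain ⟨s, hs, e⟩ := hS h⁻¹
      have := mul_mem (mul_mem hs h') (inv_mem hs)
      rw [← e _ h'] at this
      simpa [mul_assoc] using this
  by_contra hne
  have h1 := key χ hb0
  have h2 := key χ' (by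
    rwa [show (fun s : S => χ'.1 (s * x)) = c • fun s : S => χ.1 (s * x) from funext h, ev_smul_left,
      mul_ne_zero_iff_left hc])
  rw [← h2, ← mul_assoc, ← hm _ (eB_mem_Zc _) _ (eB_mem_Zc _), eB_mul_eB_of_ne hM
    (isPBlock_blockOf χ) (isPBlock_blockOf χ') fun e => hne (mem_blockOf.1
      (e ▸ mem_blockOf_self hM χ')), map_zero, zero_mul, h2] at h1
  exact eB_ne_zero hM hb (incl_injective S (h1.symm.trans (map_zero _).symm))

end General

section Perm

variable {α : Type*} [Finite α] {p : ℕ} [hp : Fact p.Prime] {P : Subgroup (Perm α)}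

/-- permutations acting on each `P`-orbit as a `P`-automorphism -/
def EE (P : Subgroup (Perm α)) : Subgroup (Perm α) where
  carrier := {g | g ∈ 𝐂 P ∧ ∀ a, ∃ d ∈ P, g a = d a}
  one_mem' := ⟨one_mem _, fun _ => ⟨1, one_mem _, rfl⟩⟩
  mul_mem' := fun {g h} ⟨h1, h2⟩ ⟨h3, h4⟩ => ⟨mul_mem h1 h3, fun a => by
    obtain ⟨d, hd, e⟩ := h4 a
    obtain ⟨d', hd', e'⟩ := h2 (d a)
    exact ⟨d' * d, mul_mem hd' hd, by simp [e, e']⟩⟩
  inv_mem' := fun {g} ⟨h1, h2⟩ => ⟨inv_mem h1, fun a => by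
    obtain ⟨d, hd, e⟩ := h2 (g⁻¹ a)
    exact ⟨d⁻¹, inv_mem hd, Perm.eq_inv_iff_eq.2 (by simpa using e.symm)⟩⟩

omit [Finite α] hp in
theorem pow_apply_of_comm {g d : Perm α} (h : d * g = g * d) {a : α} (e : g a = d a) (n : ℕ) :
    (g ^ n) a = (d ^ n) a := by
  induction n with
  | zero => rfl
  | succ n ih => rw [pow_succ', Perm.mul_apply, ih, ← Perm.mul_apply,
      ((show Commute d g from h).pow_left n).eq.symm, pow_succ, Perm.mul_apply, Perm.mul_apply, e]

theorem isPGroup_EE (hP : IsPGroup p P) : IsPGroup p (EE P) := fun g => by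
  obtain ⟨k, hk⟩ := IsPGroup.iff_card.1 hP
  refine ⟨k, Subtype.ext (Equiv.ext fun a => ?_)⟩
  obtain ⟨d, hd, e⟩ := g.2.2 a
  exact (pow_apply_of_comm (g.2.1 d hd) e _).trans (by
    rw [← hk, show d ^ Nat.card P = 1 from congrArg Subtype.val (pow_card_eq_one' (x := ⟨d, hd⟩))]; rfl)

omit hp in
theorem normalizer_le_EE : 𝐍 P ≤ 𝐍 (EE P) := by
  have : ∀ n ∈ 𝐍 P, ∀ g ∈ EE P, n * g * n⁻¹ ∈ EE P := fun n hn g hg =>
    ⟨(conj_mem_centralizer_iff hn g).2 hg.1, fun a => by
      obtain ⟨d, hd, e⟩ := hg.2 (n⁻¹ a)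
      exact ⟨_, (hn d).1 hd, by simp only [Perm.mul_apply, e]⟩⟩
  exact fun n hn g => ⟨this n hn g, fun h => by simpa [mul_assoc] using this _ (inv_mem hn) _ h⟩

theorem fix_of_EE (hP : IsPGroup p P) {y : Perm α} (h1 : y ∈ 𝐂 P) (h2 : y ∈ 𝐂 (EE P))
    (hy : ¬ p ∣ orderOf y) {d : Perm α} (hd : d ∈ P) {a : α} (ha : d a ≠ a) : y a = a := by
  classical
  let f := MulAction.toPermHom P (MulAction.orbit P a)
  obtain ⟨_, ⟨⟨z, rfl⟩, hz⟩, hz1⟩ := (Subgroup.bot_or_exists_ne_one _).resolve_left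
    (center_ne_bot (T := f.range) (hP.of_surjective _ f.rangeRestrict_surjective) fun e => ha
      (congrArg (fun g : Perm _ => (g ⟨a, MulAction.mem_orbit_self a⟩).1)
        ((Subgroup.eq_bot_iff_forall _).1 e _ ⟨⟨d, hd⟩, rfl⟩)))
  obtain ⟨b, hb⟩ := not_forall.1 (mt Equiv.ext hz1)
  have hg : Perm.ofSubtype (f z) ∈ EE P := ⟨fun u hu => Equiv.ext fun c => ?_, fun c => ?_⟩
  · have h3 : y b ∈ MulAction.orbit P a := by_contra fun h => hb (Subtype.ext (y.injective (by
      simpa [Perm.ofSubtype_apply_of_not_mem _ h] using (congrArg (· b.1) (h2 _ hg)).symm)))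
    obtain ⟨u, hu⟩ := b.2
    obtain ⟨v, hv⟩ := h3
    have h4 : y a = (u⁻¹ * v).1 a := u.1.injective (by
      simpa [Subgroup.smul_def] using (congrArg (· a) (h1 _ u.2)).trans ((congrArg y hu).trans hv.symm))
    obtain ⟨k, hk⟩ := hP (u⁻¹ * v)
    have h5 := pow_apply_of_comm (h1 _ (u⁻¹ * v).2) h4 (p ^ k)
    rw [show (u⁻¹ * v).1 ^ p ^ k = 1 from congrArg Subtype.val hk] at h5
    obtain ⟨m, hm⟩ := exists_pow_eq_self_of_coprime (x := y)
      (((Nat.Prime.coprime_iff_not_dvd hp.out).2 hy).pow_left k)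
    rw [← hm]
    exact Perm.pow_apply_eq_self_of_apply_eq_self h5 m
  · by_cases h : c ∈ MulAction.orbit P a
    · have h' : u c ∈ MulAction.orbit P a := ((⟨u, hu⟩ : P) • (⟨c, h⟩ : MulAction.orbit P a)).2
      rw [Perm.mul_apply, Perm.mul_apply, Perm.ofSubtype_apply_of_mem _ h,
        Perm.ofSubtype_apply_of_mem _ h']
      exact congrArg (fun g : Perm _ => (g ⟨c, h⟩).1) (hz _ ⟨⟨u, hu⟩, rfl⟩)
    · have h' : u c ∉ MulAction.orbit P a := fun e => h (by
        simpa [Subgroup.smul_def] using ((⟨u, hu⟩⁻¹ : P) • (⟨u c, e⟩ : MulAction.orbit P a)).2)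
      rw [Perm.mul_apply, Perm.mul_apply, Perm.ofSubtype_apply_of_not_mem _ h,
        Perm.ofSubtype_apply_of_not_mem _ h']
  · by_cases h : c ∈ MulAction.orbit P a
    · exact ⟨z, z.2, Perm.ofSubtype_apply_of_mem _ h⟩
    · exact ⟨1, one_mem _, Perm.ofSubtype_apply_of_not_mem _ h⟩

end Perm

namespace Sn

variable {ι α : Type*} [Fintype ι] [DecidableEq ι] [Fintype α] [DecidableEq α] {p : ℕ}
  {β β' γ κ : ι → ℤ} {g h : Perm α} {χ ψ : IrrCharacter (Perm α)} {M : Ideal AlgInt} {w : ℕ}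

/-- same content -/
def Cn (p : ℕ) (β γ : ι → ℤ) : Prop := ∃ σ : Perm ι, ∀ i, γ i % p = β (σ i) % p

open Classical in
theorem ker_eq_zero [hp : Fact p.Prime] (hN : Fintype.card α ≤ Fintype.card ι) (β : ι → ℤ)
    (hg : p ∣ orderOf g) (hh : ¬ p ∣ orderOf h) :
    ∑ γ ∈ Γ ι α with Cn p β γ, X γ g * X γ h = 0 := by
  obtain ⟨k, hk, hpk⟩ := dvd_orderOf_iff.1 hg
  obtain ⟨ν, e⟩ := Multiset.exists_cons_of_mem hk
  simp only [sum_filter, ← mul_ite_zero]
  rw [show ∑ γ ∈ _, X γ g * _ = _ from (ip_eq_sum (supp_subset g) _).symm, e, St_cons, ip_ps_mul,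
    ip_congr (c := 0) (v' := 0) fun γ hγ => ?_, zero_mul]
  have := heis (Nat.pos_of_ne_zero fun e => zero_notMem_ct g (e ▸ hk)) (ct h) (ct_sum h ▸ hN)
    (hm_St _ _ hγ).1
  rw [Multiset.count_eq_zero.2 fun e => hh (dvd_orderOf_iff.2 ⟨k, e, hpk⟩)] at this
  simp only [Cn, add_single_mod hpk, sum_ite_irrel, X, ← Int.cast_sum, this]
  simp

theorem inner_rp_of_not_cn [hp : Fact p.Prime] (hN : Fintype.card α ≤ Fintype.card ι)
    (h1 : Rep β χ) (h2 : Rep β' ψ) (h : ¬ Cn p β β') : classInner (pRegularPart p χ.1) ψ.1 = 0 := by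
  classical
  have e1 : ∑ γ ∈ Γ ι α with Cn p β γ, classInner χ.1 (X γ) • X γ = _ :=
    (sum_filter_of_ne fun γ _ h => by
      obtain ⟨σ, rfl⟩ := (key hN (h1.inner_ne_zero_iff.2 rfl)).2 γ fun e => h (by
        rw [(classInner_eq_zero_comm _ _).1 e, zero_smul])
      exact ⟨σ, fun _ => rfl⟩).trans ((sum_congr rfl fun γ _ => by
        rw [(isGen_X γ).classInner_comm χ.2.isGeneralizedCharacter]).trans (sum_inner_smul_X hN χ))
  have e2 : ∀ (θ : Perm α → ℂ) (g : Perm α), (∑ γ ∈ Γ ι α with Cn p β γ, classInner θ (X γ) • X γ) g =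
      (Nat.card (Perm α) : ℂ)⁻¹ * ∑ h, θ h * ∑ γ ∈ Γ ι α with Cn p β γ, X γ g * X γ h := fun θ g => by
    simp only [Finset.sum_apply, Pi.smul_apply, classInner_def, conj_X, smul_eq_mul, mul_assoc,
      ← mul_sum, sum_mul]
    rw [sum_comm]
    simp only [mul_sum, mul_comm (X _ g)]
  have e3 : ((Fintype.card ι)! : ℂ) • pRegularPart p χ.1 =
      ∑ γ ∈ Γ ι α with Cn p β γ, classInner (pRegularPart p χ.1) (X γ) • X γ := funext fun g => by
    rw [e2]
    by_cases hg : p ∣ orderOf g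
    · rw [Pi.smul_apply, rp_of_dvd _ hg, smul_zero, sum_eq_zero fun h _ => ?_, mul_zero]
      by_cases hh : p ∣ orderOf h
      · rw [rp_of_dvd _ hh, zero_mul]
      · rw [ker_eq_zero hN β hg hh, mul_zero]
    · rw [Pi.smul_apply, rp_of_reg _ hg, ← Pi.smul_apply, ← e1, e2]
      refine congrArg _ (sum_congr rfl fun h _ => ?_)
      by_cases hh : p ∣ orderOf h
      · simp only [mul_comm (X _ g), ker_eq_zero hN β hh hg, mul_zero]
      · rw [rp_of_reg _ hh]
  have := congrArg (classInner · ψ.1) e3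
  simp only [classInner_smul_left, classInner_sum_left] at this
  rw [sum_eq_zero fun γ hγ => mul_eq_zero_of_right _ (by_contra fun e => h (by
    obtain ⟨σ, rfl⟩ := Rep.perm hN (key hN e).1 h2
    obtain ⟨τ, hτ⟩ := (mem_filter.1 hγ).2
    exact ⟨τ * σ, fun i => hτ _⟩))] at this
  simpa [Nat.factorial_ne_zero] using this

variable (α) in
/-- the characters with `p`-core `κ` -/
def Fam (p : ℕ) (κ : ι → ℤ) : Set (IrrCharacter (Perm α)) := {ψ | ∃ β, Rep β ψ ∧ core p β = κ}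

variable (α) in
/-- `κ` is a `p`-core of weight `w` -/
structure Wt (p : ℕ) (κ : ι → ℤ) (w : ℕ) : Prop where
  good : Good κ
  cor : core p κ = κ
  sum : ∑ i, κ i + p * w = ∑ i, dl ι i + Fintype.card α

theorem Wt.le (h : Wt α p κ w) : p * w ≤ Fintype.card α := by
  have := sum_dl_le h.good; have := h.sum; zify; linarith

theorem Rep.wt (hp : 0 < p) (h : Rep β ψ) : ∃ w, Wt α p (core p β) w := by
  have h1 := sum_nonneg fun i (_ : i ∈ univ) =>
    sub_nonneg.2 (Int.ediv_le_ediv (show (0 : ℤ) < p by positivity) (core_le hp h.good.1 i))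
  obtain ⟨w, hw⟩ := Int.eq_ofNat_of_zero_le h1
  refine ⟨w, good_core hp h.good.1.inj, core_core hp h.good.1.inj, ?_⟩
  rw [← h.good.2, ← hw, mul_sum, ← sum_add_distrib]
  exact sum_congr rfl fun i _ => by rw [← sub_core hp i i (core_mod β i), add_sub_cancel]

theorem St_split (hp : 0 < p) (hκ : Wt α p κ w) {ρ ν : Multiset ℕ} (hρ : ∀ k ∈ ρ, p ∣ k)
    (hs : ρ.sum + ν.sum = Fintype.card α) (hw : p * w ≤ ρ.sum) (hβ : core p β = κ) :
    (St ι (ρ + ν)).coeff β = (St ι ν).coeff κ * (pm ρ * alt κ).coeff β :=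
  (congrArg (·.coeff β) (St_add ρ ν)).trans (KF hp hρ (as_St ν) (hm_St ν) hκ.good.inj hκ.cor
    (by have := hκ.sum; omega) fun i => by rw [← hβ, core_mod])

theorem St_vanish (hp : 0 < p) (hκ : Wt α p κ w) {ρ ν : Multiset ℕ} (hρ : ∀ k ∈ ρ, p ∣ k)
    (hs : ρ.sum + ν.sum = Fintype.card α) (hw : p * w < ρ.sum) (hβ : core p β = κ) :
    (St ι (ρ + ν)).coeff β = 0 := by
  rw [St_split hp hκ hρ hs hw.le hβ, of_not_not (mt (hm_St ν κ) fun h => ?_), zero_mul]
  have := hκ.sum; have := h.2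
  omega

/-- the part of the cycle type off the support of `x` -/
def co (x s : Perm α) : Multiset ℕ :=
  s.cycleType + .replicate (Fintype.card α - x.cycleType.sum - s.cycleType.sum) 1

theorem ct_mul {x s : Perm α} (h : x.Disjoint s) : ct (x * s) = x.cycleType + co x s := by
  rw [ct_eq, h.cycleType_mul, co, add_assoc, Multiset.sum_add, Nat.sub_add_eq]

theorem sum_co {x s : Perm α} (h : x.Disjoint s) :
    x.cycleType.sum + (co x s).sum = Fintype.card α := by rw [← Multiset.sum_add, ← ct_mul h, ct_sum]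

theorem X_mul (hp : 0 < p) (hκ : Wt α p κ w) {x s : Perm α} (h : x.Disjoint s)
    (hx : ∀ k ∈ x.cycleType, p ∣ k) (hw : p * w ≤ x.cycleType.sum) (hβ : core p β = κ) :
    X β (x * s) = (St ι (co x s)).coeff κ * (pm x.cycleType * alt κ).coeff β := by
  rw [X, ct_mul h, St_split hp hκ hx (sum_co h) hw hβ, Int.cast_mul]

theorem Wt.co_one_ne_zero (hκ : Wt α p κ w) {x : Perm α} (hw : x.cycleType.sum = p * w) :
    (St ι (co x 1)).coeff κ ≠ 0 := by
  simpa [co, hw] using St_one_ne_zero (n := Fintype.card α - p * w) hκ.good (by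
    have := hκ.sum; rw [Nat.cast_sub hκ.le]; push_cast; linarith)

theorem Wt.phi_pos (hp : 0 < p) (hκ : Wt α p κ w) (h : Rep β ψ) (hβ : core p β = κ) :
    0 < (pm (.replicate w p) * alt κ).coeff β :=
  by simpa only [hβ] using pos hp w h.good.1 (by rw [hβ, h.good.2, hκ.sum])

theorem exists_cycleType_rep (hp : p.Prime) (h : p * w ≤ Fintype.card α) :
    ∃ x : Perm α, x.cycleType = .replicate w p :=
  (Perm.exists_with_cycleType_iff α).2 ⟨by simpa [mul_comm], fun _ h =>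
    Multiset.eq_of_mem_replicate h ▸ hp.two_le⟩

theorem isPElt_of_rep [Fact p.Prime] {x : Perm α} (h : x.cycleType = .replicate w p) : IsPElt p x :=
  isPElt_iff.2 ⟨1, by simpa [Perm.pow_prime_eq_one_iff, h] using
    fun _ => Multiset.eq_of_mem_replicate⟩

theorem sameBlock_of_fam (hM : IsPModular p M) (hκ : Wt α p κ w) (h1 : χ ∈ Fam α p κ)
    (h2 : ψ ∈ Fam α p κ) : SameBlock M χ.1 ψ.1 := by
  haveI := Fact.mk hM.1
  have hp := hM.1.pos
  obtain ⟨β, r1, c1⟩ := h1
  obtain ⟨β', r2, c2⟩ := h2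
  obtain ⟨x, hx⟩ := exists_cycleType_rep hM.1 hκ.le
  have hx' := isPElt_of_rep hx
  have hs : x.cycleType.sum = p * w := by simp [hx, mul_comm]
  let S : Subgroup (𝐂 (Subgroup.zpowers x)) :=
    (fixingSubgroup (Perm α) (x.support : Set α)).subgroupOf _
  have hS : ∀ s, s ∈ S ↔ x.Disjoint s.1 := fun s => by
    simp [S, Subgroup.mem_subgroupOf, mem_fixingSubgroup_iff, Perm.Disjoint, or_iff_not_imp_left]
  haveI := Subgroup.normal_subgroupOf_of_le_normalizer
    ((Subgroup.centralizer_le_normalizer _).trans (normalizer_le_EE (P := .zpowers x)))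
  have p1 := hκ.phi_pos hp r1 c1
  have p2 := hκ.phi_pos hp r2 c2
  obtain ⟨ε, e⟩ := r1
  obtain ⟨ε', e'⟩ := r2
  have hX : ∀ s, x.Disjoint s → ∀ β, core p β = κ → X β (s * x) =
      (St ι (co x s)).coeff κ * (pm (.replicate w p) * alt κ).coeff β := fun s h β hβ => by
    rw [← h.commute.eq, X_mul hp hκ h (hx ▸ dvd_rep w) hs.ge hβ, hx]
  refine sameBlock_of_sec hM hx' rfl S ((EE (.zpowers x)).subgroupOf _)
    (isPGroup_EE hx'.isPGroup_zpowers).comap_subtype (fun h => ?_) (fun c hc hc' => ?_)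
    (c := (ε' : ℤ) * (pm (.replicate w p) * alt κ).coeff β' /
      ((ε : ℤ) * (pm (.replicate w p) * alt κ).coeff β)) (by simp [p1.ne', p2.ne']) (fun s => ?_) ?_
  · have h1 : ∀ a, x (h.1 a) = h.1 a ↔ x a = a := fun a => by
      rw [← Perm.mul_apply x, h.2 x (Subgroup.mem_zpowers x), Perm.mul_apply, h.1.injective.eq_iff]
    have h2 : x.Disjoint (Perm.ofSubtype (h.1.subtypePerm h1)) := fun a =>
      or_iff_not_imp_left.2 fun e => Perm.ofSubtype_apply_of_not_mem (p := fun a => x a = a) _ e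
    refine ⟨⟨_, (centralizer_zpowers x).ge (Subgroup.mem_centralizer_singleton_iff.2
      h2.commute.eq.symm)⟩, (hS _).2 h2, fun t ht => Subtype.ext ?_⟩
    have h3 : t.1.Disjoint ((Perm.ofSubtype (h.1.subtypePerm h1))⁻¹ * h.1) := fun a =>
      ((hS t).1 ht a).symm.imp_right fun e => by
        rw [Perm.mul_apply, Perm.inv_eq_iff_eq]
        exact (Perm.ofSubtype_apply_of_mem (p := fun a => x a = a) (h.1.subtypePerm h1) e).symm
    have := h3.commute.eq
    simp only [Subgroup.coe_mul, Subgroup.coe_inv]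
    rw [mul_assoc (Perm.ofSubtype _), ← inv_mul_eq_iff_eq_mul, ← mul_assoc, ← mul_assoc, ← this]
    simp [mul_assoc]
  · rw [← centralizer_subgroupOf (A := EE _) fun _ h => h.1] at hc
    exact (hS c).2 fun a => or_iff_not_imp_left.2 (fix_of_EE hx'.isPGroup_zpowers c.2 hc
      (by rwa [Subgroup.orderOf_coe]) (Subgroup.mem_zpowers x))
  · simp only [e, e', Pi.smul_apply, hX _ ((hS _).1 s.2) _ c1, hX _ ((hS _).1 s.2) _ c2, smul_eq_mul]
    have : ((pm (.replicate w p) * alt κ).coeff β : ℂ) ≠ 0 := by simp [p1.ne']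
    have : ((ε : ℤ) : ℂ) ≠ 0 := by simp
    field_simp
  · simpa [e, show X β x = _ by simpa using hX 1 (Perm.disjoint_one_right x) _ c1, p1.ne'] using
      hκ.co_one_ne_zero hs

theorem exists_fam (hM : IsPModular p M) (hN : Fintype.card α ≤ Fintype.card ι)
    {B : Set (IrrCharacter (Perm α))} (hB : IsPBlock M B) :
    ∃ (κ : ι → ℤ) (w : ℕ), Wt α p κ w ∧ B = Fam α p κ := by
  haveI := Fact.mk hM.1
  obtain ⟨χ, hχ, h0⟩ := exists_blockHeight_eq_zero (p := p) (isPBlock_nonempty hM hB)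
  obtain ⟨β, hβ⟩ := exists_rep hN χ
  obtain ⟨w, hw⟩ := hβ.wt hM.1.pos
  refine ⟨_, w, hw, Set.ext fun ψ => ⟨fun hψ => ?_, fun hψ =>
    mem_of_sameBlock hM hB hχ (sameBlock_of_fam hM hw ⟨β, hβ, rfl⟩ hψ)⟩⟩
  obtain ⟨γ, hγ⟩ := exists_rep hN ψ
  obtain ⟨σ, hσ⟩ : Cn p β γ := by_contra fun h => ctr_ne_zero hM hB hψ hχ h0 (by
    simpa [inner_rp_comm ψ, inner_rp_of_not_cn hN hβ hγ h] using ctr_cast hM hψ χ)
  obtain ⟨τ, hτ⟩ := exists_perm_core hM.1.pos (hβ.comp σ).good.1.inj hγ.good.1.inj hσ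
  exact ⟨_, hγ.comp (σ * τ)⁻¹, by rw [core_comp, hτ, core_comp]; simp [funext_iff]⟩

theorem exists_mem_sylow [hp : Fact p.Prime] (P : Sylow p (Perm α)) (h : p * w ≤ Fintype.card α) :
    ∃ x ∈ P.1, x.cycleType = .replicate w p := by
  obtain ⟨x, hx⟩ := exists_cycleType_rep hp.out h
  obtain ⟨g, -, e⟩ := (isSylowIn_top P).exists_conj_le (isPElt_of_rep hx).isPGroup_zpowers le_top
  exact ⟨_, e (conj_mem_cj (Subgroup.mem_zpowers x)), Perm.cycleType_conj.trans hx⟩

theorem disjoint_ofSubtype (y : Perm α) (x : Perm {a // y a = a}) : (Perm.ofSubtype x).Disjoint y :=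
  fun a => or_iff_not_imp_right.2 fun e => Perm.ofSubtype_apply_of_not_mem (p := fun a => y a = a) _ e

theorem exists_sylow_map {G H : Type*} [Group G] [Group H] {f : G →* H} (hf : Injective f)
    {D : Subgroup H} (h : IsSylowIn p D f.range) : ∃ P : Sylow p G, P.1.map f = D :=
  ⟨⟨D.comap f, h.isPGroup.comap_of_injective f hf, fun {Q} hQ hle => by
    rw [← h.max _ (hQ.map f) (Subgroup.map_comap_eq_self h.le ▸ Subgroup.map_mono hle)
      (Subgroup.map_le_range f Q), Subgroup.comap_map_eq_self_of_injective hf]⟩,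
    Subgroup.map_comap_eq_self h.le⟩

variable (hM : IsPModular p M) (hκ : Wt α p κ w) (hB : IsPBlock M (Fam α p κ))
include hM hκ hB

theorem defect_str {D : Subgroup (Perm α)} (hD : IsDefectGroup p M (Fam α p κ) D) :
    ∃ y, IsDefectClass M (Fam α p κ) y ∧ ∃ P : Sylow p (Perm {a // y a = a}),
      P.1.map Perm.ofSubtype = D ∧ Fintype.card {a // y a = a} / p = w := by
  haveI := Fact.mk hM.1
  have hp := hM.1.pos
  obtain ⟨y, hy, hS⟩ := isDefectGroup_iff.1 hD
  have h1 := le_centralizer_singleton_iff.1 hS.le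
  have h2 : EE D ≤ D := (le_pCoreOf (isPGroup_EE hS.isPGroup)
    (fun _ h => Subgroup.centralizer_le_normalizer _ h.1) normalizer_le_EE).trans_eq
      (pCoreOf_normalizer_eq hM hB hD)
  obtain ⟨P, rfl⟩ := exists_sylow_map (Perm.ofSubtype_injective (p := fun a => y a = a))
    (hS.mono (fun d hd => Perm.mem_range_ofSubtype_iff.2 fun a ha => fix_of_EE hS.isPGroup h1
      (Subgroup.centralizer_le h2 h1) (not_dvd_of_isDefectClass hM hB hy) hd (by simpa using ha))
      (by rintro _ ⟨x, rfl⟩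
          exact Subgroup.mem_centralizer_singleton_iff.2 (disjoint_ofSubtype y x).commute))
  obtain ⟨χ, hχ, h0⟩ := exists_blockHeight_eq_zero (p := p) (isPBlock_nonempty hM hB)
  obtain ⟨β, r, c⟩ := id hχ
  refine ⟨y, hy, P, rfl, Nat.div_eq_of_lt_le ?_ (by_contra fun h => ?_)⟩
  · obtain ⟨x, hx⟩ := exists_cycleType_rep hM.1 hκ.le
    have hs : x.cycleType.sum = p * w := by simp [hx, mul_comm]
    obtain ⟨D', hD', hx'⟩ := exists_isDefectGroup_mem hM hB hχ
      (isPPart_self hM.1.ne_one (isPElt_of_rep hx)) (by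
        rw [Ne, r.eq_zero_iff, ← mul_one x, ct_mul (Perm.disjoint_one_right x), St_split hp hκ
          (hx ▸ dvd_rep w) (sum_co (Perm.disjoint_one_right x)) hs.ge c, hx]
        exact mul_ne_zero (hκ.co_one_ne_zero hs) (hκ.phi_pos hp r c).ne')
    obtain ⟨g, e⟩ := isDefectGroup_conj hM hB hD' hD
    obtain ⟨z, -, hz⟩ := e ▸ conj_mem_cj (g := g) hx'
    have := z.sum_cycleType_le
    rwa [← Perm.cycleType_ofSubtype, hz, Perm.cycleType_conj, hs, mul_comm] at this
  · obtain ⟨x, hx, e⟩ := exists_mem_sylow P (w := w + 1) (by rw [mul_comm]; omega)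
    have hd := disjoint_ofSubtype y x
    rw [← Perm.cycleType_ofSubtype] at e
    have := red_ne_zero_mul_defectClass hM hB hy (isPElt_of_rep e) hd.commute hχ h0
    rw [r.eq_zero_iff.2 (by
      rw [ct_mul hd, St_vanish hp hκ (e ▸ dvd_rep _) (sum_co hd) (by simp [e, mul_comm, hp]) c])] at this
    exact this red_zero

theorem height_eq (r : Rep β ψ) (c : core p β = κ) : blockHeight p (Fam α p κ) ψ.1 =
    ((pm (.replicate w p) * alt κ).coeff β).natAbs.factorization p := by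
  haveI := Fact.mk hM.1
  have hp := hM.1.pos
  obtain ⟨D, hD⟩ := exists_isDefectGroup hM hB
  obtain ⟨y, hy, P, rfl, hw⟩ := defect_str hM hκ hB hD
  obtain ⟨x, hx, e⟩ := exists_mem_sylow P (w := w) (hw ▸ Nat.mul_div_le _ _)
  have hd := disjoint_ofSubtype y x
  rw [← Perm.cycleType_ofSubtype] at e
  generalize Perm.ofSubtype x = x at hd e
  obtain ⟨χ, hχ, h0⟩ := exists_blockHeight_eq_zero (p := p) (isPBlock_nonempty hM hB)
  have hv : ∀ {β ψ}, Rep β ψ → core p β = κ → val M (ψ.1 (x * y)) = val M ((St ι (co x y)).coeff κ) *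
      val M ((pm (.replicate w p) * alt κ).coeff β) := fun ⟨ε, r⟩ c => by
    rw [r, Pi.smul_apply, X_mul hp hκ hd (e ▸ dvd_rep _) (by simp [e, mul_comm]) c, e]
    rcases Int.units_eq_one_or ε with h | h <;> simp [h]
  have h1 := red_ne_zero_iff.1 (red_ne_zero_mul_defectClass hM hB hy (isPElt_of_rep e) hd.commute hχ h0)
  have h2 : val M ((St ι (co x y)).coeff κ) = 1 := by
    obtain ⟨β₀, r₀, c₀⟩ := id hχ
    exact eq_one_of_one_le_mul_left (val_intCast_le_one _ _) (val_intCast_le_one _ _)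
      (hv r₀ c₀ ▸ h1.ge)
  have h3 := val_centralChar (M := M) χ (x * y)
  have h4 : Nat.card (P.1.map Perm.ofSubtype) ∣ Nat.card (Subgroup.centralizer {x * y}) := by
    rw [Subgroup.card_map_of_injective Perm.ofSubtype_injective, P.card_eq_multiplicity,
      Nat.card_eq_fintype_card, Fintype.card_perm, fact_factorial hM.1, hw, card_cent, ct_mul hd, e,
      add_comm (Multiset.replicate _ _), zz_add_rep, pow_add]
    · exact (mul_dvd_mul_left _ (Nat.ordProj_dvd _ _)).mul_right _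
    rw [co, Multiset.mem_add, not_or]
    exact ⟨mt Perm.dvd_of_mem_cycleType (not_dvd_of_isDefectClass hM hB hy),
      mt Multiset.eq_of_mem_replicate hM.1.ne_one⟩
  have h5 : val M (χ.1 1) ≤ val M ((Subgroup.centralizer {x * y}).index : ℂ) := by
    obtain ⟨k, hk⟩ := h4
    rw [(blockHeight_eq_zero_iff_index hM hB hD hχ).1 h0, show (P.1.map Perm.ofSubtype).index =
      k * (Subgroup.centralizer {x * y}).index from Nat.eq_of_mul_eq_mul_left Nat.card_pos (by
        rw [← mul_assoc, ← hk, Subgroup.card_mul_index, Subgroup.card_mul_index]), Nat.cast_mul,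
      map_mul]
    exact mul_le_of_le_one_left' (val_natCast_le_one _ _)
  have h6 : lam M χ.1 (classSum (kk M) (x * y)) ≠ 0 := by
    rw [lam_classSum, red_ne_zero_iff]
    refine le_antisymm (mem_V_iff.1 (centralChar_mem_V _ _)) ?_
    rwa [← mul_one (val M (Subgroup.index _ : ℂ)), ← h1, ← h3,
      le_mul_iff_one_le_left (val_irr_one_pos χ)] at h5
  have h7 := val_of_lam_classSum (lam_eq_of_mem hM hB hχ ⟨β, r, c⟩ ▸ h6)
  have h8 := val_of_lam_classSum h6
  rw [h1, mul_one] at h8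
  rw [← h8, hv r c, h2, one_mul, val_irr_one hM, val_irr_one hM,
    val_intCast hM (hκ.phi_pos hp r c).ne', ← pow_add, val_p_pow_inj hM] at h7
  have := H21.factorization_degree (p := p) hχ
  have := H21.factorization_degree (p := p) (B := Fam α p κ) ⟨β, r, c⟩
  omega

end Sn

end H7
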