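import Cfsg.Agent.H7.Sym4

/-! Counting multipartitions and bounding `l(B)` for blocks of symmetric groups. -/

set_option autoImplicit false
open Finset Equiv Function Cfsg H5 H8 H28 H21 MonoidAlgebra
open scoped Nat

namespace H7.Sn

section Count

variable {T : Finset ℤ} {w : ℕ}

/-- coloured partitions -/
def MP (T : Finset ℤ) (w : ℕ) : Set (Multiset (ℤ × ℕ)) :=
  {m | (∀ x ∈ m, x.1 ∈ T ∧ 0 < x.2) ∧ (m.map Prod.snd).sum = w}

theorem MP_zero : MP T 0 = {0} := by
  refine Set.eq_singleton_iff_unique_mem.2 ⟨by simp [MP], fun m hm => by_contra fun h => ?_⟩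
  obtain ⟨x, hx⟩ := Multiset.exists_mem_of_ne_zero h
  have := Multiset.le_sum_of_mem (Multiset.mem_map_of_mem Prod.snd hx)
  have := (hm.1 x hx).2
  have := hm.2
  omega

theorem MP_sub {S : Set (Multiset (ℤ × ℕ))} (h : ∀ m ∈ MP T (w + 1), (∀ x ∈ m, 2 ≤ x.2) → m ∈ S) :
    MP T (w + 1) ⊆ (fun x : ℤ × Multiset (ℤ × ℕ) => (x.1, 1) ::ₘ x.2) '' (T ×ˢ MP T w) ∪ S := by
  intro m hm
  by_cases e : ∀ x ∈ m, 2 ≤ x.2
  · exact .inr (h m hm e)
  obtain ⟨⟨c, k⟩, hx, e⟩ : ∃ x ∈ m, x.2 < 2 := by simpa using e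
  obtain ⟨m, rfl⟩ := Multiset.exists_cons_of_mem hx
  obtain rfl : k = 1 := by have := (hm.1 _ hx).2; omega
  exact .inl ⟨(c, m), ⟨(hm.1 _ hx).1, fun x h => hm.1 x (by simp [h]),
    show (m.map Prod.snd).sum = w by have := hm.2; simp at this; omega⟩, rfl⟩

theorem exists_bump : ∃ b : Multiset (ℤ × ℕ) → Multiset (ℤ × ℕ), ∀ T w, ∀ m ∈ MP T (w + 1),
    (∀ x ∈ m, 2 ≤ x.2) → m ∈ b '' MP T w := by
  classical
  refine ⟨fun m => if h : ∃ y ∈ m, ∀ z ∈ m, y.2 ≤ z.2 then
    (h.choose.1, h.choose.2 + 1) ::ₘ m.erase h.choose else 0, fun T w m hm h => ?_⟩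
  obtain ⟨⟨c, k⟩, hx, hk⟩ := m.toFinset.exists_min_image Prod.snd
    (Multiset.toFinset_nonempty.2 fun e => by simpa [e] using hm.2)
  obtain ⟨m, rfl⟩ := Multiset.exists_cons_of_mem (Multiset.mem_toFinset.1 hx)
  obtain ⟨k, rfl⟩ : ∃ l, k = l + 1 := ⟨k - 1, by have := h (c, k) (by simp); omega⟩
  have h1 : ∀ z ∈ m, k < z.2 := fun z hz => hk z (by simp [hz])
  have h2 : ∃ y ∈ (c, k) ::ₘ m, ∀ z ∈ (c, k) ::ₘ m, y.2 ≤ z.2 :=
    ⟨_, Multiset.mem_cons_self _ _, by simpa using fun a b h => (h1 (a, b) h).le⟩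
  have h3 : h2.choose = (c, k) := (Multiset.mem_cons.1 h2.choose_spec.1).resolve_right fun e =>
    (h1 _ e).not_ge (h2.choose_spec.2 _ (Multiset.mem_cons_self _ _))
  refine ⟨(c, k) ::ₘ m, ⟨fun x hx => ?_, by have := hm.2; simp at this ⊢; omega⟩, by
    simp only [dif_pos h2, h3, Multiset.erase_cons_head]⟩
  rcases Multiset.mem_cons.1 hx with rfl | hx
  · exact ⟨(hm.1 _ (Multiset.mem_cons_self _ _)).1, by have := h (c, k + 1) (by simp); omega⟩
  · exact hm.1 _ (by simp [hx])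

theorem ncard_MP_le {S : Set (Multiset (ℤ × ℕ))} (h0 : (MP T w).Finite) (hS : S.Finite)
    (h : ∀ m ∈ MP T (w + 1), (∀ x ∈ m, 2 ≤ x.2) → m ∈ S) :
    (MP T (w + 1)).Finite ∧ (MP T (w + 1)).ncard ≤ #T * (MP T w).ncard + S.ncard := by
  have h1 := ((T.finite_toSet.prod h0).image fun x => (x.1, 1) ::ₘ x.2).union hS
  refine ⟨h1.subset (MP_sub h), (Set.ncard_le_ncard (MP_sub h) h1).trans
    ((Set.ncard_union_le _ _).trans (Nat.add_le_add_right ((Set.ncard_image_le
      (T.finite_toSet.prod h0)).trans_eq ?_) _))⟩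
  rw [Set.ncard_prod, Set.ncard_coe_finset]

theorem finite_MP (w : ℕ) : (MP T w).Finite := by
  obtain ⟨b, hb⟩ := exists_bump
  induction w with
  | zero => simp [MP_zero]
  | succ w ih => exact (ncard_MP_le ih (ih.image b) (hb T w)).1

theorem ncard_MP_succ : (MP T (w + 1)).ncard ≤ (#T + 1) * (MP T w).ncard := by
  obtain ⟨b, hb⟩ := exists_bump
  have := (ncard_MP_le (finite_MP w) ((finite_MP w).image b) (hb T w)).2
  have := Set.ncard_image_le (f := b) (finite_MP (T := T) w)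
  linarith

theorem mem_single (hw : w < 3) : ∀ m ∈ MP T (w + 1), (∀ x ∈ m, 2 ≤ x.2) →
    m ∈ (fun c => {(c, w + 1)}) '' (T : Set ℤ) ∩ {m | ∀ x ∈ m, 2 ≤ x.2} := fun m hm h => by
  have h1 := Multiset.card_nsmul_le_sum (s := m.map Prod.snd) (a := 2) (Multiset.forall_mem_map_iff.2 h)
  rw [hm.2, Multiset.card_map, smul_eq_mul] at h1
  have h2 : m.card ≠ 0 := fun e => by simpa [Multiset.card_eq_zero.1 e] using hm.2
  obtain ⟨⟨c, k⟩, rfl⟩ := Multiset.card_eq_one.1 (show m.card = 1 by omega)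
  exact ⟨⟨c, (hm.1 _ (Multiset.mem_singleton_self _)).1, by simpa [eq_comm] using hm.2⟩, h⟩

theorem MP_one : MP T 1 ⊆ (fun c => {(c, 1)}) '' (T : Set ℤ) := fun m hm => by
  rcases MP_sub (mem_single (w := 0) (by simp)) hm with ⟨⟨c, m⟩, ⟨h1, h2⟩, rfl⟩ | h
  · obtain rfl : m = 0 := by simpa [MP_zero] using h2
    exact ⟨c, h1, rfl⟩
  · exact h.1

theorem ncard_MP_one : (MP T 1).ncard ≤ #T := (Set.ncard_le_ncard MP_one (T.finite_toSet.image _)).trans
  ((Set.ncard_image_le T.finite_toSet).trans_eq (Set.ncard_coe_finset _))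

theorem ncard_MP_lt (hw : 0 < w) : (MP T w).ncard < (#T + 1) ^ w := by
  induction w, hw using Nat.le_induction with
  | base => simpa [Nat.lt_succ_iff] using ncard_MP_one
  | succ w _ ih => exact ncard_MP_succ.trans_lt (by rw [pow_succ']; gcongr)

theorem ncard_MP_two : 2 * (MP T 2).ncard ≤ #T * (#T + 3) := by
  classical
  have : MP T 2 ⊆ ((T.image fun c => {(c, 2)}) ∪
      T.sym2.image fun s => s.toMultiset.map fun c => (c, 1) : Finset _) := fun m hm => by
    rw [coe_union, coe_image, coe_image]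
    rcases MP_sub (mem_single (w := 1) (by simp)) hm with ⟨⟨c, m⟩, ⟨h1, h2⟩, rfl⟩ | h
    · obtain ⟨d, hd, rfl⟩ := MP_one h2
      exact .inr ⟨s(c, d), by simpa using ⟨h1, hd⟩, rfl⟩
    · exact .inl h.1
  have h := (Set.ncard_le_ncard this).trans_eq (Set.ncard_coe_finset _) |>.trans
    ((card_union_le _ _).trans (add_le_add card_image_le card_image_le))
  rw [card_sym2, Nat.choose_two_right, Nat.add_sub_cancel] at h
  have := Nat.mul_div_le ((#T + 1) * #T) 2
  nlinarith

theorem two_mul_ncard_MP_lt (hw : 3 ≤ w) : 2 * (MP T w).ncard < (#T + 1) ^ w := by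
  induction w, hw using Nat.le_induction with
  | base =>
    have := (ncard_MP_le (finite_MP 2) (T.finite_toSet.image _) fun m hm h =>
      (mem_single (by simp) m hm h).1).2.trans (Nat.add_le_add_left
        ((Set.ncard_image_le T.finite_toSet).trans_eq (Set.ncard_coe_finset _)) _)
    have := Nat.mul_le_mul_left #T (ncard_MP_two (T := T))
    nlinarith
  | succ w _ ih =>
    refine (Nat.mul_le_mul_left 2 ncard_MP_succ).trans_lt ?_
    rw [pow_succ', mul_left_comm]; gcongr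

end Count

variable {ι α : Type*} [Fintype ι] [DecidableEq ι] [Fintype α] [DecidableEq α] {p : ℕ}
  {β β' γ κ : ι → ℤ} {ψ : IrrCharacter (Perm α)} {M : Ideal AlgInt} {w : ℕ}

omit [DecidableEq ι] in
theorem mono_core (hp : 0 < p) (hβ : Injective β) {i j : ι} (h : β i % p = β j % p) (h' : β i ≤ β j) :
    β i / p - core p β i / p ≤ β j / p - core p β j / p := by
  classical
  have hp' : (0 : ℤ) < p := by exact_mod_cast hp
  have h1 := card_le_card_of_injOn (s := (univ.filter fun k => β k < β j ∧ β k % p = β j % p) \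
      univ.filter fun k => β k < β i ∧ β k % p = β i % p) (t := Ico (β i / p) (β j / p)) (fun k => β k / p)
    (fun k hk => by
      simp only [coe_sdiff, coe_filter, mem_univ, true_and, Set.mem_sdiff, Set.mem_ofPred_eq, h,
        coe_Ico, Set.mem_Ico] at hk ⊢
      refine ⟨Int.ediv_le_ediv hp' (not_lt.1 fun e => hk.2 ⟨e, hk.1.2⟩),
        lt_of_mul_lt_mul_left (a := (p : ℤ)) ?_ hp'.le⟩
      linarith [Int.mul_ediv_add_emod (β j) p, Int.mul_ediv_add_emod (β k) p, hk.1.1, hk.1.2])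
    fun a ha b hb e => hβ (by
      simp only [coe_sdiff, coe_filter, mem_univ, true_and, Set.mem_sdiff, Set.mem_ofPred_eq] at ha hb e
      rw [← Int.mul_ediv_add_emod (β a) p, e, ha.1.2, ← hb.1.2, Int.mul_ediv_add_emod])
  have h2 : rk p β j ≤ _ + rk p β i := card_le_card_sdiff_add_card
  have h3 := Int.ediv_le_ediv hp' h'
  have h4 : ∀ i, core p β i / p = rk p β i := fun i => by
    rw [core, Int.mul_add_ediv_left _ _ hp'.ne', Int.ediv_eq_zero_of_lt (Int.emod_nonneg _ hp'.ne')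
      (Int.emod_lt_of_pos _ hp'), add_zero]
  rw [Int.card_Ico] at h1
  rw [h4, h4]
  omega

/-- the `p`-quotient as a coloured partition -/
def quo (p : ℕ) (κ β : ι → ℤ) : Multiset (ℤ × ℕ) :=
  ({i | β i ≠ κ i} : Finset ι).1.map fun i => (κ i % p, (β i / p - κ i / p).toNat)

omit [DecidableEq ι] in
theorem lt_iff_quo (hp : 0 < p) (hβ : Good β) (hc : core p β = κ) (i : ι) (t : ℕ) :
    t < β i / p - κ i / p ↔ #{j | κ j % p = κ i % p ∧ κ i ≤ κ j} ≤
      (quo p κ β).countP fun x => x.1 = κ i % p ∧ t < x.2 := by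
  subst hc
  have h1 : ∀ i j, core p β i % p = core p β j % p → core p β i ≤ core p β j →
      β i / p - core p β i / p ≤ β j / p - core p β j / p := fun i j e e' => by
    rw [core_mod, core_mod] at e
    exact mono_core hp hβ.inj e (not_lt.1 (mt (core_lt_iff hp hβ.inj e.symm).2 e'.not_gt))
  rw [show (quo p _ β).countP _ = #{j | core p β j % p = core p β i % p ∧
      t < β j / p - core p β j / p} by
    rw [quo, Multiset.countP_map, ← filter_val, filter_filter]
    exact congrArg card (filter_congr fun j _ => ⟨fun h => ⟨h.2.1, by omega⟩,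
      fun h => ⟨fun e => by rw [← e] at h; omega, h.1, by omega⟩⟩)]
  refine ⟨fun h => card_le_card (monotone_filter_right _ fun j _ hj =>
    ⟨hj.1, h.trans_le (h1 _ _ hj.1.symm hj.2)⟩), fun h => by_contra fun h' => h.not_gt
      (card_lt_card ⟨monotone_filter_right _ fun j _ hj => ⟨hj.1, by_contra fun e => ?_⟩,
        fun e => h' (mem_filter.1 (e (by simp : i ∈ _))).2.2⟩)⟩
  have := h1 _ _ hj.1 (not_le.1 e).le
  omega

omit [DecidableEq ι] in
theorem quo_inj (hp : 0 < p) (hβ : Good β) (hc : core p β = κ) (hβ' : Good β') (hc' : core p β' = κ)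
    (h : quo p κ β = quo p κ β') : β = β' := funext fun i => by
  have hp' : (0 : ℤ) < p := by exact_mod_cast hp
  have h1 := Int.ediv_le_ediv hp' (core_le hp hβ i)
  have h2 := Int.ediv_le_ediv hp' (core_le hp hβ' i)
  have h3 := fun t => (lt_iff_quo hp hβ hc i t).trans (h ▸ (lt_iff_quo hp hβ' hc' i t).symm)
  have h4 := h3 (β i / p - κ i / p).toNat
  have h5 := h3 (β' i / p - κ i / p).toNat
  rw [hc] at h1
  rw [hc'] at h2
  rw [← Int.mul_ediv_add_emod (β i) p, show β i / p = β' i / p by omega, ← core_mod, hc, ← hc',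
    core_mod, Int.mul_ediv_add_emod]

omit [DecidableEq ι] in
theorem quo_mem (hp : 0 < p) (hβ : Good β) (hc : core p β = κ) (hs : ∑ i, β i = ∑ i, κ i + p * w)
    {T : Finset ℤ} (hT : ∀ i, β i ≠ κ i → κ i % p ∈ T) : quo p κ β ∈ MP T w := by
  subst hc
  have hp' : (0 : ℤ) < p := by exact_mod_cast hp
  have h1 := fun i => sub_core hp i i (core_mod β i)
  have h2 := fun i => Int.ediv_le_ediv hp' (core_le hp hβ i)
  refine ⟨Multiset.forall_mem_map_iff.2 fun i hi => ⟨hT i (mem_filter.1 hi).2, by_contra fun e =>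
    (mem_filter.1 hi).2 (sub_eq_zero.1 (by rw [h1, show β i / p - _ = 0 by have := h2 i; omega]; simp))⟩, ?_⟩
  rw [quo, Multiset.map_map, ← sum_eq_multiset_sum, sum_filter_of_ne (p := fun i => β i ≠ core p β i)
    fun i _ h e => h (by simp [← e]),
    ← Nat.cast_inj (R := ℤ), ← mul_right_inj' hp'.ne', ← sub_eq_iff_eq_add'.2 hs, ← sum_sub_distrib,
    Nat.cast_sum, mul_sum]
  exact sum_congr rfl fun i _ => by simp [h1, h2]

theorem Wt.card_runner (hκ : Wt α p κ w) (hN : (p + 1) * Fintype.card α ≤ Fintype.card ι) {r : ℕ}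
    (hr : r < p) : Fintype.card α ≤ #{i | κ i % p = r} := by
  have h : ∀ t : Fin (Fintype.card α), ∃ j, κ j = (r + p * t : ℕ) := fun t =>
    exists_eq_of_lt hκ.good (m := Fintype.card α - p * w) (by
      have := hκ.sum; have := hκ.le; omega) (by
        have := Nat.mul_le_mul_left p (Nat.succ_le_of_lt t.2); nlinarith [Nat.sub_le (Fintype.card α) (p * w)])
  choose f hf using h
  simpa using card_le_card_of_injOn (s := univ) (t := {i | κ i % p = r}) f (fun t _ => by
    simp [hf, Int.emod_eq_of_lt, hr]) fun a _ b _ e => Fin.ext (by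
      have := (hf a).symm.trans (e ▸ hf b)
      exact Nat.eq_of_mul_eq_mul_left (Nat.zero_lt_of_lt hr) (by omega))

theorem eq_zero_of_vac (hp : 0 < p) (hκ : Wt α p κ w) (hR : w ≤ #{i | κ i % p = 0})
    {v : (ι → ℤ) → ℂ} (h1 : AS v) (h2 : ∀ γ, v γ ≠ 0 → Good γ ∧ ∑ i, γ i = ∑ i, κ i + p * w)
    (h3 : ∀ k : ℕ, 0 < k → ∀ γ : ι → ℤ, (∀ i, 0 ≤ γ i) → ∑ i, v (γ + Pi.single i ((p * k : ℕ) : ℤ)) = 0)
    (h4 : ∀ β, core p β = κ → (∀ i, κ i % p = 0 → β i = κ i) → v β = 0) (j : ℕ)
    (hβ : ∀ i, β i % p = κ i % p)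
    (hj : ∑ i : {i // κ i % p = 0}, β i / p < ∑ i, dl {i // κ i % p = 0} i + j) : v β = 0 := by
  induction j generalizing β with
  | zero => exact by_contra fun h => hj.not_ge (by
      simpa using sum_dl_le (good_runner hp (fun i => by rw [hβ]) (h2 β h).1))
  | succ j ih =>
    by_contra h
    have hQ : ∀ i, κ i % p = 0 ↔ β i % p = 0 := fun i => by rw [hβ]
    obtain ⟨hg, hs⟩ := h2 β h
    have e : ∑ i : {i // κ i % p = 0}, β i / p = ∑ i, dl {i // κ i % p = 0} i + j := by
      have := mt (ih hβ) h; push_cast at hj; omega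
    rcases j.eq_zero_or_pos with rfl | h0
    · obtain ⟨σ, hσ⟩ := exists_perm_core hp hκ.good.inj hg.inj hβ
      rw [hκ.cor] at hσ
      have h5 := (sum_eq_sum_iff_of_le fun (i : {i // κ i % p = 0}) _ => Int.ediv_le_ediv
        (show (0 : ℤ) < p by positivity) (core_le hp hg i)).1
        (by rw [sum_core_runner hp hQ hg, e]; simp)
      refine h ((mul_eq_zero.1 ((h1 σ⁻¹ β).symm.trans (h4 (β ∘ (σ⁻¹ : Perm ι)) (by
        simp [core_comp, hσ, comp_assoc]) fun i hi => ?_))).resolve_left (by simp))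
      have h6 : κ i = core p β (σ⁻¹ i) := by simp [hσ]
      have h7 : core p β (σ⁻¹ i) % p = β (σ⁻¹ i) % p := core_mod _ _
      have := sub_core hp _ _ h7
      rw [← h5 ⟨σ⁻¹ i, by rw [← hβ, ← h7, ← h6, hi]⟩ (mem_univ _), sub_self, mul_zero] at this
      rw [h6, comp, sub_eq_zero.1 this]
    let gl : ({i // κ i % p = 0} → ℤ) → ι → ℤ := fun δ i => if h : κ i % p = 0 then p * δ ⟨i, h⟩ else β i
    have g1 : ∀ δ i e, gl δ i = p * δ ⟨i, e⟩ := fun δ i e => dif_pos e
    have g2 : ∀ δ i, κ i % p ≠ 0 → gl δ i = β i := fun δ i e => dif_neg e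
    have h5 : gl (fun i => β i / p) = β := funext fun i => by
      by_cases e : κ i % p = 0
      · simpa [g1 _ _ e, (hQ i).1 e] using Int.mul_ediv_add_emod (β i) p
      · exact dif_neg e
    refine h (h5 ▸ eq_zero_of_shift (u := fun δ => v (gl δ)) (j := j) ?_ h0 (fun σ δ => ?_)
      (fun k hk δ hδ hs => ?_) (good_runner hp hQ hg) e)
    · have := runner_le hp hQ hg (w := w) (by rw [sum_core_eq hp hκ.good.inj hg.inj hβ, hκ.cor, hs])
      rw [Fintype.card_subtype]; omega
    · rw [← Perm.sign_ofSubtype, ← h1]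
      refine congrArg v (funext fun i => ?_)
      by_cases e : κ i % p = 0
      · rw [g1 _ _ e, comp, comp, Perm.ofSubtype_apply_of_mem σ e, g1 _ _ (σ ⟨i, e⟩).2]
      · rw [g2 _ _ e, comp, Perm.ofSubtype_apply_of_not_mem σ e, g2 _ _ e]
    · have h6 := h3 k hk (gl δ) fun i => by
        have := hg.nn i; simp only [gl]; split_ifs; exacts [mul_nonneg (by positivity) (hδ _), this]
      rw [← Fintype.sum_subtype_add_sum_subtype (κ · % p = 0), sum_eq_zero (s := univ) (ι := {i // ¬ _})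
        fun i _ => ih (fun l => ?_) ?_, add_zero] at h6
      · rw [← h6]
        refine sum_congr rfl fun i _ => congrArg v (funext fun l => ?_)
        by_cases e : κ l % p = 0
        · simp [g1 _ _ e, Pi.single_apply, Subtype.ext_iff, mul_add]
        · simp [g2 _ _ e, Pi.single_eq_of_ne fun e' : l = i => e (e' ▸ i.2)]
      · rw [add_single_mod (dvd_mul_right p k)]
        by_cases e : κ l % p = 0
        · simp [g1 _ _ e, e]
        · rw [g2 _ _ e, hβ]
      · rw [sum_congr rfl fun l _ => show _ = δ l by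
          simp [g1 _ _ l.2, Pi.single_eq_of_ne fun e' : l.1 = i => i.2 (e' ▸ l.2), hp.ne']]
        linarith [show (1 : ℤ) ≤ k by omega]

theorem blockRank_le [hp : Fact p.Prime] (hκ : Wt α p κ w)
    (hN : (p + 1) * Fintype.card α ≤ Fintype.card ι) :
    blockRank p (Fam α p κ) ≤ (MP (Ioo 0 p) w).ncard := by
  classical
  have hp0 := hp.out.pos
  let V : Finset (ι → ℤ) := {β ∈ Γ ι α | core p β = κ ∧ ∀ i, κ i % p = 0 → β i = κ i}
  refine le_trans ?_ (Set.ncard_coe_finset V ▸ Set.ncard_le_ncard_of_injOn (quo p κ) (fun β h => ?_)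
    (fun β h β' h' => ?_) (finite_MP w))
  · refine le_trans (Submodule.finrank_mono (Submodule.span_le.2 ?_)) ((finrank_span_finset_le_card
      (V.image fun β => pRegularPart p (X β))).trans card_image_le)
    rintro _ ⟨ψ, ⟨β, ⟨ε, r⟩, c⟩, rfl⟩
    refine (Subspace.forall_mem_dualAnnihilator_apply_eq_zero_iff _ _).1 fun f hf => ?_
    have := eq_zero_of_vac hp0 hκ (le_trans (by nlinarith [hκ.le]) (hκ.card_runner hN hp0))
      (v := fun γ => f (rpL _ p (X γ))) (fun σ γ => by simp [X_comp])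
      (fun γ h => hκ.sum ▸ good_of_X fun e => h (by simp [e])) (fun k hk γ hγ => ?_)
      (fun β c h => ?_) _ (β := β) (fun i => by rw [← c, core_mod]) (lt_add_of_sub_left_lt
        (Int.lt_toNat.1 (Nat.lt_succ_self _) |>.trans_le' (Int.self_le_toNat _)))
    · simp [r, ← rpL_apply, this]
    · rw [← map_sum, ← map_sum, rpL_apply, (rp_congr (ψ := 0)).2 fun g hg => ?_, ← rpL_apply, map_zero,
        map_zero]
      have := heis (k := p * k) (by positivity) (ct g) (ct_sum g ▸ by nlinarith) hγ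
      rw [Multiset.count_eq_zero.2 fun e => hg (dvd_orderOf_iff.2 ⟨_, e, dvd_mul_right _ _⟩)] at this
      simp only [Finset.sum_apply, X, ← Int.cast_sum, this]
      simp
    · by_cases e : β ∈ Γ ι α
      · exact (Submodule.mem_dualAnnihilator f).1 hf _ (Submodule.subset_span
          (mem_coe.2 (mem_image_of_mem _ (mem_filter.2 ⟨e, c, h⟩))))
      · simp [of_not_not (mt mem_Γ.2 e)]
  · obtain ⟨h1, h2, h3⟩ := mem_filter.1 h
    have := good_of_X (mem_Γ.1 h1)
    refine quo_mem hp0 this.1 h2 (this.2.trans hκ.sum.symm) fun i hi => mem_Ioo.2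
      ⟨(Int.emod_nonneg _ (by positivity)).lt_of_ne' (mt (h3 i) hi),
        Int.emod_lt_of_pos _ (by positivity)⟩
  · exact quo_inj hp0 (good_of_X (mem_Γ.1 (mem_filter.1 h).1)).1 (mem_filter.1 h).2.1
      (good_of_X (mem_Γ.1 (mem_filter.1 h').1)).1 (mem_filter.1 h').2.1

end H7.Sn
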