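import Cfsg.Agent.H7.Sym5
import Cfsg.Agent.H21.SymSyl2
import Cfsg.Agent.H21.KB2
import Cfsg.Agent.H0.RepCore

/-! Blocks of alternating groups: defect groups and the bound `l(B) < p ^ s`. -/

set_option autoImplicit false
open Finset Equiv Function Cfsg H5 H8 H28 H21 MonoidAlgebra

namespace H7

section General
variable {G : Type*} [Group G] {p : ℕ} {M : Ideal AlgInt}

theorem card_le_of_sec {s : ℕ} (hs : SectionalPRankLE p s G) {E : Type*} [CommGroup E] (f : E →* G)
    (hf : Injective f) (h : ∀ a : E, a ^ p = 1) : Nat.card E ≤ p ^ s := by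
  let g := (QuotientGroup.mk' ⊥).comp (f.codRestrict ⊤ fun _ => Subgroup.mem_top _)
  have := hs ⊤ ⊥ g.range inferInstance (by rintro _ ⟨a, rfl⟩; rw [← map_pow, h, map_one])
  rwa [← Nat.card_congr (g.ofInjective (QuotientGroup.quotientBot.symm.injective.comp
    fun a b e => hf (congrArg Subtype.val e))).toEquiv] at this

theorem exists_invol {ι : Type*} [Fintype ι] [DecidableEq ι] {A : Matrix ι ι ℕ} (h : A * A = 1) :
    ∃ τ : ι → ι, Involutive τ ∧ ∀ j l, A j l = if l = τ j then 1 else 0 := by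
  have h1 : ∀ j, ∃ k, A j k = 1 ∧ A k j = 1 := fun j => by
    have e : ∑ k, A j k * A k j = 1 := by simpa [Matrix.mul_apply] using congrFun₂ h j j
    obtain ⟨k, -, hk⟩ := exists_ne_zero_of_sum_ne_zero (e ▸ one_ne_zero)
    exact ⟨k, mul_eq_one.1 (le_antisymm (e ▸ single_le_sum (f := fun k => A j k * A k j)
      (fun _ _ => Nat.zero_le _) (mem_univ k)) (Nat.pos_of_ne_zero hk))⟩
  choose τ h2 h3 using h1
  have h4 : ∀ j l, A j l = if l = τ j then 1 else 0 := fun j l => by
    split_ifs with e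
    · rw [e, h2]
    · have := congrFun₂ h (τ j) l
      rw [Matrix.mul_apply, Matrix.one_apply_ne' e, sum_eq_zero_iff] at this
      simpa [h3] using this j (mem_univ _)
  exact ⟨τ, fun j => by_contra fun e => by simpa [h3, Ne.symm e] using h4 (τ j) j, h4⟩

variable [Finite G]

theorem exists_hom_sylow [Fact p.Prime] (P : Sylow p G) (K : Subgroup G) [hK : K.Normal] {E : Type*}
    [Group E] (h : ∀ a : E, a ^ p = 1) {g : E →* G} (hg : Injective g) (hK' : ∀ a, g a ∈ K) :
    ∃ f : E →* ↥(P.1 ⊓ K), Injective f := by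
  obtain ⟨c, hc⟩ := exists_map_conj_le P (R := g.range) (IsPGroup.of_surjective (G := E)
    (fun a => ⟨1, by simpa using h a⟩) _ g.rangeRestrict_surjective)
  exact ⟨((MulAut.conj c).toMonoidHom.comp g).codRestrict _ fun a => ⟨hc ⟨_, ⟨a, rfl⟩, rfl⟩,
    hK.conj_mem _ (hK' a) c⟩, fun a b e => hg ((MulAut.conj c).injective (congrArg Subtype.val e))⟩

/-- `l(B) ≤ 2 dim V` when `V` contains the `σ`-symmetrisations. -/
theorem blockRank_le_two_mul (hM : IsPModular p M) {B : Set (IrrCharacter G)} (hB : IsPBlock M B)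
    (σ : G ≃* G) (hσ : ∀ φ, IsClassFunction G φ → (φ ∘ σ) ∘ σ = φ) {V : Submodule ℂ (G → ℂ)}
    (hV : ∀ θ ∈ B, pRegularPart p θ.1 + pRegularPart p θ.1 ∘ σ ∈ V) :
    blockRank p B ≤ 2 * Module.finrank ℂ V := by
  classical
  obtain ⟨W⟩ := exists_wed G M
  let A : Matrix (Fin W.L) (Fin W.L) ℕ := fun j l => (W.π (redG M (emb σ.toMonoidHom (W.i l))) j).rank
  have h1 : ∀ j l, ev (W.φ hM j ∘ σ) (W.i l) = A j l := fun j l =>
    (ev_emb σ.toMonoidHom _ _).symm.trans (Wed.Lift.ev_φ hM ⟨emb_mem_VG _ (W.lift_i l).mem,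
      (W.lift_i l).idem.map _, rfl⟩ j)
  have h2 : ∀ j, W.φ hM j ∘ σ = ∑ l, (A j l : ℂ) • W.φ hM l := fun j => by
    simp only [← h1]
    refine .trans (funext fun g => ?_)
      (W.rp_eq_sum_φ hM ((W.isClassFunction_φ hM j).comp σ.toMonoidHom))
    simpa [H21.rp_apply] using (congrFun (W.rp_φ hM j) (σ g)).symm
  obtain ⟨τ, h3, h4⟩ := exists_invol (A := A) (Matrix.ext fun j l => by
    have := congrArg (ev · (W.i l)) (hσ _ (W.isClassFunction_φ hM j))
    simp only [h2 j, show ∀ (f : Fin W.L → G → ℂ), (∑ l, f l) ∘ σ = ∑ l, f l ∘ σ from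
      fun f => by ext; simp, ev_sum_left, Pi.smul_comp, ev_smul_left, h1, W.ev_φ_i] at this
    rw [Matrix.mul_apply, Matrix.one_apply, ← Nat.cast_inj (R := ℂ)]
    simpa [eq_comm] using this)
  let S := {j ∈ W.blk B | τ j ∈ W.blk B → j ≤ τ j}
  have h5 : #(W.blk B) ≤ 2 * #S := (card_le_card (t := S ∪ S.image τ) fun j hj => by
    by_cases e : τ j ∈ W.blk B ∧ τ j ≤ j
    · exact mem_union_right _ (mem_image.2 ⟨τ j, by simp [S, e, h3 j], h3 j⟩)
    · exact mem_union_left _ (mem_filter.2 ⟨hj, fun e' => (not_le.1 fun h => e ⟨e', h⟩).le⟩)).trans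
      ((card_union_le _ _).trans (by have := card_image_le (s := S) (f := τ); omega))
  have h6 : ∀ j : S, W.φ hM j + W.φ hM j ∘ σ ∈ V := fun j => by
    obtain ⟨c, hc⟩ := Wed.exists_int_φ hM hB (mem_filter.1 j.2).1
    rw [hc, show ∀ (f : IrrCharacter G → G → ℂ) s, (∑ l ∈ s, f l) ∘ σ = ∑ l ∈ s, f l ∘ σ from
      fun f s => by ext; simp, ← sum_add_distrib]
    exact sum_mem fun θ hθ => by
      simpa only [Pi.smul_comp, ← smul_add] using V.smul_mem _ (hV θ (mem_filter.1 hθ).2)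
  rw [← Wed.card_blk (W := W) hM hB]
  refine h5.trans (Nat.mul_le_mul_left 2 (Fintype.card_coe S ▸ LinearIndependent.fintype_card_le_finrank
    (b := fun j : S => (⟨_, h6 j⟩ : V)) (.of_comp V.subtype (Fintype.linearIndependent_iff.2
      fun c hc j => ?_))))
  have := congrArg (ev · (W.i j)) hc
  simp only [comp, Submodule.subtype_apply, ev_sum_left, ev_smul_left, ev_add_left, h1, W.ev_φ_i,
    h4] at this
  rw [sum_eq_single j (fun l _ e => ?_) (by simp)] at this
  · refine (mul_eq_zero.1 (this.trans (ev_zero_left _))).resolve_right ?_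
    rw [if_pos rfl]; split_ifs <;> norm_num
  · have e' : j.1 ≠ l := fun h => e (Subtype.ext h.symm)
    rw [if_neg e', if_neg fun h => e' (le_antisymm ?_ ?_)]
    · simp
    · simpa [h, h3 l.1] using (mem_filter.1 j.2).2 (by simpa [h, h3 l.1] using (mem_filter.1 l.2).1)
    · exact h ▸ (mem_filter.1 l.2).2 (h ▸ (mem_filter.1 j.2).1)

variable {N : Subgroup G} [N.Normal] [Fintype N] {χ : IrrCharacter G} {θ : IrrCharacter N} {t : G}
  {B : Set (IrrCharacter G)} {b : Set (IrrCharacter N)}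

theorem res_two (hN : N.index = 2) (ht : t ∉ N) (h : classInner (fun n : N => χ.1 n) θ.1 ≠ 0) :
    ∃ c : ℂ, θ.1 + H6.cj t θ.1 = c • fun n : N => χ.1 n := by
  classical
  have h1 : H6.cjSet θ.1 = {θ.1, H6.cj t θ.1} := Finset.ext fun φ => by
    rw [H6.mem_cjSet, mem_insert, mem_singleton]
    refine ⟨?_, fun e => e.elim (fun e => ⟨1, by simp [e]⟩) fun e => ⟨t, e.symm⟩⟩
    rintro ⟨g, rfl⟩
    have := H6.le_inertia θ.2.isCharacter.isClassFunction
    by_cases e : g ∈ N
    · exact .inl (this e)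
    · exact .inr (H6.cj_eq_cj_iff.2 (this (by simp [N.mul_mem_iff_of_index_two hN, e, ht])))
  rw [H6.clifford χ.2 θ.2 h, h1]
  by_cases e : θ.1 = H6.cj t θ.1
  · exact ⟨2 / _, by rw [← e, pair_eq_singleton, sum_singleton, smul_smul, div_mul_cancel₀ _ h, two_smul]⟩
  · exact ⟨_⁻¹, by rw [sum_pair e, inv_smul_smul₀ h]⟩

theorem res_eq (hN : N.index.Prime) (ht : t ∉ N) (h0 : χ.1 t ≠ 0)
    (h : classInner (fun n : N => χ.1 n) θ.1 ≠ 0) : (fun n : N => χ.1 n) = θ.1 := by_contra fun e =>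
  h (((H0.irr_or_vanish χ.2 N hN).resolve_right fun h => h0 (h t ht)).classInner_of_ne θ.2 e)

omit [N.Normal] [Fintype N] in
theorem exists_res_sp (B : Set (IrrCharacter G)) : ∃ V : Submodule ℂ (N → ℂ),
    Module.finrank ℂ V ≤ blockRank p B ∧ ∀ χ ∈ B, pRegularPart p (fun n : N => χ.1 n) ∈ V :=
  ⟨_, Submodule.finrank_map_le (LinearMap.funLeft ℂ ℂ Subtype.val) _, fun χ h =>
    ⟨_, Submodule.subset_span ⟨χ, h, rfl⟩, by ext; simp [H21.rp_apply]⟩⟩

variable (hM : IsPModular p M) (hB : IsPBlock M B) (hb : IsPBlock M b) (h : eB M B * eb M N b ≠ 0)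
include hM hB hb h

theorem rank_le_two_mul (hN : N.index = 2) : blockRank p b ≤ 2 * blockRank p B := by
  obtain ⟨V, h1, h2⟩ := exists_res_sp (N := N) (p := p) B
  obtain ⟨t, ht⟩ : ∃ t, t ∉ N := by_contra fun e => by
    simp [(Subgroup.eq_top_iff' N).2 (by simpa using e)] at hN
  refine (blockRank_le_two_mul hM hb (MulAut.conjNormal t) (fun φ hφ => ?_) fun θ hθ => ?_).trans
    (Nat.mul_le_mul_left 2 h1)
  · exact (H6.cj_mul t t φ).symm.trans (H6.cj_of_mem hφ (N.mul_self_mem_of_index_two hN t))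
  · obtain ⟨χ, hχ, e⟩ := exists_above_of_cover hM hB hb h hθ
    obtain ⟨c, hc⟩ := res_two hN ht e
    convert V.smul_mem c (h2 χ hχ) using 1
    rw [← rpL_apply, ← rpL_apply, ← map_smul, ← hc, map_add]
    congr 1
    ext g
    simp [rpL_apply, H21.rp_apply, H6.cj_eq_comp]

theorem rank_le (hN : N.index.Prime) (ht : t ∉ N) (h0 : ∀ χ ∈ B, χ.1 t ≠ 0) :
    blockRank p b ≤ blockRank p B := by
  obtain ⟨V, h1, h2⟩ := exists_res_sp (N := N) (p := p) B
  refine (Submodule.finrank_mono (Submodule.span_le.2 ?_)).trans h1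
  rintro _ ⟨θ, hθ, rfl⟩
  obtain ⟨χ, hχ, e⟩ := exists_above_of_cover hM hB hb h hθ
  simpa [res_eq hN ht (h0 χ hχ) e] using h2 χ hχ

end General

namespace Sn
variable {ι α F : Type*} [Fintype ι] [DecidableEq ι] [Fintype α] [DecidableEq α] {p : ℕ}
  [Fintype F] [DecidableEq F] {κ : ι → ℤ} {M : Ideal AlgInt} {w : ℕ}

theorem exists_base {K : Type*} [Group K] [Fintype K] (h : Fintype.card K * w ≤ Fintype.card F) :
    ∃ g : (Fin w → K) →* Perm F, Injective g ∧
      ((∀ k : K, ∃ a : Perm K, MulAction.toPerm k = a * a) → ∀ v, g v ∈ alternatingGroup F) := by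
  obtain ⟨e⟩ : Nonempty (K × Fin w ↪ F) := Embedding.nonempty_of_card_le (by simpa)
  let f := (Perm.viaEmbeddingHom e).comp ((wrPerm (.id _)).comp SemidirectProduct.inl)
  refine ⟨f.comp ((MulAction.toPermHom K K).compLeft _), ((Perm.viaEmbeddingHom_injective e).comp
    ((wrPerm_inj injective_id).comp SemidirectProduct.inl_injective)).comp
      MulAction.toPerm_injective.comp_left, fun h v => ?_⟩
  choose a ha using h
  rw [MonoidHom.comp_apply, show (MulAction.toPermHom K K).compLeft _ v = a ∘ v * a ∘ v from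
    funext fun i => ha _, map_mul, Perm.mem_alternatingGroup, map_mul, Int.units_mul_self]

theorem exists_cp [NeZero p] (h : Fintype.card F / p = w) :
    ∃ g : (Fin w → Cp p) →* Perm F, Injective g :=
  (exists_base (by simpa [← h] using Nat.mul_div_le _ p)).imp fun _ h => h.1

theorem card_Ioo (hp : 0 < p) : #(Ioo (0 : ℤ) p) + 1 = p := by rw [Int.card_Ioo]; omega

theorem sym_rank_lt [hp : Fact p.Prime] (hM : IsPModular p M) {B : Set (IrrCharacter (Perm α))}
    (hB : IsPBlock M B) {D : Subgroup (Perm α)} (hD : IsDefectGroup p M B D) (h1 : D ≠ ⊥) {s : ℕ}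
    (hs : SectionalPRankLE p s D) : blockRank p B < p ^ s := by
  obtain ⟨κ, w, hκ, rfl⟩ := exists_fam (ι := Fin ((p + 1) * Fintype.card α)) hM
    (by simp [add_mul]) hB
  obtain ⟨y, -, P, rfl, hw⟩ := defect_str hM hκ hB hD
  obtain ⟨g, hg⟩ := exists_cp hw
  obtain ⟨f, hf⟩ := exists_hom_sylow P ⊤ zmod_pow_eq_one hg fun _ => trivial
  let e := P.1.equivMapOfInjective _ Perm.ofSubtype_injective
  have := card_le_of_sec hs (e.toMonoidHom.comp ((Subgroup.inclusion inf_le_left).comp f))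
    (e.injective.comp ((Subgroup.inclusion_injective inf_le_left).comp hf)) zmod_pow_eq_one
  refine ((blockRank_le hκ (by simp)).trans_lt (ncard_MP_lt (Nat.pos_of_ne_zero ?_))).trans_le ?_
  · rintro rfl
    refine h1 (by
      rw [Subgroup.card_eq_one.1 (P.card_eq_multiplicity.trans _), Subgroup.map_bot]
      simp [Fintype.card_perm, fact_factorial hp.out, hw])
  · rw [card_Ioo hp.out.pos]; simpa [Nat.card_pi] using this

theorem alt_str [Fact p.Prime] (hM : IsPModular p M) (hN : Fintype.card α ≤ Fintype.card ι)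
    {b : Set (IrrCharacter (alternatingGroup α))} (hb : IsPBlock M b)
    {D : Subgroup (alternatingGroup α)} (hD : IsDefectGroup p M b D) :
    ∃ (κ : ι → ℤ) (w : ℕ), Wt α p κ w ∧ IsPBlock M (Fam α p κ) ∧
      eB M (Fam α p κ) * eb M (alternatingGroup α) b ≠ 0 ∧
      ∃ (y : Perm α) (P : Sylow p (Perm {a // y a = a})), Fintype.card {a // y a = a} / p = w ∧
        IsDefectGroup p M (Fam α p κ) (P.1.map Perm.ofSubtype) ∧
        Nonempty (↥(P.1 ⊓ alternatingGroup _) ≃* D) := by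
  have := charP_kk hM
  obtain ⟨B, hB, h⟩ := exists_covering hM hb
  obtain ⟨κ, w, hκ, rfl⟩ := exists_fam hM hN hB
  obtain ⟨E, h1, h2⟩ := exists_isDef_inf_eq le_top (Subgroup.normalizer_eq_top _).ge (isPrim_eB hM hB)
    (isPrim_eb hM hb) h ((isDefectGroup_iff_map hM hb).1 hD)
  rw [← H8.isDefectGroup_iff hM hB] at h1
  obtain ⟨y, -, P, rfl, hw⟩ := defect_str hM hκ hB h1
  refine ⟨κ, w, hκ, hB, h, y, P, hw, h1, ⟨(Subgroup.equivMapOfInjective _ _
    Perm.ofSubtype_injective).trans ((MulEquiv.subgroupCongr (.trans ?_ h2)).trans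
      (D.equivMapOfInjective _ Subtype.val_injective).symm)⟩⟩
  ext g
  simp only [Subgroup.mem_map, Subgroup.mem_inf, Perm.mem_alternatingGroup]
  exact ⟨fun ⟨x, h, e⟩ => ⟨⟨x, h.1, e⟩, by simp [← e, h.2]⟩,
    fun ⟨⟨x, h, e⟩, h'⟩ => ⟨x, ⟨h, by simpa [← e] using h'⟩, e⟩⟩

theorem defect_le [hp : Fact p.Prime] {P : Subgroup (Perm F)} {d : ℕ} (hw : Fintype.card F / p = w)
    (h : Nat.card ↥(P ⊓ alternatingGroup F) = p ^ d) :
    d ≤ w + w.factorial.factorization p ∧ (p = 2 → w ≠ 0 → d + 1 ≤ w + w.factorial.factorization p) := by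
  rw [← hw, ← fact_factorial hp.out, ← hp.out.pow_dvd_iff_le_factorization (Nat.factorial_ne_zero _),
    ← hp.out.pow_dvd_iff_le_factorization (Nat.factorial_ne_zero _), pow_succ', ← h]
  refine ⟨by simpa [Fintype.card_perm] using Subgroup.card_subgroup_dvd_card (P ⊓ alternatingGroup F), ?_⟩
  rintro rfl h0
  rw [← card_alt_two_mul (by omega)]
  exact Nat.mul_dvd_mul_left _ (Subgroup.card_dvd_of_le inf_le_right)

theorem Wt.ne_zero (hp : 0 < p) (hκ : Wt α p κ w) {x : Perm α} (hx : x.cycleType = .replicate w p)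
    {χ : IrrCharacter (Perm α)} (h : χ ∈ Fam α p κ) : χ.1 x ≠ 0 := by
  obtain ⟨β, r, c⟩ := h
  have h1 : x.cycleType.sum = p * w := by simp [hx, mul_comm]
  have := X_mul hp hκ (Perm.disjoint_one_right x) (hx ▸ dvd_rep w) h1.ge c
  rw [mul_one, hx, X, ← Int.cast_mul, Int.cast_inj] at this
  rw [Ne, r.eq_zero_iff, this]
  exact mul_ne_zero (hκ.co_one_ne_zero h1) (hκ.phi_pos hp r c).ne'

theorem v4 : (∀ k : Cp 2 × Cp 2, k ^ 2 = 1) ∧
    ∀ k : Cp 2 × Cp 2, ∃ a : Perm (Cp 2 × Cp 2), MulAction.toPerm k = a * a := by decide +kernel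

theorem alt_rank_lt [hp : Fact p.Prime] (hM : IsPModular p M)
    {b : Set (IrrCharacter (alternatingGroup α))} (hb : IsPBlock M b)
    {D : Subgroup (alternatingGroup α)} (hD : IsDefectGroup p M b D) (h1 : D ≠ ⊥) {s : ℕ}
    (hs : SectionalPRankLE p s D) : blockRank p b < p ^ s := by
  obtain ⟨κ, w, hκ, hB, h, y, P, hw, -, ⟨e⟩⟩ := alt_str (ι := Fin ((p + 1) * Fintype.card α)) hM
    (by simp [add_mul]) hb hD
  have : Nontrivial α := by_contra fun e => h1 (by
    rw [not_nontrivial_iff_subsingleton] at e; exact Subsingleton.elim _ _)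
  have key : ∀ {E : Type} [CommGroup E], (∀ a : E, a ^ p = 1) → ∀ g : E →* Perm {a // y a = a},
      Injective g → (∀ a, g a ∈ alternatingGroup _) → Nat.card E ≤ p ^ s := fun h g h1 h2 =>
    have ⟨f, hf⟩ := exists_hom_sylow P _ h h1 h2
    card_le_of_sec hs (e.toMonoidHom.comp f) (e.injective.comp hf) h
  have hd := defect_le hw ((Nat.card_congr e.toEquiv).trans (card_isDefectGroup hM hb hD))
  have h0 := mt (blockDefect_eq_zero_iff hM hb hD).1 h1
  have h2 := blockRank_le hκ (by simp)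
  have h3 := fun h => (Nat.mul_le_mul_left 2 h2).trans_lt (two_mul_ncard_MP_lt h)
  rw [card_Ioo hp.out.pos] at h3
  obtain ⟨g, hg⟩ := exists_cp hw
  by_cases hw' : p = 2 ∧ Odd w
  · obtain ⟨rfl, ho⟩ := hw'
    obtain ⟨x, hx⟩ := exists_cycleType_rep Nat.prime_two hκ.le
    have h4 := rank_le hM hB hb h (t := x) (by simp [Nat.prime_two]) (by
      simp [Perm.mem_alternatingGroup, Perm.sign_of_cycleType, hx, pow_add, ho.neg_one_pow, pow_mul'])
      fun χ => hκ.ne_zero two_pos hx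
    have h5 := key (E := (Perm.sign.comp g).ker) (fun a => Subtype.ext (zmod_pow_eq_one _))
      (g.comp (Subgroup.subtype _)) (hg.comp Subtype.val_injective) fun a => a.2
    have h6 := (Perm.sign.comp g).ker.card_mul_index
    have h7 : (Perm.sign.comp g).ker.index ≤ 2 := by
      simpa [Subgroup.index_ker] using Subgroup.card_le_card_group (Perm.sign.comp g).range
    have h8 := h3 (by_contra fun e => by
      obtain rfl : w = 1 := by grind
      simpa [h0] using hd.2 rfl one_ne_zero)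
    rw [show Nat.card (Fin w → Cp 2) = 2 ^ w by simp [Nat.card_pi]] at h6
    nlinarith [Nat.mul_le_mul h5 h7]
  have h4 : p ^ w ≤ p ^ s := by
    rcases hp.out.eq_two_or_odd' with rfl | ho
    · obtain ⟨k, rfl⟩ := Nat.not_odd_iff_even.1 fun h => hw' ⟨rfl, h⟩
      obtain ⟨g, hg, h⟩ := exists_base (K := Cp 2 × Cp 2) (w := k) (F := {a // y a = a}) (by
        simp; omega)
      simpa [Nat.card_pi, pow_add, ← mul_pow] using key (fun a => funext fun i => v4.1 _) g hg (h v4.2)
    · simpa [Nat.card_pi] using key zmod_pow_eq_one g hg fun a => mem_alt_of_odd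
        (ho.of_dvd_nat (orderOf_dvd_of_pow_eq_one (by rw [← map_pow, zmod_pow_eq_one, map_one])))
  refine .trans_le ?_ h4
  rcases le_or_gt 3 w with h5 | h5
  · exact (rank_le_two_mul hM hB hb h alternatingGroup.index_eq_two).trans_lt (h3 h5)
  have h6 : blockDefect p b ≤ w := by
    rcases hp.out.eq_two_or_odd' with rfl | ho
    · have := Nat.prime_two.factorization_self
      interval_cases w <;> simp_all [Nat.factorial, Nat.lt_succ_iff]
    · simpa [Nat.factorization_eq_zero_of_not_dvd (mt hp.out.dvd_factorial.1 (show ¬ p ≤ w by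
        have := hp.out.two_le; grind))] using hd.1
  exact (not_le.1 (mt (defect_eq_zero_of_card_eq hM hb) h0)).trans_le
    (((H21.card_le_pow_defect hM _ hb rfl).1 (by omega)).trans (Nat.pow_le_pow_right hp.out.pos h6))

end Sn

end H7
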