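import Cfsg.Agent.H7.Sym6

/-! The characters `(n-1,1)`, `(n-2,2)`, `(n-2,1,1)` of symmetric groups. -/

set_option autoImplicit false
open Finset Equiv Function Cfsg H5

namespace H7.Sn

variable {ι α : Type*} [Fintype ι] [DecidableEq ι] [Fintype α] [DecidableEq α]

theorem rec_three {V : Multiset ℕ → ℤ → ℤ → ℤ → ℤ} (h0 : V 0 0 0 0 = 1)
    (h4 : ∀ μ a b c, c < 0 → V μ a b c = 0) (h5 : ∀ μ a b c, V μ a b c = -V μ a (c - 1) (b + 1))
    (h6 : ∀ μ a b c, V μ a b c = -V μ (b - 1) (a + 1) c) (h9 : ∀ μ (k : ℕ) a b c, 0 < k →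
      V (k ::ₘ μ) a b c = V μ (a - k) b c + V μ a (b - k) c + V μ a b (c - k)) (μ : Multiset ℕ) :
    0 ∉ μ → V μ μ.sum 0 0 = 1 ∧ V μ (μ.sum - 1) 1 0 = μ.count 1 - 1 ∧
    2 * V μ (μ.sum - 2) 2 0 = μ.count 1 * (μ.count 1 - 3) + 2 * μ.count 2 ∧
    2 * V μ (μ.sum - 2) 1 1 = (μ.count 1 - 1) * (μ.count 1 - 2) - 2 * μ.count 2 := by
  have h7 : ∀ μ a b c, b = c - 1 → V μ a b c = 0 := fun μ a b c e => by
    have := h5 μ a (c - 1) c; rw [sub_add_cancel] at this; subst e; omega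
  have h8 : ∀ μ a b c, b < -1 → V μ a b c = 0 := fun μ a b c e => by
    rw [h5, h4 _ _ _ _ (by omega), neg_zero]
  refine μ.induction_on (fun _ => ?_) fun k μ ih h0 => ?_
  · simp [h0, h6 0 (-1) 1 0, h6 0 (-2) 1 1, h6 0 (-2) 2 0, h5 0 0 (-1) 1, h7 0 1 (-1) 0]
  obtain ⟨hk, h0⟩ : 0 < k ∧ 0 ∉ μ := by simpa [Nat.pos_iff_ne_zero, eq_comm] using h0
  obtain ⟨i1, i2, i3, i4⟩ := ih h0
  simp only [h9 _ _ _ _ _ hk, Multiset.sum_cons, Nat.cast_add, add_sub_cancel_left, sub_right_comm _ _ (k : ℤ),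
    Multiset.count_cons, i1, i2, i3, i4, mul_add, h4 _ _ _ (0 - k) (by omega)]
  generalize (μ.sum : ℤ) = m at *
  obtain rfl | rfl | h10 : k = 1 ∨ k = 2 ∨ 3 ≤ k := by omega
  · simp [h7, i1, i2, show 1 + m - 2 = m - 1 by ring]
    constructor <;> ring
  · simp [h7, h4, h8, h5 μ _ (-1) 1, i1]
    constructor <;> ring
  · rw [h8 _ _ (0 - k) _ (by omega), h8 _ _ (1 - k) 0 (by omega), h8 _ _ (1 - k) _ (by omega),
      h4 _ _ _ (1 - k) (by omega), if_neg (by omega), if_neg (by omega)]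
    rcases h10.eq_or_lt with rfl | h
    · simp [h7]
    · simp [h8 _ _ (2 - k) _ (by omega)]

theorem exists_three (h : 3 ≤ Fintype.card ι) : ∃ γ : ℤ → ℤ → ℤ → ι → ℤ, ∀ μ : Multiset ℕ, 0 ∉ μ →
    (St ι μ).coeff (γ μ.sum 0 0) = 1 ∧ (St ι μ).coeff (γ (μ.sum - 1) 1 0) = μ.count 1 - 1 ∧
    2 * (St ι μ).coeff (γ (μ.sum - 2) 2 0) = μ.count 1 * (μ.count 1 - 3) + 2 * μ.count 2 ∧
    2 * (St ι μ).coeff (γ (μ.sum - 2) 1 1) = (μ.count 1 - 1) * (μ.count 1 - 2) - 2 * μ.count 2 := by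
  obtain ⟨N, hN⟩ := Nat.exists_eq_add_of_le' h
  have h1 : ∀ a < N + 3, ∃ j, dl ι j = a := fun a ha => exists_eq_of_lt good_dl (m := 0) (by simp) (by omega)
  obtain ⟨r, hr⟩ := h1 N (by omega)
  obtain ⟨s, hs⟩ := h1 (N + 1) (by omega)
  obtain ⟨t, ht⟩ := h1 (N + 2) (by omega)
  have e1 : t ≠ s := fun e => by rw [e] at ht; omega
  have e2 : t ≠ r := fun e => by rw [e] at ht; omega
  have e3 : s ≠ r := fun e => by rw [e] at hs; omega
  let γ : ℤ → ℤ → ℤ → ι → ℤ := fun a b c => dl ι + Pi.single t a + Pi.single s b + Pi.single r c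
  have h2 : ∀ μ (δ : ι → ℤ) i, δ i < N → δ i < dl ι i → (∀ j ≠ i, dl ι j < N → δ j = dl ι j) →
      (St ι μ).coeff δ = 0 := fun μ δ i e e' h => by_contra fun h0 => by
    obtain ⟨j, hj⟩ := h1 (δ i).toNat (by omega)
    have := (good_of_St h0).nn i
    have h3 : j ≠ i := fun e => by rw [e] at hj; omega
    exact h3 ((good_of_St h0).inj (by rw [h j h3] <;> omega))
  have h3 : ∀ a b c j, dl ι j < N → γ a b c j = dl ι j := fun a b c j e => by
    have : j ≠ t ∧ j ≠ s ∧ j ≠ r := by refine ⟨?_, ?_, ?_⟩ <;> rintro rfl <;> omega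
    simp [γ, this]
  have h4 : ∀ μ a b c, c < 0 → (St ι μ).coeff (γ a b c) = 0 := fun μ a b c e =>
    h2 μ _ r (by simp [γ, e2.symm, e3.symm, hr, e]) (by simp [γ, e2.symm, e3.symm, e]) fun j _ => h3 a b c j
  have h5 : ∀ μ a b c, (St ι μ).coeff (γ a b c) = -(St ι μ).coeff (γ a (c - 1) (b + 1)) := fun μ a b c => by
    rw [show γ a b c = γ a (c - 1) (b + 1) ∘ swap s r from funext fun i => ?_, as_St]
    · simp [e3]
    simp only [γ, comp, Pi.add_apply, Pi.single_apply, swap_apply_def]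
    grind
  have h6 : ∀ μ a b c, (St ι μ).coeff (γ a b c) = -(St ι μ).coeff (γ (b - 1) (a + 1) c) := fun μ a b c => by
    rw [show γ a b c = γ (b - 1) (a + 1) c ∘ swap t s from funext fun i => ?_, as_St]
    · simp [e1]
    simp only [γ, comp, Pi.add_apply, Pi.single_apply, swap_apply_def]
    grind
  have h9 : ∀ μ (k : ℕ) a b c, 0 < k → (St ι (k ::ₘ μ)).coeff (γ a b c) = (St ι μ).coeff (γ (a - k) b c) +
      (St ι μ).coeff (γ a (b - k) c) + (St ι μ).coeff (γ a b (c - k)) := fun μ k a b c hk => by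
    rw [St_cons, coeff_ps_mul, ← sum_subset (subset_univ {t, s, r}) fun i _ hi => ?_,
      sum_insert (by simp [e1, e2]), sum_pair e3, add_assoc]
    · congr 3 <;> simp only [γ, Pi.single_sub] <;> abel
    have h10 : dl ι i < N := by
      have := rk_lt_card (p := 1) (dl ι) i
      have := congrFun (core_dl (ι := ι)) i
      have := fun j => good_dl.inj.ne_iff (x := i) (y := j)
      simp [core] at *
      grind
    exact h2 μ _ i (by simp [h3 _ _ _ i h10]; omega) (by simpa [h3 _ _ _ i h10])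
      fun j e e' => by simp [e, h3 _ _ _ j e']
  exact ⟨γ, rec_three (V := fun μ a b c => (St ι μ).coeff (γ a b c))
    (by simpa [γ, St_zero] using coeff_alt_self good_dl.inj) h4 h5 h6 h9⟩

theorem exists_vanish (h : 6 ≤ Fintype.card α) (x : alternatingGroup α)
    (hx : (ct x.1).count 1 * ((ct x.1).count 1 - 3 : ℤ) + 2 * (ct x.1).count 2 = 0 ∨
      ((ct x.1).count 1 - 1 : ℤ) * ((ct x.1).count 1 - 2) - 2 * (ct x.1).count 2 = 0) :
    ∃ χ : IrrCharacter (alternatingGroup α), χ.1 x = 0 ∧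
      ∃ ψ : IrrCharacter (Perm α), ∀ x : alternatingGroup α, ψ.1 x = χ.1 x := by
  obtain ⟨γ, hγ⟩ := exists_three (ι := α) (by omega)
  have := Fintype.one_lt_card_iff_nontrivial.1 (show 1 < Fintype.card α by omega)
  obtain ⟨a, b, hab⟩ := exists_pair_ne α
  have key : ∀ β : α → ℤ, (St α (ct (swap a b))).coeff β ≠ 0 → (St α (ct x.1)).coeff β = 0 →
      ∃ χ : IrrCharacter (alternatingGroup α), χ.1 x = 0 ∧
        ∃ ψ : IrrCharacter (Perm α), ∀ x : alternatingGroup α, ψ.1 x = χ.1 x := fun β h1 h2 => by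
    have h3 := good_of_X (γ := β) fun e => h1 (Int.cast_eq_zero.1 (congrFun e (swap a b)))
    obtain ⟨ψ, r⟩ := rep_of_good le_rfl h3.1 h3.2
    exact ⟨⟨_, (H0.irr_or_vanish ψ.2 _ (by simp [Nat.prime_two])).resolve_right fun e => h1
      (r.eq_zero_iff.1 (e _ (by simp [Perm.mem_alternatingGroup, hab])))⟩, r.eq_zero_iff.2 h2, ψ,
        fun _ => rfl⟩
  obtain ⟨-, -, h1, h2⟩ := hγ _ (zero_notMem_ct (swap a b))
  obtain ⟨-, -, h3, h4⟩ := hγ _ (zero_notMem_ct x.1)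
  obtain ⟨m, hm⟩ := Nat.exists_eq_add_of_le' h
  have h5 : (ct (swap a b)).count 1 = m + 4 ∧ (ct (swap a b)).count 2 = 1 := by
    simp [ct_eq, (Perm.isCycle_swap hab).cycleType, Perm.card_support_swap hab, hm,
      Multiset.count_replicate]
  rw [ct_sum] at h1 h2 h3 h4
  rw [h5.1, h5.2] at h1 h2
  push_cast at h1 h2
  exact hx.elim (fun e => key (γ _ 2 0) (fun h => by rw [h] at h1; nlinarith) (by omega))
    fun e => key (γ _ 1 1) (fun h => by rw [h] at h2; nlinarith) (by omega)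

theorem exists_vanish' (h : 6 ≤ Fintype.card α) (ρ : Multiset ℕ) (f : ℕ) (h1 : ∀ k ∈ ρ, 2 ≤ k)
    (h2 : ρ.sum + f = Fintype.card α) (h3 : Even (ρ.sum + ρ.card))
    (hx : f * (f - 3 : ℤ) + 2 * ρ.count 2 = 0 ∨ (f - 1 : ℤ) * (f - 2) - 2 * ρ.count 2 = 0) :
    ∃ χ : IrrCharacter (alternatingGroup α), ∃ x : alternatingGroup α, orderOf x = ρ.lcm ∧ χ.1 x = 0 ∧
      ∃ ψ : IrrCharacter (Perm α), ∀ x : alternatingGroup α, ψ.1 x = χ.1 x := by
  obtain ⟨x, rfl⟩ := (Perm.exists_with_cycleType_iff α (m := ρ)).2 ⟨by omega, h1⟩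
  obtain ⟨χ, h4⟩ := exists_vanish h ⟨x, by
    rw [Perm.mem_alternatingGroup, Perm.sign_of_cycleType, h3.neg_one_pow]⟩ (by
      simpa [ct_eq, ← h2, Multiset.count_replicate,
        Multiset.count_eq_zero.2 fun e => absurd (h1 1 e) (by decide)] using hx)
  exact ⟨χ, _, by simp [← Subgroup.orderOf_coe, Perm.lcm_cycleType], h4⟩

end H7.Sn
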