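import Cfsg.Agent.H7.T3f

/-! Tables of orders, II. -/

set_option autoImplicit false

namespace H7.T3

def tb5 : List (ℕ × ℕ × List (ℕ × ℕ)) :=
 [(6849024, 13, [(2, 9), (3, 1), (7, 3), (13, 1)]), (7300608, 97, [(2, 9), (3, 1), (7, 2), (97, 1)]),
  (7413504, 197, [(2, 8), (3, 1), (7, 2), (197, 1)]), (7639296, 29, [(2, 8), (3, 1), (7, 3), (29, 1)]),
  (7873152, 29, [(2, 7), (3, 1), (7, 1), (29, 1), (101, 1)]), (8429568, 3, [(2, 13), (3, 1), (7, 3)]),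
  (8945664, 7, [(2, 15), (3, 1), (7, 1), (13, 1)]), (9332736, 31, [(2, 11), (3, 1), (7, 2), (31, 1)])]

theorem tb5_ok : tb5.all (tst 4 true) = true := by decide +kernel

def tb6 : List (ℕ × ℕ × List (ℕ × ℕ)) :=
 [(9558528, 127, [(2, 9), (3, 1), (7, 2), (127, 1)]), (9719808, 113, [(2, 12), (3, 1), (7, 1), (113, 1)]),
  (9977856, 29, [(2, 14), (3, 1), (7, 1), (29, 1)]), (10235904, 17, [(2, 12), (3, 1), (7, 2), (17, 1)]),
  (10784256, 59, [(2, 9), (3, 1), (7, 1), (17, 1), (59, 1)]), (13227648, 19, [(2, 7), (3, 1), (7, 2), (19, 1), (37, 1)]),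
  (13687296, 19, [(2, 9), (3, 1), (7, 1), (19, 1), (67, 1)]), (17453184, 43, [(2, 7), (3, 1), (7, 1), (43, 1), (151, 1)])]

theorem tb6_ok : tb6.all (tst 4 true) = true := by decide +kernel

def tb7 : List (ℕ × ℕ × List (ℕ × ℕ)) :=
 [(17799936, 11, [(2, 8), (3, 1), (7, 2), (11, 1), (43, 1)]), (17977344, 19, [(2, 12), (3, 1), (7, 1), (11, 1), (19, 1)]),
  (18154752, 11, [(2, 8), (3, 1), (7, 1), (11, 1), (307, 1)]), (18420864, 11, [(2, 7), (3, 1), (7, 2), (11, 1), (89, 1)]),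
  (19041792, 23, [(2, 9), (3, 1), (7, 2), (11, 1), (23, 1)]), (19969152, 23, [(2, 7), (3, 1), (7, 1), (17, 1), (19, 1), (23, 1)]),
  (20340096, 47, [(2, 7), (3, 1), (7, 2), (23, 1), (47, 1)]), (20719104, 47, [(2, 9), (3, 1), (7, 1), (41, 1), (47, 1)])]

theorem tb7_ok : tb7.all (tst 4 true) = true := by decide +kernel

def tb8 : List (ℕ × ℕ × List (ℕ × ℕ)) :=
 [(22654464, 43, [(2, 9), (3, 1), (7, 3), (43, 1)]), (25194624, 103, [(2, 7), (3, 1), (7, 2), (13, 1), (103, 1)]),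
  (25299456, 181, [(2, 9), (3, 1), (7, 1), (13, 1), (181, 1)]), (25718784, 23, [(2, 12), (3, 1), (7, 1), (13, 1), (23, 1)]),
  (25928448, 13, [(2, 8), (3, 1), (7, 2), (13, 1), (53, 1)]), (27396096, 13, [(2, 11), (3, 1), (7, 3), (13, 1)]),
  (29202432, 97, [(2, 11), (3, 1), (7, 2), (97, 1)]), (29371776, 223, [(2, 7), (3, 1), (7, 3), (223, 1)])]

theorem tb8_ok : tb8.all (tst 4 true) = true := by decide +kernel

def tb9 : List (ℕ × ℕ × List (ℕ × ℕ)) :=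
 [(29654016, 197, [(2, 10), (3, 1), (7, 2), (197, 1)]), (29766912, 113, [(2, 8), (3, 1), (7, 3), (113, 1)]),
  (30557184, 29, [(2, 10), (3, 1), (7, 3), (29, 1)]), (31492608, 29, [(2, 9), (3, 1), (7, 1), (29, 1), (101, 1)]),
  (32194176, 29, [(2, 7), (3, 1), (7, 2), (29, 1), (59, 1)]), (35581056, 31, [(2, 7), (3, 1), (7, 2), (31, 1), (61, 1)]),
  (37330944, 31, [(2, 13), (3, 1), (7, 2), (31, 1)]), (38234112, 127, [(2, 11), (3, 1), (7, 2), (127, 1)])]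

theorem tb9_ok : tb9.all (tst 4 true) = true := by decide +kernel

def tb10 : List (ℕ × ℕ × List (ℕ × ℕ)) :=
 [(38879232, 113, [(2, 14), (3, 1), (7, 1), (113, 1)]), (39911424, 29, [(2, 16), (3, 1), (7, 1), (29, 1)]),
  (40943616, 17, [(2, 14), (3, 1), (7, 2), (17, 1)]), (42862848, 67, [(2, 8), (3, 1), (7, 2), (17, 1), (67, 1)]),
  (43137024, 59, [(2, 11), (3, 1), (7, 1), (17, 1), (59, 1)]), (50822016, 37, [(2, 7), (3, 1), (7, 2), (37, 1), (73, 1)]),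
  (52910592, 37, [(2, 9), (3, 1), (7, 2), (19, 1), (37, 1)]), (55055616, 11, [(2, 8), (3, 1), (7, 3), (11, 1), (19, 1)])]

theorem tb10_ok : tb10.all (tst 4 true) = true := by decide +kernel

def tb11 : List (ℕ × ℕ × List (ℕ × ℕ)) :=
 [(64030848, 83, [(2, 7), (3, 1), (7, 2), (41, 1), (83, 1)]), (71199744, 11, [(2, 10), (3, 1), (7, 2), (11, 1), (43, 1)]),
  (76167168, 23, [(2, 11), (3, 1), (7, 2), (11, 1), (23, 1)]), (81360384, 47, [(2, 9), (3, 1), (7, 2), (23, 1), (47, 1)]),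
  (103713792, 53, [(2, 10), (3, 1), (7, 2), (13, 1), (53, 1)]), (122228736, 29, [(2, 12), (3, 1), (7, 3), (29, 1)]),
  (128776704, 29, [(2, 9), (3, 1), (7, 2), (29, 1), (59, 1)]), (149323776, 31, [(2, 15), (3, 1), (7, 2), (31, 1)])]

theorem tb11_ok : tb11.all (tst 4 true) = true := by decide +kernel

def tb12 : List (ℕ × ℕ × List (ℕ × ℕ)) :=
 [(211642368, 19, [(2, 11), (3, 1), (7, 2), (19, 1), (37, 1)]), (284798976, 11, [(2, 12), (3, 1), (7, 2), (11, 1), (43, 1)]),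
  (325441536, 47, [(2, 11), (3, 1), (7, 2), (23, 1), (47, 1)])]

theorem tb12_ok : tb12.all (tst 4 true) = true := by decide +kernel

end H7.T3
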