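import Cfsg.Agent.H7.T3f

/-! Tables of orders, I. -/

set_option autoImplicit false

namespace H7.T3

def ta0 : List (ℕ × ℕ × List (ℕ × ℕ)) :=
 [(21504, 7, [(2, 10), (3, 1), (7, 1)]), (65856, 3, [(2, 6), (3, 1), (7, 3)]),
  (69888, 13, [(2, 8), (3, 1), (7, 1), (13, 1)]), (77952, 29, [(2, 7), (3, 1), (7, 1), (29, 1)]),
  (79968, 17, [(2, 5), (3, 1), (7, 2), (17, 1)]), (86016, 7, [(2, 12), (3, 1), (7, 1)]),
  (140448, 19, [(2, 5), (3, 1), (7, 1), (11, 1), (19, 1)]), (200928, 7, [(2, 5), (3, 1), (7, 1), (13, 1), (23, 1)])]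

theorem ta0_ok : ta0.all (tst 2 true) = true := by decide +kernel

def ta1 : List (ℕ × ℕ × List (ℕ × ℕ)) :=
 [(214032, 13, [(2, 4), (3, 1), (7, 3), (13, 1)]), (263424, 3, [(2, 8), (3, 1), (7, 3)]),
  (279552, 7, [(2, 10), (3, 1), (7, 1), (13, 1)]), (291648, 31, [(2, 6), (3, 1), (7, 2), (31, 1)]),
  (311808, 29, [(2, 9), (3, 1), (7, 1), (29, 1)]), (319872, 17, [(2, 7), (3, 1), (7, 2), (17, 1)]),
  (561792, 19, [(2, 7), (3, 1), (7, 1), (11, 1), (19, 1)]), (595056, 11, [(2, 4), (3, 1), (7, 2), (11, 1), (23, 1)])]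

theorem ta1_ok : ta1.all (tst 2 true) = true := by decide +kernel

def ta2 : List (ℕ × ℕ × List (ℕ × ℕ)) :=
 [(647472, 47, [(2, 4), (3, 1), (7, 1), (41, 1), (47, 1)]), (707952, 43, [(2, 4), (3, 1), (7, 3), (43, 1)]),
  (803712, 23, [(2, 7), (3, 1), (7, 1), (13, 1), (23, 1)]), (856128, 13, [(2, 6), (3, 1), (7, 3), (13, 1)]),
  (954912, 29, [(2, 5), (3, 1), (7, 3), (29, 1)]), (1166592, 31, [(2, 8), (3, 1), (7, 2), (31, 1)]),
  (1279488, 17, [(2, 9), (3, 1), (7, 2), (17, 1)]), (2380224, 11, [(2, 6), (3, 1), (7, 2), (11, 1), (23, 1)])]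

theorem ta2_ok : ta2.all (tst 2 true) = true := by decide +kernel

def tb0 : List (ℕ × ℕ × List (ℕ × ℕ)) :=
 [(34944, 13, [(2, 7), (3, 1), (7, 1), (13, 1)]), (43008, 7, [(2, 11), (3, 1), (7, 1)]),
  (131712, 3, [(2, 7), (3, 1), (7, 3)]), (139776, 13, [(2, 9), (3, 1), (7, 1), (13, 1)]),
  (155904, 29, [(2, 8), (3, 1), (7, 1), (29, 1)]), (159936, 17, [(2, 6), (3, 1), (7, 2), (17, 1)]),
  (172032, 7, [(2, 13), (3, 1), (7, 1)]), (280896, 19, [(2, 6), (3, 1), (7, 1), (11, 1), (19, 1)])]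

theorem tb0_ok : tb0.all (tst 4 true) = true := by decide +kernel

def tb1 : List (ℕ × ℕ × List (ℕ × ℕ)) :=
 [(401856, 13, [(2, 6), (3, 1), (7, 1), (13, 1), (23, 1)]), (428064, 13, [(2, 5), (3, 1), (7, 3), (13, 1)]),
  (456288, 97, [(2, 5), (3, 1), (7, 2), (97, 1)]), (526848, 3, [(2, 9), (3, 1), (7, 3)]),
  (559104, 13, [(2, 11), (3, 1), (7, 1), (13, 1)]), (583296, 31, [(2, 7), (3, 1), (7, 2), (31, 1)]),
  (623616, 29, [(2, 10), (3, 1), (7, 1), (29, 1)]), (639744, 17, [(2, 8), (3, 1), (7, 2), (17, 1)])]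

theorem tb1_ok : tb1.all (tst 4 true) = true := by decide +kernel

def tb2 : List (ℕ × ℕ × List (ℕ × ℕ)) :=
 [(688128, 7, [(2, 15), (3, 1), (7, 1)]), (1123584, 7, [(2, 8), (3, 1), (7, 1), (11, 1), (19, 1)]),
  (1190112, 23, [(2, 5), (3, 1), (7, 2), (11, 1), (23, 1)]), (1294944, 47, [(2, 5), (3, 1), (7, 1), (41, 1), (47, 1)]),
  (1415904, 43, [(2, 5), (3, 1), (7, 3), (43, 1)]), (1581216, 7, [(2, 5), (3, 1), (7, 1), (13, 1), (181, 1)]),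
  (1607424, 13, [(2, 8), (3, 1), (7, 1), (13, 1), (23, 1)]), (1712256, 13, [(2, 7), (3, 1), (7, 3), (13, 1)])]

theorem tb2_ok : tb2.all (tst 4 true) = true := by decide +kernel

def tb3 : List (ℕ × ℕ × List (ℕ × ℕ)) :=
 [(1825152, 97, [(2, 7), (3, 1), (7, 2), (97, 1)]), (1909824, 29, [(2, 6), (3, 1), (7, 3), (29, 1)]),
  (2107392, 3, [(2, 11), (3, 1), (7, 3)]), (2236416, 13, [(2, 13), (3, 1), (7, 1), (13, 1)]),
  (2333184, 31, [(2, 9), (3, 1), (7, 2), (31, 1)]), (2429952, 113, [(2, 10), (3, 1), (7, 1), (113, 1)]),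
  (2494464, 29, [(2, 12), (3, 1), (7, 1), (29, 1)]), (2558976, 17, [(2, 10), (3, 1), (7, 2), (17, 1)])]

theorem tb3_ok : tb3.all (tst 4 true) = true := by decide +kernel

def tb4 : List (ℕ × ℕ × List (ℕ × ℕ)) :=
 [(2752512, 7, [(2, 17), (3, 1), (7, 1)]), (3306912, 37, [(2, 5), (3, 1), (7, 2), (19, 1), (37, 1)]),
  (3421824, 67, [(2, 7), (3, 1), (7, 1), (19, 1), (67, 1)]), (4494336, 19, [(2, 10), (3, 1), (7, 1), (11, 1), (19, 1)]),
  (4760448, 11, [(2, 7), (3, 1), (7, 2), (11, 1), (23, 1)]), (5179776, 47, [(2, 7), (3, 1), (7, 1), (41, 1), (47, 1)]),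
  (6324864, 181, [(2, 7), (3, 1), (7, 1), (13, 1), (181, 1)]), (6429696, 23, [(2, 10), (3, 1), (7, 1), (13, 1), (23, 1)])]

theorem tb4_ok : tb4.all (tst 4 true) = true := by decide +kernel

end H7.T3
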